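import Mathlib
import Cfsg.Prelude.Def_GeometricClasses
import Cfsg.Agent.Lib.Helper99.AschDefs
import Cfsg.Agent.Lib.Helper39.AschBurnside
import Cfsg.Agent.Lib.Helper83.AschDescent
import Cfsg.Agent.Lib.Helper37.Asch.FormKit

/-!
# Shared form kit, item (d) (FORMKIT-[BILUNI], helper13)

An absolutely irreducible subgroup `S` of `GL(ι, F)` (`F` finite) that fixes a non-degenerate bilinear form
and a non-degenerate unitary form (for `σ`) is realisable over the fixed field of `σ`, a proper subfield.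

Proof: `xᵀ B x = B` gives `trace x⁻¹ = trace x`; `xᵀ J σ(x) = J` gives `σ (trace x) = trace x⁻¹`; so all traces
lie in the fixed field of `σ`, and helper83's ASCH-[DESCENT] (here for a general index type) applies.
-/

set_option autoImplicit false

namespace Cfsg.Agent.Lib.Helper13.FormKit

open Cfsg Cfsg.Geo
open scoped MatrixGroups Matrix
open Cfsg.Agent.Lib.Helper37.Asch

variable {ι : Type} [Fintype ι] [DecidableEq ι] {F : Type*} [Field F]

/-- helper83's ASCH-[DESCENT] for a general index type: an absolutely irreducible group all of whose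
traces lie in the subfield `F₀` is realisable over `F₀`. -/
theorem realisable_of_trace_mem_gen [Finite F] (S : Subgroup (GL ι F))
    (hS : ActsAbsolutelyIrreducibly (matrixSet S)) (F₀ : Subfield F)
    (htr : ∀ x ∈ S, Matrix.trace (x : Matrix ι ι F) ∈ F₀) :
    RealisableOver F₀ (matrixSet S) := by
  classical
  let Mon : Submonoid (Matrix ι ι F) :=
    S.toSubmonoid.map (Units.coeHom (Matrix ι ι F))
  have hMon : (Mon : Set (Matrix ι ι F)) = matrixSet S := by
    ext M
    simp only [Mon, Submonoid.coe_map, Set.mem_image, matrixSet]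
    rfl
  let A : Subalgebra F₀ (Matrix ι ι F) := Algebra.adjoin F₀ (matrixSet S)
  have hAsub : Subalgebra.toSubmodule A = Submodule.span F₀ (matrixSet S) := by
    have h1 := Algebra.adjoin_eq_span F₀ (matrixSet S)
    rw [← hMon, Submonoid.closure_eq, hMon] at h1
    exact h1
  have hA : Cfsg.Agent.Lib.Helper83.AschDescent.IsForm A := by
    refine ⟨?_, ?_⟩
    · rw [eq_top_iff, ← Cfsg.Agent.Lib.Helper99.Asch.span_eq_top_of_absIrred' S hS]
      exact Submodule.span_mono Algebra.subset_adjoin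
    · intro a ha
      have ha' : a ∈ Submodule.span F₀ (matrixSet S) := by
        rw [← hAsub]; exact ha
      refine Submodule.span_induction ?_ ?_ ?_ ?_ ha'
      · rintro x ⟨g, hg, rfl⟩
        exact ⟨⟨_, htr g hg⟩, rfl⟩
      · exact ⟨0, by simp⟩
      · rintro x y _ _ ⟨kx, hx⟩ ⟨ky, hy⟩
        exact ⟨kx + ky, by rw [map_add, hx, hy, Matrix.trace_add]⟩
      · rintro k x _ ⟨kx, hx⟩
        refine ⟨k * kx, ?_⟩
        rw [map_mul, hx, algebra_compatible_smul F k x, Matrix.trace_smul, smul_eq_mul]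
  obtain ⟨T, hT⟩ := Cfsg.Agent.Lib.Helper83.AschDescent.exists_conj hA
  refine ⟨T, fun s hs i j => ?_⟩
  obtain ⟨k, hk⟩ := hT s (Algebra.subset_adjoin hs) i j
  rw [← hk]
  exact k.2

/-- If `Aᵀ * J * A.map σ = J` with `A`, `J` invertible then `trace (A.map σ) = trace A⁻¹`. -/
theorem trace_map_eq_trace_inv (σ : F ≃+* F) (x : GL ι F) (J : Matrix ι ι F) (hJ : IsUnit J)
    (h : (x : Matrix ι ι F)ᵀ * J * (x : Matrix ι ι F).map σ = J) :
    σ (Matrix.trace (x : Matrix ι ι F)) = Matrix.trace ((x⁻¹ : GL ι F) : Matrix ι ι F) := by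
  obtain ⟨Ju, rfl⟩ := hJ
  set X : Matrix ι ι F := (x : Matrix ι ι F) with hX
  set Xi : Matrix ι ι F := ((x⁻¹ : GL ι F) : Matrix ι ι F) with hXi
  have hXXi : X * Xi = 1 := by rw [hX, hXi, ← Units.val_mul, mul_inv_cancel, Units.val_one]
  have hXiX : Xi * X = 1 := by rw [hX, hXi, ← Units.val_mul, inv_mul_cancel, Units.val_one]
  -- `X.map σ = J⁻¹ * Xiᵀ * J`
  have h1 : X.map σ = ((Ju⁻¹ : (Matrix ι ι F)ˣ) : Matrix ι ι F) * Xiᵀ * (Ju : Matrix ι ι F) := by
    have hT : Xiᵀ * Xᵀ = 1 := by rw [← Matrix.transpose_mul, hXXi, Matrix.transpose_one]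
    calc X.map σ = ((Ju⁻¹ : (Matrix ι ι F)ˣ) : Matrix ι ι F) * (Xiᵀ * Xᵀ) * (Ju : Matrix ι ι F) *
          X.map σ := by
            rw [hT, mul_one, Units.inv_mul, one_mul]
      _ = ((Ju⁻¹ : (Matrix ι ι F)ˣ) : Matrix ι ι F) * Xiᵀ * (Xᵀ * (Ju : Matrix ι ι F) * X.map σ) := by
            simp only [mul_assoc]
      _ = ((Ju⁻¹ : (Matrix ι ι F)ˣ) : Matrix ι ι F) * Xiᵀ * (Ju : Matrix ι ι F) := by rw [h]
  have h2 : Matrix.trace (X.map σ) = σ (Matrix.trace X) := by
    simp only [Matrix.trace, Matrix.diag, Matrix.map_apply, map_sum]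
  rw [← h2, h1, Matrix.trace_mul_comm, ← mul_assoc, Units.mul_inv, one_mul, Matrix.trace_transpose]

/-- A group fixing a non-degenerate sesquilinear form (for `σ`): `σ (trace x) = trace x⁻¹`. -/
theorem map_trace_of_fixes_sesq {σ : F ≃+* F} {g : (ι → F) → (ι → F) → F}
    (hg : IsSesqForm σ g) (hnd : IsNondegenerateForm g) (S : Subgroup (GL ι F))
    (hfix : FixesForm (matrixSet S) g) (x : GL ι F) (hx : x ∈ S) :
    σ (Matrix.trace (x : Matrix ι ι F)) = Matrix.trace ((x⁻¹ : GL ι F) : Matrix ι ι F) := by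
  apply trace_map_eq_trace_inv σ x (gram g) (hg.isUnit_gram hnd)
  exact hg.gram_of_fixes (fun u v => hfix _ ⟨x, hx, rfl⟩ u v)

/-- A group fixing a non-degenerate bilinear form: `trace x⁻¹ = trace x`. -/
theorem trace_inv_of_fixes_bilinear {b : (ι → F) → (ι → F) → F}
    (hb : IsBilinearForm b) (hnd : IsNondegenerateForm b) (S : Subgroup (GL ι F))
    (hfix : FixesForm (matrixSet S) b) (x : GL ι F) (hx : x ∈ S) :
    Matrix.trace ((x⁻¹ : GL ι F) : Matrix ι ι F) = Matrix.trace (x : Matrix ι ι F) := by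
  have h := map_trace_of_fixes_sesq (isSesq_of_bilinear hb) hnd S hfix x hx
  simpa using h.symm

/-- The fixed field of a ring automorphism, as a subfield. -/
def fixedSubfield (σ : F ≃+* F) : Subfield F :=
  RingHom.eqLocusField (σ : F →+* F) (RingHom.id F)

theorem mem_fixedSubfield {σ : F ≃+* F} {a : F} : a ∈ fixedSubfield σ ↔ σ a = a := Iff.rfl

theorem fixedSubfield_ne_top {σ : F ≃+* F} (hσ : σ ≠ RingEquiv.refl F) : fixedSubfield σ ≠ ⊤ := by
  intro h
  apply hσ
  ext a
  have : a ∈ fixedSubfield σ := by rw [h]; exact Subfield.mem_top a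
  exact this

/-- **Kit item (d)**, traces: a group fixing a non-degenerate bilinear form and a non-degenerate
sesquilinear form for `σ` has all its traces in the fixed field of `σ`. -/
theorem trace_mem_fixedSubfield {σ : F ≃+* F} {b g : (ι → F) → (ι → F) → F}
    (hb : IsBilinearForm b) (hbnd : IsNondegenerateForm b)
    (hg : IsSesqForm σ g) (hgnd : IsNondegenerateForm g) (S : Subgroup (GL ι F))
    (hbfix : FixesForm (matrixSet S) b) (hgfix : FixesForm (matrixSet S) g)
    (x : GL ι F) (hx : x ∈ S) : Matrix.trace (x : Matrix ι ι F) ∈ fixedSubfield σ := by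
  rw [mem_fixedSubfield, map_trace_of_fixes_sesq hg hgnd S hgfix x hx,
    trace_inv_of_fixes_bilinear hb hbnd S hbfix x hx]

/-- **Kit item (d)**: an absolutely irreducible group fixing a non-degenerate bilinear form and a
non-degenerate unitary form is realisable over the fixed field of the automorphism. -/
theorem realisable_fixedSubfield_of_fixes_bilinear_unitary [Finite F] (S : Subgroup (GL ι F))
    (hS : ActsAbsolutelyIrreducibly (matrixSet S))
    {b : (ι → F) → (ι → F) → F} (hb : IsBilinearForm b) (hbnd : IsNondegenerateForm b)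
    (hbfix : FixesForm (matrixSet S) b)
    {σ : F ≃+* F} {g : (ι → F) → (ι → F) → F} (hg : IsUnitaryForm σ g)
    (hgfix : FixesForm (matrixSet S) g) :
    RealisableOver (fixedSubfield σ) (matrixSet S) :=
  realisable_of_trace_mem_gen S hS (fixedSubfield σ) fun x hx =>
    trace_mem_fixedSubfield hb hbnd (isSesq_of_unitary hg) hg.nondegenerate S hbfix hgfix x hx

/-- **Kit item (d)**, existential form. -/
theorem realisable_of_fixes_bilinear_unitary [Finite F] (S : Subgroup (GL ι F))
    (hS : ActsAbsolutelyIrreducibly (matrixSet S))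
    {b : (ι → F) → (ι → F) → F} (hb : IsBilinearForm b) (hbnd : IsNondegenerateForm b)
    (hbfix : FixesForm (matrixSet S) b)
    {σ : F ≃+* F} {g : (ι → F) → (ι → F) → F} (hg : IsUnitaryForm σ g)
    (hgfix : FixesForm (matrixSet S) g) :
    ∃ F₀ : Subfield F, F₀ ≠ ⊤ ∧ RealisableOver F₀ (matrixSet S) :=
  ⟨fixedSubfield σ, fixedSubfield_ne_top hg.ne_refl,
    realisable_fixedSubfield_of_fixes_bilinear_unitary S hS hb hbnd hbfix hg hgfix⟩

/-- Symplectic form version. -/
theorem realisable_of_fixes_symplectic_unitary [Finite F] (S : Subgroup (GL ι F))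
    (hS : ActsAbsolutelyIrreducibly (matrixSet S))
    {b : (ι → F) → (ι → F) → F} (hb : IsSymplecticForm b) (hbfix : FixesForm (matrixSet S) b)
    {σ : F ≃+* F} {g : (ι → F) → (ι → F) → F} (hg : IsUnitaryForm σ g)
    (hgfix : FixesForm (matrixSet S) g) :
    ∃ F₀ : Subfield F, F₀ ≠ ⊤ ∧ RealisableOver F₀ (matrixSet S) :=
  realisable_of_fixes_bilinear_unitary S hS hb.bilinear hb.nondegenerate hbfix hg hgfix

/-- Quadratic form version: the polar form is fixed. -/
theorem realisable_of_fixes_quadratic_unitary [Finite F] (S : Subgroup (GL ι F))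
    (hS : ActsAbsolutelyIrreducibly (matrixSet S))
    {Q : (ι → F) → F} (hQ : IsNondegenerateQuadraticForm Q) (hQfix : FixesQuadForm (matrixSet S) Q)
    {σ : F ≃+* F} {g : (ι → F) → (ι → F) → F} (hg : IsUnitaryForm σ g)
    (hgfix : FixesForm (matrixSet S) g) :
    ∃ F₀ : Subfield F, F₀ ≠ ⊤ ∧ RealisableOver F₀ (matrixSet S) :=
  realisable_of_fixes_bilinear_unitary S hS hQ.polar_bilinear hQ.nondegenerate
    (fixesForm_polar hQfix) hg hgfix

end Cfsg.Agent.Lib.Helper13.FormKit
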