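import Mathlib

set_option autoImplicit false

/-!
Abstract symplectic transvections of an alternating bilinear form, and Witt's extension theorem
for non-degenerate alternating forms in the strong form "every partial isometry between linearly
independent families is induced by a product of transvections" (helper13's library).
-/

namespace Cfsg.Agent.Lib.Helper13

variable {F V : Type*} [Field F] [AddCommGroup V] [Module F V]

/-- The linear map `z ↦ z + c • B z u • u`. -/
def transvLin (B : LinearMap.BilinForm F V) (u : V) (c : F) : V →ₗ[F] V :=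
  LinearMap.id + (c • B.flip u).smulRight u

theorem transvLin_apply (B : LinearMap.BilinForm F V) (u : V) (c : F) (z : V) :
    transvLin B u c z = z + (c * B z u) • u := by
  simp [transvLin, LinearMap.smulRight_apply]

theorem transvLin_comp_neg (B : LinearMap.BilinForm F V) (hA : B.IsAlt) (u : V) (c : F) :
    (transvLin B u c).comp (transvLin B u (-c)) = LinearMap.id := by
  ext z
  rw [LinearMap.comp_apply, transvLin_apply, transvLin_apply, LinearMap.id_apply, map_add,
    LinearMap.add_apply, map_smul, LinearMap.smul_apply, hA u, smul_zero, add_zero, add_assoc,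
    ← add_smul]
  have : -c * (B z) u + c * (B z) u = 0 := by ring
  rw [this, zero_smul, add_zero]

/-- The transvection `z ↦ z + c • B z u • u` as a linear equivalence. -/
def transv (B : LinearMap.BilinForm F V) (hA : B.IsAlt) (u : V) (c : F) : V ≃ₗ[F] V :=
  LinearEquiv.ofLinearMap (transvLin B u c) (transvLin B u (-c)) (transvLin_comp_neg B hA u c)
    (by have := transvLin_comp_neg B hA u (-c); rwa [neg_neg] at this)

theorem transv_apply (B : LinearMap.BilinForm F V) (hA : B.IsAlt) (u : V) (c : F) (z : V) :
    transv B hA u c z = z + (c * B z u) • u :=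
  transvLin_apply B u c z

/-- The set of transvections. -/
def tvSetL (B : LinearMap.BilinForm F V) (hA : B.IsAlt) : Set (V ≃ₗ[F] V) :=
  {g | ∃ (u : V) (c : F), g = transv B hA u c}

/-- The group generated by the transvections. -/
def tvGroupL (B : LinearMap.BilinForm F V) (hA : B.IsAlt) : Subgroup (V ≃ₗ[F] V) :=
  Subgroup.closure (tvSetL B hA)

theorem transv_mem (B : LinearMap.BilinForm F V) (hA : B.IsAlt) (u : V) (c : F) :
    transv B hA u c ∈ tvGroupL B hA :=
  Subgroup.subset_closure ⟨u, c, rfl⟩

theorem alt_swap {B : LinearMap.BilinForm F V} (hA : B.IsAlt) (x y : V) : B x y = -B y x := by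
  rw [LinearMap.BilinForm.IsAlt.neg_eq hA y x]

theorem transv_isom (B : LinearMap.BilinForm F V) (hA : B.IsAlt) (u : V) (c : F) (x y : V) :
    B (transv B hA u c x) (transv B hA u c y) = B x y := by
  rw [transv_apply, transv_apply]
  simp only [map_add, map_smul, LinearMap.add_apply, LinearMap.smul_apply, smul_eq_mul, hA u,
    mul_zero, add_zero]
  rw [alt_swap hA u y]
  ring

theorem isom_of_mem_tvGroupL {B : LinearMap.BilinForm F V} {hA : B.IsAlt} {g : V ≃ₗ[F] V}
    (hg : g ∈ tvGroupL B hA) : ∀ x y, B (g x) (g y) = B x y := by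
  induction hg using Subgroup.closure_induction with
  | mem g hg =>
    obtain ⟨u, c, rfl⟩ := hg
    exact transv_isom B hA u c
  | one => intro x y; rfl
  | mul g h _ _ ihg ihh =>
    intro x y
    change B (g (h x)) (g (h y)) = B x y
    rw [ihg, ihh]
  | inv g _ ih =>
    intro x y
    have := ih (g⁻¹ x) (g⁻¹ y)
    have hx : g (g⁻¹ x) = x := by
      change (g * g⁻¹) x = x
      rw [mul_inv_cancel]; rfl
    have hy : g (g⁻¹ y) = y := by
      change (g * g⁻¹) y = y
      rw [mul_inv_cancel]; rfl
    rw [hx, hy] at this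
    exact this.symm

/-- Separation: a vector outside a subspace is detected by a vector orthogonal to the subspace. -/
theorem exists_orth_sep [FiniteDimensional F V] {B : LinearMap.BilinForm F V}
    (hB : B.Nondegenerate) (H : Submodule F V) {x : V} (hx : x ∉ H) :
    ∃ a : V, (∀ h ∈ H, B h a = 0) ∧ B x a ≠ 0 := by
  obtain ⟨f, hfx, hfH⟩ := Submodule.exists_le_ker_of_notMem hx
  refine ⟨(B.flip.toDual hB.flip).symm f, ?_, ?_⟩
  · intro h hh
    have := LinearMap.BilinForm.apply_toDual_symm_apply (B := B.flip) (hB := hB.flip) f h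
    rw [LinearMap.BilinForm.flip_apply] at this
    rw [this]
    exact hfH hh
  · have := LinearMap.BilinForm.apply_toDual_symm_apply (B := B.flip) (hB := hB.flip) f x
    rw [LinearMap.BilinForm.flip_apply] at this
    rw [this]
    exact hfx

/-- One transvection step. -/
theorem transv_step (B : LinearMap.BilinForm F V) (hA : B.IsAlt) (H : Submodule F V) (x y : V)
    (hxy : B x y ≠ 0) (hH : ∀ h ∈ H, B h (y - x) = 0) :
    ∃ T ∈ tvGroupL B hA, (∀ h ∈ H, T h = h) ∧ T x = y := by
  refine ⟨transv B hA (y - x) (B x y)⁻¹, transv_mem B hA _ _, ?_, ?_⟩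
  · intro h hh
    rw [transv_apply, hH h hh, mul_zero, zero_smul, add_zero]
  · rw [transv_apply, map_sub, hA x, sub_zero, inv_mul_cancel₀ hxy, one_smul]
    abel

/-- The core lemma of Witt's theorem for alternating forms. -/
theorem transv_core [FiniteDimensional F V] (B : LinearMap.BilinForm F V)
    (hB : B.Nondegenerate) (hA : B.IsAlt) (H : Submodule F V) (x y : V) (hx : x ∉ H)
    (hy : y ∉ H) (hH : ∀ h ∈ H, B h (y - x) = 0) :
    ∃ T ∈ tvGroupL B hA, (∀ h ∈ H, T h = h) ∧ T x = y := by
  by_cases hxy : B x y = 0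
  · obtain ⟨a, haH, hxa⟩ := exists_orth_sep hB H hx
    obtain ⟨b, hbH, hyb⟩ := exists_orth_sep hB H hy
    obtain ⟨w, hwH, hxw, hyw⟩ : ∃ w, (∀ h ∈ H, B h w = 0) ∧ B x w ≠ 0 ∧ B y w ≠ 0 := by
      by_cases hya : B y a = 0
      · by_cases hxb : B x b = 0
        · refine ⟨a + b, fun h hh => ?_, ?_, ?_⟩
          · rw [map_add, haH h hh, hbH h hh, add_zero]
          · rw [map_add, hxb, add_zero]; exact hxa
          · rw [map_add, hya, zero_add]; exact hyb
        · exact ⟨b, hbH, hxb, hyb⟩
      · exact ⟨a, haH, hxa, hya⟩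
    have h1 : B x (x + w) ≠ 0 := by
      rw [map_add, hA x, zero_add]; exact hxw
    have h2 : B (x + w) y ≠ 0 := by
      rw [map_add, LinearMap.add_apply, hxy, zero_add, alt_swap hA w y]
      exact neg_ne_zero.mpr hyw
    obtain ⟨T1, hT1, hT1H, hT1x⟩ := transv_step B hA H x (x + w) h1 (by
      intro h hh
      rw [add_sub_cancel_left]
      exact hwH h hh)
    obtain ⟨T2, hT2, hT2H, hT2x⟩ := transv_step B hA H (x + w) y h2 (by
      intro h hh
      have : y - (x + w) = (y - x) - w := by abel
      rw [this, map_sub, hH h hh, hwH h hh, sub_zero])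
    refine ⟨T2 * T1, Subgroup.mul_mem _ hT2 hT1, ?_, ?_⟩
    · intro h hh
      change T2 (T1 h) = h
      rw [hT1H h hh, hT2H h hh]
    · change T2 (T1 x) = y
      rw [hT1x, hT2x]
  · exact transv_step B hA H x y hxy hH

/-- **Witt's theorem for alternating forms, strong form**: two linearly independent families with
the same Gram matrix are mapped onto each other by a product of transvections. -/
theorem witt_families [FiniteDimensional F V] (B : LinearMap.BilinForm F V)
    (hB : B.Nondegenerate) (hA : B.IsAlt) :
    ∀ (n : ℕ) (b c : Fin n → V), LinearIndependent F b → LinearIndependent F c →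
      (∀ i j, B (b i) (b j) = B (c i) (c j)) →
      ∃ T ∈ tvGroupL B hA, ∀ i, T (b i) = c i := by
  intro n
  induction n with
  | zero =>
    intro b c _ _ _
    exact ⟨1, Subgroup.one_mem _, fun i => i.elim0⟩
  | succ n ih =>
    intro b c hb hc hbc
    rw [linearIndependent_finSucc'] at hb hc
    obtain ⟨hb', hbl⟩ := hb
    obtain ⟨hc', hcl⟩ := hc
    obtain ⟨T0, hT0, hT0b⟩ := ih (Fin.init b) (Fin.init c) hb' hc'
      (fun i j => hbc (Fin.castSucc i) (Fin.castSucc j))
    have hT0isom := isom_of_mem_tvGroupL hT0
    set H : Submodule F V := Submodule.span F (Set.range (Fin.init b)) with hH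
    set x : V := b (Fin.last n) with hx
    set y : V := T0⁻¹ (c (Fin.last n)) with hy
    have hT0y : T0 y = c (Fin.last n) := by
      change (T0 * T0⁻¹) (c (Fin.last n)) = _
      rw [mul_inv_cancel]; rfl
    have hyH : y ∉ H := by
      intro hmem
      apply hcl
      rw [← hT0y]
      have hmap : H.map (T0 : V →ₗ[F] V) = Submodule.span F (Set.range (Fin.init c)) := by
        rw [hH, Submodule.map_span]
        congr 1
        ext v
        constructor
        · rintro ⟨_, ⟨i, rfl⟩, rfl⟩
          exact ⟨i, (hT0b i).symm⟩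
        · rintro ⟨i, rfl⟩
          exact ⟨_, ⟨i, rfl⟩, hT0b i⟩
      rw [← hmap]
      exact Submodule.mem_map_of_mem hmem
    have hHorth : ∀ h ∈ H, B h (y - x) = 0 := by
      intro h hh
      induction hh using Submodule.span_induction with
      | mem v hv =>
        obtain ⟨i, rfl⟩ := hv
        rw [map_sub, sub_eq_zero, ← hT0isom, hT0b, hT0y]
        exact (hbc (Fin.castSucc i) (Fin.last n)).symm
      | zero => simp
      | add u v _ _ hu hv => rw [map_add, LinearMap.add_apply, hu, hv, add_zero]
      | smul a u _ hu => rw [map_smul, LinearMap.smul_apply, hu, smul_zero]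
    obtain ⟨T1, hT1, hT1H, hT1x⟩ := transv_core B hB hA H x y hbl hyH hHorth
    refine ⟨T0 * T1, Subgroup.mul_mem _ hT0 hT1, ?_⟩
    intro i
    change T0 (T1 (b i)) = c i
    rcases Fin.eq_castSucc_or_eq_last i with ⟨j, rfl⟩ | rfl
    · have hmem : b (Fin.castSucc j) ∈ H := Submodule.subset_span ⟨j, rfl⟩
      rw [hT1H _ hmem]
      exact hT0b j
    · rw [hT1x, hT0y]

end Cfsg.Agent.Lib.Helper13
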