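import Mathlib
import Cfsg.Agent.Lib.Helper13.AltForm

set_option autoImplicit false

/-!
Witt's extension theorem for quadratic forms with non-degenerate polar form, over any field and in
any characteristic, via reflections, Siegel transformations and hyperbolic rotations
(helper13's library).
-/

namespace Cfsg.Agent.Lib.Helper13

variable {F V : Type*} [Field F] [AddCommGroup V] [Module F V]

local notation "pol" => QuadraticMap.polar

theorem polarBilin_app (Q : QuadraticForm F V) (x y : V) :
    QuadraticMap.polarBilin Q x y = QuadraticMap.polar (⇑Q) x y := rfl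

/-- Expansion of `Q (z + α p + β w)`. -/
theorem qexp (Q : QuadraticForm F V) (z p w : V) (α β : F) :
    Q (z + α • p + β • w) = Q z + α * α * Q p + β * β * Q w + α * pol (⇑Q) z p
      + β * pol (⇑Q) z w + α * β * pol (⇑Q) p w := by
  have h1 : ∀ u v : V, Q (u + v) = Q u + Q v + pol (⇑Q) u v := by
    intro u v; unfold QuadraticMap.polar; ring
  rw [h1 (z + α • p) (β • w), h1 z (α • p), QuadraticMap.map_smul, QuadraticMap.map_smul,
    QuadraticMap.polar_add_left, QuadraticMap.polar_smul_right, QuadraticMap.polar_smul_right,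
    QuadraticMap.polar_smul_right, QuadraticMap.polar_smul_left]
  simp only [smul_eq_mul]
  ring

theorem polar_self' (Q : QuadraticForm F V) (x : V) : pol (⇑Q) x x = 2 * Q x := by
  rw [QuadraticMap.polar_self, nsmul_eq_mul]; norm_num

theorem Q_sub (Q : QuadraticForm F V) (y x : V) :
    Q (y - x) = Q y + Q x - pol (⇑Q) y x := by
  have h1 : Q (y - x) = Q y + Q (-x) + pol (⇑Q) y (-x) := by
    unfold QuadraticMap.polar
    rw [sub_eq_add_neg]; ring
  rw [h1, QuadraticMap.map_neg, QuadraticMap.polar_neg_right]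
  ring

/-- An isometric linear endomorphism of a space with non-degenerate polar form is a linear
equivalence. -/
theorem exists_equiv_of_isom [FiniteDimensional F V] (Q : QuadraticForm F V)
    (hQ : (QuadraticMap.polarBilin Q).Nondegenerate) (T : V →ₗ[F] V)
    (hT : ∀ z, Q (T z) = Q z) : ∃ T' : V ≃ₗ[F] V, ∀ z, T' z = T z := by
  have hpol : ∀ z w, pol (⇑Q) (T z) (T w) = pol (⇑Q) z w := by
    intro z w
    unfold QuadraticMap.polar
    rw [← map_add, hT, hT, hT]
  have hinj : Function.Injective T := by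
    rw [← LinearMap.ker_eq_bot, LinearMap.ker_eq_bot']
    intro z hz
    apply hQ.1 z
    intro w
    rw [polarBilin_app, ← hpol, hz, QuadraticMap.polar_zero_left]
  exact ⟨LinearEquiv.ofInjectiveEndo T hinj, fun z => rfl⟩

/-- The reflection (orthogonal transvection) along `p`. -/
def reflLin (Q : QuadraticForm F V) (p : V) : V →ₗ[F] V :=
  LinearMap.id - ((Q p)⁻¹ • QuadraticMap.polarBilin Q p).smulRight p

theorem reflLin_apply (Q : QuadraticForm F V) (p z : V) :
    reflLin Q p z = z - ((Q p)⁻¹ * pol (⇑Q) p z) • p := by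
  simp [reflLin, LinearMap.smulRight_apply]

theorem reflLin_isom (Q : QuadraticForm F V) (p : V) (hp : Q p ≠ 0) (z : V) :
    Q (reflLin Q p z) = Q z := by
  rw [reflLin_apply]
  have h := qexp Q z p 0 (-((Q p)⁻¹ * pol (⇑Q) p z)) 0
  rw [zero_smul, add_zero, neg_smul, ← sub_eq_add_neg] at h
  rw [h, QuadraticMap.polar_comm (⇑Q) z p]
  field_simp
  ring

/-- The Siegel transformation. -/
def siegelLin (Q : QuadraticForm F V) (p w : V) : V →ₗ[F] V :=
  LinearMap.id + (QuadraticMap.polarBilin Q w - Q w • QuadraticMap.polarBilin Q p).smulRight p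
    - (QuadraticMap.polarBilin Q p).smulRight w

theorem siegelLin_apply (Q : QuadraticForm F V) (p w z : V) :
    siegelLin Q p w z = z + (pol (⇑Q) w z - Q w * pol (⇑Q) p z) • p - pol (⇑Q) p z • w := by
  simp [siegelLin, LinearMap.smulRight_apply]

theorem siegelLin_isom (Q : QuadraticForm F V) (p w : V) (hp : Q p = 0)
    (hpw : pol (⇑Q) p w = 0) (z : V) : Q (siegelLin Q p w z) = Q z := by
  rw [siegelLin_apply]
  have h := qexp Q z p w (pol (⇑Q) w z - Q w * pol (⇑Q) p z) (-(pol (⇑Q) p z))
  rw [neg_smul, ← sub_eq_add_neg] at h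
  rw [h, hp, hpw, QuadraticMap.polar_comm (⇑Q) z p, QuadraticMap.polar_comm (⇑Q) z w]
  ring

/-- The hyperbolic rotation. -/
def hrotLin (Q : QuadraticForm F V) (p p' : V) (l : F) : V →ₗ[F] V :=
  LinearMap.id + ((l - 1) • QuadraticMap.polarBilin Q p').smulRight p
    + ((l⁻¹ - 1) • QuadraticMap.polarBilin Q p).smulRight p'

theorem hrotLin_apply (Q : QuadraticForm F V) (p p' : V) (l : F) (z : V) :
    hrotLin Q p p' l z = z + ((l - 1) * pol (⇑Q) p' z) • p + ((l⁻¹ - 1) * pol (⇑Q) p z) • p' := by
  simp [hrotLin, LinearMap.smulRight_apply]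

theorem hrotLin_isom (Q : QuadraticForm F V) (p p' : V) (l : F) (hl : l ≠ 0) (hp : Q p = 0)
    (hp' : Q p' = 0) (hpp : pol (⇑Q) p p' = 1) (z : V) : Q (hrotLin Q p p' l z) = Q z := by
  rw [hrotLin_apply, qexp, hp, hp', hpp, QuadraticMap.polar_comm (⇑Q) z p,
    QuadraticMap.polar_comm (⇑Q) z p']
  field_simp
  ring

/-- The core lemma of Witt's theorem for quadratic forms. -/
theorem quad_core [FiniteDimensional F V] (Q : QuadraticForm F V)
    (hQ : (QuadraticMap.polarBilin Q).Nondegenerate) (H : Submodule F V) (x y : V)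
    (hx : x ∉ H) (hy : y ∉ H) (hQxy : Q x = Q y)
    (hH : ∀ h ∈ H, pol (⇑Q) h (y - x) = 0) :
    ∃ T : V ≃ₗ[F] V, (∀ z, Q (T z) = Q z) ∧ (∀ h ∈ H, T h = h) ∧ T x = y := by
  set p : V := y - x with hp
  have hyx : y = x + p := by rw [hp]; abel
  have hQp : Q p = 2 * Q x - pol (⇑Q) x y := by
    rw [hp, Q_sub, ← hQxy, QuadraticMap.polar_comm (⇑Q) y x]; ring
  have hxp : pol (⇑Q) x p = -Q p := by
    rw [hQp, hp, QuadraticMap.polar_sub_right, polar_self']; ring
  have hHp : ∀ h ∈ H, pol (⇑Q) p h = 0 := fun h hh => by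
    rw [QuadraticMap.polar_comm]; exact hH h hh
  by_cases hQp0 : Q p = 0
  · -- singular difference
    have hxp0 : pol (⇑Q) p x = 0 := by
      rw [QuadraticMap.polar_comm, hxp, hQp0, neg_zero]
    by_cases hp0 : p = 0
    · refine ⟨LinearEquiv.refl F V, fun z => rfl, fun h _ => rfl, ?_⟩
      rw [hyx, hp0, add_zero]; rfl
    by_cases hxH' : x ∈ H ⊔ Submodule.span F {p}
    · -- hyperbolic rotation
      obtain ⟨h1, hh1, q, hq, hxq⟩ := Submodule.mem_sup.mp hxH'
      obtain ⟨c, rfl⟩ := Submodule.mem_span_singleton.mp hq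
      have hc0 : c ≠ 0 := by
        rintro rfl
        apply hx
        rw [← hxq, zero_smul, add_zero]; exact hh1
      have hc1 : c + 1 ≠ 0 := by
        intro hc1
        apply hy
        have h3 : c • p + p = (c + 1) • p := by rw [add_smul, one_smul]
        rw [hyx, ← hxq, add_assoc, h3, hc1, zero_smul, add_zero]
        exact hh1
      have hpH : p ∉ H := by
        intro hpH
        apply hx
        rw [← hxq]
        exact H.add_mem hh1 (H.smul_mem c hpH)
      obtain ⟨u, hup, huH⟩ : ∃ u : V, pol (⇑Q) p u = 1 ∧ ∀ h ∈ H, pol (⇑Q) h u = 0 := by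
        obtain ⟨u0, hu0H, hu0p⟩ := exists_orth_sep hQ H hpH
        simp only [polarBilin_app] at hu0H hu0p
        refine ⟨(pol (⇑Q) p u0)⁻¹ • u0, ?_, ?_⟩
        · rw [QuadraticMap.polar_smul_right, smul_eq_mul, inv_mul_cancel₀ hu0p]
        · intro h hh
          rw [QuadraticMap.polar_smul_right, hu0H h hh, smul_zero]
      obtain ⟨p', hQp', hpp', hp'H⟩ : ∃ p' : V, Q p' = 0 ∧ pol (⇑Q) p p' = 1 ∧
          ∀ h ∈ H, pol (⇑Q) p' h = 0 := by
        refine ⟨u - Q u • p, ?_, ?_, ?_⟩
        · have h := qexp Q u p 0 (-(Q u)) 0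
          rw [zero_smul, add_zero, neg_smul, ← sub_eq_add_neg] at h
          rw [h, hQp0, QuadraticMap.polar_comm (⇑Q) u p, hup]
          ring
        · rw [QuadraticMap.polar_sub_right, QuadraticMap.polar_smul_right, polar_self', hQp0,
            hup]
          simp
        · intro h hh
          rw [QuadraticMap.polar_comm, QuadraticMap.polar_sub_right,
            QuadraticMap.polar_smul_right, huH h hh, hH h hh]
          simp
      set l : F := (c + 1) / c with hl
      have hl0 : l ≠ 0 := div_ne_zero hc1 hc0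
      obtain ⟨T, hT⟩ := exists_equiv_of_isom Q hQ (hrotLin Q p p' l)
        (hrotLin_isom Q p p' l hl0 hQp0 hQp' hpp')
      have hTh : ∀ h ∈ H, T h = h := by
        intro h hh
        rw [hT, hrotLin_apply, hp'H h hh, hHp h hh]
        simp
      have hTp : T p = l • p := by
        rw [hT, hrotLin_apply, polar_self', hQp0, QuadraticMap.polar_comm (⇑Q) p' p, hpp']
        simp only [mul_one, mul_zero, zero_smul, add_zero]
        have h3 : p + (l - 1) • p = l • p := by
          rw [sub_smul, one_smul]; abel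
        exact h3
      refine ⟨T, fun z => by rw [hT]; exact hrotLin_isom Q p p' l hl0 hQp0 hQp' hpp' z, hTh, ?_⟩
      have h3 : c • p + p = (c + 1) • p := by rw [add_smul, one_smul]
      rw [hyx, ← hxq, map_add, map_smul, hTh h1 hh1, hTp, smul_smul, add_assoc, h3, hl,
        mul_div_cancel₀ _ hc0]
    · -- Siegel transformation
      obtain ⟨w, hwx, hwH, hpw⟩ : ∃ w : V, pol (⇑Q) w x = 1 ∧ (∀ h ∈ H, pol (⇑Q) w h = 0) ∧
          pol (⇑Q) p w = 0 := by
        obtain ⟨w0, hw0H, hw0x⟩ := exists_orth_sep hQ _ hxH'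
        simp only [polarBilin_app] at hw0H hw0x
        refine ⟨(pol (⇑Q) x w0)⁻¹ • w0, ?_, ?_, ?_⟩
        · rw [QuadraticMap.polar_comm, QuadraticMap.polar_smul_right, smul_eq_mul,
            inv_mul_cancel₀ hw0x]
        · intro h hh
          rw [QuadraticMap.polar_comm, QuadraticMap.polar_smul_right,
            hw0H h (Submodule.mem_sup_left hh), smul_zero]
        · rw [QuadraticMap.polar_smul_right,
            hw0H p (Submodule.mem_sup_right (Submodule.mem_span_singleton_self p)), smul_zero]
      obtain ⟨T, hT⟩ := exists_equiv_of_isom Q hQ (siegelLin Q p w)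
        (siegelLin_isom Q p w hQp0 hpw)
      refine ⟨T, fun z => by rw [hT]; exact siegelLin_isom Q p w hQp0 hpw z, ?_, ?_⟩
      · intro h hh
        rw [hT, siegelLin_apply, hwH h hh, hHp h hh]
        simp
      · rw [hT, siegelLin_apply, hwx, hxp0, hyx]
        simp
  · -- reflection
    obtain ⟨T, hT⟩ := exists_equiv_of_isom Q hQ (reflLin Q p) (reflLin_isom Q p hQp0)
    refine ⟨T, fun z => by rw [hT]; exact reflLin_isom Q p hQp0 z, ?_, ?_⟩
    · intro h hh
      rw [hT, reflLin_apply, hHp h hh]
      simp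
    · rw [hT, reflLin_apply, QuadraticMap.polar_comm, hxp, hyx]
      have : (Q p)⁻¹ * -Q p = -1 := by field_simp
      rw [this]
      simp

/-- **Witt's theorem for quadratic forms**, family version. -/
theorem witt_families_quad [FiniteDimensional F V] (Q : QuadraticForm F V)
    (hQ : (QuadraticMap.polarBilin Q).Nondegenerate) :
    ∀ (n : ℕ) (b c : Fin n → V), LinearIndependent F b → LinearIndependent F c →
      (∀ i, Q (b i) = Q (c i)) → (∀ i j, pol (⇑Q) (b i) (b j) = pol (⇑Q) (c i) (c j)) →
      ∃ T : V ≃ₗ[F] V, (∀ z, Q (T z) = Q z) ∧ ∀ i, T (b i) = c i := by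
  intro n
  induction n with
  | zero =>
    intro b c _ _ _ _
    exact ⟨LinearEquiv.refl F V, fun z => rfl, fun i => i.elim0⟩
  | succ n ih =>
    intro b c hb hc hQbc hbc
    rw [linearIndependent_finSucc'] at hb hc
    obtain ⟨hb', hbl⟩ := hb
    obtain ⟨hc', hcl⟩ := hc
    obtain ⟨T0, hT0, hT0b⟩ := ih (Fin.init b) (Fin.init c) hb' hc'
      (fun i => hQbc (Fin.castSucc i)) (fun i j => hbc (Fin.castSucc i) (Fin.castSucc j))
    have hT0pol : ∀ z w, pol (⇑Q) (T0 z) (T0 w) = pol (⇑Q) z w := by
      intro z w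
      unfold QuadraticMap.polar
      rw [← map_add, hT0, hT0, hT0]
    set H : Submodule F V := Submodule.span F (Set.range (Fin.init b)) with hH
    set x : V := b (Fin.last n) with hx
    set y : V := T0.symm (c (Fin.last n)) with hy
    have hT0y : T0 y = c (Fin.last n) := T0.apply_symm_apply _
    have hyH : y ∉ H := by
      intro hmem
      apply hcl
      rw [← hT0y]
      have hmap : H.map (T0 : V →ₗ[F] V) = Submodule.span F (Set.range (Fin.init c)) := by
        rw [hH, Submodule.map_span]
        congr 1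
        ext v
        constructor
        · rintro ⟨_, ⟨i, rfl⟩, rfl⟩
          exact ⟨i, (hT0b i).symm⟩
        · rintro ⟨i, rfl⟩
          exact ⟨_, ⟨i, rfl⟩, hT0b i⟩
      rw [← hmap]
      exact Submodule.mem_map_of_mem hmem
    have hQxy : Q x = Q y := by
      rw [← hT0 y, hT0y]
      exact hQbc (Fin.last n)
    have hHorth : ∀ h ∈ H, pol (⇑Q) h (y - x) = 0 := by
      intro h hh
      induction hh using Submodule.span_induction with
      | mem v hv =>
        obtain ⟨i, rfl⟩ := hv
        rw [QuadraticMap.polar_sub_right, sub_eq_zero, ← hT0pol, hT0b, hT0y]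
        exact (hbc (Fin.castSucc i) (Fin.last n)).symm
      | zero => exact QuadraticMap.polar_zero_left _ _
      | add u v _ _ hu hv => rw [QuadraticMap.polar_add_left, hu, hv, add_zero]
      | smul a u _ hu => rw [QuadraticMap.polar_smul_left, hu, smul_zero]
    obtain ⟨T1, hT1, hT1H, hT1x⟩ := quad_core Q hQ H x y hbl hyH hQxy hHorth
    refine ⟨T1.trans T0, fun z => ?_, ?_⟩
    · change Q (T0 (T1 z)) = Q z
      rw [hT0, hT1]
    · intro i
      change T0 (T1 (b i)) = c i
      rcases Fin.eq_castSucc_or_eq_last i with ⟨j, rfl⟩ | rfl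
      · have hmem : b (Fin.castSucc j) ∈ H := Submodule.subset_span ⟨j, rfl⟩
        rw [hT1H _ hmem]
        exact hT0b j
      · rw [hT1x, hT0y]

/-- **Witt's theorem for quadratic forms**, subspace version. -/
theorem witt_quad [FiniteDimensional F V] (Q : QuadraticForm F V)
    (hQ : (QuadraticMap.polarBilin Q).Nondegenerate) (X Y : Submodule F V) (φ : X ≃ₗ[F] Y)
    (hφ : ∀ x : X, Q (φ x : V) = Q (x : V)) :
    ∃ g : V ≃ₗ[F] V, (∀ v : V, Q (g v) = Q v) ∧ ∀ x : X, g (x : V) = (φ x : V) := by
  classical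
  set bX := Module.finBasis F X with hbX
  set n := Module.finrank F X with hn
  let b : Fin n → V := fun i => (bX i : V)
  let c : Fin n → V := fun i => (φ (bX i) : V)
  have hb : LinearIndependent F b := by
    have := bX.linearIndependent.map' X.subtype (Submodule.ker_subtype X)
    exact this
  have hc : LinearIndependent F c := by
    have hker : LinearMap.ker (Y.subtype.comp φ.toLinearMap) = ⊥ := by
      rw [LinearMap.ker_eq_bot]
      exact (Submodule.injective_subtype Y).comp φ.injective
    have := bX.linearIndependent.map' (Y.subtype.comp φ.toLinearMap) hker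
    exact this
  have hφpol : ∀ x x' : X, pol (⇑Q) (φ x : V) (φ x' : V) = pol (⇑Q) (x : V) (x' : V) := by
    intro x x'
    unfold QuadraticMap.polar
    have h1 := hφ (x + x')
    rw [map_add] at h1
    simp only [Submodule.coe_add] at h1
    rw [h1, hφ, hφ]
  obtain ⟨T, hT, hTb⟩ := witt_families_quad Q hQ n b c hb hc (fun i => (hφ (bX i)).symm)
    (fun i j => (hφpol (bX i) (bX j)).symm)
  refine ⟨T, hT, ?_⟩
  have hlin : (T : V →ₗ[F] V).comp X.subtype = Y.subtype.comp φ.toLinearMap := by
    apply bX.ext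
    intro i
    exact hTb i
  intro x
  exact LinearMap.congr_fun hlin x

end Cfsg.Agent.Lib.Helper13
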