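import Mathlib
import Cfsg.Agent.Lib.Helper13.QuadWitt

set_option autoImplicit false
set_option linter.unusedSimpArgs false
set_option linter.unnecessarySeqFocus false

/-!
Generation of the isometry group of a quadratic form with non-degenerate polar form by reflections
(Cartan--Dieudonné in all characteristics), via Witt's lemma (helper13's library).
-/

namespace Cfsg.Agent.Lib.Helper13

variable {F V : Type*} [Field F] [AddCommGroup V] [Module F V]

local notation "pol" => QuadraticMap.polar

theorem Q_add' (Q : QuadraticForm F V) (x y : V) : Q (x + y) = Q x + Q y + pol (⇑Q) x y := by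
  unfold QuadraticMap.polar; ring

/-- A hyperbolic rotation is a product of two reflections. -/
theorem hrot_eq_refl_refl (Q : QuadraticForm F V) (p p' : V) (l : F) (hl : l ≠ 0) (hp : Q p = 0)
    (hp' : Q p' = 0) (hpp : pol (⇑Q) p p' = 1) (z : V) :
    hrotLin Q p p' l z = reflLin Q (p + p') (reflLin Q (p + l • p') z) := by
  have hp'p : pol (⇑Q) p' p = 1 := by rw [QuadraticMap.polar_comm]; exact hpp
  have h1 : Q (p + p') = 1 := by
    rw [Q_add', hp, hp', hpp]; ring
  have h2 : Q (p + l • p') = l := by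
    rw [Q_add', QuadraticMap.map_smul, hp, hp', QuadraticMap.polar_smul_right, hpp]
    simp
  rw [hrotLin_apply, reflLin_apply, reflLin_apply, h1, h2]
  simp only [QuadraticMap.polar_add_left, QuadraticMap.polar_add_right, QuadraticMap.polar_sub_right,
    QuadraticMap.polar_smul_left, QuadraticMap.polar_smul_right, polar_self', hp, hp', hpp, hp'p,
    smul_eq_mul]
  match_scalars <;> field_simp <;> ring

theorem Q_sub_smul (Q : QuadraticForm F V) (w p : V) (c : F) (hp : Q p = 0)
    (hpw : pol (⇑Q) p w = 0) : Q (w - c • p) = Q w := by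
  rw [Q_sub, QuadraticMap.map_smul, hp, QuadraticMap.polar_smul_right,
    QuadraticMap.polar_comm (⇑Q) w p, hpw]
  simp

/-- A Siegel transformation with non-singular `w` is a product of two reflections. -/
theorem siegel_eq_refl_refl (Q : QuadraticForm F V) (p w : V) (hp : Q p = 0)
    (hpw : pol (⇑Q) p w = 0) (hw : Q w ≠ 0) (z : V) :
    siegelLin Q p w z = reflLin Q w (reflLin Q (w - Q w • p) z) := by
  have hwp : pol (⇑Q) w p = 0 := by rw [QuadraticMap.polar_comm]; exact hpw
  have h2 : Q (w - Q w • p) = Q w := Q_sub_smul Q w p (Q w) hp hpw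
  rw [siegelLin_apply, reflLin_apply, reflLin_apply, h2]
  simp only [QuadraticMap.polar_sub_left, QuadraticMap.polar_sub_right,
    QuadraticMap.polar_smul_left, QuadraticMap.polar_smul_right, polar_self', hp, hpw, hwp,
    smul_eq_mul]
  match_scalars <;> field_simp <;> ring

theorem siegel_add (Q : QuadraticForm F V) (p w₁ w₂ : V) (hp : Q p = 0)
    (h1 : pol (⇑Q) p w₁ = 0) (h2 : pol (⇑Q) p w₂ = 0) (z : V) :
    siegelLin Q p (w₁ + w₂) z = siegelLin Q p w₁ (siegelLin Q p w₂ z) := by
  have h1' : pol (⇑Q) w₁ p = 0 := by rw [QuadraticMap.polar_comm]; exact h1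
  have h2' : pol (⇑Q) w₂ p = 0 := by rw [QuadraticMap.polar_comm]; exact h2
  rw [siegelLin_apply, siegelLin_apply, siegelLin_apply, Q_add']
  simp only [QuadraticMap.polar_add_left, QuadraticMap.polar_add_right,
    QuadraticMap.polar_sub_left, QuadraticMap.polar_sub_right,
    QuadraticMap.polar_smul_left, QuadraticMap.polar_smul_right, polar_self', hp, h1, h2, h1', h2',
    smul_eq_mul]
  match_scalars <;> ring

theorem siegel_smul_self (Q : QuadraticForm F V) (p : V) (c : F) (hp : Q p = 0) (z : V) :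
    siegelLin Q p (c • p) z = z := by
  rw [siegelLin_apply, QuadraticMap.map_smul, hp]
  simp only [QuadraticMap.polar_smul_left, smul_eq_mul]
  match_scalars <;> ring

/-- The set of reflections, as linear equivalences. -/
def reflSet (Q : QuadraticForm F V) : Set (V ≃ₗ[F] V) :=
  {T | ∃ v : V, Q v ≠ 0 ∧ ∀ z, T z = reflLin Q v z}

/-- The group generated by the reflections. -/
def reflGroup (Q : QuadraticForm F V) : Subgroup (V ≃ₗ[F] V) := Subgroup.closure (reflSet Q)

theorem mem_reflGroup_of_refl (Q : QuadraticForm F V) (T : V ≃ₗ[F] V) (v : V) (hv : Q v ≠ 0)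
    (hT : ∀ z, T z = reflLin Q v z) : T ∈ reflGroup Q :=
  Subgroup.subset_closure ⟨v, hv, hT⟩

theorem mem_reflGroup_of_comp (Q : QuadraticForm F V) {T T₁ T₂ : V ≃ₗ[F] V}
    (h1 : T₁ ∈ reflGroup Q) (h2 : T₂ ∈ reflGroup Q) (h : ∀ z, T z = T₁ (T₂ z)) :
    T ∈ reflGroup Q := by
  have : T = T₁ * T₂ := by
    apply LinearEquiv.ext
    intro z
    rw [h z]
    rfl
  rw [this]
  exact Subgroup.mul_mem _ h1 h2

theorem mem_reflGroup_of_id (Q : QuadraticForm F V) (T : V ≃ₗ[F] V) (hT : ∀ z, T z = z) :
    T ∈ reflGroup Q := by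
  have : T = 1 := by
    apply LinearEquiv.ext
    intro z
    rw [hT z]
    rfl
  rw [this]
  exact Subgroup.one_mem _

theorem mem_reflGroup_of_refl_refl [FiniteDimensional F V] (Q : QuadraticForm F V)
    (hQ : (QuadraticMap.polarBilin Q).Nondegenerate) (T : V ≃ₗ[F] V) (v₁ v₂ : V)
    (h1 : Q v₁ ≠ 0) (h2 : Q v₂ ≠ 0) (hT : ∀ z, T z = reflLin Q v₁ (reflLin Q v₂ z)) :
    T ∈ reflGroup Q := by
  obtain ⟨T₁, hT₁⟩ := exists_equiv_of_isom Q hQ (reflLin Q v₁) (reflLin_isom Q v₁ h1)
  obtain ⟨T₂, hT₂⟩ := exists_equiv_of_isom Q hQ (reflLin Q v₂) (reflLin_isom Q v₂ h2)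
  apply mem_reflGroup_of_comp Q (mem_reflGroup_of_refl Q T₁ v₁ h1 hT₁)
    (mem_reflGroup_of_refl Q T₂ v₂ h2 hT₂)
  intro z
  rw [hT, hT₁, hT₂]

theorem hrot_mem_reflGroup [FiniteDimensional F V] (Q : QuadraticForm F V)
    (hQ : (QuadraticMap.polarBilin Q).Nondegenerate) (T : V ≃ₗ[F] V) (p p' : V) (l : F)
    (hl : l ≠ 0) (hp : Q p = 0) (hp' : Q p' = 0) (hpp : pol (⇑Q) p p' = 1)
    (hT : ∀ z, T z = hrotLin Q p p' l z) : T ∈ reflGroup Q := by
  have h1 : Q (p + p') = 1 := by
    rw [Q_add', hp, hp', hpp]; ring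
  have h2 : Q (p + l • p') = l := by
    rw [Q_add', QuadraticMap.map_smul, hp, hp', QuadraticMap.polar_smul_right, hpp]
    simp
  apply mem_reflGroup_of_refl_refl Q hQ T (p + p') (p + l • p') (by rw [h1]; exact one_ne_zero)
    (by rw [h2]; exact hl)
  intro z
  rw [hT, hrot_eq_refl_refl Q p p' l hl hp hp' hpp]

theorem siegel_mem_reflGroup_of_ne [FiniteDimensional F V] (Q : QuadraticForm F V)
    (hQ : (QuadraticMap.polarBilin Q).Nondegenerate) (T : V ≃ₗ[F] V) (p w : V)
    (hp : Q p = 0) (hpw : pol (⇑Q) p w = 0) (hw : Q w ≠ 0)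
    (hT : ∀ z, T z = siegelLin Q p w z) : T ∈ reflGroup Q := by
  apply mem_reflGroup_of_refl_refl Q hQ T w (w - Q w • p) hw
    (by rw [Q_sub_smul Q w p (Q w) hp hpw]; exact hw)
  intro z
  rw [hT, siegel_eq_refl_refl Q p w hp hpw hw]

theorem polarBilin_isRefl (Q : QuadraticForm F V) : (QuadraticMap.polarBilin Q).IsRefl := by
  intro x y h
  rw [polarBilin_app] at h ⊢
  rw [QuadraticMap.polar_comm]
  exact h

/-- A singular vector `w ⊥ p`, `w ∉ ⟨p⟩`, is a sum of two non-singular vectors orthogonal to `p`,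
unless the field has two elements and the dimension is four. -/
theorem exists_nonsingular_split [FiniteDimensional F V] (Q : QuadraticForm F V)
    (hQ : (QuadraticMap.polarBilin Q).Nondegenerate)
    (hF : (∀ a b : F, ∃ x : F, x ≠ a ∧ x ≠ b) ∨ Module.finrank F V ≠ 4)
    (p w : V) (hp0 : p ≠ 0) (hp : Q p = 0) (hpw : pol (⇑Q) p w = 0) (hw : Q w = 0)
    (hwp : w ∉ Submodule.span F {p}) :
    ∃ v : V, pol (⇑Q) p v = 0 ∧ Q v ≠ 0 ∧ Q (w - v) ≠ 0 := by
  have hww : pol (⇑Q) w w = 0 := by rw [polar_self', hw, mul_zero]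
  have hpp : pol (⇑Q) p p = 0 := by rw [polar_self', hp, mul_zero]
  have hwp' : pol (⇑Q) w p = 0 := by rw [QuadraticMap.polar_comm]; exact hpw
  rcases hF with hF | hF
  · -- at least three scalars
    obtain ⟨a, haH, hwa⟩ := exists_orth_sep hQ (Submodule.span F {p}) hwp
    simp only [polarBilin_app] at haH hwa
    have hpa : pol (⇑Q) p a = 0 := haH p (Submodule.mem_span_singleton_self p)
    obtain ⟨w', hw'def⟩ : ∃ w' : V, w' = (pol (⇑Q) w a)⁻¹ • a := ⟨_, rfl⟩
    have hww' : pol (⇑Q) w w' = 1 := by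
      rw [hw'def, QuadraticMap.polar_smul_right, smul_eq_mul, inv_mul_cancel₀ hwa]
    have hpw' : pol (⇑Q) p w' = 0 := by
      rw [hw'def, QuadraticMap.polar_smul_right, hpa, smul_zero]
    obtain ⟨x, hx1, hx2⟩ := hF (-(Q w')) (1 - Q w')
    have hQv : Q (x • w + w') = Q w' + x := by
      rw [Q_add', QuadraticMap.map_smul, hw, QuadraticMap.polar_smul_left, hww']
      simp only [smul_eq_mul]
      ring
    refine ⟨x • w + w', ?_, ?_, ?_⟩
    · rw [QuadraticMap.polar_add_right, QuadraticMap.polar_smul_right, hpw, hpw']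
      simp
    · rw [hQv]
      intro h
      apply hx1
      linear_combination h
    · rw [Q_sub, hw, hQv, QuadraticMap.polar_add_right, QuadraticMap.polar_smul_right, hww, hww']
      intro h
      apply hx2
      simp only [smul_eq_mul] at h
      linear_combination h
  · -- dimension different from four
    by_contra hcon
    push Not at hcon
    apply hF
    obtain ⟨N, hN⟩ : ∃ N : Submodule F V, N = Submodule.span F {p, w} := ⟨_, rfl⟩
    obtain ⟨M, hM⟩ : ∃ M : Submodule F V,
        M = LinearMap.BilinForm.orthogonal (QuadraticMap.polarBilin Q) N :=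
      ⟨_, rfl⟩
    have hMmem : ∀ v, v ∈ M ↔ pol (⇑Q) p v = 0 ∧ pol (⇑Q) w v = 0 := by
      intro v
      rw [hM, LinearMap.BilinForm.mem_orthogonal_iff]
      constructor
      · intro h
        refine ⟨h p ?_, h w ?_⟩
        · rw [hN]; exact Submodule.subset_span (by simp)
        · rw [hN]; exact Submodule.subset_span (by simp)
      · rintro ⟨h1, h2⟩ n hn
        rw [hN, Submodule.mem_span_pair] at hn
        obtain ⟨a, b, rfl⟩ := hn
        rw [polarBilin_app, QuadraticMap.polar_add_left,
          QuadraticMap.polar_smul_left, QuadraticMap.polar_smul_left, h1, h2]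
        simp
    have hQM : ∀ v ∈ M, Q v = 0 := by
      intro v hv
      by_contra hv0
      have hv' := (hMmem v).mp hv
      have h := hcon v hv'.1 hv0
      rw [Q_sub, hw, hv'.2] at h
      apply hv0
      linear_combination h
    have hpolM : ∀ u ∈ M, ∀ v ∈ M, pol (⇑Q) u v = 0 := by
      intro u hu v hv
      unfold QuadraticMap.polar
      rw [hQM u hu, hQM v hv, hQM (u + v) (M.add_mem hu hv)]
      ring
    have hNM : N ≤ M := by
      rw [hN, Submodule.span_le]
      intro v hv
      rcases hv with rfl | rfl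
      · exact (hMmem _).mpr ⟨hpp, hwp'⟩
      · exact (hMmem _).mpr ⟨hpw, hww⟩
    have hMN : M ≤ N := by
      have h1 : M ≤ LinearMap.BilinForm.orthogonal (QuadraticMap.polarBilin Q) M := by
        intro u hu
        rw [LinearMap.BilinForm.mem_orthogonal_iff]
        intro v hv
        rw [polarBilin_app]
        exact hpolM v hv u hu
      have h2 : LinearMap.BilinForm.orthogonal (QuadraticMap.polarBilin Q) M = N := by
        rw [hM]
        exact LinearMap.BilinForm.orthogonal_orthogonal hQ (polarBilin_isRefl Q) N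
      rw [h2] at h1
      exact h1
    have hNrank : Module.finrank F N = 2 := by
      have hli : LinearIndependent F ![p, w] := by
        rw [LinearIndependent.pair_iff' hp0]
        intro a ha
        apply hwp
        rw [Submodule.mem_span_singleton]
        exact ⟨a, ha⟩
      have h3 := finrank_span_eq_card hli
      have h4 : Set.range ![p, w] = {p, w} := by
        ext v
        simp only [Set.mem_range, Set.mem_insert_iff, Set.mem_singleton_iff]
        constructor
        · rintro ⟨i, rfl⟩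
          fin_cases i
          · left; rfl
          · right; rfl
        · rintro (rfl | rfl)
          · exact ⟨0, rfl⟩
          · exact ⟨1, rfl⟩
      rw [h4, Fintype.card_fin] at h3
      rw [hN, h3]
    have hMrank : Module.finrank F M = Module.finrank F V - 2 := by
      rw [hM, LinearMap.BilinForm.finrank_orthogonal hQ, hNrank]
    have hMNeq : M = N := le_antisymm hMN hNM
    rw [hMNeq, hNrank] at hMrank
    have hle : Module.finrank F N ≤ Module.finrank F V := Submodule.finrank_le N
    rw [hNrank] at hle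
    omega

/-- Every Siegel transformation is a product of reflections (unless `|F| = 2`, `dim V = 4`). -/
theorem siegel_mem_reflGroup [FiniteDimensional F V] (Q : QuadraticForm F V)
    (hQ : (QuadraticMap.polarBilin Q).Nondegenerate)
    (hF : (∀ a b : F, ∃ x : F, x ≠ a ∧ x ≠ b) ∨ Module.finrank F V ≠ 4)
    (T : V ≃ₗ[F] V) (p w : V) (hp0 : p ≠ 0) (hp : Q p = 0) (hpw : pol (⇑Q) p w = 0)
    (hT : ∀ z, T z = siegelLin Q p w z) : T ∈ reflGroup Q := by
  by_cases hw : Q w = 0
  · by_cases hwp : w ∈ Submodule.span F {p}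
    · obtain ⟨c, rfl⟩ := Submodule.mem_span_singleton.mp hwp
      apply mem_reflGroup_of_id
      intro z
      rw [hT, siegel_smul_self Q p c hp]
    · obtain ⟨v, hpv, hv, hwv⟩ := exists_nonsingular_split Q hQ hF p w hp0 hp hpw hw hwp
      have hpwv : pol (⇑Q) p (w - v) = 0 := by
        rw [QuadraticMap.polar_sub_right, hpw, hpv, sub_zero]
      obtain ⟨T₁, hT₁⟩ := exists_equiv_of_isom Q hQ (siegelLin Q p v)
        (siegelLin_isom Q p v hp hpv)
      obtain ⟨T₂, hT₂⟩ := exists_equiv_of_isom Q hQ (siegelLin Q p (w - v))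
        (siegelLin_isom Q p (w - v) hp hpwv)
      apply mem_reflGroup_of_comp Q (siegel_mem_reflGroup_of_ne Q hQ T₁ p v hp hpv hv hT₁)
        (siegel_mem_reflGroup_of_ne Q hQ T₂ p (w - v) hp hpwv hwv hT₂)
      intro z
      rw [hT, hT₁, hT₂, ← siegel_add Q p v (w - v) hp hpv hpwv]
      have : v + (w - v) = w := by abel
      rw [this]
  · exact siegel_mem_reflGroup_of_ne Q hQ T p w hp hpw hw hT

/-- The core lemma of Witt's theorem for quadratic forms, by products of reflections. -/
theorem quad_core_refl [FiniteDimensional F V] (Q : QuadraticForm F V)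
    (hQ : (QuadraticMap.polarBilin Q).Nondegenerate)
    (hF : (∀ a b : F, ∃ x : F, x ≠ a ∧ x ≠ b) ∨ Module.finrank F V ≠ 4)
    (H : Submodule F V) (x y : V)
    (hx : x ∉ H) (hy : y ∉ H) (hQxy : Q x = Q y)
    (hH : ∀ h ∈ H, pol (⇑Q) h (y - x) = 0) :
    ∃ T : V ≃ₗ[F] V, T ∈ reflGroup Q ∧ (∀ z, Q (T z) = Q z) ∧ (∀ h ∈ H, T h = h) ∧ T x = y := by
  set p : V := y - x with hp
  have hyx : y = x + p := by rw [hp]; abel
  have hQp : Q p = 2 * Q x - pol (⇑Q) x y := by
    rw [hp, Q_sub, ← hQxy, QuadraticMap.polar_comm (⇑Q) y x]; ring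
  have hxp : pol (⇑Q) x p = -Q p := by
    rw [hQp, hp, QuadraticMap.polar_sub_right, polar_self']; ring
  have hHp : ∀ h ∈ H, pol (⇑Q) p h = 0 := fun h hh => by
    rw [QuadraticMap.polar_comm]; exact hH h hh
  by_cases hQp0 : Q p = 0
  · -- singular difference
    have hxp0 : pol (⇑Q) p x = 0 := by
      rw [QuadraticMap.polar_comm, hxp, hQp0, neg_zero]
    by_cases hp0 : p = 0
    · refine ⟨LinearEquiv.refl F V, mem_reflGroup_of_id Q _ (fun z => rfl), fun z => rfl,
        fun h _ => rfl, ?_⟩
      rw [hyx, hp0, add_zero]; rfl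
    by_cases hxH' : x ∈ H ⊔ Submodule.span F {p}
    · -- hyperbolic rotation
      obtain ⟨h1, hh1, q, hq, hxq⟩ := Submodule.mem_sup.mp hxH'
      obtain ⟨c, rfl⟩ := Submodule.mem_span_singleton.mp hq
      have hc0 : c ≠ 0 := by
        rintro rfl
        apply hx
        rw [← hxq, zero_smul, add_zero]; exact hh1
      have hc1 : c + 1 ≠ 0 := by
        intro hc1
        apply hy
        have h3 : c • p + p = (c + 1) • p := by rw [add_smul, one_smul]
        rw [hyx, ← hxq, add_assoc, h3, hc1, zero_smul, add_zero]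
        exact hh1
      have hpH : p ∉ H := by
        intro hpH
        apply hx
        rw [← hxq]
        exact H.add_mem hh1 (H.smul_mem c hpH)
      obtain ⟨u, hup, huH⟩ : ∃ u : V, pol (⇑Q) p u = 1 ∧ ∀ h ∈ H, pol (⇑Q) h u = 0 := by
        obtain ⟨u0, hu0H, hu0p⟩ := exists_orth_sep hQ H hpH
        simp only [polarBilin_app] at hu0H hu0p
        refine ⟨(pol (⇑Q) p u0)⁻¹ • u0, ?_, ?_⟩
        · rw [QuadraticMap.polar_smul_right, smul_eq_mul, inv_mul_cancel₀ hu0p]
        · intro h hh
          rw [QuadraticMap.polar_smul_right, hu0H h hh, smul_zero]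
      obtain ⟨p', hQp', hpp', hp'H⟩ : ∃ p' : V, Q p' = 0 ∧ pol (⇑Q) p p' = 1 ∧
          ∀ h ∈ H, pol (⇑Q) p' h = 0 := by
        refine ⟨u - Q u • p, ?_, ?_, ?_⟩
        · have h := qexp Q u p 0 (-(Q u)) 0
          rw [zero_smul, add_zero, neg_smul, ← sub_eq_add_neg] at h
          rw [h, hQp0, QuadraticMap.polar_comm (⇑Q) u p, hup]
          ring
        · rw [QuadraticMap.polar_sub_right, QuadraticMap.polar_smul_right, polar_self', hQp0,
            hup]
          simp
        · intro h hh
          rw [QuadraticMap.polar_comm, QuadraticMap.polar_sub_right,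
            QuadraticMap.polar_smul_right, huH h hh, hH h hh]
          simp
      set l : F := (c + 1) / c with hl
      have hl0 : l ≠ 0 := div_ne_zero hc1 hc0
      obtain ⟨T, hT⟩ := exists_equiv_of_isom Q hQ (hrotLin Q p p' l)
        (hrotLin_isom Q p p' l hl0 hQp0 hQp' hpp')
      have hTh : ∀ h ∈ H, T h = h := by
        intro h hh
        rw [hT, hrotLin_apply, hp'H h hh, hHp h hh]
        simp
      have hTp : T p = l • p := by
        rw [hT, hrotLin_apply, polar_self', hQp0, QuadraticMap.polar_comm (⇑Q) p' p, hpp']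
        simp only [mul_one, mul_zero, zero_smul, add_zero]
        have h3 : p + (l - 1) • p = l • p := by
          rw [sub_smul, one_smul]; abel
        exact h3
      refine ⟨T, hrot_mem_reflGroup Q hQ T p p' l hl0 hQp0 hQp' hpp' hT,
        fun z => by rw [hT]; exact hrotLin_isom Q p p' l hl0 hQp0 hQp' hpp' z, hTh, ?_⟩
      have h3 : c • p + p = (c + 1) • p := by rw [add_smul, one_smul]
      rw [hyx, ← hxq, map_add, map_smul, hTh h1 hh1, hTp, smul_smul, add_assoc, h3, hl,
        mul_div_cancel₀ _ hc0]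
    · -- Siegel transformation
      obtain ⟨w, hwx, hwH, hpw⟩ : ∃ w : V, pol (⇑Q) w x = 1 ∧ (∀ h ∈ H, pol (⇑Q) w h = 0) ∧
          pol (⇑Q) p w = 0 := by
        obtain ⟨w0, hw0H, hw0x⟩ := exists_orth_sep hQ _ hxH'
        simp only [polarBilin_app] at hw0H hw0x
        refine ⟨(pol (⇑Q) x w0)⁻¹ • w0, ?_, ?_, ?_⟩
        · rw [QuadraticMap.polar_comm, QuadraticMap.polar_smul_right, smul_eq_mul,
            inv_mul_cancel₀ hw0x]
        · intro h hh
          rw [QuadraticMap.polar_comm, QuadraticMap.polar_smul_right,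
            hw0H h (Submodule.mem_sup_left hh), smul_zero]
        · rw [QuadraticMap.polar_smul_right,
            hw0H p (Submodule.mem_sup_right (Submodule.mem_span_singleton_self p)), smul_zero]
      obtain ⟨T, hT⟩ := exists_equiv_of_isom Q hQ (siegelLin Q p w)
        (siegelLin_isom Q p w hQp0 hpw)
      refine ⟨T, siegel_mem_reflGroup Q hQ hF T p w hp0 hQp0 hpw hT,
        fun z => by rw [hT]; exact siegelLin_isom Q p w hQp0 hpw z, ?_, ?_⟩
      · intro h hh
        rw [hT, siegelLin_apply, hwH h hh, hHp h hh]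
        simp
      · rw [hT, siegelLin_apply, hwx, hxp0, hyx]
        simp
  · -- reflection
    obtain ⟨T, hT⟩ := exists_equiv_of_isom Q hQ (reflLin Q p) (reflLin_isom Q p hQp0)
    refine ⟨T, mem_reflGroup_of_refl Q T p hQp0 hT,
      fun z => by rw [hT]; exact reflLin_isom Q p hQp0 z, ?_, ?_⟩
    · intro h hh
      rw [hT, reflLin_apply, hHp h hh]
      simp
    · rw [hT, reflLin_apply, QuadraticMap.polar_comm, hxp, hyx]
      have : (Q p)⁻¹ * -Q p = -1 := by field_simp
      rw [this]
      simp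

/-- **Witt's theorem for quadratic forms**, family version with reflections. -/
theorem witt_families_quad_refl [FiniteDimensional F V] (Q : QuadraticForm F V)
    (hQ : (QuadraticMap.polarBilin Q).Nondegenerate)
    (hF : (∀ a b : F, ∃ x : F, x ≠ a ∧ x ≠ b) ∨ Module.finrank F V ≠ 4) :
    ∀ (n : ℕ) (b c : Fin n → V), LinearIndependent F b → LinearIndependent F c →
      (∀ i, Q (b i) = Q (c i)) → (∀ i j, pol (⇑Q) (b i) (b j) = pol (⇑Q) (c i) (c j)) →
      ∃ T : V ≃ₗ[F] V, T ∈ reflGroup Q ∧ (∀ z, Q (T z) = Q z) ∧ ∀ i, T (b i) = c i := by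
  intro n
  induction n with
  | zero =>
    intro b c _ _ _ _
    exact ⟨LinearEquiv.refl F V, mem_reflGroup_of_id Q _ (fun z => rfl), fun z => rfl,
      fun i => i.elim0⟩
  | succ n ih =>
    intro b c hb hc hQbc hbc
    rw [linearIndependent_finSucc'] at hb hc
    obtain ⟨hb', hbl⟩ := hb
    obtain ⟨hc', hcl⟩ := hc
    obtain ⟨T0, hT0mem, hT0, hT0b⟩ := ih (Fin.init b) (Fin.init c) hb' hc'
      (fun i => hQbc (Fin.castSucc i)) (fun i j => hbc (Fin.castSucc i) (Fin.castSucc j))
    have hT0pol : ∀ z w, pol (⇑Q) (T0 z) (T0 w) = pol (⇑Q) z w := by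
      intro z w
      unfold QuadraticMap.polar
      rw [← map_add, hT0, hT0, hT0]
    set H : Submodule F V := Submodule.span F (Set.range (Fin.init b)) with hH
    set x : V := b (Fin.last n) with hx
    set y : V := T0.symm (c (Fin.last n)) with hy
    have hT0y : T0 y = c (Fin.last n) := T0.apply_symm_apply _
    have hyH : y ∉ H := by
      intro hmem
      apply hcl
      rw [← hT0y]
      have hmap : H.map (T0 : V →ₗ[F] V) = Submodule.span F (Set.range (Fin.init c)) := by
        rw [hH, Submodule.map_span]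
        congr 1
        ext v
        constructor
        · rintro ⟨_, ⟨i, rfl⟩, rfl⟩
          exact ⟨i, (hT0b i).symm⟩
        · rintro ⟨i, rfl⟩
          exact ⟨_, ⟨i, rfl⟩, hT0b i⟩
      rw [← hmap]
      exact Submodule.mem_map_of_mem hmem
    have hQxy : Q x = Q y := by
      rw [← hT0 y, hT0y]
      exact hQbc (Fin.last n)
    have hHorth : ∀ h ∈ H, pol (⇑Q) h (y - x) = 0 := by
      intro h hh
      induction hh using Submodule.span_induction with
      | mem v hv =>
        obtain ⟨i, rfl⟩ := hv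
        rw [QuadraticMap.polar_sub_right, sub_eq_zero, ← hT0pol, hT0b, hT0y]
        exact (hbc (Fin.castSucc i) (Fin.last n)).symm
      | zero => exact QuadraticMap.polar_zero_left _ _
      | add u v _ _ hu hv => rw [QuadraticMap.polar_add_left, hu, hv, add_zero]
      | smul a u _ hu => rw [QuadraticMap.polar_smul_left, hu, smul_zero]
    obtain ⟨T1, hT1mem, hT1, hT1H, hT1x⟩ := quad_core_refl Q hQ hF H x y hbl hyH hQxy hHorth
    refine ⟨T1.trans T0, mem_reflGroup_of_comp Q hT0mem hT1mem (fun z => rfl), fun z => ?_, ?_⟩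
    · change Q (T0 (T1 z)) = Q z
      rw [hT0, hT1]
    · intro i
      change T0 (T1 (b i)) = c i
      rcases Fin.eq_castSucc_or_eq_last i with ⟨j, rfl⟩ | rfl
      · have hmem : b (Fin.castSucc j) ∈ H := Submodule.subset_span ⟨j, rfl⟩
        rw [hT1H _ hmem]
        exact hT0b j
      · rw [hT1x, hT0y]

/-- Every isometry is a product of reflections (unless `|F| = 2`, `dim V = 4`). -/
theorem isometry_mem_reflGroup [FiniteDimensional F V] (Q : QuadraticForm F V)
    (hQ : (QuadraticMap.polarBilin Q).Nondegenerate)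
    (hF : (∀ a b : F, ∃ x : F, x ≠ a ∧ x ≠ b) ∨ Module.finrank F V ≠ 4)
    (g : V ≃ₗ[F] V) (hg : ∀ z, Q (g z) = Q z) : g ∈ reflGroup Q := by
  classical
  obtain ⟨bV, -⟩ : ∃ bV : Module.Basis (Fin (Module.finrank F V)) F V,
      bV = Module.finBasis F V := ⟨_, rfl⟩
  have hpolg : ∀ z w, pol (⇑Q) (g z) (g w) = pol (⇑Q) z w := by
    intro z w
    unfold QuadraticMap.polar
    rw [← map_add, hg, hg, hg]
  obtain ⟨T, hTmem, _, hTb⟩ := witt_families_quad_refl Q hQ hF _ (fun i => bV i)
    (fun i => g (bV i)) bV.linearIndependent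
    (bV.linearIndependent.map' g.toLinearMap (LinearMap.ker_eq_bot.mpr g.injective))
    (fun i => (hg (bV i)).symm) (fun i j => (hpolg (bV i) (bV j)).symm)
  have hTg : T = g := by
    apply LinearEquiv.toLinearMap_injective
    apply bV.ext
    intro i
    exact hTb i
  rw [← hTg]
  exact hTmem

end Cfsg.Agent.Lib.Helper13
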