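import Mathlib
import Cfsg.Agent.Lib.Helper13.ReflGen

set_option autoImplicit false
set_option linter.unnecessarySeqFocus false

/-!
The parity of the dimension of the fixed space of an isometry (Dickson invariant / determinant):
multiplying an isometry by a reflection changes the dimension of its fixed space by exactly one.
Consequences for the abelianisation of the orthogonal group (helper13's library).
-/

namespace Cfsg.Agent.Lib.Helper13

variable {F V : Type*} [Field F] [AddCommGroup V] [Module F V]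

local notation "pol" => QuadraticMap.polar

/-- Dimension count for a one-step extension. -/
theorem finrank_eq_succ_of_extend [FiniteDimensional F V] (A A' : Submodule F V) (hle : A ≤ A')
    (x : V) (hxA' : x ∈ A') (hxA : x ∉ A) (hex : ∀ z ∈ A', ∃ c : F, z - c • x ∈ A) :
    Module.finrank F A' = Module.finrank F A + 1 := by
  have hx0 : x ≠ 0 := by
    rintro rfl
    exact hxA A.zero_mem
  have hsup : A' = A ⊔ Submodule.span F {x} := by
    apply le_antisymm
    · intro z hz
      obtain ⟨c, hc⟩ := hex z hz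
      have : z = (z - c • x) + c • x := by abel
      rw [this]
      exact Submodule.add_mem_sup hc (Submodule.smul_mem _ c (Submodule.mem_span_singleton_self x))
    · apply sup_le hle
      rw [Submodule.span_le]
      intro y hy
      rw [Set.mem_singleton_iff] at hy
      rw [hy]
      exact hxA'
  have hinf : A ⊓ Submodule.span F {x} = ⊥ := by
    rw [eq_bot_iff]
    intro y hy
    obtain ⟨hyA, hyx⟩ := Submodule.mem_inf.mp hy
    obtain ⟨c, rfl⟩ := Submodule.mem_span_singleton.mp hyx
    by_cases hc : c = 0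
    · rw [hc, zero_smul]; exact Submodule.zero_mem _
    · exfalso
      apply hxA
      have := A.smul_mem c⁻¹ hyA
      rwa [smul_smul, inv_mul_cancel₀ hc, one_smul] at this
  have h := Submodule.finrank_sup_add_finrank_inf_eq A (Submodule.span F {x})
  rw [hinf, finrank_bot, add_zero, finrank_span_singleton hx0, ← hsup] at h
  exact h

/-- The fixed space of a linear equivalence. -/
def fixSub (h : V ≃ₗ[F] V) : Submodule F V := LinearMap.ker ((h : V →ₗ[F] V) - LinearMap.id)

theorem mem_fixSub (h : V ≃ₗ[F] V) (z : V) : z ∈ fixSub h ↔ h z = z := by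
  unfold fixSub
  rw [LinearMap.mem_ker, LinearMap.sub_apply, LinearMap.id_apply, sub_eq_zero]
  rfl

theorem fixSub_one : fixSub (1 : V ≃ₗ[F] V) = ⊤ := by
  rw [eq_top_iff]
  intro z _
  rw [mem_fixSub]
  rfl

/-- The image of `g - 1` is the orthogonal complement of the fixed space, for an isometry `g`. -/
theorem range_sub_id_eq_orthogonal [FiniteDimensional F V] (Q : QuadraticForm F V)
    (hQ : (QuadraticMap.polarBilin Q).Nondegenerate) (g : V ≃ₗ[F] V)
    (hg : ∀ z, Q (g z) = Q z) :
    LinearMap.range ((g : V →ₗ[F] V) - LinearMap.id)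
      = LinearMap.BilinForm.orthogonal (QuadraticMap.polarBilin Q) (fixSub g) := by
  have hpolg : ∀ z w, pol (⇑Q) (g z) (g w) = pol (⇑Q) z w := by
    intro z w
    unfold QuadraticMap.polar
    rw [← map_add, hg, hg, hg]
  apply Submodule.eq_of_le_of_finrank_eq
  · rintro _ ⟨z, rfl⟩
    rw [LinearMap.BilinForm.mem_orthogonal_iff]
    intro f hf
    rw [mem_fixSub] at hf
    rw [polarBilin_app, LinearMap.sub_apply, LinearMap.id_apply, QuadraticMap.polar_sub_right]
    change pol (⇑Q) f (g z) - pol (⇑Q) f z = 0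
    nth_rewrite 1 [← hf]
    rw [hpolg, sub_self]
  · rw [LinearMap.BilinForm.finrank_orthogonal hQ]
    have := LinearMap.finrank_range_add_finrank_ker ((g : V →ₗ[F] V) - LinearMap.id)
    unfold fixSub
    omega

/-- Multiplying an isometry by a reflection changes the dimension of the fixed space by one. -/
theorem finrank_fixSub_refl_mul [FiniteDimensional F V] (Q : QuadraticForm F V)
    (hQ : (QuadraticMap.polarBilin Q).Nondegenerate) (g : V ≃ₗ[F] V)
    (hg : ∀ z, Q (g z) = Q z) (v : V) (hv : Q v ≠ 0) (T : V ≃ₗ[F] V)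
    (hT : ∀ z, T z = reflLin Q v z) :
    Module.finrank F (fixSub (T * g)) = Module.finrank F (fixSub g) + 1 ∨
      Module.finrank F (fixSub g) = Module.finrank F (fixSub (T * g)) + 1 := by
  have hpolg : ∀ z w, pol (⇑Q) (g z) (g w) = pol (⇑Q) z w := by
    intro z w
    unfold QuadraticMap.polar
    rw [← map_add, hg, hg, hg]
  have hv0 : v ≠ 0 := by
    rintro rfl
    exact hv (QuadraticMap.map_zero Q)
  obtain ⟨lam, hlam⟩ : ∃ lam : V → F, ∀ z, lam z = (Q v)⁻¹ * pol (⇑Q) v (g z) := ⟨_, fun z => rfl⟩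
  have hTg : ∀ z, (T * g) z = g z - lam z • v := by
    intro z
    change T (g z) = _
    rw [hT, reflLin_apply, hlam]
  have hK' : ∀ z, z ∈ fixSub (T * g) ↔ g z - z = lam z • v := by
    intro z
    rw [mem_fixSub, hTg]
    constructor
    · intro h
      rw [sub_eq_iff_eq_add] at h ⊢
      rw [h]; abel
    · intro h
      rw [sub_eq_iff_eq_add] at h ⊢
      rw [h]; abel
  have hI := range_sub_id_eq_orthogonal Q hQ g hg
  by_cases hvI : v ∈ LinearMap.range ((g : V →ₗ[F] V) - LinearMap.id)
  · -- v = g u - u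
    left
    obtain ⟨u, hu⟩ := hvI
    have hu' : g u - u = v := hu
    have hgu : g u = u + v := by rw [← hu']; abel
    have hvorth : ∀ f ∈ fixSub g, pol (⇑Q) v f = 0 := by
      intro f hf
      have h1 : v ∈ LinearMap.BilinForm.orthogonal (QuadraticMap.polarBilin Q) (fixSub g) := by
        rw [← hI]; exact ⟨u, hu⟩
      rw [LinearMap.BilinForm.mem_orthogonal_iff] at h1
      have := h1 f hf
      rw [polarBilin_app] at this
      rw [QuadraticMap.polar_comm]; exact this
    have hlamu : lam u = 1 := by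
      rw [hlam]
      have h1 : Q v = 2 * Q u - pol (⇑Q) (g u) u := by
        rw [← hu', Q_sub, hg]; ring
      have h2 : pol (⇑Q) v (g u) = 2 * Q u - pol (⇑Q) (g u) u := by
        rw [← hu', QuadraticMap.polar_sub_left, polar_self', hg,
          QuadraticMap.polar_comm (⇑Q) u (g u)]
      rw [h2, ← h1, inv_mul_cancel₀ hv]
    apply finrank_eq_succ_of_extend (fixSub g) (fixSub (T * g)) ?_ u ?_ ?_ ?_
    · intro f hf
      rw [hK']
      have hf' := (mem_fixSub g f).mp hf
      rw [hf', sub_self, hlam, hf', hvorth f hf, mul_zero, zero_smul]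
    · rw [hK', hu', hlamu, one_smul]
    · rw [mem_fixSub, hgu]
      intro h
      apply hv0
      have : u + v = u + 0 := by rw [add_zero]; exact h
      exact add_left_cancel this
    · intro z hz
      refine ⟨lam z, ?_⟩
      rw [mem_fixSub, map_sub, map_smul, hgu]
      have h1 := (hK' z).mp hz
      have h2 : g z = z + lam z • v := by rw [← h1]; abel
      rw [h2, smul_add]
      abel
  · -- v ∉ im (g - 1)
    right
    have hKK : ∀ z ∈ fixSub (T * g), g z = z ∧ lam z = 0 := by
      intro z hz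
      have h1 := (hK' z).mp hz
      have hl : lam z = 0 := by
        by_contra hne
        apply hvI
        refine ⟨(lam z)⁻¹ • z, ?_⟩
        rw [LinearMap.sub_apply, LinearMap.id_apply]
        change g ((lam z)⁻¹ • z) - (lam z)⁻¹ • z = v
        rw [map_smul, ← smul_sub, h1, smul_smul, inv_mul_cancel₀ hne, one_smul]
      refine ⟨?_, hl⟩
      rw [hl, zero_smul, sub_eq_zero] at h1
      exact h1
    obtain ⟨k₀, hk₀, hk₀v⟩ : ∃ k₀ ∈ fixSub g, pol (⇑Q) v k₀ ≠ 0 := by
      by_contra hcon
      push Not at hcon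
      apply hvI
      rw [hI, LinearMap.BilinForm.mem_orthogonal_iff]
      intro f hf
      rw [polarBilin_app, QuadraticMap.polar_comm]
      exact hcon f hf
    have hgk₀ := (mem_fixSub g k₀).mp hk₀
    have hlamk₀ : lam k₀ ≠ 0 := by
      rw [hlam, hgk₀]
      exact mul_ne_zero (inv_ne_zero hv) hk₀v
    have hlam_add : ∀ z c, lam (z - c • k₀) = lam z - c * lam k₀ := by
      intro z c
      rw [hlam, hlam, hlam, map_sub, map_smul, QuadraticMap.polar_sub_right,
        QuadraticMap.polar_smul_right, smul_eq_mul]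
      ring
    apply finrank_eq_succ_of_extend (fixSub (T * g)) (fixSub g) ?_ k₀ hk₀ ?_ ?_
    · intro z hz
      rw [mem_fixSub]
      exact (hKK z hz).1
    · intro h
      exact hlamk₀ (hKK k₀ h).2
    · intro z hz
      have hgz := (mem_fixSub g z).mp hz
      refine ⟨lam z / lam k₀, ?_⟩
      rw [hK', hlam_add, map_sub, map_smul, hgz, hgk₀, sub_self, div_mul_cancel₀ _ hlamk₀, sub_self,
        zero_smul]

/-- The isometry group of a quadratic form, as a subgroup of the linear automorphisms. -/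
def isoGroup (Q : QuadraticForm F V) : Subgroup (V ≃ₗ[F] V) where
  carrier := {g | ∀ z, Q (g z) = Q z}
  mul_mem' := by
    intro a b ha hb z
    change Q (a (b z)) = Q z
    rw [ha, hb]
  one_mem' := fun z => rfl
  inv_mem' := by
    intro a ha z
    have h := ha (a⁻¹ z)
    have h2 : a (a⁻¹ z) = z := a.apply_symm_apply z
    rw [h2] at h
    exact h.symm

theorem mem_isoGroup (Q : QuadraticForm F V) (g : V ≃ₗ[F] V) :
    g ∈ isoGroup Q ↔ ∀ z, Q (g z) = Q z := Iff.rfl

theorem reflGroup_le_isoGroup (Q : QuadraticForm F V) : reflGroup Q ≤ isoGroup Q := by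
  unfold reflGroup
  rw [Subgroup.closure_le]
  rintro T ⟨v, hv, hT⟩ z
  rw [hT]
  exact reflLin_isom Q v hv z

theorem isoGroup_le_reflGroup [FiniteDimensional F V] (Q : QuadraticForm F V)
    (hQ : (QuadraticMap.polarBilin Q).Nondegenerate)
    (hF : (∀ a b : F, ∃ x : F, x ≠ a ∧ x ≠ b) ∨ Module.finrank F V ≠ 4) :
    isoGroup Q ≤ reflGroup Q :=
  fun g hg => isometry_mem_reflGroup Q hQ hF g hg

/-- The parity of the codimension of the fixed space. -/
noncomputable def par (g : V ≃ₗ[F] V) : ZMod 2 :=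
  (Module.finrank F (fixSub g) : ZMod 2) + (Module.finrank F V : ZMod 2)

theorem par_one : par (1 : V ≃ₗ[F] V) = 0 := by
  unfold par
  rw [fixSub_one, finrank_top]
  exact CharTwo.add_self_eq_zero _

theorem par_refl_mul [FiniteDimensional F V] (Q : QuadraticForm F V)
    (hQ : (QuadraticMap.polarBilin Q).Nondegenerate) (g : V ≃ₗ[F] V) (hg : g ∈ isoGroup Q)
    (T : V ≃ₗ[F] V) (hT : T ∈ reflSet Q) : par (T * g) = par g + 1 := by
  obtain ⟨v, hv, hTv⟩ := hT
  unfold par
  rcases finrank_fixSub_refl_mul Q hQ g hg v hv T hTv with h | h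
  · rw [h, Nat.cast_add, Nat.cast_one]
    ring
  · rw [h, Nat.cast_add, Nat.cast_one]
    have h2 : (1 : ZMod 2) + 1 = 0 := CharTwo.add_self_eq_zero _
    linear_combination (-1 : ZMod 2) * h2

theorem par_refl [FiniteDimensional F V] (Q : QuadraticForm F V)
    (hQ : (QuadraticMap.polarBilin Q).Nondegenerate) (T : V ≃ₗ[F] V) (hT : T ∈ reflSet Q) :
    par T = 1 := by
  have := par_refl_mul Q hQ 1 (Subgroup.one_mem _) T hT
  rw [mul_one, par_one, zero_add] at this
  exact this

/-- `par` is additive on the group generated by reflections. -/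
theorem par_mul [FiniteDimensional F V] (Q : QuadraticForm F V)
    (hQ : (QuadraticMap.polarBilin Q).Nondegenerate) (x : V ≃ₗ[F] V) (hx : x ∈ reflGroup Q) :
    ∀ g ∈ isoGroup Q, par (x * g) = par x + par g := by
  unfold reflGroup at hx
  induction hx using Subgroup.closure_induction with
  | mem T hT =>
    intro g hg
    rw [par_refl_mul Q hQ g hg T hT, par_refl Q hQ T hT, add_comm]
  | one =>
    intro g _
    rw [one_mul, par_one, zero_add]
  | mul a b ha hb iha ihb =>
    intro g hg
    have hb' : b ∈ isoGroup Q := reflGroup_le_isoGroup Q hb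
    rw [mul_assoc, iha (b * g) (Subgroup.mul_mem _ hb' hg), ihb g hg, iha b hb', add_assoc]
  | inv a ha iha =>
    intro g hg
    have ha' : a ∈ isoGroup Q := reflGroup_le_isoGroup Q ha
    have h1 := iha (a⁻¹ * g) (Subgroup.mul_mem _ (Subgroup.inv_mem _ ha') hg)
    rw [mul_inv_cancel_left] at h1
    have h2 := iha a⁻¹ (Subgroup.inv_mem _ ha')
    rw [mul_inv_cancel, par_one] at h2
    linear_combination h2 - h1

/-- The parity homomorphism on the isometry group. -/
noncomputable def parHom [FiniteDimensional F V] (Q : QuadraticForm F V)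
    (hQ : (QuadraticMap.polarBilin Q).Nondegenerate)
    (hF : (∀ a b : F, ∃ x : F, x ≠ a ∧ x ≠ b) ∨ Module.finrank F V ≠ 4) :
    ↥(isoGroup Q) →* Multiplicative (ZMod 2) :=
  MonoidHom.mk' (fun g => Multiplicative.ofAdd (par (g : V ≃ₗ[F] V))) (by
    intro a b
    rw [← ofAdd_add]
    congr 1
    exact par_mul Q hQ a.1 (isoGroup_le_reflGroup Q hQ hF a.2) b.1 b.2)

theorem parHom_apply [FiniteDimensional F V] (Q : QuadraticForm F V)
    (hQ : (QuadraticMap.polarBilin Q).Nondegenerate)
    (hF : (∀ a b : F, ∃ x : F, x ≠ a ∧ x ≠ b) ∨ Module.finrank F V ≠ 4) (g : ↥(isoGroup Q)) :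
    parHom Q hQ hF g = Multiplicative.ofAdd (par (g : V ≃ₗ[F] V)) := rfl

theorem reflLin_reflLin (Q : QuadraticForm F V) (v : V) (hv : Q v ≠ 0) (z : V) :
    reflLin Q v (reflLin Q v z) = z := by
  rw [reflLin_apply, reflLin_apply]
  simp only [QuadraticMap.polar_sub_right, QuadraticMap.polar_smul_right, polar_self', smul_eq_mul]
  match_scalars <;> field_simp <;> ring

/-- Over a field in which every element is a square, all reflections are conjugate in the
isometry group. -/
theorem refl_conj [FiniteDimensional F V] (Q : QuadraticForm F V)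
    (hQ : (QuadraticMap.polarBilin Q).Nondegenerate) (hsq : ∀ a : F, IsSquare a)
    (v v' : V) (hv : Q v ≠ 0) (hv' : Q v' ≠ 0) (T T' : V ≃ₗ[F] V)
    (hT : ∀ z, T z = reflLin Q v z) (hT' : ∀ z, T' z = reflLin Q v' z) :
    ∃ h ∈ isoGroup Q, h * T * h⁻¹ = T' := by
  -- normalise to vectors of norm one
  have hnorm : ∀ u : V, Q u ≠ 0 → ∃ u₁ : V, Q u₁ = 1 ∧ ∀ z, reflLin Q u₁ z = reflLin Q u z := by
    intro u hu
    obtain ⟨a, ha⟩ := hsq (Q u)⁻¹
    have hQu₁ : Q (a • u) = 1 := by
      rw [QuadraticMap.map_smul, smul_eq_mul, ← ha, inv_mul_cancel₀ hu]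
    refine ⟨a • u, hQu₁, ?_⟩
    intro z
    rw [reflLin_apply, reflLin_apply, hQu₁, QuadraticMap.polar_smul_left, smul_smul, ha]
    simp only [smul_eq_mul, inv_one, one_mul]
    congr 2
    ring
  obtain ⟨v₁, hv₁, hrv₁⟩ := hnorm v hv
  obtain ⟨v₁', hv₁', hrv₁'⟩ := hnorm v' hv'
  have hv₁0 : v₁ ≠ 0 := by
    rintro rfl
    rw [QuadraticMap.map_zero] at hv₁
    exact zero_ne_one hv₁
  have hv₁'0 : v₁' ≠ 0 := by
    rintro rfl
    rw [QuadraticMap.map_zero] at hv₁'
    exact zero_ne_one hv₁'
  obtain ⟨h, hh, -, hhv⟩ := quad_core Q hQ ⊥ v₁ v₁'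
    (by rw [Submodule.mem_bot]; exact hv₁0) (by rw [Submodule.mem_bot]; exact hv₁'0)
    (by rw [hv₁, hv₁']) (by
      intro x hx
      rw [Submodule.mem_bot] at hx
      rw [hx, QuadraticMap.polar_zero_left])
  have hpolh : ∀ z w, pol (⇑Q) (h z) (h w) = pol (⇑Q) z w := by
    intro z w
    unfold QuadraticMap.polar
    rw [← map_add, hh, hh, hh]
  refine ⟨h, hh, ?_⟩
  apply LinearEquiv.ext
  intro z
  change h (T (h⁻¹ z)) = T' z
  have hz : h (h⁻¹ z) = z := h.apply_symm_apply z
  rw [hT, ← hrv₁, hT', ← hrv₁', reflLin_apply, reflLin_apply, map_sub, map_smul, hz, hhv, hv₁, hv₁',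
    ← hpolh v₁ (h⁻¹ z), hz, hhv]

/-- If every element of the field is a square (e.g. a finite field of characteristic two), the
commutator subgroup of the isometry group has index two. -/
theorem commutator_isoGroup_index [FiniteDimensional F V] (Q : QuadraticForm F V)
    (hQ : (QuadraticMap.polarBilin Q).Nondegenerate)
    (hF : (∀ a b : F, ∃ x : F, x ≠ a ∧ x ≠ b) ∨ Module.finrank F V ≠ 4)
    (hsq : ∀ a : F, IsSquare a) (hne : ∃ v : V, Q v ≠ 0) :
    (commutator ↥(isoGroup Q)).index = 2 := by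
  classical
  obtain ⟨v₀, hv₀⟩ := hne
  obtain ⟨T₀, hT₀⟩ := exists_equiv_of_isom Q hQ (reflLin Q v₀) (reflLin_isom Q v₀ hv₀)
  have hT₀set : T₀ ∈ reflSet Q := ⟨v₀, hv₀, hT₀⟩
  have hT₀mem : T₀ ∈ isoGroup Q := reflGroup_le_isoGroup Q (Subgroup.subset_closure hT₀set)
  have hT₀sq : T₀ * T₀ = 1 := by
    apply LinearEquiv.ext
    intro z
    change T₀ (T₀ z) = z
    rw [hT₀, hT₀, reflLin_reflLin Q v₀ hv₀]
  obtain ⟨r₀, hr₀⟩ : ∃ r₀ : ↥(isoGroup Q), r₀ = ⟨T₀, hT₀mem⟩ := ⟨_, rfl⟩
  obtain ⟨ρ, hρ⟩ : ∃ ρ : Abelianization ↥(isoGroup Q), ρ = Abelianization.of r₀ := ⟨_, rfl⟩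
  have hρsq : ρ * ρ = 1 := by
    rw [hρ, ← map_mul]
    have : r₀ * r₀ = 1 := by
      rw [hr₀]
      apply Subtype.ext
      exact hT₀sq
    rw [this, map_one]
  have hρinv : ρ⁻¹ = ρ := inv_eq_of_mul_eq_one_right hρsq
  -- every element of the abelianisation is `1` or `ρ`
  have hclaim : ∀ x : V ≃ₗ[F] V, x ∈ reflGroup Q → ∀ hx' : x ∈ isoGroup Q,
      Abelianization.of (⟨x, hx'⟩ : ↥(isoGroup Q)) = 1 ∨
        Abelianization.of (⟨x, hx'⟩ : ↥(isoGroup Q)) = ρ := by
    intro x hx
    unfold reflGroup at hx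
    induction hx using Subgroup.closure_induction with
    | mem T hT =>
      intro hx'
      right
      obtain ⟨v, hv, hTv⟩ := hT
      obtain ⟨h, hh, hconj⟩ := refl_conj Q hQ hsq v₀ v hv₀ hv T₀ T hT₀ hTv
      have : (⟨T, hx'⟩ : ↥(isoGroup Q)) = ⟨h, hh⟩ * r₀ * (⟨h, hh⟩ : ↥(isoGroup Q))⁻¹ := by
        rw [hr₀]
        apply Subtype.ext
        exact hconj.symm
      rw [this, map_mul, map_mul, map_inv, hρ, mul_comm, inv_mul_cancel_left]
    | one =>
      intro hx'
      left
      exact map_one _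
    | mul a b ha hb iha ihb =>
      intro hx'
      have ha' : a ∈ isoGroup Q := reflGroup_le_isoGroup Q ha
      have hb' : b ∈ isoGroup Q := reflGroup_le_isoGroup Q hb
      have : (⟨a * b, hx'⟩ : ↥(isoGroup Q)) = ⟨a, ha'⟩ * ⟨b, hb'⟩ := rfl
      rw [this, map_mul]
      rcases iha ha' with h1 | h1 <;> rcases ihb hb' with h2 | h2 <;> rw [h1, h2]
      · left; rw [mul_one]
      · right; rw [one_mul]
      · right; rw [mul_one]
      · left; exact hρsq
    | inv a ha iha =>
      intro hx'
      have ha' : a ∈ isoGroup Q := reflGroup_le_isoGroup Q ha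
      have : (⟨a⁻¹, hx'⟩ : ↥(isoGroup Q)) = (⟨a, ha'⟩ : ↥(isoGroup Q))⁻¹ := rfl
      rw [this, map_inv]
      rcases iha ha' with h1 | h1 <;> rw [h1]
      · left; rw [inv_one]
      · right; exact hρinv
  have hall : ∀ y : Abelianization ↥(isoGroup Q), y = 1 ∨ y = ρ := by
    intro y
    obtain ⟨g, rfl⟩ := QuotientGroup.mk_surjective y
    exact hclaim g.1 (isoGroup_le_reflGroup Q hQ hF g.2) g.2
  have hsurj : Function.Surjective (fun b : Bool => if b then ρ else 1) := by
    intro y
    rcases hall y with h | h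
    · exact ⟨false, by simp [h]⟩
    · exact ⟨true, by simp [h]⟩
  have hfin : Finite (Abelianization ↥(isoGroup Q)) := Finite.of_surjective _ hsurj
  have hcard_le : Nat.card (Abelianization ↥(isoGroup Q)) ≤ 2 := by
    have := Nat.card_le_card_of_surjective _ hsurj
    simpa using this
  have hcard_pos : 0 < Nat.card (Abelianization ↥(isoGroup Q)) := Nat.card_pos
  -- the parity homomorphism is onto
  have hker : commutator ↥(isoGroup Q) ≤ (parHom Q hQ hF).ker :=
    Abelianization.commutator_subset_ker _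
  have hpsurj : Function.Surjective (parHom Q hQ hF) := by
    intro y
    have hy : y = Multiplicative.ofAdd (0 : ZMod 2) ∨ y = Multiplicative.ofAdd (1 : ZMod 2) := by
      have : ∀ t : ZMod 2, t = 0 ∨ t = 1 := by decide
      rcases this (Multiplicative.toAdd y) with h | h
      · left; rw [← h]; rfl
      · right; rw [← h]; rfl
    rcases hy with rfl | rfl
    · exact ⟨1, map_one _⟩
    · refine ⟨r₀, ?_⟩
      rw [parHom_apply, hr₀]
      congr 1
      exact par_refl Q hQ T₀ hT₀set
  have hindex_ker : (parHom Q hQ hF).ker.index = 2 := by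
    rw [Subgroup.index_ker, MonoidHom.range_eq_top.mpr hpsurj, Subgroup.card_top]
    simp [Nat.card_eq_fintype_card]
  have hdvd : 2 ∣ (commutator ↥(isoGroup Q)).index := by
    rw [← hindex_ker]
    exact Subgroup.index_dvd_of_le hker
  have hidx : (commutator ↥(isoGroup Q)).index = Nat.card (Abelianization ↥(isoGroup Q)) :=
    Subgroup.index_eq_card _
  rw [hidx] at hdvd ⊢
  obtain ⟨c, hc⟩ := hdvd
  have : c = 1 := by
    rcases c with _ | _ | c
    · omega
    · rfl
    · omega
  rw [hc, this]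

end Cfsg.Agent.Lib.Helper13
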