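import Mathlib
import Cfsg.Prelude.Def_ClassicalGeometry

set_option autoImplicit false

/-!
Basic facts about `Cfsg.sympForm` and `Cfsg.sympTransvection` (helper13's library).
-/

namespace Cfsg.Agent.Lib.Helper13

open Matrix

variable {m : ℕ} {F : Type*} [CommRing F]

theorem J_mulVec (v : Fin m ⊕ Fin m → F) :
    Matrix.J (Fin m) F *ᵥ v = Sum.elim (fun i => -v (Sum.inr i)) (fun i => v (Sum.inl i)) := by
  have hv : v = Sum.elim (fun i => v (Sum.inl i)) (fun i => v (Sum.inr i)) := by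
    ext x; cases x <;> rfl
  conv_lhs => rw [hv]
  rw [Matrix.J, Matrix.fromBlocks_mulVec]
  ext x
  cases x <;> simp [Matrix.neg_mulVec]

theorem sympForm_eq_sum (u v : Fin m ⊕ Fin m → F) :
    Cfsg.sympForm m F u v
      = ∑ i, (u (Sum.inr i) * v (Sum.inl i) - u (Sum.inl i) * v (Sum.inr i)) := by
  unfold Cfsg.sympForm
  rw [J_mulVec, dotProduct, Fintype.sum_sum_type]
  simp only [Sum.elim_inl, Sum.elim_inr, mul_neg]
  rw [Finset.sum_sub_distrib, Finset.sum_neg_distrib]
  ring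

theorem sympForm_self (u : Fin m ⊕ Fin m → F) : Cfsg.sympForm m F u u = 0 := by
  rw [sympForm_eq_sum]
  apply Finset.sum_eq_zero
  intro i _
  ring

theorem sympForm_swap (u v : Fin m ⊕ Fin m → F) :
    Cfsg.sympForm m F u v = -Cfsg.sympForm m F v u := by
  rw [sympForm_eq_sum, sympForm_eq_sum, ← Finset.sum_neg_distrib]
  apply Finset.sum_congr rfl
  intro i _
  ring

theorem sympForm_add_left (u u' v : Fin m ⊕ Fin m → F) :
    Cfsg.sympForm m F (u + u') v = Cfsg.sympForm m F u v + Cfsg.sympForm m F u' v := by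
  unfold Cfsg.sympForm
  rw [add_dotProduct]

theorem sympForm_add_right (u v v' : Fin m ⊕ Fin m → F) :
    Cfsg.sympForm m F u (v + v') = Cfsg.sympForm m F u v + Cfsg.sympForm m F u v' := by
  unfold Cfsg.sympForm
  rw [Matrix.mulVec_add, dotProduct_add]

theorem sympForm_smul_left (a : F) (u v : Fin m ⊕ Fin m → F) :
    Cfsg.sympForm m F (a • u) v = a * Cfsg.sympForm m F u v := by
  unfold Cfsg.sympForm
  rw [smul_dotProduct, smul_eq_mul]

theorem sympForm_smul_right (a : F) (u v : Fin m ⊕ Fin m → F) :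
    Cfsg.sympForm m F u (a • v) = a * Cfsg.sympForm m F u v := by
  unfold Cfsg.sympForm
  rw [Matrix.mulVec_smul, dotProduct_smul, smul_eq_mul]

theorem sympForm_zero_left (v : Fin m ⊕ Fin m → F) : Cfsg.sympForm m F 0 v = 0 := by
  unfold Cfsg.sympForm
  rw [zero_dotProduct]

theorem sympForm_zero_right (u : Fin m ⊕ Fin m → F) : Cfsg.sympForm m F u 0 = 0 := by
  unfold Cfsg.sympForm
  rw [Matrix.mulVec_zero, dotProduct_zero]

theorem sympForm_neg_left (u v : Fin m ⊕ Fin m → F) :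
    Cfsg.sympForm m F (-u) v = -Cfsg.sympForm m F u v := by
  unfold Cfsg.sympForm
  rw [neg_dotProduct]

theorem sympForm_neg_right (u v : Fin m ⊕ Fin m → F) :
    Cfsg.sympForm m F u (-v) = -Cfsg.sympForm m F u v := by
  unfold Cfsg.sympForm
  rw [Matrix.mulVec_neg, dotProduct_neg]

theorem sympForm_sub_left (u u' v : Fin m ⊕ Fin m → F) :
    Cfsg.sympForm m F (u - u') v = Cfsg.sympForm m F u v - Cfsg.sympForm m F u' v := by
  rw [sub_eq_add_neg, sympForm_add_left, sympForm_neg_left, ← sub_eq_add_neg]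

theorem sympForm_sub_right (u v v' : Fin m ⊕ Fin m → F) :
    Cfsg.sympForm m F u (v - v') = Cfsg.sympForm m F u v - Cfsg.sympForm m F u v' := by
  rw [sub_eq_add_neg, sympForm_add_right, sympForm_neg_right, ← sub_eq_add_neg]

/-- `sympForm` as a bilinear form. -/
def sympBilin (m : ℕ) (F : Type*) [CommRing F] : LinearMap.BilinForm F (Fin m ⊕ Fin m → F) :=
  LinearMap.mk₂ F (Cfsg.sympForm m F) sympForm_add_left sympForm_smul_left sympForm_add_right
    sympForm_smul_right

@[simp] theorem sympBilin_apply (u v : Fin m ⊕ Fin m → F) :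
    sympBilin m F u v = Cfsg.sympForm m F u v := rfl

theorem sympForm_mulVec_mulVec (A : Matrix (Fin m ⊕ Fin m) (Fin m ⊕ Fin m) F)
    (u v : Fin m ⊕ Fin m → F) :
    Cfsg.sympForm m F (A *ᵥ u) (A *ᵥ v) = u ⬝ᵥ ((Aᵀ * Matrix.J (Fin m) F * A) *ᵥ v) := by
  unfold Cfsg.sympForm
  rw [Matrix.mulVec_mulVec, Matrix.mul_assoc, ← Matrix.mulVec_mulVec v (Aᵀ),
    Matrix.dotProduct_mulVec u, Matrix.vecMul_transpose]

theorem sympForm_mulVec_of_mem {A : Matrix (Fin m ⊕ Fin m) (Fin m ⊕ Fin m) F}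
    (hA : A ∈ Matrix.symplecticGroup (Fin m) F) (u v : Fin m ⊕ Fin m → F) :
    Cfsg.sympForm m F (A *ᵥ u) (A *ᵥ v) = Cfsg.sympForm m F u v := by
  rw [sympForm_mulVec_mulVec, SymplecticGroup.mem_iff'.mp hA]
  rfl

theorem sympForm_single_single (i j : Fin m ⊕ Fin m) :
    Cfsg.sympForm m F (Pi.single i 1) (Pi.single j 1) = Matrix.J (Fin m) F i j := by
  unfold Cfsg.sympForm
  rw [Matrix.mulVec_single_one, single_one_dotProduct]
  rfl

theorem mem_symplecticGroup_iff {A : Matrix (Fin m ⊕ Fin m) (Fin m ⊕ Fin m) F} :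
    A ∈ Matrix.symplecticGroup (Fin m) F ↔
      ∀ u v : Fin m ⊕ Fin m → F, Cfsg.sympForm m F (A *ᵥ u) (A *ᵥ v) = Cfsg.sympForm m F u v := by
  constructor
  · intro hA u v
    exact sympForm_mulVec_of_mem hA u v
  · intro h
    rw [SymplecticGroup.mem_iff']
    ext i j
    have := h (Pi.single i 1) (Pi.single j 1)
    rw [sympForm_mulVec_mulVec, sympForm_single_single, Matrix.mulVec_single_one,
      single_one_dotProduct] at this
    exact this

theorem sympTransvection_mulVec (v : Fin m ⊕ Fin m → F) (c : F) (x : Fin m ⊕ Fin m → F) :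
    Cfsg.sympTransvection m v c *ᵥ x = x + (c * Cfsg.sympForm m F x v) • v := by
  unfold Cfsg.sympTransvection Cfsg.sympForm
  rw [Matrix.add_mulVec, Matrix.one_mulVec, Matrix.smul_mulVec, Matrix.vecMulVec_mulVec]
  rw [dotProduct_comm x]
  ext i
  simp only [Pi.add_apply, Pi.smul_apply, MulOpposite.smul_eq_mul_unop, MulOpposite.unop_op,
    smul_eq_mul]
  ring

theorem sympTransvection_mem (v : Fin m ⊕ Fin m → F) (c : F) :
    Cfsg.sympTransvection m v c ∈ Matrix.symplecticGroup (Fin m) F := by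
  rw [mem_symplecticGroup_iff]
  intro x y
  rw [sympTransvection_mulVec, sympTransvection_mulVec]
  simp only [sympForm_add_left, sympForm_add_right, sympForm_smul_left, sympForm_smul_right,
    sympForm_self]
  rw [sympForm_swap v y]
  ring

theorem inv_mem_symplecticGroup {A : Matrix (Fin m ⊕ Fin m) (Fin m ⊕ Fin m) F}
    (hA : A ∈ Matrix.symplecticGroup (Fin m) F) : A⁻¹ ∈ Matrix.symplecticGroup (Fin m) F := by
  have h := SymplecticGroup.coe_inv' (⟨A, hA⟩ : Matrix.symplecticGroup (Fin m) F)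
  rw [← h]
  exact Subtype.property _

theorem mul_inv_of_mem_symplecticGroup {A : Matrix (Fin m ⊕ Fin m) (Fin m ⊕ Fin m) F}
    (hA : A ∈ Matrix.symplecticGroup (Fin m) F) : A * A⁻¹ = 1 :=
  Matrix.mul_nonsing_inv _ (SymplecticGroup.symplectic_det hA)

theorem inv_mul_of_mem_symplecticGroup {A : Matrix (Fin m ⊕ Fin m) (Fin m ⊕ Fin m) F}
    (hA : A ∈ Matrix.symplecticGroup (Fin m) F) : A⁻¹ * A = 1 :=
  Matrix.nonsing_inv_mul _ (SymplecticGroup.symplectic_det hA)

theorem sympForm_inv_mulVec_left {A : Matrix (Fin m ⊕ Fin m) (Fin m ⊕ Fin m) F}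
    (hA : A ∈ Matrix.symplecticGroup (Fin m) F) (x y : Fin m ⊕ Fin m → F) :
    Cfsg.sympForm m F (A⁻¹ *ᵥ x) y = Cfsg.sympForm m F x (A *ᵥ y) := by
  rw [← sympForm_mulVec_of_mem hA (A⁻¹ *ᵥ x) y, Matrix.mulVec_mulVec,
    mul_inv_of_mem_symplecticGroup hA, Matrix.one_mulVec]

theorem sympTransvection_mul (v : Fin m ⊕ Fin m → F) (c d : F) :
    Cfsg.sympTransvection m v c * Cfsg.sympTransvection m v d
      = Cfsg.sympTransvection m v (c + d) := by
  rw [Matrix.ext_iff_mulVec]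
  intro x
  rw [← Matrix.mulVec_mulVec, sympTransvection_mulVec, sympTransvection_mulVec,
    sympTransvection_mulVec]
  simp only [sympForm_add_left, sympForm_smul_left, sympForm_self, mul_zero, add_zero]
  rw [add_assoc, ← add_smul]
  congr 2
  ring

theorem sympTransvection_conj {A : Matrix (Fin m ⊕ Fin m) (Fin m ⊕ Fin m) F}
    (hA : A ∈ Matrix.symplecticGroup (Fin m) F) {v : Fin m ⊕ Fin m → F} {a : F}
    (hAv : A *ᵥ v = a • v) (c : F) :
    A * Cfsg.sympTransvection m v c * A⁻¹ = Cfsg.sympTransvection m v (c * a ^ 2) := by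
  rw [Matrix.ext_iff_mulVec]
  intro x
  rw [← Matrix.mulVec_mulVec, ← Matrix.mulVec_mulVec, sympTransvection_mulVec,
    sympTransvection_mulVec, Matrix.mulVec_add, Matrix.mulVec_mulVec,
    mul_inv_of_mem_symplecticGroup hA, Matrix.one_mulVec, Matrix.mulVec_smul, hAv,
    sympForm_inv_mulVec_left hA, hAv, sympForm_smul_right, smul_smul]
  congr 2
  ring

end Cfsg.Agent.Lib.Helper13
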