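import Mathlib
import Cfsg.Prelude.Def_ClassicalGeometry
import Cfsg.Agent.Lib.Helper13.Symp

set_option autoImplicit false

/-!
The subgroup of the symplectic group generated by symplectic transvections; transitivity on
non-zero vectors and on hyperbolic pairs (helper13's library).
-/

namespace Cfsg.Agent.Lib.Helper13

open Matrix

variable {m : ℕ} {F : Type*} [Field F]

/-- The set of symplectic transvections inside the symplectic group. -/
def tvSet (m : ℕ) (F : Type*) [Field F] : Set (Matrix.symplecticGroup (Fin m) F) :=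
  {A | ∃ (w : Fin m ⊕ Fin m → F) (c : F),
    (A : Matrix (Fin m ⊕ Fin m) (Fin m ⊕ Fin m) F) = Cfsg.sympTransvection m w c}

/-- The subgroup generated by the symplectic transvections. -/
def tvGroup (m : ℕ) (F : Type*) [Field F] : Subgroup (Matrix.symplecticGroup (Fin m) F) :=
  Subgroup.closure (tvSet m F)

/-- A symplectic transvection as an element of the symplectic group. -/
def tvElt (w : Fin m ⊕ Fin m → F) (c : F) : Matrix.symplecticGroup (Fin m) F :=
  ⟨Cfsg.sympTransvection m w c, sympTransvection_mem w c⟩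

theorem tvElt_mem (w : Fin m ⊕ Fin m → F) (c : F) : tvElt w c ∈ tvGroup m F :=
  Subgroup.subset_closure ⟨w, c, rfl⟩

theorem coe_mul_mulVec (A B : Matrix.symplecticGroup (Fin m) F) (x : Fin m ⊕ Fin m → F) :
    ((A * B : Matrix.symplecticGroup (Fin m) F) : Matrix (Fin m ⊕ Fin m) (Fin m ⊕ Fin m) F) *ᵥ x
      = (A : Matrix (Fin m ⊕ Fin m) (Fin m ⊕ Fin m) F) *ᵥ
        ((B : Matrix (Fin m ⊕ Fin m) (Fin m ⊕ Fin m) F) *ᵥ x) := by
  rw [Matrix.mulVec_mulVec]
  rfl

/-- One transvection step: if `f(x, y) ≠ 0` there is a transvection taking `x` to `y` and fixing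
every vector orthogonal to `y - x`. -/
theorem tv_step (x y : Fin m ⊕ Fin m → F) (hxy : Cfsg.sympForm m F x y ≠ 0) :
    ∃ A ∈ tvGroup m F, (A : Matrix (Fin m ⊕ Fin m) (Fin m ⊕ Fin m) F) *ᵥ x = y ∧
      ∀ z, Cfsg.sympForm m F z (y - x) = 0 →
        (A : Matrix (Fin m ⊕ Fin m) (Fin m ⊕ Fin m) F) *ᵥ z = z := by
  refine ⟨tvElt (y - x) (Cfsg.sympForm m F x y)⁻¹, tvElt_mem _ _, ?_, ?_⟩
  · change Cfsg.sympTransvection m (y - x) (Cfsg.sympForm m F x y)⁻¹ *ᵥ x = y
    rw [sympTransvection_mulVec, sympForm_sub_right, sympForm_self, sub_zero,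
      inv_mul_cancel₀ hxy, one_smul]
    abel
  · intro z hz
    change Cfsg.sympTransvection m (y - x) (Cfsg.sympForm m F x y)⁻¹ *ᵥ z = z
    rw [sympTransvection_mulVec, hz, mul_zero, zero_smul, add_zero]

/-- The transvection group is transitive on vectors that are not in the radical (i.e. on non-zero
vectors). -/
theorem tv_trans_vec (x y a b : Fin m ⊕ Fin m → F) (hxa : Cfsg.sympForm m F x a ≠ 0)
    (hyb : Cfsg.sympForm m F y b ≠ 0) :
    ∃ A ∈ tvGroup m F, (A : Matrix (Fin m ⊕ Fin m) (Fin m ⊕ Fin m) F) *ᵥ x = y := by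
  by_cases hxy : Cfsg.sympForm m F x y = 0
  · -- find z with f(x,z) ≠ 0 and f(z,y) ≠ 0
    obtain ⟨z, hxz, hzy⟩ : ∃ z, Cfsg.sympForm m F x z ≠ 0 ∧ Cfsg.sympForm m F z y ≠ 0 := by
      by_cases hya : Cfsg.sympForm m F y a = 0
      · by_cases hxb : Cfsg.sympForm m F x b = 0
        · refine ⟨a + b, ?_, ?_⟩
          · rw [sympForm_add_right, hxb, add_zero]; exact hxa
          · rw [sympForm_swap, sympForm_add_right, hya, zero_add]
            exact neg_ne_zero.mpr hyb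
        · refine ⟨b, hxb, ?_⟩
          rw [sympForm_swap]; exact neg_ne_zero.mpr hyb
      · refine ⟨a, hxa, ?_⟩
        rw [sympForm_swap]; exact neg_ne_zero.mpr hya
    obtain ⟨A1, hA1, hA1x, _⟩ := tv_step x z hxz
    obtain ⟨A2, hA2, hA2z, _⟩ := tv_step z y hzy
    refine ⟨A2 * A1, Subgroup.mul_mem _ hA2 hA1, ?_⟩
    rw [coe_mul_mulVec, hA1x, hA2z]
  · obtain ⟨A, hA, hAx, _⟩ := tv_step x y hxy
    exact ⟨A, hA, hAx⟩

/-- Moving the second member of a hyperbolic pair while fixing the first. -/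
theorem tv_fix_first (u v w : Fin m ⊕ Fin m → F) (huv : Cfsg.sympForm m F u v = 1)
    (huw : Cfsg.sympForm m F u w = 1) :
    ∃ A ∈ tvGroup m F, (A : Matrix (Fin m ⊕ Fin m) (Fin m ⊕ Fin m) F) *ᵥ u = u ∧
      (A : Matrix (Fin m ⊕ Fin m) (Fin m ⊕ Fin m) F) *ᵥ v = w := by
  by_cases hvw : Cfsg.sympForm m F v w = 0
  · have h1 : Cfsg.sympForm m F v (u + v) ≠ 0 := by
      rw [sympForm_add_right, sympForm_self, add_zero, sympForm_swap, huv]
      exact neg_ne_zero.mpr one_ne_zero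
    have h2 : Cfsg.sympForm m F (u + v) w ≠ 0 := by
      rw [sympForm_add_left, huw, hvw, add_zero]
      exact one_ne_zero
    obtain ⟨A1, hA1, hA1v, hA1fix⟩ := tv_step v (u + v) h1
    obtain ⟨A2, hA2, hA2v, hA2fix⟩ := tv_step (u + v) w h2
    refine ⟨A2 * A1, Subgroup.mul_mem _ hA2 hA1, ?_, ?_⟩
    · rw [coe_mul_mulVec, hA1fix u, hA2fix u]
      · rw [sympForm_sub_right, sympForm_add_right, sympForm_self, huw, huv]
        ring
      · rw [sympForm_sub_right, sympForm_add_right, sympForm_self, huv]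
        ring
    · rw [coe_mul_mulVec, hA1v, hA2v]
  · obtain ⟨A, hA, hAv, hAfix⟩ := tv_step v w hvw
    refine ⟨A, hA, hAfix u ?_, hAv⟩
    rw [sympForm_sub_right, huw, huv, sub_self]

/-- The transvection group is transitive on hyperbolic pairs. -/
theorem tv_trans_pairs (u v u' v' : Fin m ⊕ Fin m → F) (h : Cfsg.sympForm m F u v = 1)
    (h' : Cfsg.sympForm m F u' v' = 1) :
    ∃ A ∈ tvGroup m F, (A : Matrix (Fin m ⊕ Fin m) (Fin m ⊕ Fin m) F) *ᵥ u = u' ∧
      (A : Matrix (Fin m ⊕ Fin m) (Fin m ⊕ Fin m) F) *ᵥ v = v' := by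
  obtain ⟨A1, hA1, hA1u⟩ := tv_trans_vec u u' v v' (by rw [h]; exact one_ne_zero)
    (by rw [h']; exact one_ne_zero)
  have hpair : Cfsg.sympForm m F u'
      ((A1 : Matrix (Fin m ⊕ Fin m) (Fin m ⊕ Fin m) F) *ᵥ v) = 1 := by
    rw [← hA1u, sympForm_mulVec_of_mem A1.2, h]
  obtain ⟨A2, hA2, hA2u, hA2v⟩ := tv_fix_first u' _ v' hpair h'
  refine ⟨A2 * A1, Subgroup.mul_mem _ hA2 hA1, ?_, ?_⟩
  · rw [coe_mul_mulVec, hA1u, hA2u]
  · rw [coe_mul_mulVec, hA2v]

end Cfsg.Agent.Lib.Helper13
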