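import Mathlib
import Cfsg.Prelude.Def_ClassicalGeometry
import Cfsg.Agent.Lib.Helper13.Symp
import Cfsg.Agent.Lib.Helper13.SympTrans
import Cfsg.Agent.Lib.Helper13.AltForm

set_option autoImplicit false

/-!
The symplectic group `Sp_2m(F)` is generated by symplectic transvections; Witt's theorem for the
standard symplectic space (helper13's library).
-/

namespace Cfsg.Agent.Lib.Helper13

open Matrix

variable {m : ℕ} {F : Type*} [Field F]

theorem sympBilin_isAlt (m : ℕ) (F : Type*) [Field F] : (sympBilin m F).IsAlt :=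
  fun x => sympForm_self x

theorem sympForm_single_inl_right (u : Fin m ⊕ Fin m → F) (k : Fin m) :
    Cfsg.sympForm m F u (Pi.single (Sum.inl k) 1) = u (Sum.inr k) := by
  rw [sympForm_eq_sum, Finset.sum_eq_single k]
  · simp
  · intro i _ hi
    simp [hi]
  · intro h; exact absurd (Finset.mem_univ k) h

theorem sympForm_single_inr_right (u : Fin m ⊕ Fin m → F) (k : Fin m) :
    Cfsg.sympForm m F u (Pi.single (Sum.inr k) 1) = -u (Sum.inl k) := by
  rw [sympForm_eq_sum, Finset.sum_eq_single k]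
  · simp
  · intro i _ hi
    simp [hi]
  · intro h; exact absurd (Finset.mem_univ k) h

theorem sympForm_left_nondeg (u : Fin m ⊕ Fin m → F)
    (h : ∀ v, Cfsg.sympForm m F u v = 0) : u = 0 := by
  funext i
  rcases i with k | k
  · have := h (Pi.single (Sum.inr k) 1)
    rw [sympForm_single_inr_right] at this
    simpa using this
  · have := h (Pi.single (Sum.inl k) 1)
    rw [sympForm_single_inl_right] at this
    simpa using this

theorem sympBilin_nondegenerate (m : ℕ) (F : Type*) [Field F] :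
    (sympBilin m F).Nondegenerate := by
  constructor
  · intro u hu
    exact sympForm_left_nondeg u hu
  · intro v hv
    apply sympForm_left_nondeg v
    intro u
    rw [sympForm_swap]
    have := hv u
    simp only [sympBilin_apply] at this
    rw [this, neg_zero]

/-- Every element of the abstract transvection group of `sympBilin` is given by a matrix in the
matrix transvection group. -/
theorem exists_matrix_of_mem_tvGroupL {g : (Fin m ⊕ Fin m → F) ≃ₗ[F] (Fin m ⊕ Fin m → F)}
    (hg : g ∈ tvGroupL (sympBilin m F) (sympBilin_isAlt m F)) :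
    ∃ M ∈ tvGroup m F, ∀ x, (M : Matrix (Fin m ⊕ Fin m) (Fin m ⊕ Fin m) F) *ᵥ x = g x := by
  induction hg using Subgroup.closure_induction with
  | mem g hg =>
    obtain ⟨u, c, rfl⟩ := hg
    refine ⟨tvElt u c, tvElt_mem u c, fun x => ?_⟩
    change Cfsg.sympTransvection m u c *ᵥ x = _
    rw [sympTransvection_mulVec, transv_apply]
    rfl
  | one => exact ⟨1, Subgroup.one_mem _, fun x => by simp⟩
  | mul g h _ _ ihg ihh =>
    obtain ⟨Mg, hMg, hg⟩ := ihg
    obtain ⟨Mh, hMh, hh⟩ := ihh
    refine ⟨Mg * Mh, Subgroup.mul_mem _ hMg hMh, fun x => ?_⟩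
    rw [coe_mul_mulVec, hh, hg]
    rfl
  | inv g _ ih =>
    obtain ⟨M, hM, hg⟩ := ih
    refine ⟨M⁻¹, Subgroup.inv_mem _ hM, fun x => ?_⟩
    have h1 : (M : Matrix (Fin m ⊕ Fin m) (Fin m ⊕ Fin m) F) *ᵥ (g⁻¹ x) = x := by
      rw [hg]
      change (g * g⁻¹) x = x
      rw [mul_inv_cancel]; rfl
    have h2 : ((M⁻¹ * M : Matrix.symplecticGroup (Fin m) F) :
        Matrix (Fin m ⊕ Fin m) (Fin m ⊕ Fin m) F) *ᵥ (g⁻¹ x) = g⁻¹ x := by
      rw [inv_mul_cancel]
      simp
    rw [coe_mul_mulVec, h1] at h2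
    exact h2

/-- **Witt's theorem for the standard symplectic space**, strong form. -/
theorem witt_families_symp (n : ℕ) (b c : Fin n → (Fin m ⊕ Fin m → F))
    (hb : LinearIndependent F b) (hc : LinearIndependent F c)
    (hbc : ∀ i j, Cfsg.sympForm m F (b i) (b j) = Cfsg.sympForm m F (c i) (c j)) :
    ∃ M ∈ tvGroup m F, ∀ i, (M : Matrix (Fin m ⊕ Fin m) (Fin m ⊕ Fin m) F) *ᵥ (b i) = c i := by
  obtain ⟨T, hT, hTb⟩ := witt_families (sympBilin m F) (sympBilin_nondegenerate m F)
    (sympBilin_isAlt m F) n b c hb hc hbc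
  obtain ⟨M, hM, hMT⟩ := exists_matrix_of_mem_tvGroupL hT
  exact ⟨M, hM, fun i => by rw [hMT, hTb]⟩

/-- The symplectic group is generated by the symplectic transvections. -/
theorem tvGroup_eq_top (m : ℕ) (F : Type*) [Field F] : tvGroup m F = ⊤ := by
  rw [eq_top_iff]
  intro A _
  -- the standard basis, indexed by `Fin (m + m)`
  set e : Fin (m + m) ≃ Fin m ⊕ Fin m := finSumFinEquiv.symm with he
  set bas : Module.Basis (Fin (m + m)) F (Fin m ⊕ Fin m → F) :=
    (Pi.basisFun F (Fin m ⊕ Fin m)).reindex e.symm with hbas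
  set Am : Matrix (Fin m ⊕ Fin m) (Fin m ⊕ Fin m) F := A.1 with hAm
  have hinj : Function.Injective (Matrix.toLin' Am) := by
    intro x y hxy
    have h1 : Am⁻¹ *ᵥ (Am *ᵥ x) = Am⁻¹ *ᵥ (Am *ᵥ y) := by
      simp only [Matrix.toLin'_apply] at hxy
      rw [hxy]
    rwa [Matrix.mulVec_mulVec, Matrix.mulVec_mulVec, inv_mul_of_mem_symplecticGroup A.2,
      Matrix.one_mulVec, Matrix.one_mulVec] at h1
  have hb : LinearIndependent F (fun i => bas i) := bas.linearIndependent
  have hc : LinearIndependent F (fun i => Am *ᵥ bas i) := by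
    have := hb.map' (Matrix.toLin' Am) (LinearMap.ker_eq_bot.mpr hinj)
    exact this
  obtain ⟨M, hM, hMb⟩ := witt_families_symp (m + m) (fun i => bas i) (fun i => Am *ᵥ bas i) hb hc
    (fun i j => (sympForm_mulVec_of_mem A.2 _ _).symm)
  have hMA : (M : Matrix (Fin m ⊕ Fin m) (Fin m ⊕ Fin m) F) = Am := by
    have hlin : Matrix.toLin' (M : Matrix (Fin m ⊕ Fin m) (Fin m ⊕ Fin m) F)
        = Matrix.toLin' Am := by
      apply bas.ext
      intro i
      rw [Matrix.toLin'_apply, Matrix.toLin'_apply]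
      exact hMb i
    exact Matrix.toLin'.injective hlin
  have : M = A := Subtype.ext hMA
  rw [← this]
  exact hM

end Cfsg.Agent.Lib.Helper13
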