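import Mathlib
import Cfsg.Prelude.Def_ClassicalGeometry

set_option autoImplicit false

/-!
General facts about `Cfsg.stabilizing` (helper13's library).
-/

namespace Cfsg.Agent.Lib.Helper13

open Matrix

variable {H : Type*} [Group H] {ι : Type} [Fintype ι] [DecidableEq ι] {F : Type*} [CommRing F]

theorem mem_stabilizing_iff (toMat : H →* Matrix ι ι F) (S : Set (ι → F)) (h : H) :
    h ∈ Cfsg.stabilizing toMat S ↔ ∀ v, v ∈ S ↔ toMat h *ᵥ v ∈ S := Iff.rfl

theorem toMat_inv_mulVec_toMat_mulVec (toMat : H →* Matrix ι ι F) (h : H) (v : ι → F) :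
    toMat h⁻¹ *ᵥ (toMat h *ᵥ v) = v := by
  rw [Matrix.mulVec_mulVec, ← map_mul, inv_mul_cancel, map_one, Matrix.one_mulVec]

theorem toMat_mulVec_toMat_inv_mulVec (toMat : H →* Matrix ι ι F) (h : H) (v : ι → F) :
    toMat h *ᵥ (toMat h⁻¹ *ᵥ v) = v := by
  rw [Matrix.mulVec_mulVec, ← map_mul, mul_inv_cancel, map_one, Matrix.one_mulVec]

/-- Membership in `stabilizing` through the two inclusions. -/
theorem mem_stabilizing_iff' (toMat : H →* Matrix ι ι F) (S : Set (ι → F)) (h : H) :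
    h ∈ Cfsg.stabilizing toMat S ↔
      (∀ v ∈ S, toMat h *ᵥ v ∈ S) ∧ (∀ v ∈ S, toMat h⁻¹ *ᵥ v ∈ S) := by
  constructor
  · intro hh
    refine ⟨fun v hv => (hh v).mp hv, fun v hv => ?_⟩
    have hinv : h⁻¹ ∈ Cfsg.stabilizing toMat S := Subgroup.inv_mem _ hh
    exact (hinv v).mp hv
  · rintro ⟨h1, h2⟩ v
    constructor
    · exact h1 v
    · intro hv
      have := h2 _ hv
      rwa [toMat_inv_mulVec_toMat_mulVec] at this

/-- If every element of the image of a homomorphism maps `S` into `S`, the image stabilises `S`. -/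
theorem map_mem_stabilizing {G : Type*} [Group G] (toMat : H →* Matrix ι ι F) (S : Set (ι → F))
    (φ : G →* H) (hφ : ∀ g : G, ∀ v ∈ S, toMat (φ g) *ᵥ v ∈ S) (g : G) :
    φ g ∈ Cfsg.stabilizing toMat S := by
  rw [mem_stabilizing_iff']
  refine ⟨hφ g, ?_⟩
  rw [← map_inv]
  exact hφ g⁻¹

end Cfsg.Agent.Lib.Helper13
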