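import Mathlib
import Cfsg.Prelude.Def_ClassicalGeometry
import Cfsg.Agent.Lib.Helper13.Symp
import Cfsg.Agent.Lib.Helper13.SympGen
import Cfsg.Agent.Lib.Helper13.Stab
import Cfsg.Agent.S0752

set_option autoImplicit false

/-!
Orthogonal splittings of the standard symplectic space along a non-degenerate subspace, and the
stabiliser of a non-degenerate subspace in the symplectic group (helper13's library).
-/

namespace Cfsg.Agent.Lib.Helper13

open Matrix

variable {F : Type*} [Field F]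

/-- A non-degenerate alternating space of dimension `2k` is isometric to the standard one. -/
theorem exists_symp_coords {U : Type*} [AddCommGroup U] [Module F U] [FiniteDimensional F U]
    (B : LinearMap.BilinForm F U) (hA : B.IsAlt) (hnd : ∀ u, (∀ v, B u v = 0) → u = 0) (k : ℕ)
    (hk : Module.finrank F U = 2 * k) :
    ∃ ι : (Fin k ⊕ Fin k → F) ≃ₗ[F] U, ∀ a a', B (ι a) (ι a') = Cfsg.sympForm k F a a' := by
  classical
  obtain ⟨m', k', b, h1, h2, h3, h4⟩ := Cfsg.Agent.S0752.result B hA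
  have hk' : k' = 0 := by
    by_contra hne
    have hpos : 0 < k' := Nat.pos_of_ne_zero hne
    exact b.ne_zero (Sum.inr ⟨0, hpos⟩) (hnd _ (h4 ⟨0, hpos⟩))
  subst hk'
  have hm' : m' = k := by
    have := Module.finrank_eq_card_basis b
    rw [hk] at this
    simp only [Fintype.card_sum, Fintype.card_fin] at this
    omega
  subst hm'
  set b' : Module.Basis (Fin m' ⊕ Fin m') F U :=
    b.reindex ((Equiv.sumEmpty (Fin m' ⊕ Fin m') (Fin 0)).trans (Equiv.sumComm (Fin m') (Fin m')))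
    with hb'
  have hb'l : ∀ i, b' (Sum.inl i) = b (Sum.inl (Sum.inr i)) := by
    intro i
    rw [hb', Module.Basis.reindex_apply]
    rfl
  have hb'r : ∀ i, b' (Sum.inr i) = b (Sum.inl (Sum.inl i)) := by
    intro i
    rw [hb', Module.Basis.reindex_apply]
    rfl
  set ι : (Fin m' ⊕ Fin m' → F) ≃ₗ[F] U :=
    (Pi.basisFun F (Fin m' ⊕ Fin m')).equiv b' (Equiv.refl _) with hι
  have hιb : ∀ x, ι (Pi.single x 1) = b' x := by
    intro x
    have := (Pi.basisFun F (Fin m' ⊕ Fin m')).equiv_apply x b' (Equiv.refl _)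
    rw [Pi.basisFun_apply] at this
    exact this
  refine ⟨ι, ?_⟩
  have hform : B.comp (ι : (Fin m' ⊕ Fin m' → F) →ₗ[F] U) (ι : (Fin m' ⊕ Fin m' → F) →ₗ[F] U)
      = sympBilin m' F := by
    apply LinearMap.BilinForm.ext_basis (Pi.basisFun F (Fin m' ⊕ Fin m'))
    intro x y
    rw [LinearMap.BilinForm.comp_apply, Pi.basisFun_apply, Pi.basisFun_apply, sympBilin_apply,
      sympForm_single_single]
    change B (ι _) (ι _) = _
    rw [hιb, hιb]
    rcases x with i | i <;> rcases y with j | j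
    · rw [hb'l, hb'l, h3]
      simp [Matrix.J]
    · rw [hb'l, hb'r, alt_swap hA, h1]
      simp [Matrix.J, Matrix.one_apply, eq_comm]
    · rw [hb'r, hb'l, h1]
      simp [Matrix.J, Matrix.one_apply]
    · rw [hb'r, hb'r, h2]
      simp [Matrix.J]
  intro a a'
  have := LinearMap.congr_fun (LinearMap.congr_fun hform a) a'
  rw [LinearMap.BilinForm.comp_apply, sympBilin_apply] at this
  exact this

/-- Orthogonal splitting of the standard symplectic space along a non-degenerate subspace. -/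
theorem exists_symp_splitting (m k l : ℕ) (hm : m = k + l)
    (W : Submodule F (Fin m ⊕ Fin m → F)) (hWk : Module.finrank F W = 2 * k)
    (hW : ∀ u ∈ W, (∀ v ∈ W, Cfsg.sympForm m F u v = 0) → u = 0) :
    ∃ θ : ((Fin k ⊕ Fin k → F) × (Fin l ⊕ Fin l → F)) ≃ₗ[F] (Fin m ⊕ Fin m → F),
      (∀ x y, Cfsg.sympForm m F (θ x) (θ y)
        = Cfsg.sympForm k F x.1 y.1 + Cfsg.sympForm l F x.2 y.2) ∧
      (∀ v, v ∈ W ↔ (θ.symm v).2 = 0) := by
  classical
  have hA : (sympBilin m F).IsAlt := sympBilin_isAlt m F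
  have hrefl : (sympBilin m F).IsRefl := hA.isRefl
  obtain ⟨W', hW'⟩ : ∃ W' : Submodule F (Fin m ⊕ Fin m → F),
      W' = (sympBilin m F).orthogonal W := ⟨_, rfl⟩
  have hW'mem : ∀ v ∈ W', ∀ w ∈ W, Cfsg.sympForm m F w v = 0 := by
    intro v hv w hw
    rw [hW'] at hv
    exact hv w hw
  have hdisj : Disjoint W W' := by
    rw [Submodule.disjoint_def]
    intro x hx hx'
    apply hW x hx
    intro v hv
    rw [sympForm_swap, hW'mem x hx' v hv, neg_zero]
  have hc : IsCompl W W' := by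
    rw [hW']
    rw [hW'] at hdisj
    exact (LinearMap.BilinForm.isCompl_orthogonal_iff_disjoint hrefl).mpr hdisj
  have hfin : Module.finrank F W' = 2 * l := by
    have := Submodule.finrank_add_eq_of_isCompl hc
    rw [hWk, Module.finrank_fintype_fun_eq_card, Fintype.card_sum, Fintype.card_fin] at this
    omega
  have hnd1 : ∀ u : ↥W, (∀ v : ↥W, (sympBilin m F).restrict W u v = 0) → u = 0 := by
    intro u hu
    apply Subtype.ext
    apply hW u.1 u.2
    intro v hv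
    exact hu ⟨v, hv⟩
  have hnd2 : ∀ u : ↥W', (∀ v : ↥W', (sympBilin m F).restrict W' u v = 0) → u = 0 := by
    intro u hu
    apply Subtype.ext
    apply sympForm_left_nondeg
    intro z
    have hz : z ∈ W ⊔ W' := by rw [hc.sup_eq_top]; exact Submodule.mem_top
    obtain ⟨w, hw, w', hw', rfl⟩ := Submodule.mem_sup.mp hz
    rw [sympForm_add_right, sympForm_swap, hW'mem u.1 u.2 w hw, neg_zero, zero_add]
    exact hu ⟨w', hw'⟩
  obtain ⟨ι₁, hι₁⟩ := exists_symp_coords ((sympBilin m F).restrict W) (fun x => hA x) hnd1 k hWk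
  obtain ⟨ι₂, hι₂⟩ := exists_symp_coords ((sympBilin m F).restrict W') (fun x => hA x) hnd2 l hfin
  have hι₁' : ∀ a a', Cfsg.sympForm m F (ι₁ a : Fin m ⊕ Fin m → F) (ι₁ a' : Fin m ⊕ Fin m → F)
      = Cfsg.sympForm k F a a' := hι₁
  have hι₂' : ∀ a a', Cfsg.sympForm m F (ι₂ a : Fin m ⊕ Fin m → F) (ι₂ a' : Fin m ⊕ Fin m → F)
      = Cfsg.sympForm l F a a' := hι₂
  refine ⟨(ι₁.prodCongr ι₂).trans (Submodule.prodEquivOfIsCompl W W' hc), ?_, ?_⟩
  · intro x y
    have hθ : ∀ z : (Fin k ⊕ Fin k → F) × (Fin l ⊕ Fin l → F),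
        ((ι₁.prodCongr ι₂).trans (Submodule.prodEquivOfIsCompl W W' hc)) z
          = (ι₁ z.1 : Fin m ⊕ Fin m → F) + (ι₂ z.2 : Fin m ⊕ Fin m → F) := by
      intro z
      rfl
    rw [hθ, hθ, sympForm_add_left, sympForm_add_right, sympForm_add_right, hι₁', hι₂',
      hW'mem _ (ι₂ y.2).2 _ (ι₁ x.1).2, sympForm_swap (ι₂ x.2 : Fin m ⊕ Fin m → F),
      hW'mem _ (ι₂ x.2).2 _ (ι₁ y.1).2]
    ring
  · intro v
    have hsymm : (((ι₁.prodCongr ι₂).trans (Submodule.prodEquivOfIsCompl W W' hc)).symm v).2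
        = ι₂.symm ((Submodule.prodEquivOfIsCompl W W' hc).symm v).2 := rfl
    rw [hsymm, LinearEquiv.map_eq_zero_iff,
      Submodule.prodEquivOfIsCompl_symm_apply_snd_eq_zero]

section

variable {m k l : ℕ}

/-- The matrix acting as `A × B` in the coordinates given by `θ`. -/
noncomputable def splitMat
    (θ : ((Fin k ⊕ Fin k → F) × (Fin l ⊕ Fin l → F)) ≃ₗ[F] (Fin m ⊕ Fin m → F))
    (A : Matrix (Fin k ⊕ Fin k) (Fin k ⊕ Fin k) F) (B : Matrix (Fin l ⊕ Fin l) (Fin l ⊕ Fin l) F) :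
    Matrix (Fin m ⊕ Fin m) (Fin m ⊕ Fin m) F :=
  LinearMap.toMatrix' (θ.toLinearMap.comp
    (((Matrix.toLin' A).prodMap (Matrix.toLin' B)).comp θ.symm.toLinearMap))

theorem splitMat_mulVec
    (θ : ((Fin k ⊕ Fin k → F) × (Fin l ⊕ Fin l → F)) ≃ₗ[F] (Fin m ⊕ Fin m → F))
    (A : Matrix (Fin k ⊕ Fin k) (Fin k ⊕ Fin k) F) (B : Matrix (Fin l ⊕ Fin l) (Fin l ⊕ Fin l) F)
    (v : Fin m ⊕ Fin m → F) :
    splitMat θ A B *ᵥ v = θ (A *ᵥ (θ.symm v).1, B *ᵥ (θ.symm v).2) := by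
  unfold splitMat
  rw [LinearMap.toMatrix'_mulVec]
  rfl

theorem splitMat_mul
    (θ : ((Fin k ⊕ Fin k → F) × (Fin l ⊕ Fin l → F)) ≃ₗ[F] (Fin m ⊕ Fin m → F))
    (A A' : Matrix (Fin k ⊕ Fin k) (Fin k ⊕ Fin k) F)
    (B B' : Matrix (Fin l ⊕ Fin l) (Fin l ⊕ Fin l) F) :
    splitMat θ (A * A') (B * B') = splitMat θ A B * splitMat θ A' B' := by
  rw [Matrix.ext_iff_mulVec]
  intro v
  rw [← Matrix.mulVec_mulVec, splitMat_mulVec, splitMat_mulVec, splitMat_mulVec,
    LinearEquiv.symm_apply_apply, Matrix.mulVec_mulVec, Matrix.mulVec_mulVec]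

theorem splitMat_mem
    (θ : ((Fin k ⊕ Fin k → F) × (Fin l ⊕ Fin l → F)) ≃ₗ[F] (Fin m ⊕ Fin m → F))
    (hθ : ∀ x y, Cfsg.sympForm m F (θ x) (θ y)
        = Cfsg.sympForm k F x.1 y.1 + Cfsg.sympForm l F x.2 y.2)
    {A : Matrix (Fin k ⊕ Fin k) (Fin k ⊕ Fin k) F} {B : Matrix (Fin l ⊕ Fin l) (Fin l ⊕ Fin l) F}
    (hA : A ∈ Matrix.symplecticGroup (Fin k) F) (hB : B ∈ Matrix.symplecticGroup (Fin l) F) :
    splitMat θ A B ∈ Matrix.symplecticGroup (Fin m) F := by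
  rw [mem_symplecticGroup_iff]
  intro u v
  rw [splitMat_mulVec, splitMat_mulVec, hθ]
  simp only
  rw [sympForm_mulVec_of_mem hA, sympForm_mulVec_of_mem hB]
  have := hθ (θ.symm u) (θ.symm v)
  rw [LinearEquiv.apply_symm_apply, LinearEquiv.apply_symm_apply] at this
  exact this.symm

/-- The embedding `Sp_2k × Sp_2l → Sp_2m` attached to an orthogonal splitting. -/
noncomputable def splitHom
    (θ : ((Fin k ⊕ Fin k → F) × (Fin l ⊕ Fin l → F)) ≃ₗ[F] (Fin m ⊕ Fin m → F))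
    (hθ : ∀ x y, Cfsg.sympForm m F (θ x) (θ y)
        = Cfsg.sympForm k F x.1 y.1 + Cfsg.sympForm l F x.2 y.2) :
    Matrix.symplecticGroup (Fin k) F × Matrix.symplecticGroup (Fin l) F →*
      Matrix.symplecticGroup (Fin m) F :=
  MonoidHom.mk' (fun p => ⟨splitMat θ p.1.1 p.2.1, splitMat_mem θ hθ p.1.2 p.2.2⟩) (by
    intro p p'
    apply Subtype.ext
    exact splitMat_mul θ p.1.1 p'.1.1 p.2.1 p'.2.1)

theorem splitHom_coe
    (θ : ((Fin k ⊕ Fin k → F) × (Fin l ⊕ Fin l → F)) ≃ₗ[F] (Fin m ⊕ Fin m → F))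
    (hθ : ∀ x y, Cfsg.sympForm m F (θ x) (θ y)
        = Cfsg.sympForm k F x.1 y.1 + Cfsg.sympForm l F x.2 y.2)
    (p : Matrix.symplecticGroup (Fin k) F × Matrix.symplecticGroup (Fin l) F) :
    ((splitHom θ hθ p : Matrix.symplecticGroup (Fin m) F) :
      Matrix (Fin m ⊕ Fin m) (Fin m ⊕ Fin m) F) = splitMat θ p.1.1 p.2.1 := rfl

theorem splitHom_injective
    (θ : ((Fin k ⊕ Fin k → F) × (Fin l ⊕ Fin l → F)) ≃ₗ[F] (Fin m ⊕ Fin m → F))
    (hθ : ∀ x y, Cfsg.sympForm m F (θ x) (θ y)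
        = Cfsg.sympForm k F x.1 y.1 + Cfsg.sympForm l F x.2 y.2) :
    Function.Injective (splitHom θ hθ) := by
  intro p p' h
  have h1 : splitMat θ p.1.1 p.2.1 = splitMat θ p'.1.1 p'.2.1 := by
    rw [← splitHom_coe θ hθ p, ← splitHom_coe θ hθ p', h]
  have h2 : ∀ x : (Fin k ⊕ Fin k → F) × (Fin l ⊕ Fin l → F),
      (p.1.1 *ᵥ x.1, p.2.1 *ᵥ x.2) = (p'.1.1 *ᵥ x.1, p'.2.1 *ᵥ x.2) := by
    intro x
    have := congrArg (fun M => M *ᵥ θ x) h1
    simp only [splitMat_mulVec, LinearEquiv.symm_apply_apply] at this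
    exact θ.injective this
  apply Prod.ext
  · apply Subtype.ext
    rw [Matrix.ext_iff_mulVec]
    intro a
    exact (Prod.ext_iff.mp (h2 (a, 0))).1
  · apply Subtype.ext
    rw [Matrix.ext_iff_mulVec]
    intro b
    exact (Prod.ext_iff.mp (h2 (0, b))).2

theorem splitHom_range
    (θ : ((Fin k ⊕ Fin k → F) × (Fin l ⊕ Fin l → F)) ≃ₗ[F] (Fin m ⊕ Fin m → F))
    (hθ : ∀ x y, Cfsg.sympForm m F (θ x) (θ y)
        = Cfsg.sympForm k F x.1 y.1 + Cfsg.sympForm l F x.2 y.2)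
    (W : Set (Fin m ⊕ Fin m → F)) (hW : ∀ v, v ∈ W ↔ (θ.symm v).2 = 0) :
    (splitHom θ hθ).range = Cfsg.stabilizing (Cfsg.spToMat m F) W := by
  ext g
  constructor
  · rintro ⟨p, rfl⟩
    apply map_mem_stabilizing
    intro p v hv
    change splitMat θ p.1.1 p.2.1 *ᵥ v ∈ W
    rw [hW, splitMat_mulVec, LinearEquiv.symm_apply_apply]
    simp only
    rw [(hW v).mp hv, Matrix.mulVec_zero]
  · intro hg
    rw [mem_stabilizing_iff'] at hg
    obtain ⟨hg1, hg2⟩ := hg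
    obtain ⟨G, hG⟩ : ∃ G : Matrix (Fin m ⊕ Fin m) (Fin m ⊕ Fin m) F, G = g.1 := ⟨_, rfl⟩
    obtain ⟨G', hG'⟩ : ∃ G' : Matrix (Fin m ⊕ Fin m) (Fin m ⊕ Fin m) F, G' = (g⁻¹).1 := ⟨_, rfl⟩
    have hGmem : G ∈ Matrix.symplecticGroup (Fin m) F := by rw [hG]; exact g.2
    have hGG' : G * G' = 1 := by
      rw [hG, hG']
      have : g * g⁻¹ = 1 := mul_inv_cancel g
      exact congrArg Subtype.val this
    change ∀ v ∈ W, g.1 *ᵥ v ∈ W at hg1
    change ∀ v ∈ W, (g⁻¹).1 *ᵥ v ∈ W at hg2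
    rw [← hG] at hg1
    rw [← hG'] at hg2
    -- the transported map
    obtain ⟨T, hT⟩ : ∃ T : (Fin k ⊕ Fin k → F) × (Fin l ⊕ Fin l → F) →ₗ[F]
        (Fin k ⊕ Fin k → F) × (Fin l ⊕ Fin l → F),
        ∀ x, T x = θ.symm (G *ᵥ θ x) :=
      ⟨θ.symm.toLinearMap.comp ((Matrix.toLin' G).comp θ.toLinearMap), fun x => rfl⟩
    have hTθ : ∀ x, θ (T x) = G *ᵥ θ x := by
      intro x; rw [hT, LinearEquiv.apply_symm_apply]
    have hTform : ∀ x y, Cfsg.sympForm k F (T x).1 (T y).1 + Cfsg.sympForm l F (T x).2 (T y).2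
        = Cfsg.sympForm k F x.1 y.1 + Cfsg.sympForm l F x.2 y.2 := by
      intro x y
      rw [← hθ, ← hθ, hTθ, hTθ, sympForm_mulVec_of_mem hGmem]
    have hF1 : ∀ a : Fin k ⊕ Fin k → F, (T (a, 0)).2 = 0 := by
      intro a
      rw [hT, ← hW]
      apply hg1
      rw [hW, LinearEquiv.symm_apply_apply]
    have hsurj : ∀ a'' : Fin k ⊕ Fin k → F, ∃ a : Fin k ⊕ Fin k → F, T (a, 0) = (a'', 0) := by
      intro a''
      have h1 : (θ.symm (G' *ᵥ θ (a'', 0))).2 = 0 := by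
        rw [← hW]
        apply hg2
        rw [hW, LinearEquiv.symm_apply_apply]
      refine ⟨(θ.symm (G' *ᵥ θ (a'', 0))).1, ?_⟩
      have h2 : ((θ.symm (G' *ᵥ θ (a'', 0))).1, (0 : Fin l ⊕ Fin l → F))
          = θ.symm (G' *ᵥ θ (a'', 0)) := Prod.ext rfl h1.symm
      rw [h2, hT, LinearEquiv.apply_symm_apply, Matrix.mulVec_mulVec, hGG', Matrix.one_mulVec,
        LinearEquiv.symm_apply_apply]
    have hF2 : ∀ b : Fin l ⊕ Fin l → F, (T (0, b)).1 = 0 := by
      intro b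
      apply sympForm_left_nondeg
      intro a''
      obtain ⟨a, ha⟩ := hsurj a''
      have h1 := hTform (a, 0) (0, b)
      rw [ha] at h1
      simp only [sympForm_zero_left, sympForm_zero_right, add_zero] at h1
      rw [sympForm_swap, h1, neg_zero]
    have hTab : ∀ x : (Fin k ⊕ Fin k → F) × (Fin l ⊕ Fin l → F),
        T x = ((T (x.1, 0)).1, (T (0, x.2)).2) := by
      intro x
      have hx : x = (x.1, 0) + (0, x.2) := by
        ext <;> simp
      conv_lhs => rw [hx, map_add]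
      apply Prod.ext
      · simp only [Prod.fst_add, hF2, add_zero]
      · simp only [Prod.snd_add, hF1, zero_add]
    -- the two blocks
    obtain ⟨A, hA⟩ : ∃ A : Matrix (Fin k ⊕ Fin k) (Fin k ⊕ Fin k) F,
        ∀ a, A *ᵥ a = (T (a, 0)).1 := by
      refine ⟨LinearMap.toMatrix' ((LinearMap.fst F _ _).comp (T.comp (LinearMap.inl F _ _))), ?_⟩
      intro a
      rw [LinearMap.toMatrix'_mulVec]
      rfl
    obtain ⟨B, hB⟩ : ∃ B : Matrix (Fin l ⊕ Fin l) (Fin l ⊕ Fin l) F,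
        ∀ b, B *ᵥ b = (T (0, b)).2 := by
      refine ⟨LinearMap.toMatrix' ((LinearMap.snd F _ _).comp (T.comp (LinearMap.inr F _ _))), ?_⟩
      intro b
      rw [LinearMap.toMatrix'_mulVec]
      rfl
    have hAmem : A ∈ Matrix.symplecticGroup (Fin k) F := by
      rw [mem_symplecticGroup_iff]
      intro a a'
      have h1 := hTform (a, 0) (a', 0)
      rw [hF1, hF1] at h1
      simp only [sympForm_zero_left, add_zero] at h1
      rw [hA, hA, h1]
    have hBmem : B ∈ Matrix.symplecticGroup (Fin l) F := by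
      rw [mem_symplecticGroup_iff]
      intro b b'
      have h1 := hTform (0, b) (0, b')
      rw [hF2, hF2] at h1
      simp only [sympForm_zero_left, zero_add] at h1
      rw [hB, hB, h1]
    refine ⟨(⟨A, hAmem⟩, ⟨B, hBmem⟩), ?_⟩
    apply Subtype.ext
    rw [splitHom_coe, ← hG, Matrix.ext_iff_mulVec]
    intro v
    rw [splitMat_mulVec]
    simp only
    rw [hA, hB, ← hTab, hTθ, LinearEquiv.apply_symm_apply]

/-- The stabiliser of a non-degenerate subspace of dimension `2k` in `Sp_2m` is isomorphic to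
`Sp_2k × Sp_2l`, `m = k + l`. -/
theorem stabilizing_nondeg_equiv_prod (m k l : ℕ) (hm : m = k + l)
    (W : Submodule F (Fin m ⊕ Fin m → F)) (hWk : Module.finrank F W = 2 * k)
    (hW : ∀ u ∈ W, (∀ v ∈ W, Cfsg.sympForm m F u v = 0) → u = 0) :
    Nonempty (↥(Cfsg.stabilizing (Cfsg.spToMat m F) (W : Set (Fin m ⊕ Fin m → F))) ≃*
      Matrix.symplecticGroup (Fin k) F × Matrix.symplecticGroup (Fin l) F) := by
  obtain ⟨θ, hθ, hθW⟩ := exists_symp_splitting m k l hm W hWk hW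
  have e1 := MonoidHom.ofInjective (splitHom_injective θ hθ)
  have e2 := MulEquiv.subgroupCongr (splitHom_range θ hθ (W : Set (Fin m ⊕ Fin m → F)) hθW)
  exact ⟨(e1.trans e2).symm⟩

end

end Cfsg.Agent.Lib.Helper13
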