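import Mathlib
import Cfsg.Prelude.Def_ClassicalGeometry

set_option autoImplicit false

/-!
Basic facts about `Cfsg.hermForm` and `Cfsg.unitaryTransvection` (helper13's library).
-/

namespace Cfsg.Agent.Lib.Helper13

open Matrix

/-- In a field with `q^2` elements, `x ↦ x^q` is an involutive ring endomorphism. -/
theorem exists_frob {F : Type*} [Field F] [Fintype F] {q : ℕ} (hF : Fintype.card F = q ^ 2) :
    ∃ σ : F →+* F, (∀ x, σ x = x ^ q) ∧ (∀ x, σ (σ x) = x) := by
  obtain ⟨p, hchar, n, hp, hcard⟩ := FiniteField.card' F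
  have := hchar
  have : Fact p.Prime := ⟨hp⟩
  have hdvd : q ∣ p ^ (n : ℕ) := by
    rw [← hcard, hF]
    exact dvd_pow_self q two_ne_zero
  obtain ⟨k, _, rfl⟩ := (Nat.dvd_prime_pow hp).mp hdvd
  refine ⟨iterateFrobenius F p k, fun x => iterateFrobenius_def p k x, fun x => ?_⟩
  rw [iterateFrobenius_def, iterateFrobenius_def, ← pow_mul, ← sq, ← hF]
  exact FiniteField.pow_card x

theorem two_le_of_card_eq_sq {F : Type*} [Field F] [Fintype F] {q : ℕ}
    (hF : Fintype.card F = q ^ 2) : 2 ≤ q := by
  by_contra hlt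
  have hq : q ≤ 1 := by omega
  have hc : 1 < Fintype.card F := Fintype.one_lt_card
  have : q ^ 2 ≤ 1 := by
    calc q ^ 2 ≤ 1 ^ 2 := Nat.pow_le_pow_left hq 2
      _ = 1 := by norm_num
  omega

section

variable {n : ℕ} {F : Type*} [Field F] {q : ℕ}

theorem hermForm_add_left (u u' v : Fin n → F) :
    Cfsg.hermForm n F q (u + u') v = Cfsg.hermForm n F q u v + Cfsg.hermForm n F q u' v := by
  unfold Cfsg.hermForm
  rw [← Finset.sum_add_distrib]
  apply Finset.sum_congr rfl
  intro i _
  simp only [Pi.add_apply]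
  ring

theorem hermForm_smul_left (a : F) (u v : Fin n → F) :
    Cfsg.hermForm n F q (a • u) v = a * Cfsg.hermForm n F q u v := by
  unfold Cfsg.hermForm
  rw [Finset.mul_sum]
  apply Finset.sum_congr rfl
  intro i _
  simp only [Pi.smul_apply, smul_eq_mul]
  ring

theorem hermForm_zero_left (v : Fin n → F) : Cfsg.hermForm n F q 0 v = 0 := by
  unfold Cfsg.hermForm
  simp

theorem hermForm_eq_dotProduct (u v : Fin n → F) :
    Cfsg.hermForm n F q u v = (fun j => (v j) ^ q) ⬝ᵥ u := by
  unfold Cfsg.hermForm dotProduct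
  apply Finset.sum_congr rfl
  intro i _
  ring

theorem unitaryTransvection_mulVec (v : Fin n → F) (c : F) (x : Fin n → F) :
    Cfsg.unitaryTransvection n q v c *ᵥ x = x + (c * Cfsg.hermForm n F q x v) • v := by
  unfold Cfsg.unitaryTransvection
  rw [Matrix.add_mulVec, Matrix.one_mulVec, Matrix.smul_mulVec, Matrix.vecMulVec_mulVec,
    hermForm_eq_dotProduct]
  ext i
  simp only [Pi.add_apply, Pi.smul_apply, MulOpposite.smul_eq_mul_unop, MulOpposite.unop_op,
    smul_eq_mul]
  ring

theorem hermForm_single_left (i : Fin n) (v : Fin n → F) :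
    Cfsg.hermForm n F q (Pi.single i 1) v = (v i) ^ q := by
  unfold Cfsg.hermForm
  rw [Finset.sum_eq_single i]
  · simp
  · intro j _ hj
    simp [hj]
  · intro h
    exact absurd (Finset.mem_univ i) h

theorem hermForm_single_right (hq : q ≠ 0) (i : Fin n) (u : Fin n → F) :
    Cfsg.hermForm n F q u (Pi.single i 1) = u i := by
  unfold Cfsg.hermForm
  rw [Finset.sum_eq_single i]
  · simp
  · intro j _ hj
    simp [hj, hq]
  · intro h
    exact absurd (Finset.mem_univ i) h

end

section

variable {n : ℕ} {F : Type*} [Field F] [Fintype F] {q : ℕ}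

theorem hermForm_add_right (hF : Fintype.card F = q ^ 2) (u v v' : Fin n → F) :
    Cfsg.hermForm n F q u (v + v') = Cfsg.hermForm n F q u v + Cfsg.hermForm n F q u v' := by
  obtain ⟨σ, hσ, _⟩ := exists_frob hF
  unfold Cfsg.hermForm
  rw [← Finset.sum_add_distrib]
  apply Finset.sum_congr rfl
  intro i _
  simp only [Pi.add_apply, ← hσ, map_add]
  ring

theorem hermForm_smul_right (_hF : Fintype.card F = q ^ 2) (a : F) (u v : Fin n → F) :
    Cfsg.hermForm n F q u (a • v) = a ^ q * Cfsg.hermForm n F q u v := by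
  unfold Cfsg.hermForm
  rw [Finset.mul_sum]
  apply Finset.sum_congr rfl
  intro i _
  simp only [Pi.smul_apply, smul_eq_mul, mul_pow]
  ring

theorem hermForm_conj (hF : Fintype.card F = q ^ 2) (u v : Fin n → F) :
    (Cfsg.hermForm n F q u v) ^ q = Cfsg.hermForm n F q v u := by
  obtain ⟨σ, hσ, hσ2⟩ := exists_frob hF
  unfold Cfsg.hermForm
  rw [← hσ, map_sum]
  apply Finset.sum_congr rfl
  intro i _
  rw [map_mul, ← hσ (v i), hσ2, hσ, mul_comm]

/-- The key identity for unitary transvections. -/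
theorem hermForm_unitaryTransvection (hF : Fintype.card F = q ^ 2) (v : Fin n → F)
    (hv0 : Cfsg.hermForm n F q v v = 0) (c : F) (x y : Fin n → F) :
    Cfsg.hermForm n F q (Cfsg.unitaryTransvection n q v c *ᵥ x)
        (Cfsg.unitaryTransvection n q v c *ᵥ y)
      = Cfsg.hermForm n F q x y
        + (c ^ q + c) * (Cfsg.hermForm n F q x v * Cfsg.hermForm n F q v y) := by
  rw [unitaryTransvection_mulVec, unitaryTransvection_mulVec]
  simp only [hermForm_add_left, hermForm_add_right hF, hermForm_smul_left,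
    hermForm_smul_right hF, hv0, mul_pow, hermForm_conj hF y v]
  ring

end

end Cfsg.Agent.Lib.Helper13
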