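import Mathlib

set_option autoImplicit false

/-!
Witt's extension theorem for non-degenerate Hermitian (conjugate-symmetric sesquilinear) forms
with respect to a non-identity involution of the field, via quasi-reflections, unitary Siegel
transformations and hyperbolic rotations (helper13's library).
-/

namespace Cfsg.Agent.Lib.Helper13

variable {F V : Type*} [Field F] [AddCommGroup V] [Module F V]

/-- Surjectivity of the trace `c ↦ c + σ c` onto the fixed field of a non-identity involution. -/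
theorem herm_trace_surj (σ : F →+* F) (hσ : σ ≠ RingHom.id F) (hσ2 : ∀ a : F, σ (σ a) = a)
    (a : F) (ha : σ a = a) : ∃ c : F, c + σ c = a := by
  obtain ⟨t, ht⟩ : ∃ t : F, σ t ≠ t := by
    by_contra hcon
    push Not at hcon
    exact hσ (RingHom.ext hcon)
  have hd : t - σ t ≠ 0 := fun h => ht (sub_eq_zero.mp h).symm
  have hd' : σ t - t ≠ 0 := fun h => ht (sub_eq_zero.mp h)
  refine ⟨a * (t / (t - σ t)), ?_⟩
  rw [map_mul, map_div₀, map_sub, hσ2, ha]
  field_simp
  ring

/-- Expansion of a sesquilinear form on two linear combinations. -/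
theorem hexp (σ : F →+* F) (B : V →ₛₗ[σ] V →ₗ[F] F) (z z' p w : V) (α β α' β' : F) :
    B (z + α • p + β • w) (z' + α' • p + β' • w) =
      B z z' + α' * B z p + β' * B z w + σ α * B p z' + σ α * α' * B p p + σ α * β' * B p w
        + σ β * B w z' + σ β * α' * B w p + σ β * β' * B w w := by
  simp only [map_add, LinearMap.add_apply, LinearMap.map_smulₛₗ, LinearMap.smul_apply, map_smul,
    smul_eq_mul]
  ring

/-- Every linear functional is represented by the form (on the left). -/
theorem herm_repr [FiniteDimensional F V] (σ : F →+* F) (hσ2 : ∀ a : F, σ (σ a) = a)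
    (B : V →ₛₗ[σ] V →ₗ[F] F) (hS : B.IsSymm) (hB : B.SeparatingRight) (f : Module.Dual F V) :
    ∃ a : V, ∀ z, B a z = f z := by
  classical
  set e := Module.finBasis F V with he
  let M : V →ₗ[F] (Fin (Module.finrank F V) → F) := LinearMap.pi (fun i => B (e i))
  have hMinj : Function.Injective M := by
    rw [← LinearMap.ker_eq_bot, LinearMap.ker_eq_bot']
    intro a ha
    apply hB a
    intro z
    have h0 : B.flip a = 0 := by
      apply e.ext
      intro i
      have := congrFun ha i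
      simpa [M] using this
    have := LinearMap.congr_fun h0 z
    simpa using this
  have hMsurj : Function.Surjective M :=
    (LinearMap.injective_iff_surjective_of_finrank_eq_finrank (by simp)).mp hMinj
  obtain ⟨a, ha⟩ := hMsurj (fun i => σ (f (e i)))
  refine ⟨a, ?_⟩
  have hlin : B a = f := by
    apply e.ext
    intro i
    have h1 := congrFun ha i
    have h2 : B (e i) a = σ (f (e i)) := h1
    rw [← hS.eq, h2, hσ2]
  intro z
  rw [hlin]

/-- Separation: a vector outside a subspace is detected by a vector orthogonal to the subspace. -/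
theorem herm_sep [FiniteDimensional F V] (σ : F →+* F) (hσ2 : ∀ a : F, σ (σ a) = a)
    (B : V →ₛₗ[σ] V →ₗ[F] F) (hS : B.IsSymm) (hB : B.SeparatingRight) (H : Submodule F V)
    {x : V} (hx : x ∉ H) : ∃ a : V, (∀ h ∈ H, B a h = 0) ∧ B a x ≠ 0 := by
  obtain ⟨f, hfx, hfH⟩ := Submodule.exists_dual_map_eq_bot_of_notMem hx inferInstance
  obtain ⟨a, ha⟩ := herm_repr σ hσ2 B hS hB f
  refine ⟨a, ?_, ?_⟩
  · intro h hh
    rw [ha]
    have : f h ∈ H.map f := Submodule.mem_map_of_mem hh
    rw [hfH] at this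
    exact (Submodule.mem_bot F).mp this
  · rw [ha]; exact hfx

/-- An isometric linear endomorphism of a non-degenerate Hermitian space is an equivalence. -/
theorem exists_equiv_of_isom_herm [FiniteDimensional F V] (σ : F →+* F)
    (B : V →ₛₗ[σ] V →ₗ[F] F) (hB : B.SeparatingLeft) (T : V →ₗ[F] V)
    (hT : ∀ z w, B (T z) (T w) = B z w) : ∃ T' : V ≃ₗ[F] V, ∀ z, T' z = T z := by
  have hinj : Function.Injective T := by
    rw [← LinearMap.ker_eq_bot, LinearMap.ker_eq_bot']
    intro z hz
    apply hB z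
    intro w
    rw [← hT, hz, map_zero, LinearMap.zero_apply]
  exact ⟨LinearEquiv.ofInjectiveEndo T hinj, fun z => rfl⟩

/-- The quasi-reflection `z ↦ z + β⁻¹ B(p,z) p`. -/
def hreflLin (σ : F →+* F) (B : V →ₛₗ[σ] V →ₗ[F] F) (p : V) (β : F) : V →ₗ[F] V :=
  LinearMap.id + (β⁻¹ • B p).smulRight p

theorem hreflLin_apply (σ : F →+* F) (B : V →ₛₗ[σ] V →ₗ[F] F) (p : V) (β : F) (z : V) :
    hreflLin σ B p β z = z + (β⁻¹ * B p z) • p := by
  simp [hreflLin, LinearMap.smulRight_apply]

theorem hreflLin_isom (σ : F →+* F) (B : V →ₛₗ[σ] V →ₗ[F] F) (hS : B.IsSymm) (p : V) (β : F)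
    (hβ : β ≠ 0) (hβp : β + σ β + B p p = 0) (z z' : V) :
    B (hreflLin σ B p β z) (hreflLin σ B p β z') = B z z' := by
  rw [hreflLin_apply, hreflLin_apply]
  have h := hexp σ B z z' p 0 (β⁻¹ * B p z) 0 (β⁻¹ * B p z') 0
  rw [zero_smul, add_zero, add_zero] at h
  rw [h]
  have hσβ : σ β ≠ 0 := by
    intro h0
    apply hβ
    have := (map_eq_zero σ).mp h0
    exact this
  have hBpp : B p p = -(β + σ β) := by linear_combination hβp
  rw [← hS.eq p z, hBpp, map_mul, map_inv₀]
  simp only [map_zero]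
  field_simp
  ring

/-- The unitary Siegel transformation `z ↦ z + (B(w,z) + c B(p,z)) p - B(p,z) w`. -/
def hsiegelLin (σ : F →+* F) (B : V →ₛₗ[σ] V →ₗ[F] F) (p w : V) (c : F) : V →ₗ[F] V :=
  LinearMap.id + (B w + c • B p).smulRight p - (B p).smulRight w

theorem hsiegelLin_apply (σ : F →+* F) (B : V →ₛₗ[σ] V →ₗ[F] F) (p w : V) (c : F) (z : V) :
    hsiegelLin σ B p w c z = z + (B w z + c * B p z) • p - B p z • w := by
  simp [hsiegelLin, LinearMap.smulRight_apply]

theorem hsiegelLin_isom (σ : F →+* F) (B : V →ₛₗ[σ] V →ₗ[F] F) (hS : B.IsSymm) (p w : V)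
    (c : F) (hpp : B p p = 0) (hpw : B p w = 0) (hc : c + σ c + B w w = 0) (z z' : V) :
    B (hsiegelLin σ B p w c z) (hsiegelLin σ B p w c z') = B z z' := by
  rw [hsiegelLin_apply, hsiegelLin_apply]
  have h := hexp σ B z z' p w (B w z + c * B p z) (-(B p z)) (B w z' + c * B p z') (-(B p z'))
  rw [neg_smul, neg_smul, ← sub_eq_add_neg, ← sub_eq_add_neg] at h
  rw [h]
  have hwp : B w p = 0 := by rw [← hS.eq, hpw, map_zero]
  have hBww : B w w = -(c + σ c) := by linear_combination hc
  rw [← hS.eq p z, ← hS.eq w z, hpp, hpw, hwp, hBww]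
  simp only [map_add, map_mul, map_neg]
  ring

/-- The unitary hyperbolic rotation `p ↦ l p`, `p' ↦ (σ l)⁻¹ p'`. -/
def hhrotLin (σ : F →+* F) (B : V →ₛₗ[σ] V →ₗ[F] F) (p p' : V) (l : F) : V →ₗ[F] V :=
  LinearMap.id + ((l - 1) • B p').smulRight p + (((σ l)⁻¹ - 1) • B p).smulRight p'

theorem hhrotLin_apply (σ : F →+* F) (B : V →ₛₗ[σ] V →ₗ[F] F) (p p' : V) (l : F) (z : V) :
    hhrotLin σ B p p' l z = z + ((l - 1) * B p' z) • p + (((σ l)⁻¹ - 1) * B p z) • p' := by
  simp [hhrotLin, LinearMap.smulRight_apply]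

theorem hhrotLin_isom (σ : F →+* F) (hσ2 : ∀ a : F, σ (σ a) = a) (B : V →ₛₗ[σ] V →ₗ[F] F)
    (hS : B.IsSymm) (p p' : V) (l : F) (hl : l ≠ 0) (hpp : B p p = 0) (hp'p' : B p' p' = 0)
    (hpp' : B p p' = 1) (z z' : V) :
    B (hhrotLin σ B p p' l z) (hhrotLin σ B p p' l z') = B z z' := by
  rw [hhrotLin_apply, hhrotLin_apply, hexp]
  have hp'p : B p' p = 1 := by rw [← hS.eq, hpp', map_one]
  have hσl : σ l ≠ 0 := by
    intro h0
    exact hl ((map_eq_zero σ).mp h0)
  rw [← hS.eq p z, ← hS.eq p' z, hpp, hp'p', hpp', hp'p]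
  simp only [map_mul, map_sub, map_inv₀, map_one, hσ2]
  field_simp
  ring

/-- The core lemma of Witt's theorem for Hermitian forms. -/
theorem herm_core [FiniteDimensional F V] (σ : F →+* F) (hσ : σ ≠ RingHom.id F)
    (hσ2 : ∀ a : F, σ (σ a) = a) (B : V →ₛₗ[σ] V →ₗ[F] F) (hS : B.IsSymm)
    (hB : B.Nondegenerate) (H : Submodule F V) (x y : V) (hx : x ∉ H) (hy : y ∉ H)
    (hxy : B x x = B y y) (hH : ∀ h ∈ H, B h (y - x) = 0) :
    ∃ T : V ≃ₗ[F] V, (∀ z w, B (T z) (T w) = B z w) ∧ (∀ h ∈ H, T h = h) ∧ T x = y := by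
  obtain ⟨p, hp⟩ : ∃ p : V, p = y - x := ⟨_, rfl⟩
  rw [← hp] at hH
  have hyx : y = x + p := by rw [hp]; abel
  have hHp : ∀ h ∈ H, B p h = 0 := fun h hh => by rw [← hS.eq, hH h hh, map_zero]
  obtain ⟨β, hβdef⟩ : ∃ β : F, β = B p x := ⟨_, rfl⟩
  have hβ : β + σ β + B p p = 0 := by
    have h1 : B p x = B y x - B x x := by rw [hp, map_sub, LinearMap.sub_apply]
    have h2 : B p p = B y y - B y x - (B x y - B x x) := by
      rw [hp, map_sub, map_sub, LinearMap.sub_apply, LinearMap.sub_apply]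
      ring
    rw [hβdef, h2, h1, map_sub, hS.eq, hS.eq, hxy]
    ring
  by_cases hβ0 : β = 0
  · have hpp : B p p = 0 := by
      rw [hβ0, map_zero, add_zero, zero_add] at hβ
      exact hβ
    have hpx : B p x = 0 := by rw [← hβdef, hβ0]
    by_cases hp0 : p = 0
    · refine ⟨LinearEquiv.refl F V, fun z w => rfl, fun h _ => rfl, ?_⟩
      rw [hyx, hp0, add_zero]; rfl
    by_cases hxH' : x ∈ H ⊔ Submodule.span F {p}
    · -- hyperbolic rotation
      obtain ⟨h1, hh1, q, hq, hxq⟩ := Submodule.mem_sup.mp hxH'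
      obtain ⟨c, rfl⟩ := Submodule.mem_span_singleton.mp hq
      have hc0 : c ≠ 0 := by
        rintro rfl
        apply hx
        rw [← hxq, zero_smul, add_zero]; exact hh1
      have hc1 : c + 1 ≠ 0 := by
        intro hc1
        apply hy
        have h3 : c • p + p = (c + 1) • p := by rw [add_smul, one_smul]
        rw [hyx, ← hxq, add_assoc, h3, hc1, zero_smul, add_zero]
        exact hh1
      have hpH : p ∉ H := by
        intro hpH
        apply hx
        rw [← hxq]
        exact H.add_mem hh1 (H.smul_mem c hpH)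
      obtain ⟨u, hup, huH⟩ : ∃ u : V, B p u = 1 ∧ ∀ h ∈ H, B u h = 0 := by
        obtain ⟨u0, hu0H, hu0p⟩ := herm_sep σ hσ2 B hS hB.2 H hpH
        have hpu0 : B p u0 ≠ 0 := by
          intro h0
          apply hu0p
          rw [← hS.eq, h0, map_zero]
        refine ⟨(B p u0)⁻¹ • u0, ?_, ?_⟩
        · rw [map_smul, smul_eq_mul, inv_mul_cancel₀ hpu0]
        · intro h hh
          rw [LinearMap.map_smulₛₗ, LinearMap.smul_apply, hu0H h hh, smul_zero]
      have hupc : B u p = 1 := by rw [← hS.eq, hup, map_one]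
      obtain ⟨d, hd⟩ := herm_trace_surj σ hσ hσ2 (-(B u u)) (by rw [map_neg, hS.eq])
      obtain ⟨p', hp'p', hpp', hp'H⟩ : ∃ p' : V, B p' p' = 0 ∧ B p p' = 1 ∧
          ∀ h ∈ H, B p' h = 0 := by
        refine ⟨u + d • p, ?_, ?_, ?_⟩
        · have h := hexp σ B u u p 0 d 0 d 0
          simp only [zero_smul, add_zero, map_zero, zero_mul, mul_zero] at h
          rw [h, hupc, hup, hpp]
          linear_combination hd
        · rw [map_add, map_smul, hpp, hup]
          simp
        · intro h hh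
          rw [map_add, LinearMap.add_apply, LinearMap.map_smulₛₗ, LinearMap.smul_apply, huH h hh,
            hHp h hh]
          simp
      have hp'p : B p' p = 1 := by rw [← hS.eq, hpp', map_one]
      obtain ⟨l, hl⟩ : ∃ l : F, l = (c + 1) / c := ⟨_, rfl⟩
      have hl0 : l ≠ 0 := by rw [hl]; exact div_ne_zero hc1 hc0
      obtain ⟨T, hT⟩ := exists_equiv_of_isom_herm σ B hB.1 (hhrotLin σ B p p' l)
        (hhrotLin_isom σ hσ2 B hS p p' l hl0 hpp hp'p' hpp')
      have hTh : ∀ h ∈ H, T h = h := by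
        intro h hh
        rw [hT, hhrotLin_apply, hp'H h hh, hHp h hh]
        simp
      have hTp : T p = l • p := by
        rw [hT, hhrotLin_apply, hpp, hp'p]
        simp only [mul_one, mul_zero, zero_smul, add_zero]
        have h3 : p + (l - 1) • p = l • p := by
          rw [sub_smul, one_smul]; abel
        exact h3
      refine ⟨T, fun z w => by
        rw [hT, hT]; exact hhrotLin_isom σ hσ2 B hS p p' l hl0 hpp hp'p' hpp' z w, hTh, ?_⟩
      have h3 : c • p + p = (c + 1) • p := by rw [add_smul, one_smul]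
      rw [hyx, ← hxq, map_add, map_smul, hTh h1 hh1, hTp, smul_smul, add_assoc, h3, hl,
        mul_div_cancel₀ _ hc0]
    · -- Siegel transformation
      obtain ⟨w, hwx, hwH, hpw⟩ : ∃ w : V, B w x = 1 ∧ (∀ h ∈ H, B w h = 0) ∧ B p w = 0 := by
        obtain ⟨w0, hw0H, hw0x⟩ := herm_sep σ hσ2 B hS hB.2 _ hxH'
        have hxw0 : B x w0 ≠ 0 := by
          intro h0
          apply hw0x
          rw [← hS.eq, h0, map_zero]
        refine ⟨(B x w0)⁻¹ • w0, ?_, ?_, ?_⟩
        · rw [LinearMap.map_smulₛₗ, LinearMap.smul_apply, map_inv₀, hS.eq, smul_eq_mul,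
            inv_mul_cancel₀ hw0x]
        · intro h hh
          rw [LinearMap.map_smulₛₗ, LinearMap.smul_apply, hw0H h (Submodule.mem_sup_left hh),
            smul_zero]
        · rw [map_smul, ← hS.eq w0 p,
            hw0H p (Submodule.mem_sup_right (Submodule.mem_span_singleton_self p)), map_zero,
            smul_zero]
      obtain ⟨c, hc⟩ := herm_trace_surj σ hσ hσ2 (-(B w w)) (by rw [map_neg, hS.eq])
      have hc' : c + σ c + B w w = 0 := by linear_combination hc
      obtain ⟨T, hT⟩ := exists_equiv_of_isom_herm σ B hB.1 (hsiegelLin σ B p w c)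
        (hsiegelLin_isom σ B hS p w c hpp hpw hc')
      refine ⟨T, fun z z' => by
        rw [hT, hT]; exact hsiegelLin_isom σ B hS p w c hpp hpw hc' z z', ?_, ?_⟩
      · intro h hh
        rw [hT, hsiegelLin_apply, hwH h hh, hHp h hh]
        simp
      · rw [hT, hsiegelLin_apply, hwx, hpx, hyx]
        simp
  · -- quasi-reflection
    obtain ⟨T, hT⟩ := exists_equiv_of_isom_herm σ B hB.1 (hreflLin σ B p β)
      (hreflLin_isom σ B hS p β hβ0 hβ)
    refine ⟨T, fun z z' => by
      rw [hT, hT]; exact hreflLin_isom σ B hS p β hβ0 hβ z z', ?_, ?_⟩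
    · intro h hh
      rw [hT, hreflLin_apply, hHp h hh]
      simp
    · rw [hT, hreflLin_apply, ← hβdef, inv_mul_cancel₀ hβ0, one_smul, hyx]

/-- **Witt's theorem for Hermitian forms**, family version. -/
theorem witt_families_herm [FiniteDimensional F V] (σ : F →+* F) (hσ : σ ≠ RingHom.id F)
    (hσ2 : ∀ a : F, σ (σ a) = a) (B : V →ₛₗ[σ] V →ₗ[F] F) (hS : B.IsSymm)
    (hB : B.Nondegenerate) :
    ∀ (n : ℕ) (b c : Fin n → V), LinearIndependent F b → LinearIndependent F c →
      (∀ i j, B (b i) (b j) = B (c i) (c j)) →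
      ∃ T : V ≃ₗ[F] V, (∀ z w, B (T z) (T w) = B z w) ∧ ∀ i, T (b i) = c i := by
  intro n
  induction n with
  | zero =>
    intro b c _ _ _
    exact ⟨LinearEquiv.refl F V, fun z w => rfl, fun i => i.elim0⟩
  | succ n ih =>
    intro b c hb hc hbc
    rw [linearIndependent_finSucc'] at hb hc
    obtain ⟨hb', hbl⟩ := hb
    obtain ⟨hc', hcl⟩ := hc
    obtain ⟨T0, hT0, hT0b⟩ := ih (Fin.init b) (Fin.init c) hb' hc'
      (fun i j => hbc (Fin.castSucc i) (Fin.castSucc j))
    obtain ⟨H, hH⟩ : ∃ H : Submodule F V, H = Submodule.span F (Set.range (Fin.init b)) :=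
      ⟨_, rfl⟩
    obtain ⟨x, hx⟩ : ∃ x : V, x = b (Fin.last n) := ⟨_, rfl⟩
    obtain ⟨y, hy⟩ : ∃ y : V, y = T0.symm (c (Fin.last n)) := ⟨_, rfl⟩
    have hT0y : T0 y = c (Fin.last n) := by rw [hy]; exact T0.apply_symm_apply _
    have hxH : x ∉ H := by rw [hx, hH]; exact hbl
    have hyH : y ∉ H := by
      intro hmem
      apply hcl
      rw [← hT0y]
      have hmap : H.map (T0 : V →ₗ[F] V) = Submodule.span F (Set.range (Fin.init c)) := by
        rw [hH, Submodule.map_span]
        congr 1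
        ext v
        constructor
        · rintro ⟨_, ⟨i, rfl⟩, rfl⟩
          exact ⟨i, (hT0b i).symm⟩
        · rintro ⟨i, rfl⟩
          exact ⟨_, ⟨i, rfl⟩, hT0b i⟩
      rw [← hmap]
      exact Submodule.mem_map_of_mem hmem
    have hBxy : B x x = B y y := by
      rw [← hT0 y y, hT0y, hx]
      exact hbc (Fin.last n) (Fin.last n)
    have hHorth : ∀ h ∈ H, B h (y - x) = 0 := by
      intro h hh
      rw [hH] at hh
      induction hh using Submodule.span_induction with
      | mem v hv =>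
        obtain ⟨i, rfl⟩ := hv
        rw [map_sub, sub_eq_zero, ← hT0, hT0b, hT0y, hx]
        exact (hbc (Fin.castSucc i) (Fin.last n)).symm
      | zero => rw [map_zero, LinearMap.zero_apply]
      | add u v _ _ hu hv => rw [map_add, LinearMap.add_apply, hu, hv, add_zero]
      | smul a u _ hu => rw [LinearMap.map_smulₛₗ, LinearMap.smul_apply, hu, smul_zero]
    obtain ⟨T1, hT1, hT1H, hT1x⟩ := herm_core σ hσ hσ2 B hS hB H x y hxH hyH hBxy hHorth
    refine ⟨T1.trans T0, fun z w => ?_, ?_⟩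
    · change B (T0 (T1 z)) (T0 (T1 w)) = B z w
      rw [hT0, hT1]
    · intro i
      change T0 (T1 (b i)) = c i
      rcases Fin.eq_castSucc_or_eq_last i with ⟨j, rfl⟩ | rfl
      · have hmem : b (Fin.castSucc j) ∈ H := by
          rw [hH]; exact Submodule.subset_span ⟨j, rfl⟩
        rw [hT1H _ hmem]
        exact hT0b j
      · rw [← hx, hT1x, hT0y]

/-- **Witt's theorem for Hermitian forms**, subspace version. -/
theorem witt_herm [FiniteDimensional F V] (σ : F →+* F) (hσ : σ ≠ RingHom.id F)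
    (hσ2 : ∀ a : F, σ (σ a) = a) (B : V →ₛₗ[σ] V →ₗ[F] F) (hS : B.IsSymm)
    (hB : B.Nondegenerate) (X Y : Submodule F V) (φ : X ≃ₗ[F] Y)
    (hφ : ∀ x x' : X, B (φ x : V) (φ x' : V) = B (x : V) (x' : V)) :
    ∃ g : V ≃ₗ[F] V, (∀ u v : V, B (g u) (g v) = B u v) ∧ ∀ x : X, g (x : V) = (φ x : V) := by
  classical
  obtain ⟨bX, hbX⟩ : ∃ bX : Module.Basis (Fin (Module.finrank F X)) F X,
      bX = Module.finBasis F X := ⟨_, rfl⟩
  let b : Fin (Module.finrank F X) → V := fun i => (bX i : V)
  let c : Fin (Module.finrank F X) → V := fun i => (φ (bX i) : V)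
  have hb : LinearIndependent F b := by
    have := bX.linearIndependent.map' X.subtype (Submodule.ker_subtype X)
    exact this
  have hc : LinearIndependent F c := by
    have hker : LinearMap.ker (Y.subtype.comp φ.toLinearMap) = ⊥ := by
      rw [LinearMap.ker_eq_bot]
      exact (Submodule.injective_subtype Y).comp φ.injective
    have := bX.linearIndependent.map' (Y.subtype.comp φ.toLinearMap) hker
    exact this
  obtain ⟨T, hT, hTb⟩ := witt_families_herm σ hσ hσ2 B hS hB _ b c hb hc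
    (fun i j => (hφ (bX i) (bX j)).symm)
  refine ⟨T, hT, ?_⟩
  have hlin : (T : V →ₗ[F] V).comp X.subtype = Y.subtype.comp φ.toLinearMap := by
    apply bX.ext
    intro i
    exact hTb i
  intro x
  exact LinearMap.congr_fun hlin x

end Cfsg.Agent.Lib.Helper13
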