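import Mathlib
import Cfsg.Agent.Lib.Helper16.PF13Defs

/-!
PF sec.13, module PF13-[R] (helper13 for helper16): regularity.  An element of `G` outside the
`G`-closures of `A(S)`, `A(T)` and `Ŵ` has order coprime to `p q`.
-/

set_option autoImplicit false

namespace Cfsg.Agent.Lib.Helper13.PF13

open Cfsg Cfsg.Agent.Lib.Helper24.PFCyc Cfsg.Agent.Lib.Helper4.PF Cfsg.Agent.Lib.Helper16.PF13

universe u

variable {G : Type u} [Group G] [Fintype G]

theorem WHat_comm (W₁ W₂ : Subgroup G) : WHat W₂ W₁ = WHat W₁ W₂ := by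
  ext g
  rw [mem_WHat, mem_WHat, sup_comm]
  tauto

theorem orderOf_conj_eq (h g : G) : orderOf (h * g * h⁻¹) = orderOf g :=
  orderOf_injective (MulAut.conj h).toMonoidHom (MulAut.conj h).injective g

/-- one side of `regular_of_not_mem` -/
theorem not_dvd_orderOf_of_not_mem {S K P U W₁ W₂ : Subgroup G} {AS : Finset G} {p q : ℕ}
    (hS : SideGrp S K P U W₁ W₂ AS p q)
    (g : G) (h1 : g ∉ conjClosure AS)
    (h3 : g ∉ conjClosure (WHat W₁ W₂)) : ¬ p ∣ orderOf g := by
  intro hdvd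
  have hp := hS.hp
  have hgpos : 0 < orderOf g := orderOf_pos g
  set x := g ^ (orderOf g / p) with hx
  have hxord : orderOf x = p := orderOf_pow_orderOf_div hgpos.ne' hdvd
  obtain ⟨h, hxP⟩ := hS.sylow x hxord
  set x' := h * x * h⁻¹ with hx'
  set g' := h * g * h⁻¹ with hg'
  have hx'ne : x' ≠ 1 := by
    intro h1'
    have : x = 1 := by
      have := congrArg (fun y => h⁻¹ * y * h) h1'
      simpa [hx', mul_assoc] using this
    rw [this, orderOf_one] at hxord
    exact hp.one_lt.ne hxord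
  have hcomm : g' * x' = x' * g' := by
    have hgx : g * x = x * g := by
      rw [hx, ← pow_succ', ← pow_succ]
    rw [hg', hx']
    calc h * g * h⁻¹ * (h * x * h⁻¹) = h * (g * x) * h⁻¹ := by group
      _ = h * (x * g) * h⁻¹ := by rw [hgx]
      _ = h * x * h⁻¹ * (h * g * h⁻¹) := by group
  have hx'K : x' ∈ K := hS.P_le hxP
  have hx'A : x' ∈ AS := hS.A_mem x' hx'K hx'ne ⟨x', hxP, hx'ne, rfl⟩
  have hg'S : g' ∈ S := by
    apply hS.ti g' x' hx'A
    have : g' * x' * g'⁻¹ = x' := by rw [hcomm, mul_inv_cancel_right]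
    rw [this]; exact hx'A
  have hg'ord : orderOf g' = orderOf g := by
    rw [hg']
    exact orderOf_conj_eq h g
  have hg'ne : g' ≠ 1 := by
    intro h1'
    rw [h1', orderOf_one] at hg'ord
    rw [← hg'ord] at hdvd
    exact hp.one_lt.ne' (Nat.dvd_one.mp hdvd)
  have hgeq : g = h⁻¹ * g' * (h⁻¹)⁻¹ := by rw [hg']; group
  by_cases hK : g' ∈ K
  · have : g' ∈ AS := hS.A_mem g' hK hg'ne ⟨x', hxP, hx'ne, hcomm⟩
    exact h1 ⟨h⁻¹, g', this, hgeq⟩
  · obtain ⟨s, hsS, hw, hwW₂⟩ := hS.cover g' hg'S hK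
    set w := s * g' * s⁻¹ with hwdef
    by_cases hwW₁ : w ∈ W₁
    · have hword : orderOf w = orderOf g := by
        rw [hwdef, orderOf_conj_eq, hg'ord]
      have h1' : orderOf w ∣ q := by
        have := Subgroup.orderOf_dvd_natCard W₁ hwW₁
        rwa [hS.card_W₁] at this
      rw [hword] at h1'
      have := (Nat.prime_dvd_prime_iff_eq hp hS.hq).mp (hdvd.trans h1')
      exact hS.hpq this
    · have hwH : w ∈ WHat W₁ W₂ := mem_WHat.mpr ⟨hw, hwW₁, hwW₂⟩
      apply h3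
      refine ⟨(s * h)⁻¹, w, hwH, ?_⟩
      rw [hwdef, hg']
      group

theorem regular_of_not_mem {S T K K' P Q U V W₁ W₂ : Subgroup G} {AS AT : Finset G} {p q : ℕ}
    (hS : SideGrp S K P U W₁ W₂ AS p q) (hT : SideGrp T K' Q V W₂ W₁ AT q p)
    (g : G) (h1 : g ∉ conjClosure AS) (h2 : g ∉ conjClosure AT)
    (h3 : g ∉ conjClosure (WHat W₁ W₂)) : (orderOf g).Coprime (p * q) := by
  have hp := not_dvd_orderOf_of_not_mem hS g h1 h3
  have hq := not_dvd_orderOf_of_not_mem hT g h2 (by rw [WHat_comm]; exact h3)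
  apply Nat.Coprime.mul_right
  · exact ((Nat.Prime.coprime_iff_not_dvd hS.hp).mpr hp).symm
  · exact ((Nat.Prime.coprime_iff_not_dvd hS.hq).mpr hq).symm

end Cfsg.Agent.Lib.Helper13.PF13
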