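import Mathlib
import Cfsg.Agent.Lib.Helper16.PF13Defs
import Cfsg.Agent.Lib.Helper13.PF13R

/-!
PF sec.13, module PF13-[DISJ-SW] (helper13 for helper16): the `G`-closures of `A(S)` and of
`Ŵ = W ∖ (W₁ ∪ W₂)` are disjoint (orders: `q ∣ o(w)` for `w ∈ Ŵ` but `gcd(|K|, q) = 1`).
-/

set_option autoImplicit false

namespace Cfsg.Agent.Lib.Helper13.PF13

open Cfsg Cfsg.Agent.Lib.Helper24.PFCyc Cfsg.Agent.Lib.Helper4.PF Cfsg.Agent.Lib.Helper16.PF13

universe u

variable {G : Type u} [Group G]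

/-- elements of `H ⊔ K` are products when `H` and `K` commute elementwise -/
theorem mem_sup_of_comm_h13 {H K : Subgroup G} (hc : ∀ h ∈ H, ∀ k ∈ K, h * k = k * h) {x : G}
    (hx : x ∈ H ⊔ K) : ∃ h ∈ H, ∃ k ∈ K, x = h * k := by
  let S : Subgroup G :=
    { carrier := {x | ∃ h ∈ H, ∃ k ∈ K, x = h * k}
      one_mem' := ⟨1, H.one_mem, 1, K.one_mem, by simp⟩
      mul_mem' := by
        rintro _ _ ⟨h, hh, k, hk, rfl⟩ ⟨h', hh', k', hk', rfl⟩
        refine ⟨h * h', H.mul_mem hh hh', k * k', K.mul_mem hk hk', ?_⟩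
        have := hc h' hh' k hk
        calc h * k * (h' * k') = h * (k * h') * k' := by group
          _ = h * (h' * k) * k' := by rw [this]
          _ = h * h' * (k * k') := by group
      inv_mem' := by
        rintro _ ⟨h, hh, k, hk, rfl⟩
        refine ⟨h⁻¹, H.inv_mem hh, k⁻¹, K.inv_mem hk, ?_⟩
        have := hc h hh k hk
        rw [this, mul_inv_rev] }
  have hle : H ⊔ K ≤ S :=
    sup_le (fun h hh => ⟨h, hh, 1, K.one_mem, by simp⟩) (fun k hk => ⟨1, H.one_mem, k, hk, by simp⟩)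
  exact hle hx

variable [Fintype G]

/-- `q` divides the order of every element of `Ŵ` -/
theorem dvd_orderOf_of_mem_WHat {S K P U W₁ W₂ : Subgroup G} {AS : Finset G} {p q : ℕ}
    (hS : SideGrp S K P U W₁ W₂ AS p q) (hW : IsSelfNormalizingCyclic W₁ W₂) {w : G}
    (hw : w ∈ WHat W₁ W₂) : q ∣ orderOf w := by
  have hp := hS.hp
  have hq := hS.hq
  obtain ⟨hwW, hw₁, hw₂⟩ := mem_WHat.mp hw
  obtain ⟨w₁, hw₁W, w₂, hw₂W, rfl⟩ := mem_sup_of_comm_h13 hW.2.2.2.1 hwW
  have hc : Commute w₁ w₂ := hW.2.2.2.1 w₁ hw₁W w₂ hw₂W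
  have hw₁ne : w₁ ≠ 1 := by
    intro h1
    apply hw₂
    rw [h1, one_mul]; exact hw₂W
  have hw₂p : w₂ ^ p = 1 := by
    have := Subgroup.orderOf_dvd_natCard W₂ hw₂W
    rw [hS.card_W₂] at this
    exact orderOf_dvd_iff_pow_eq_one.mp this
  have hw₁ord : orderOf w₁ = q := by
    have := Subgroup.orderOf_dvd_natCard W₁ hw₁W
    rw [hS.card_W₁] at this
    rcases (Nat.dvd_prime hq).mp this with h | h
    · rw [orderOf_eq_one_iff] at h; exact absurd h hw₁ne
    · exact h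
  have hpow : (w₁ * w₂) ^ p = w₁ ^ p := by
    rw [hc.mul_pow, hw₂p, mul_one]
  have hord : orderOf (w₁ ^ p) = q := by
    rw [orderOf_pow, hw₁ord]
    have : Nat.gcd q p = 1 := (Nat.coprime_primes hq hp).mpr (Ne.symm hS.hpq)
    rw [this, Nat.div_one]
  rw [← hord, ← hpow]
  exact orderOf_pow_dvd p

theorem disjoint_SW {S K P U W₁ W₂ : Subgroup G} {AS : Finset G} {p q : ℕ}
    (hS : SideGrp S K P U W₁ W₂ AS p q) (hW : IsSelfNormalizingCyclic W₁ W₂) :
    Disjoint (conjClosure AS) (conjClosure (WHat W₁ W₂)) := by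
  rw [Set.disjoint_left]
  rintro g ⟨x, a, ha, hgx⟩ ⟨y, w, hw, hgy⟩
  have hq := hS.hq
  have h1 : q ∣ orderOf w := dvd_orderOf_of_mem_WHat hS hW hw
  have h2 : orderOf w = orderOf a := by
    have e1 : orderOf g = orderOf a := by rw [hgx, orderOf_conj_eq]
    have e2 : orderOf g = orderOf w := by rw [hgy, orderOf_conj_eq]
    rw [← e2, e1]
  have h3 : q ∣ Nat.card K := by
    rw [h2] at h1
    exact h1.trans (Subgroup.orderOf_dvd_natCard K (hS.A_sub a ha).1)
  have := Nat.Coprime.eq_one_of_dvd hS.coprime_Kq.symm h3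
  exact hq.one_lt.ne' this

end Cfsg.Agent.Lib.Helper13.PF13
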