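import Mathlib
import Cfsg.Agent.Lib.Helper16.PF13Defs
import Cfsg.Agent.Lib.Helper13.PF13DisjSW
import Cfsg.Agent.S1508

/-!
PF sec.13, module PF13-[INT] (helper13 for helper16): `η_ω(g) ∈ ℤ` for `o(g)` coprime to `|W₁| |W₂|`
(from S1508).
-/

set_option autoImplicit false

namespace Cfsg.Agent.Lib.Helper13.PF13

open Cfsg Cfsg.Agent.Lib.Helper24.PFCyc Cfsg.Agent.Lib.Helper4.PF Cfsg.Agent.Lib.Helper16.PF13

universe u

variable {G : Type u} [Group G] [Fintype G]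

/-- the order of a linear character of `W = W₁ ⊔ W₂` divides `|W₂| |W₁|` -/
theorem orderOf_WChar_dvd {W₁ W₂ : Subgroup G} (hW : IsSelfNormalizingCyclic W₁ W₂)
    (ω : WChar W₁ W₂) : orderOf ω ∣ Nat.card W₂ * Nat.card W₁ := by
  rw [orderOf_dvd_iff_pow_eq_one]
  ext w
  rw [MonoidHom.pow_apply, ← map_pow, MonoidHom.one_apply]
  have : w ^ (Nat.card W₂ * Nat.card W₁) = 1 := by
    apply Subtype.ext
    rw [Subgroup.coe_pow, Subgroup.coe_one]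
    obtain ⟨w₁, hw₁, w₂, hw₂, h⟩ := mem_sup_of_comm_h13 hW.2.2.2.1 w.2
    have hc : Commute w₁ w₂ := hW.2.2.2.1 w₁ hw₁ w₂ hw₂
    rw [h, hc.mul_pow]
    have h1 : w₁ ^ (Nat.card W₂ * Nat.card W₁) = 1 := by
      rw [mul_comm, pow_mul]
      have : w₁ ^ Nat.card W₁ = 1 :=
        orderOf_dvd_iff_pow_eq_one.mp (Subgroup.orderOf_dvd_natCard W₁ hw₁)
      rw [this, one_pow]
    have h2 : w₂ ^ (Nat.card W₂ * Nat.card W₁) = 1 := by
      rw [pow_mul]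
      have : w₂ ^ Nat.card W₂ = 1 :=
        orderOf_dvd_iff_pow_eq_one.mp (Subgroup.orderOf_dvd_natCard W₂ hw₂)
      rw [this, one_pow]
    rw [h1, h2, one_mul]
  rw [this, map_one]

theorem eta_int_of_coprime {W₁ W₂ : Subgroup G} (hW : IsSelfNormalizingCyclic W₁ W₂)
    (hodd : Odd (Nat.card ↥(W₁ ⊔ W₂))) {η : WChar W₁ W₂ → (G → ℂ)}
    (hη : IsCyclicTIFamily W₁ W₂ η) (ω : WChar W₁ W₂) (g : G)
    (hg : (orderOf g).Coprime (Nat.card W₂ * Nat.card W₁)) : ∃ n : ℤ, η ω g = (n : ℂ) :=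
  Cfsg.Agent.S1508.result W₁ W₂ hW hodd η hη ω g
    (Nat.Coprime.coprime_dvd_right (orderOf_WChar_dvd hW ω) hg)

end Cfsg.Agent.Lib.Helper13.PF13
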