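import Mathlib
import Cfsg.Agent.Lib.Helper16.PF13Defs

/-!
PF sec.13, module PF13-[ETA] (helper13 for helper16): basic facts on a member `η_ω`, `ω ≠ 1`, of a
cyclic TI family: class function, `∑ |η|² = |G|`, `∑ η = 0`.
-/

set_option autoImplicit false

namespace Cfsg.Agent.Lib.Helper13.PF13

open Cfsg Cfsg.Agent.Lib.Helper24.PFCyc Cfsg.Agent.Lib.Helper4.PF Cfsg.Agent.Lib.Helper16.PF13

open scoped ComplexConjugate

universe u

variable {G : Type u} [Group G] [Fintype G]

theorem eta_basic {W₁ W₂ : Subgroup G} {η : WChar W₁ W₂ → (G → ℂ)}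
    (hη : IsCyclicTIFamily W₁ W₂ η) (ω : WChar W₁ W₂) (hω : ω ≠ 1) :
    (∀ x g, η ω (x * g * x⁻¹) = η ω g) ∧ (∑ g : G, ‖η ω g‖ ^ 2 = (Nat.card G : ℝ)) ∧
      ∑ g : G, η ω g = 0 := by
  have hG : (Nat.card G : ℂ) ≠ 0 := by
    exact_mod_cast (Nat.card_pos (α := G)).ne'
  refine ⟨?_, ?_, ?_⟩
  · intro x g
    rcases hη.irr_or_neg ω with ⟨n, ρ, _, h⟩ | ⟨n, ρ, _, h⟩
    · rw [← h]
      exact Representation.char_conj ρ g x
    · have h' : η ω = fun g => - ρ.character g := by
        funext g
        have := congrFun h g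
        rw [Pi.neg_apply] at this
        rw [this, neg_neg]
      rw [h']
      show - ρ.character (x * g * x⁻¹) = - ρ.character g
      rw [Representation.char_conj ρ g x]
  · have h1 := hη.orthonormal ω ω
    rw [if_pos rfl] at h1
    unfold classInner at h1
    have h2 : ∑ g : G, η ω g * conj (η ω g) = (Nat.card G : ℂ) := by
      have := congrArg (fun z => (Nat.card G : ℂ) * z) h1
      simp only [mul_one] at this
      rwa [← mul_assoc, mul_inv_cancel₀ hG, one_mul] at this
    have h3 : ((∑ g : G, ‖η ω g‖ ^ 2 : ℝ) : ℂ) = ((Nat.card G : ℝ) : ℂ) := by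
      rw [Complex.ofReal_sum, Complex.ofReal_natCast, ← h2]
      apply Finset.sum_congr rfl
      intro g _
      rw [Complex.mul_conj, Complex.normSq_eq_norm_sq]
    exact Complex.ofReal_injective h3
  · have h1 := hη.orthonormal ω 1
    rw [if_neg hω, hη.map_one] at h1
    unfold classInner at h1
    simp only [map_one, mul_one] at h1
    rcases mul_eq_zero.mp h1 with h | h
    · exact absurd (inv_eq_zero.mp h) hG
    · exact h

end Cfsg.Agent.Lib.Helper13.PF13
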