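import Mathlib
import Cfsg.Agent.Lib.Helper16.PF13Defs
import Cfsg.Agent.Lib.Helper13.PF13R

/-!
PF sec.13, module PF13-[DISJ-ST] (helper13 for helper16): the `G`-closures of `A(S)` and `A(T)` are
disjoint as soon as one of the two sides is "of type II" (every element of `A` centralizes a
nontrivial element of the Fitting Hall part).
-/

set_option autoImplicit false

namespace Cfsg.Agent.Lib.Helper13.PF13

open Cfsg Cfsg.Agent.Lib.Helper24.PFCyc Cfsg.Agent.Lib.Helper4.PF Cfsg.Agent.Lib.Helper16.PF13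

universe u

variable {G : Type u} [Group G] [Fintype G]

/-- an element `y` of order `q` of `S` is `S`-conjugate into `W₁` (a Sylow `q`-subgroup of `S`). -/
theorem exists_conj_mem_W₁ {S K P U W₁ W₂ : Subgroup G} {AS : Finset G} {p q : ℕ}
    (hS : SideGrp S K P U W₁ W₂ AS p q) (y : G) (hyS : y ∈ S) (hy : orderOf y = q) :
    ∃ s ∈ S, s * y * s⁻¹ ∈ W₁ := by
  classical
  have : Fact q.Prime := ⟨hS.hq⟩
  have hq := hS.hq
  have hKpos : Nat.card K ≠ 0 := Nat.card_pos.ne'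
  have hfac : (Nat.card S).factorization q = 1 := by
    rw [hS.card_S, Nat.factorization_mul hq.ne_zero hKpos, Finsupp.add_apply,
      hq.factorization_self]
    have : (Nat.card K).factorization q = 0 := by
      apply Nat.factorization_eq_zero_of_not_dvd
      intro hd
      have := Nat.Coprime.eq_one_of_dvd hS.coprime_Kq.symm hd
      exact hq.one_lt.ne' this
    rw [this]
  have hcard : Nat.card (W₁.subgroupOf S) = q ^ (Nat.card S).factorization q := by
    rw [hfac, pow_one, ← hS.card_W₁]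
    exact Nat.card_congr (Subgroup.subgroupOfEquivOfLe hS.W₁_le).toEquiv
  set P₁ : Sylow q ↥S := Sylow.ofCard (W₁.subgroupOf S) hcard with hP₁
  set y' : ↥S := ⟨y, hyS⟩ with hy'
  have hy'ord : orderOf y' = q := by
    rw [← hy, ← Subgroup.orderOf_coe y']
  have hpg : IsPGroup q (Subgroup.zpowers y') := by
    apply IsPGroup.of_card (n := 1)
    rw [Nat.card_zpowers, hy'ord, pow_one]
  obtain ⟨P₂, hP₂⟩ := hpg.exists_le_sylow
  obtain ⟨s, hs⟩ := MulAction.exists_smul_eq ↥S P₂ P₁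
  refine ⟨(s : G), s.2, ?_⟩
  have h1 : y' ∈ (P₂ : Subgroup ↥S) := hP₂ (Subgroup.mem_zpowers y')
  have h2 : s * y' * s⁻¹ ∈ ((s • P₂ : Sylow q ↥S) : Subgroup ↥S) := by
    rw [Sylow.coe_subgroup_smul]
    have := Subgroup.smul_mem_pointwise_smul y' (MulAut.conj s) (P₂ : Subgroup ↥S) h1
    rwa [MulAut.smul_def, MulAut.conj_apply] at this
  rw [hs, hP₁] at h2
  have h3 : s * y' * s⁻¹ ∈ W₁.subgroupOf S := h2
  rw [Subgroup.mem_subgroupOf] at h3
  simpa using h3

/-- `disjoint_ST` when the `T`-side is of type II -/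
theorem disjoint_ST_aux {S T K K' P Q U V W₁ W₂ : Subgroup G} {AS AT : Finset G} {p q : ℕ}
    (hS : SideGrp S K P U W₁ W₂ AS p q) (hT : SideGrp T K' Q V W₂ W₁ AT q p)
    (hII : ∀ b ∈ AT, ∃ y ∈ Q, y ≠ 1 ∧ b * y = y * b) :
    Disjoint (conjClosure AS) (conjClosure AT) := by
  rw [Set.disjoint_left]
  rintro g ⟨x, a, ha, hgx⟩ ⟨y, b, hb, hgy⟩
  have hp := hS.hp
  have hq := hS.hq
  -- `a = z b z⁻¹`
  set z := x⁻¹ * y with hz
  have haz : a = z * b * z⁻¹ := by
    have : x * a * x⁻¹ = y * b * y⁻¹ := hgx.symm.trans hgy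
    calc a = x⁻¹ * (x * a * x⁻¹) * x := by group
      _ = x⁻¹ * (y * b * y⁻¹) * x := by rw [this]
      _ = z * b * z⁻¹ := by rw [hz]; group
  obtain ⟨y₀, hy₀Q, hy₀ne, hy₀c⟩ := hII b hb
  -- an element of order `q` of `Q` commuting with `b`
  have hy₀ord : orderOf y₀ ∣ q ^ p := by
    have := Subgroup.orderOf_dvd_natCard Q hy₀Q
    rwa [hT.card_P] at this
  have hqdvd : q ∣ orderOf y₀ := by
    obtain ⟨k, hk, hk'⟩ := (Nat.dvd_prime_pow hq).mp hy₀ord
    rw [hk']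
    have : k ≠ 0 := by
      intro h0
      rw [h0, pow_zero, orderOf_eq_one_iff] at hk'
      exact hy₀ne hk'
    exact dvd_pow_self q this
  set y₁ := y₀ ^ (orderOf y₀ / q) with hy₁
  have hy₁ord : orderOf y₁ = q := orderOf_pow_orderOf_div (orderOf_pos y₀).ne' hqdvd
  have hy₁c : b * y₁ = y₁ * b := by
    have : Commute b y₀ := hy₀c
    exact (this.pow_right _)
  set y₂ := z * y₁ * z⁻¹ with hy₂
  have hy₂ord : orderOf y₂ = q := by rw [hy₂, orderOf_conj_eq, hy₁ord]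
  have hy₂c : y₂ * a = a * y₂ := by
    rw [hy₂, haz]
    calc z * y₁ * z⁻¹ * (z * b * z⁻¹) = z * (y₁ * b) * z⁻¹ := by group
      _ = z * (b * y₁) * z⁻¹ := by rw [hy₁c]
      _ = z * b * z⁻¹ * (z * y₁ * z⁻¹) := by group
  have hy₂S : y₂ ∈ S := by
    apply hS.ti y₂ a ha
    have : y₂ * a * y₂⁻¹ = a := by rw [hy₂c, mul_inv_cancel_right]
    rw [this]; exact ha
  obtain ⟨s, hsS, hy₃⟩ := exists_conj_mem_W₁ hS y₂ hy₂S hy₂ord
  set y₃ := s * y₂ * s⁻¹ with hy₃def
  have hy₃ord : orderOf y₃ = q := by rw [hy₃def, orderOf_conj_eq, hy₂ord]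
  have hy₃ne : y₃ ≠ 1 := by
    intro h1
    rw [h1, orderOf_one] at hy₃ord
    exact hq.one_lt.ne hy₃ord
  set a' := s * a * s⁻¹ with ha'
  have ha'K : a' ∈ K := hS.K_normal s hsS a (hS.A_sub a ha).1
  have ha'c : y₃ * a' = a' * y₃ := by
    rw [hy₃def, ha']
    calc s * y₂ * s⁻¹ * (s * a * s⁻¹) = s * (y₂ * a) * s⁻¹ := by group
      _ = s * (a * y₂) * s⁻¹ := by rw [hy₂c]
      _ = s * a * s⁻¹ * (s * y₂ * s⁻¹) := by group
  have ha'W₂ : a' ∈ W₂ := by
    rw [← hS.cent y₃ hy₃ hy₃ne, Subgroup.mem_inf]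
    refine ⟨ha'K, ?_⟩
    rw [Subgroup.mem_centralizer_iff]
    intro h hh
    rw [Set.mem_singleton_iff] at hh
    rw [hh]; exact ha'c
  have ha'ord : orderOf a' = orderOf a := by rw [ha', orderOf_conj_eq]
  have haord : orderOf a = orderOf b := by rw [haz, orderOf_conj_eq]
  have hane : a ≠ 1 := (hS.A_sub a ha).2
  have h1 : orderOf a' ∣ p := by
    have := Subgroup.orderOf_dvd_natCard W₂ ha'W₂
    rwa [hS.card_W₂] at this
  have h2 : orderOf a' = p := by
    rcases (Nat.dvd_prime hp).mp h1 with h | h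
    · rw [ha'ord, orderOf_eq_one_iff] at h
      exact absurd h hane
    · exact h
  have h3 : p ∣ Nat.card K' := by
    rw [← h2, ha'ord, haord]
    exact Subgroup.orderOf_dvd_natCard K' (hT.A_sub b hb).1
  have := Nat.Coprime.eq_one_of_dvd hT.coprime_Kq.symm h3
  exact hp.one_lt.ne' this

theorem disjoint_ST {S T K K' P Q U V W₁ W₂ : Subgroup G} {AS AT : Finset G} {p q : ℕ}
    (hS : SideGrp S K P U W₁ W₂ AS p q) (hT : SideGrp T K' Q V W₂ W₁ AT q p)
    (hII : (∀ a ∈ AS, ∃ x ∈ P, x ≠ 1 ∧ a * x = x * a) ∨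
      (∀ b ∈ AT, ∃ y ∈ Q, y ≠ 1 ∧ b * y = y * b)) :
    Disjoint (conjClosure AS) (conjClosure AT) := by
  rcases hII with hII | hII
  · exact (disjoint_ST_aux hT hS hII).symm
  · exact disjoint_ST_aux hS hT hII

end Cfsg.Agent.Lib.Helper13.PF13
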