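/-
helper13: basic facts on subfield groups `Cfsg.Geo.subfieldSubgroup F₀ P`: rational vectors,
membership criteria in terms of the action on rational vectors, and the index-two subfield of a
finite field of square order as the fixed field of the involutory automorphism.
-/
import Mathlib
import Cfsg.Prelude.Def_GeometricClasses

set_option autoImplicit false

namespace Cfsg.Agent.Lib.Helper13

open Matrix

section SubfieldBasic

variable {F : Type*} [Field F] {n : ℕ}

/-- entrywise inclusion of vectors over the subfield. -/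
def rat (F₀ : Subfield F) (a : Fin n → F₀) : Fin n → F := fun i => (a i : F)

theorem rat_apply (F₀ : Subfield F) (a : Fin n → F₀) (i : Fin n) : rat F₀ a i = (a i : F) := rfl

theorem rat_add (F₀ : Subfield F) (a b : Fin n → F₀) : rat F₀ (a + b) = rat F₀ a + rat F₀ b := by
  funext i
  simp [rat]

theorem rat_zero (F₀ : Subfield F) : rat F₀ (0 : Fin n → F₀) = 0 := by
  funext i
  simp [rat]

theorem rat_smul (F₀ : Subfield F) (c : F₀) (a : Fin n → F₀) :
    rat F₀ (c • a) = (c : F) • rat F₀ a := by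
  funext i
  simp [rat]

theorem rat_neg (F₀ : Subfield F) (a : Fin n → F₀) : rat F₀ (-a) = -rat F₀ a := by
  funext i
  simp [rat]

theorem rat_single (F₀ : Subfield F) (j : Fin n) :
    rat F₀ (Pi.single j (1 : F₀)) = Pi.single j (1 : F) := by
  funext i
  by_cases h : i = j
  · subst h; simp [rat]
  · simp [rat, Pi.single_eq_of_ne h]

theorem rat_injective (F₀ : Subfield F) : Function.Injective (rat (n := n) F₀) := by
  intro a b h
  funext i
  exact Subtype.ext (congrFun h i)

theorem rat_eq_zero (F₀ : Subfield F) {a : Fin n → F₀} (h : rat F₀ a = 0) : a = 0 :=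
  rat_injective F₀ (h.trans (rat_zero F₀).symm)

theorem rat_mulVec (F₀ : Subfield F) (A : Matrix (Fin n) (Fin n) F₀) (a : Fin n → F₀) :
    rat F₀ (A *ᵥ a) = A.map F₀.subtype *ᵥ rat F₀ a := by
  funext i
  exact RingHom.map_mulVec F₀.subtype A a i

/-- membership in the subfield group, matrix form. -/
theorem mem_subfieldSubgroup_iff (F₀ : Subfield F) (P g : GL (Fin n) F) :
    g ∈ Cfsg.Geo.subfieldSubgroup F₀ P ↔ ∃ (A : GL (Fin n) F₀) (μ : Fˣ),
      (g : Matrix (Fin n) (Fin n) F) * (P : Matrix (Fin n) (Fin n) F) =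
        (μ : F) • ((P : Matrix (Fin n) (Fin n) F) *
          (A : Matrix (Fin n) (Fin n) F₀).map F₀.subtype) := by
  unfold Cfsg.Geo.subfieldSubgroup
  rw [Subgroup.mem_map]
  constructor
  · rintro ⟨x, hx, rfl⟩
    rw [Subgroup.mem_sup_of_normal_right] at hx
    obtain ⟨y, ⟨A, rfl⟩, z, hz, rfl⟩ := hx
    rw [Cfsg.Geo.mem_scalars_iff] at hz
    obtain ⟨μ, hμ⟩ := hz
    refine ⟨A, μ, ?_⟩
    show ((P * (Matrix.GeneralLinearGroup.map F₀.subtype A * z) * P⁻¹ : GL (Fin n) F) :
      Matrix (Fin n) (Fin n) F) * (P : Matrix (Fin n) (Fin n) F) = _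
    rw [← Units.val_mul, inv_mul_cancel_right, Units.val_mul, Units.val_mul, hμ]
    rw [Matrix.mul_smul, Matrix.mul_one, Matrix.mul_smul]
    rfl
  · rintro ⟨A, μ, h⟩
    refine ⟨Matrix.GeneralLinearGroup.map F₀.subtype A *
      Units.map (Matrix.scalar (Fin n) : F →+* Matrix (Fin n) (Fin n) F).toMonoidHom μ,
      Subgroup.mul_mem_sup ⟨A, rfl⟩ ⟨μ, rfl⟩, ?_⟩
    show P * _ * P⁻¹ = g
    rw [mul_inv_eq_iff_eq_mul]
    apply Units.ext
    rw [Units.val_mul, Units.val_mul, Units.val_mul, h]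
    show (P : Matrix (Fin n) (Fin n) F) * ((A : Matrix (Fin n) (Fin n) F₀).map F₀.subtype *
      Matrix.scalar (Fin n) (μ : F)) = _
    rw [← Matrix.mul_assoc, Matrix.scalar_apply, ← Matrix.smul_one_eq_diagonal, Matrix.mul_smul,
      Matrix.mul_one]

/-- membership in the subfield group from the action on rational vectors. -/
theorem mem_subfieldSubgroup_of_action (F₀ : Subfield F) (P g : GL (Fin n) F)
    (A : GL (Fin n) F₀) (μ : Fˣ)
    (h : ∀ a : Fin n → F₀, (g : Matrix (Fin n) (Fin n) F) *ᵥ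
      ((P : Matrix (Fin n) (Fin n) F) *ᵥ rat F₀ a) =
        (μ : F) • ((P : Matrix (Fin n) (Fin n) F) *ᵥ
          rat F₀ ((A : Matrix (Fin n) (Fin n) F₀) *ᵥ a))) :
    g ∈ Cfsg.Geo.subfieldSubgroup F₀ P := by
  rw [mem_subfieldSubgroup_iff]
  refine ⟨A, μ, ?_⟩
  apply Matrix.toLin'.injective
  apply (Pi.basisFun F (Fin n)).ext
  intro j
  have := h (Pi.single j 1)
  rw [rat_single, rat_mulVec, rat_single] at this
  rw [Pi.basisFun_apply, Matrix.toLin'_apply, Matrix.toLin'_apply, ← mulVec_mulVec, this,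
    smul_mulVec, ← mulVec_mulVec]

/-- the action on rational vectors of a member of the subfield group. -/
theorem action_of_mem_subfieldSubgroup (F₀ : Subfield F) (P g : GL (Fin n) F)
    (hg : g ∈ Cfsg.Geo.subfieldSubgroup F₀ P) :
    ∃ (A : GL (Fin n) F₀) (μ : Fˣ), ∀ a : Fin n → F₀, (g : Matrix (Fin n) (Fin n) F) *ᵥ
      ((P : Matrix (Fin n) (Fin n) F) *ᵥ rat F₀ a) =
        (μ : F) • ((P : Matrix (Fin n) (Fin n) F) *ᵥ
          rat F₀ ((A : Matrix (Fin n) (Fin n) F₀) *ᵥ a)) := by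
  rw [mem_subfieldSubgroup_iff] at hg
  obtain ⟨A, μ, h⟩ := hg
  refine ⟨A, μ, fun a => ?_⟩
  rw [mulVec_mulVec, h, smul_mulVec, rat_mulVec, ← mulVec_mulVec]

end SubfieldBasic

section FixedField

variable {F : Type*} [Field F] [Fintype F]

/-- In a field of order `q²`, a subfield of order `q` is the fixed field of `x ↦ x^q`, and the
field has a basis `1, ω` over it. -/
theorem subfield_fixed_field (q : ℕ) (hF : Fintype.card F = q ^ 2) (F₀ : Subfield F)
    (hcard : Fintype.card F = Nat.card F₀ ^ 2) (σ : F →+* F) (hσ : ∀ x, σ x = x ^ q)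
    (hne : σ ≠ RingHom.id F) :
    (∀ x, x ∈ F₀ ↔ σ x = x) ∧ ∃ ω : F, σ ω ≠ ω ∧ ∀ x : F, ∃ a b : F₀, x = a + ω * b := by
  classical
  have hq : Nat.card F₀ = q := by
    have h : Nat.card F₀ ^ 2 = q ^ 2 := by rw [← hcard, hF]
    exact Nat.pow_left_injective (n := 2) (by norm_num) h
  haveI : Fintype F₀ := Fintype.ofFinite _
  have hfix1 : ∀ x : F₀, σ (x : F) = x := by
    intro x
    have h := FiniteField.pow_card x
    rw [← Nat.card_eq_fintype_card, hq] at h
    rw [hσ]
    have h2 := congrArg (fun y : F₀ => (y : F)) h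
    simpa using h2
  obtain ⟨ω, hω⟩ : ∃ ω : F, σ ω ≠ ω := by
    by_contra h
    push Not at h
    exact hne (RingHom.ext h)
  have hinj : Function.Injective (fun p : F₀ × F₀ => (p.1 : F) + ω * (p.2 : F)) := by
    rintro ⟨a, b⟩ ⟨a', b'⟩ h
    simp only at h
    have h2 := congrArg σ h
    rw [map_add, map_add, map_mul, map_mul, hfix1, hfix1, hfix1, hfix1] at h2
    have h3 : (ω - σ ω) * ((b : F) - b') = 0 := by linear_combination h - h2
    have h4 : (b : F) = b' := by
      rcases mul_eq_zero.mp h3 with h5 | h5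
      · exact absurd (sub_eq_zero.mp h5).symm hω
      · exact sub_eq_zero.mp h5
    have h5 : (a : F) = a' := by
      rw [h4] at h
      exact add_right_cancel h
    exact Prod.ext (Subtype.ext h5) (Subtype.ext h4)
  have hbij : Function.Bijective (fun p : F₀ × F₀ => (p.1 : F) + ω * (p.2 : F)) := by
    apply hinj.bijective_of_nat_card_le
    rw [Nat.card_prod, hq, Nat.card_eq_fintype_card, hF, pow_two]
  have hdec : ∀ x : F, ∃ a b : F₀, x = a + ω * b := by
    intro x
    obtain ⟨⟨a, b⟩, h⟩ := hbij.2 x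
    exact ⟨a, b, h.symm⟩
  refine ⟨fun x => ⟨fun hx => hfix1 ⟨x, hx⟩, fun hx => ?_⟩, ω, hω, hdec⟩
  obtain ⟨a, b, rfl⟩ := hdec x
  rw [map_add, map_mul, hfix1, hfix1] at hx
  have h3 : (σ ω - ω) * (b : F) = 0 := by linear_combination hx
  rcases mul_eq_zero.mp h3 with h5 | h5
  · exact absurd (sub_eq_zero.mp h5) hω
  · rw [h5, mul_zero, add_zero]
    exact a.2

end FixedField

end Cfsg.Agent.Lib.Helper13
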