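import Mathlib
import Cfsg.Prelude.Def_ClassicalGeometry
import Cfsg.Agent.Lib.Helper13.Stab

set_option autoImplicit false

/-!
`Cfsg.stabilizing` for finite sets: one inclusion suffices (helper13's library).
-/

namespace Cfsg.Agent.Lib.Helper13

open Matrix

variable {H : Type*} [Group H] {ι : Type} [Fintype ι] [DecidableEq ι] {F : Type*} [CommRing F]

/-- For a finite set `S`, an element mapping `S` into `S` stabilises `S`. -/
theorem mem_stabilizing_of_finite (toMat : H →* Matrix ι ι F) (S : Set (ι → F)) (hS : S.Finite)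
    (h : H) (hh : ∀ v ∈ S, toMat h *ᵥ v ∈ S) : h ∈ Cfsg.stabilizing toMat S := by
  rw [mem_stabilizing_iff]
  intro v
  refine ⟨hh v, fun hv => ?_⟩
  have : Finite ↥S := hS
  let f : ↥S → ↥S := fun w => ⟨toMat h *ᵥ w.1, hh w.1 w.2⟩
  have hinj : Function.Injective f := by
    intro w w' hww'
    have h1 : toMat h *ᵥ w.1 = toMat h *ᵥ w'.1 := congrArg Subtype.val hww'
    have h2 := congrArg (fun x => toMat h⁻¹ *ᵥ x) h1
    simp only [toMat_inv_mulVec_toMat_mulVec] at h2
    exact Subtype.ext h2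
  have hsurj : Function.Surjective f := Finite.surjective_of_injective hinj
  obtain ⟨w, hw⟩ := hsurj ⟨toMat h *ᵥ v, hv⟩
  have h1 : toMat h *ᵥ w.1 = toMat h *ᵥ v := congrArg Subtype.val hw
  have h2 := congrArg (fun x => toMat h⁻¹ *ᵥ x) h1
  simp only [toMat_inv_mulVec_toMat_mulVec] at h2
  rw [← h2]
  exact w.2

end Cfsg.Agent.Lib.Helper13
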