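import Mathlib
import Cfsg.Prelude.Def_ClassicalGeometry
import Cfsg.Agent.Lib.Helper13.Symp
import Cfsg.Agent.Lib.Helper13.SympGen
import Cfsg.Agent.Lib.Helper13.Stab
import Cfsg.Agent.Lib.Helper13.StabFin

set_option autoImplicit false
set_option linter.unusedSimpArgs false
set_option linter.unnecessarySeqFocus false

/-!
Counting linearly independent totally isotropic tuples in the standard symplectic space and the
order of the stabiliser of a totally isotropic subspace (helper13's library).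
-/

namespace Cfsg.Agent.Lib.Helper13

open Matrix

/-- Orbit–stabiliser for a function constant exactly on the left cosets of a subgroup. -/
theorem card_eq_card_range_mul {K X : Type*} [Group K] (S : Subgroup K) (φ : K → X)
    (hφ : ∀ a b, φ a = φ b ↔ a⁻¹ * b ∈ S) :
    Nat.card K = Nat.card (Set.range φ) * Nat.card S := by
  rw [Subgroup.card_eq_card_quotient_mul_card_subgroup S]
  congr 1
  apply Nat.card_congr
  refine Equiv.ofBijective
    (Quotient.lift (fun a => (⟨φ a, a, rfl⟩ : Set.range φ)) ?_) ⟨?_, ?_⟩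
  · intro a b hab
    apply Subtype.ext
    exact (hφ a b).mpr (QuotientGroup.leftRel_apply.mp hab)
  · intro x y
    induction x using Quotient.inductionOn with
    | h a =>
      induction y using Quotient.inductionOn with
      | h b =>
        intro h
        apply Quotient.sound
        exact QuotientGroup.leftRel_apply.mpr ((hφ a b).mp (congrArg Subtype.val h))
  · rintro ⟨_, a, rfl⟩
    exact ⟨Quotient.mk _ a, rfl⟩

variable {F : Type*} [Field F] {m : ℕ}

/-- Linearly independent totally isotropic `k`-tuples. -/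
def isoTuples (m k : ℕ) (F : Type*) [Field F] : Set (Fin k → (Fin m ⊕ Fin m → F)) :=
  {t | LinearIndependent F t ∧ ∀ i j, Cfsg.sympForm m F (t i) (t j) = 0}

/-- The fibre over a tuple: vectors orthogonal to, and outside, its span. -/
def isoFibre {k : ℕ} (t : Fin k → (Fin m ⊕ Fin m → F)) : Set (Fin m ⊕ Fin m → F) :=
  {v | (∀ i, Cfsg.sympForm m F (t i) v = 0) ∧ v ∉ Submodule.span F (Set.range t)}

/-- Splitting off the first vector of an isotropic tuple. -/
noncomputable def isoTuplesEquiv (m k : ℕ) (F : Type*) [Field F] :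
    ↥(isoTuples m (k + 1) F) ≃
      Σ t : ↥(isoTuples m k F), ↥(isoFibre (t.1 : Fin k → (Fin m ⊕ Fin m → F))) where
  toFun s := ⟨⟨Fin.tail s.1, (linearIndependent_finSucc.mp s.2.1).1,
      fun i j => s.2.2 i.succ j.succ⟩,
    ⟨s.1 0, fun i => s.2.2 i.succ 0, (linearIndependent_finSucc.mp s.2.1).2⟩⟩
  invFun p := ⟨Fin.cons p.2.1 p.1.1, linearIndependent_finCons.mpr ⟨p.1.2.1, p.2.2.2⟩, by
    intro i j
    refine Fin.cases ?_ (fun i' => ?_) i <;> refine Fin.cases ?_ (fun j' => ?_) j
    · rw [Fin.cons_zero]; exact sympForm_self _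
    · rw [Fin.cons_zero, Fin.cons_succ, sympForm_swap, p.2.2.1 j', neg_zero]
    · rw [Fin.cons_zero, Fin.cons_succ]; exact p.2.2.1 i'
    · rw [Fin.cons_succ, Fin.cons_succ]; exact p.1.2.2 i' j'⟩
  left_inv s := by
    apply Subtype.ext
    exact Fin.cons_self_tail s.1
  right_inv p := by
    obtain ⟨⟨t, ht⟩, ⟨v, hv⟩⟩ := p
    rfl

section Count

variable [Fintype F]

/-- The number of ways to extend an isotropic tuple. -/
theorem card_isoFibre {k : ℕ} (hk : k ≤ m) (t : Fin k → (Fin m ⊕ Fin m → F))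
    (ht : t ∈ isoTuples m k F) :
    Nat.card ↥(isoFibre t) = Fintype.card F ^ (2 * m - k) - Fintype.card F ^ k := by
  classical
  obtain ⟨S, hS⟩ : ∃ S : Submodule F (Fin m ⊕ Fin m → F),
      S = Submodule.span F (Set.range t) := ⟨_, rfl⟩
  have hB := sympBilin_nondegenerate m F
  obtain ⟨P, hP⟩ : ∃ P : Submodule F (Fin m ⊕ Fin m → F),
      P = (sympBilin m F).orthogonal S := ⟨_, rfl⟩
  have hSfr : Module.finrank F S = k := by
    rw [hS, finrank_span_eq_card ht.1, Fintype.card_fin]
  have hPfr : Module.finrank F P = 2 * m - k := by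
    rw [hP, LinearMap.BilinForm.finrank_orthogonal hB, hSfr, Module.finrank_fintype_fun_eq_card,
      Fintype.card_sum, Fintype.card_fin]
    omega
  have hmemP : ∀ v, v ∈ P ↔ ∀ i, Cfsg.sympForm m F (t i) v = 0 := by
    intro v
    rw [hP, LinearMap.BilinForm.mem_orthogonal_iff]
    constructor
    · intro h i
      exact h (t i) (by rw [hS]; exact Submodule.subset_span ⟨i, rfl⟩)
    · intro h n hn
      rw [hS] at hn
      change Cfsg.sympForm m F n v = 0
      induction hn using Submodule.span_induction with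
      | mem x hx =>
        obtain ⟨i, rfl⟩ := hx
        exact h i
      | zero => exact sympForm_zero_left v
      | add x y _ _ hx hy => rw [sympForm_add_left, hx, hy, add_zero]
      | smul a x _ hx => rw [sympForm_smul_left, hx, mul_zero]
  have hSP : S ≤ P := by
    intro v hv
    rw [hmemP]
    intro i
    rw [hS] at hv
    induction hv using Submodule.span_induction with
    | mem x hx =>
      obtain ⟨j, rfl⟩ := hx
      exact ht.2 i j
    | zero => exact sympForm_zero_right _
    | add x y _ _ hx hy => rw [sympForm_add_right, hx, hy, add_zero]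
    | smul a x _ hx => rw [sympForm_smul_right, hx, mul_zero]
  have hset : isoFibre t = (P : Set (Fin m ⊕ Fin m → F)) \ (S : Set (Fin m ⊕ Fin m → F)) := by
    ext v
    rw [Set.mem_sdiff, SetLike.mem_coe, SetLike.mem_coe, hmemP, hS]
    rfl
  have hcardS : (S : Set (Fin m ⊕ Fin m → F)).ncard = Fintype.card F ^ k := by
    rw [← Nat.card_coe_set_eq]
    change Nat.card ↥S = _
    rw [Module.natCard_eq_pow_finrank (K := F) (V := ↥S), hSfr, Nat.card_eq_fintype_card]
  have hcardP : (P : Set (Fin m ⊕ Fin m → F)).ncard = Fintype.card F ^ (2 * m - k) := by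
    rw [← Nat.card_coe_set_eq]
    change Nat.card ↥P = _
    rw [Module.natCard_eq_pow_finrank (K := F) (V := ↥P), hPfr, Nat.card_eq_fintype_card]
  rw [hset, Nat.card_coe_set_eq, Set.ncard_sdiff (fun x hx => hSP hx) (Set.toFinite _),
    hcardS, hcardP]

/-- The number of linearly independent totally isotropic `k`-tuples. -/
theorem card_isoTuples (k : ℕ) (hk : k ≤ m) :
    Nat.card ↥(isoTuples m k F)
      = ∏ j : Fin k, (Fintype.card F ^ (2 * m - (j : ℕ)) - Fintype.card F ^ (j : ℕ)) := by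
  classical
  induction k with
  | zero =>
    rw [Finset.univ_eq_empty, Finset.prod_empty]
    have : Unique ↥(isoTuples m 0 F) :=
      { default := ⟨Fin.elim0, linearIndependent_empty_type, fun i => i.elim0⟩
        uniq := fun a => Subtype.ext (funext fun i => i.elim0) }
    exact Nat.card_unique
  | succ k ih =>
    have hk' : k ≤ m := Nat.le_of_succ_le hk
    rw [Nat.card_congr (isoTuplesEquiv m k F), Nat.card_sigma, Fin.prod_univ_castSucc]
    have hfib : ∀ t : ↥(isoTuples m k F), Nat.card ↥(isoFibre (t.1 : Fin k → _))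
        = Fintype.card F ^ (2 * m - k) - Fintype.card F ^ k := fun t => card_isoFibre hk' t.1 t.2
    simp only [hfib, Finset.sum_const, Finset.card_univ, smul_eq_mul, Fin.val_castSucc,
      Fin.val_last]
    rw [← Nat.card_eq_fintype_card, ih hk']

end Count

section Orbit

/-- The pointwise stabiliser of a tuple of vectors in the symplectic group. -/
def fixTuple {k : ℕ} (w : Fin k → (Fin m ⊕ Fin m → F)) :
    Subgroup (Matrix.symplecticGroup (Fin m) F) where
  carrier := {g | ∀ i, g.1 *ᵥ w i = w i}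
  mul_mem' := by
    intro a b ha hb i
    change (a.1 * b.1) *ᵥ w i = w i
    rw [← Matrix.mulVec_mulVec, hb i, ha i]
  one_mem' := by
    intro i
    change (1 : Matrix (Fin m ⊕ Fin m) (Fin m ⊕ Fin m) F) *ᵥ w i = w i
    rw [Matrix.one_mulVec]
  inv_mem' := by
    intro a ha i
    have h1 : (a⁻¹).1 *ᵥ (a.1 *ᵥ w i) = w i :=
      toMat_inv_mulVec_toMat_mulVec (Cfsg.spToMat m F) a (w i)
    rw [ha i] at h1
    exact h1

theorem mem_fixTuple {k : ℕ} (w : Fin k → (Fin m ⊕ Fin m → F))
    (g : Matrix.symplecticGroup (Fin m) F) : g ∈ fixTuple w ↔ ∀ i, g.1 *ᵥ w i = w i := Iff.rfl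

/-- The action of the symplectic group on tuples. -/
def tupleMap {k : ℕ} (w : Fin k → (Fin m ⊕ Fin m → F)) (g : Matrix.symplecticGroup (Fin m) F) :
    Fin k → (Fin m ⊕ Fin m → F) :=
  fun i => g.1 *ᵥ w i

theorem tupleMap_apply {k : ℕ} (w : Fin k → (Fin m ⊕ Fin m → F))
    (g : Matrix.symplecticGroup (Fin m) F) (i : Fin k) : tupleMap w g i = g.1 *ᵥ w i := rfl

theorem tupleMap_eq_iff {k : ℕ} (w : Fin k → (Fin m ⊕ Fin m → F))
    (a b : Matrix.symplecticGroup (Fin m) F) :
    tupleMap w a = tupleMap w b ↔ a⁻¹ * b ∈ fixTuple w := by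
  have hmul : ∀ v, (a⁻¹ * b).1 *ᵥ v = (a⁻¹).1 *ᵥ (b.1 *ᵥ v) := by
    intro v
    change ((a⁻¹).1 * b.1) *ᵥ v = _
    rw [← Matrix.mulVec_mulVec]
  rw [mem_fixTuple]
  constructor
  · intro h i
    have hi := congrFun h i
    rw [tupleMap_apply, tupleMap_apply] at hi
    rw [hmul, ← hi]
    exact toMat_inv_mulVec_toMat_mulVec (Cfsg.spToMat m F) a (w i)
  · intro h
    funext i
    have hi := h i
    rw [hmul] at hi
    rw [tupleMap_apply, tupleMap_apply]
    have h2 : a.1 *ᵥ ((a⁻¹).1 *ᵥ (b.1 *ᵥ w i)) = b.1 *ᵥ w i :=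
      toMat_mulVec_toMat_inv_mulVec (Cfsg.spToMat m F) a (b.1 *ᵥ w i)
    rw [hi] at h2
    exact h2

theorem linearIndependent_tupleMap {k : ℕ} (w : Fin k → (Fin m ⊕ Fin m → F))
    (hw : LinearIndependent F w) (g : Matrix.symplecticGroup (Fin m) F) :
    LinearIndependent F (tupleMap w g) := by
  have hker : LinearMap.ker (Matrix.mulVecLin g.1) = ⊥ := by
    rw [LinearMap.ker_eq_bot']
    intro v hv
    rw [Matrix.mulVecLin_apply] at hv
    have h1 : (g⁻¹).1 *ᵥ (g.1 *ᵥ v) = v :=
      toMat_inv_mulVec_toMat_mulVec (Cfsg.spToMat m F) g v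
    rw [hv, Matrix.mulVec_zero] at h1
    exact h1.symm
  have h := hw.map' (Matrix.mulVecLin g.1) hker
  have e : tupleMap w g = ⇑(Matrix.mulVecLin g.1) ∘ w := by
    funext i
    rw [tupleMap_apply, Function.comp_apply, Matrix.mulVecLin_apply]
  rw [e]
  exact h

/-- The orbit of an isotropic tuple is the set of all isotropic tuples (Witt). -/
theorem range_tupleMap {k : ℕ} (w : Fin k → (Fin m ⊕ Fin m → F)) (hw : w ∈ isoTuples m k F) :
    Set.range (tupleMap w) = isoTuples m k F := by
  ext t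
  constructor
  · rintro ⟨g, rfl⟩
    refine ⟨linearIndependent_tupleMap w hw.1 g, ?_⟩
    intro i j
    rw [tupleMap_apply, tupleMap_apply, sympForm_mulVec_of_mem g.2]
    exact hw.2 i j
  · intro ht
    obtain ⟨M, -, hM⟩ := witt_families_symp k w t hw.1 ht.1 (by
      intro i j
      rw [hw.2 i j, ht.2 i j])
    exact ⟨M, funext hM⟩

end Orbit

section Parabolic

variable [Fintype F]

/-- Linearly independent `k`-tuples of vectors of `W`. -/
def basesIn (k : ℕ) (W : Submodule F (Fin m ⊕ Fin m → F)) :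
    Set (Fin k → (Fin m ⊕ Fin m → F)) :=
  {t | LinearIndependent F t ∧ ∀ i, t i ∈ W}

theorem card_basesIn (k : ℕ) (W : Submodule F (Fin m ⊕ Fin m → F))
    (hWk : Module.finrank F W = k) :
    Nat.card ↥(basesIn k W) = ∏ i : Fin k, (Fintype.card F ^ k - Fintype.card F ^ (i : ℕ)) := by
  have h1 := card_linearIndependent (K := F) (V := ↥W) (k := k) (le_of_eq hWk.symm)
  rw [hWk] at h1
  rw [← h1]
  apply Nat.card_congr
  refine
    { toFun := fun t => ⟨fun i => ⟨t.1 i, t.2.2 i⟩, ?_⟩
      invFun := fun s => ⟨fun i => (s.1 i : Fin m ⊕ Fin m → F), ?_, fun i => (s.1 i).2⟩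
      left_inv := fun t => rfl
      right_inv := fun s => rfl }
  · have h := t.2.1
    have e : t.1 = ⇑W.subtype ∘ (fun i => (⟨t.1 i, t.2.2 i⟩ : ↥W)) := rfl
    rw [e] at h
    exact LinearIndependent.of_comp _ h
  · exact s.2.map' W.subtype (Submodule.ker_subtype W)

/-- The orbit–stabiliser computation for the stabiliser of a totally isotropic subspace. -/
theorem card_stabilizing_mul (k : ℕ) (W : Submodule F (Fin m ⊕ Fin m → F))
    (hWk : Module.finrank F W = k) (hW : ∀ u ∈ W, ∀ v ∈ W, Cfsg.sympForm m F u v = 0) :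
    Nat.card ↥(Cfsg.stabilizing (Cfsg.spToMat m F) (W : Set (Fin m ⊕ Fin m → F)))
        * Nat.card ↥(isoTuples m k F)
      = Nat.card ↥(basesIn k W) * Nat.card ↥(Matrix.symplecticGroup (Fin m) F) := by
  classical
  -- a basis of `W`
  obtain ⟨b, -⟩ : ∃ b : Module.Basis (Fin (Module.finrank F W)) F W,
      b = Module.finBasis F W := ⟨_, rfl⟩
  obtain ⟨w, hwdef⟩ : ∃ w : Fin k → (Fin m ⊕ Fin m → F),
      w = fun i => (b (Fin.cast hWk.symm i) : Fin m ⊕ Fin m → F) := ⟨_, rfl⟩
  have hwW : ∀ i, w i ∈ W := by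
    intro i
    rw [hwdef]
    exact (b _).2
  have hwli : LinearIndependent F w := by
    have h1 : LinearIndependent F (fun i : Fin k => b (Fin.cast hWk.symm i)) :=
      b.linearIndependent.comp _ (Fin.cast_injective _)
    have h3 := h1.map' W.subtype (Submodule.ker_subtype W)
    rw [hwdef]
    exact h3
  have hwspan : Submodule.span F (Set.range w) = W := by
    apply Submodule.eq_of_le_of_finrank_eq
    · rw [Submodule.span_le]
      rintro _ ⟨i, rfl⟩
      exact hwW i
    · rw [finrank_span_eq_card hwli, Fintype.card_fin, hWk]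
  have hwiso : w ∈ isoTuples m k F := ⟨hwli, fun i j => hW _ (hwW i) _ (hwW j)⟩
  -- elements mapping the basis into `W` stabilise `W`
  have hstab : ∀ g : Matrix.symplecticGroup (Fin m) F, (∀ i, g.1 *ᵥ w i ∈ W) →
      g ∈ Cfsg.stabilizing (Cfsg.spToMat m F) (W : Set (Fin m ⊕ Fin m → F)) := by
    intro g hg
    apply mem_stabilizing_of_finite (Cfsg.spToMat m F) _ (Set.toFinite _)
    intro v hv
    change g.1 *ᵥ v ∈ W
    have hv' : v ∈ Submodule.span F (Set.range w) := by rw [hwspan]; exact hv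
    clear hv
    induction hv' using Submodule.span_induction with
    | mem x hx =>
      obtain ⟨i, rfl⟩ := hx
      exact hg i
    | zero =>
      rw [Matrix.mulVec_zero]
      exact W.zero_mem
    | add x y _ _ hx hy =>
      rw [Matrix.mulVec_add]
      exact W.add_mem hx hy
    | smul a x _ hx =>
      rw [Matrix.mulVec_smul]
      exact W.smul_mem a hx
  -- orbit–stabiliser in the whole group
  have h1 := card_eq_card_range_mul (fixTuple w) (tupleMap w) (tupleMap_eq_iff w)
  rw [range_tupleMap w hwiso] at h1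
  -- orbit–stabiliser in the stabiliser of `W`
  obtain ⟨K, hK⟩ : ∃ K : Subgroup (Matrix.symplecticGroup (Fin m) F),
      K = Cfsg.stabilizing (Cfsg.spToMat m F) (W : Set (Fin m ⊕ Fin m → F)) := ⟨_, rfl⟩
  have hfixK : fixTuple w ≤ K := by
    intro g hg
    rw [hK]
    apply hstab
    intro i
    rw [(mem_fixTuple w g).mp hg i]
    exact hwW i
  have h2 := card_eq_card_range_mul ((fixTuple w).subgroupOf K) (fun g : ↥K => tupleMap w g.1)
    (by
      intro a b
      rw [Subgroup.mem_subgroupOf]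
      exact tupleMap_eq_iff w a.1 b.1)
  have hrange : Set.range (fun g : ↥K => tupleMap w g.1) = basesIn k W := by
    ext t
    constructor
    · rintro ⟨g, rfl⟩
      refine ⟨linearIndependent_tupleMap w hwli g.1, ?_⟩
      intro i
      have hg : g.1 ∈ Cfsg.stabilizing (Cfsg.spToMat m F) (W : Set (Fin m ⊕ Fin m → F)) := by
        rw [← hK]; exact g.2
      rw [mem_stabilizing_iff] at hg
      exact (hg (w i)).mp (hwW i)
    · intro ht
      have htiso : t ∈ isoTuples m k F := ⟨ht.1, fun i j => hW _ (ht.2 i) _ (ht.2 j)⟩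
      rw [← range_tupleMap w hwiso] at htiso
      obtain ⟨g, rfl⟩ := htiso
      have hgK : g ∈ K := by
        rw [hK]
        exact hstab g (fun i => ht.2 i)
      exact ⟨⟨g, hgK⟩, rfl⟩
  rw [hrange, Nat.card_congr (Subgroup.subgroupOfEquivOfLe hfixK).toEquiv] at h2
  rw [← hK, h2, h1]
  ring

end Parabolic

/-- The arithmetic identity behind the order of a maximal parabolic of `Sp`. -/
theorem parabolic_arith (q : ℕ) (k : ℕ) : ∀ l : ℕ,
    q ^ (k * (k + 1) / 2 + 2 * k * l) *
        (q ^ (l ^ 2) * ∏ i ∈ Finset.range l, (q ^ (2 * (i + 1)) - 1)) *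
        ∏ j : Fin k, (q ^ (2 * (k + l) - (j : ℕ)) - q ^ (j : ℕ))
      = q ^ ((k + l) ^ 2) * ∏ i ∈ Finset.range (k + l), (q ^ (2 * (i + 1)) - 1) := by
  induction k with
  | zero =>
    intro l
    simp
  | succ k ih =>
    intro l
    have h1 := ih (l + 1)
    have e1 : k + (l + 1) = k + 1 + l := by omega
    rw [e1] at h1
    rw [← h1, Fin.prod_univ_castSucc, Finset.prod_range_succ]
    simp only [Fin.val_castSucc, Fin.val_last]
    have e2 : q ^ (2 * (k + 1 + l) - k) - q ^ k = q ^ k * (q ^ (2 * (l + 1)) - 1) := by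
      rw [Nat.mul_sub, mul_one, ← pow_add]
      congr 2
      omega
    have e3 : (k + 1) * (k + 1 + 1) / 2 = k * (k + 1) / 2 + (k + 1) := by
      have : (k + 1) * (k + 1 + 1) = k * (k + 1) + (k + 1) * 2 := by ring
      rw [this, Nat.add_mul_div_right _ _ (by norm_num : 0 < 2)]
    rw [e2, e3]
    have e4 : q ^ (k * (k + 1) / 2 + (k + 1) + 2 * (k + 1) * l) * (q ^ (l ^ 2)) * q ^ k
        = q ^ (k * (k + 1) / 2 + 2 * k * (l + 1)) * q ^ ((l + 1) ^ 2) := by
      rw [← pow_add, ← pow_add, ← pow_add]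
      congr 1
      ring
    calc q ^ (k * (k + 1) / 2 + (k + 1) + 2 * (k + 1) * l) *
          (q ^ (l ^ 2) * ∏ i ∈ Finset.range l, (q ^ (2 * (i + 1)) - 1)) *
          ((∏ j : Fin k, (q ^ (2 * (k + 1 + l) - (j : ℕ)) - q ^ (j : ℕ))) *
            (q ^ k * (q ^ (2 * (l + 1)) - 1)))
        = (q ^ (k * (k + 1) / 2 + (k + 1) + 2 * (k + 1) * l) * (q ^ (l ^ 2)) * q ^ k) *
          ((∏ i ∈ Finset.range l, (q ^ (2 * (i + 1)) - 1)) * (q ^ (2 * (l + 1)) - 1)) *
          (∏ j : Fin k, (q ^ (2 * (k + 1 + l) - (j : ℕ)) - q ^ (j : ℕ))) := by ring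
      _ = _ := by rw [e4]; ring

end Cfsg.Agent.Lib.Helper13
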