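import Mathlib
import Cfsg.Prelude.Def_ClassicalGeometry
import Cfsg.Prelude.Def_LieClassical
import Cfsg.Agent.S0837
import Cfsg.Agent.S0781
import Cfsg.Agent.Lib.Helper13.HermWitt
import Cfsg.Agent.Lib.Helper13.Stab
import Cfsg.Agent.Lib.Helper13.StabFin
import Cfsg.Agent.Lib.Helper13.SpParabolic
import Cfsg.Agent.Lib.Helper37.UnitaryLines
import Cfsg.Agent.Lib.Helper37.UnitaryGen
import Cfsg.Agent.Lib.Helper5.UnitarySU

set_option autoImplicit false
set_option linter.unusedSimpArgs false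
set_option linter.unnecessarySeqFocus false
set_option linter.unusedSectionVars false

/-!
Counting linearly independent totally isotropic tuples in the standard unitary space and the
order of the stabiliser of a totally isotropic subspace in `GU_n(q)` and `SU_n(q)`
(helper13's library).
-/

namespace Cfsg.Agent.Lib.Helper13

open Matrix Module Cfsg.Agent.S0837 Cfsg.Agent.S0781 Cfsg.Agent.Lib.Helper37

section Perp

variable {F : Type*} [Field F] (σ : F →+* F) {n : ℕ}

/-- The map `v ↦ (h(v, t i))_i`. -/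
noncomputable def hPhi {k : ℕ} (t : Fin k → (Fin n → F)) : (Fin n → F) →ₗ[F] (Fin k → F) :=
  LinearMap.pi fun i => BV σ n (t i)

theorem hPhi_apply {k : ℕ} (t : Fin k → (Fin n → F)) (v : Fin n → F) (i : Fin k) :
    hPhi σ t v i = hf σ v (t i) := rfl

theorem hf_span_right {k : ℕ} (t : Fin k → (Fin n → F)) (v : Fin n → F)
    (h : ∀ i, hf σ v (t i) = 0) : ∀ w ∈ Submodule.span F (Set.range t), hf σ v w = 0 := by
  intro w hw
  induction hw using Submodule.span_induction with
  | mem x hx =>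
    obtain ⟨i, rfl⟩ := hx
    exact h i
  | zero => exact hf_zero_right σ v
  | add x y _ _ hx hy => rw [hf_add_right, hx, hy, add_zero]
  | smul a x _ hx => rw [hf_smul_right, hx, mul_zero]

theorem ker_hPhi {k : ℕ} (t : Fin k → (Fin n → F)) :
    LinearMap.ker (hPhi σ t) = perp σ (Submodule.span F (Set.range t)) := by
  ext v
  rw [LinearMap.mem_ker, mem_perp]
  constructor
  · intro h
    apply hf_span_right
    intro i
    have := congrFun h i
    rwa [hPhi_apply] at this
  · intro h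
    funext i
    rw [hPhi_apply]
    exact h _ (Submodule.subset_span ⟨i, rfl⟩)

theorem hf_left_eq_zero (hσ2 : ∀ a, σ (σ a) = a) (w : Fin n → F)
    (h : ∀ v, hf σ v w = 0) : w = 0 := by
  funext j
  have := h (Pi.single j 1)
  rw [hf_single_left] at this
  have h2 := congrArg σ this
  rwa [hσ2, map_zero] at h2

theorem range_hPhi (hσ2 : ∀ a, σ (σ a) = a) {k : ℕ} (t : Fin k → (Fin n → F))
    (ht : LinearIndependent F t) : LinearMap.range (hPhi σ t) = ⊤ := by
  by_contra hne
  have hlt : LinearMap.range (hPhi σ t) < ⊤ := lt_top_iff_ne_top.mpr hne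
  obtain ⟨f, hf0, hfr⟩ := Submodule.exists_dual_map_eq_bot_of_lt_top hlt inferInstance
  apply hf0
  have hfz : ∀ v, f (hPhi σ t v) = 0 := by
    intro v
    have : f (hPhi σ t v) ∈ (LinearMap.range (hPhi σ t)).map f := ⟨_, ⟨v, rfl⟩, rfl⟩
    rw [hfr] at this
    exact (Submodule.mem_bot F).mp this
  have hsum : ∀ v, ∑ i, hf σ v (t i) * f (Pi.single i 1) = 0 := by
    intro v
    have := hfz v
    rw [LinearMap.pi_apply_eq_sum_univ] at this
    simp only [hPhi_apply, smul_eq_mul] at this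
    rw [← this]
    refine Finset.sum_congr rfl fun i _ => ?_
    congr 2
    funext j
    rw [Pi.single_apply]
    simp only [eq_comm]
  have hw : ∑ i, σ (f (Pi.single i 1)) • t i = 0 := by
    apply hf_left_eq_zero σ hσ2
    intro v
    have h1 : ∀ (s : Finset (Fin k)), hf σ v (∑ i ∈ s, σ (f (Pi.single i 1)) • t i) =
        ∑ i ∈ s, hf σ v (t i) * f (Pi.single i 1) := by
      intro s
      induction s using Finset.induction_on with
      | empty => simp [hf_zero_right]
      | insert a s ha ih =>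
        rw [Finset.sum_insert ha, Finset.sum_insert ha, hf_add_right, ih, hf_smul_right, hσ2,
          mul_comm]
    rw [h1, hsum]
  have hc := (Fintype.linearIndependent_iff.mp ht) _ hw
  apply LinearMap.ext
  intro x
  rw [LinearMap.pi_apply_eq_sum_univ, LinearMap.zero_apply]
  apply Finset.sum_eq_zero
  intro i _
  have h1 : f (Pi.single i 1) = 0 := by
    have := congrArg σ (hc i)
    rwa [hσ2, map_zero] at this
  have h2 : (fun j => if i = j then (1 : F) else 0) = Pi.single i 1 := by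
    funext j
    rw [Pi.single_apply]
    simp only [eq_comm]
  rw [h2, h1, smul_zero]

theorem finrank_perp_span (hσ2 : ∀ a, σ (σ a) = a) {k : ℕ} (t : Fin k → (Fin n → F))
    (ht : LinearIndependent F t) :
    finrank F (perp σ (Submodule.span F (Set.range t))) + k = n := by
  have h := LinearMap.finrank_range_add_finrank_ker (hPhi σ t)
  rw [range_hPhi σ hσ2 t ht, finrank_top, ker_hPhi] at h
  simp only [finrank_fintype_fun_eq_card, Fintype.card_fin] at h
  omega

theorem finrank_perp (hσ2 : ∀ a, σ (σ a) = a) (W : Submodule F (Fin n → F)) :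
    finrank F (perp σ W) + finrank F W = n := by
  obtain ⟨b, -⟩ : ∃ b : Basis (Fin (finrank F W)) F W, b = finBasis F W := ⟨_, rfl⟩
  have hli : LinearIndependent F (fun i => (b i : Fin n → F)) :=
    b.linearIndependent.map' W.subtype (Submodule.ker_subtype W)
  have hspan : Submodule.span F (Set.range fun i => (b i : Fin n → F)) = W := by
    apply Submodule.eq_of_le_of_finrank_eq
    · rw [Submodule.span_le]
      rintro _ ⟨i, rfl⟩
      exact (b i).2
    · rw [finrank_span_eq_card hli, Fintype.card_fin]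
  have := finrank_perp_span σ hσ2 _ hli
  rwa [hspan] at this

end Perp

section Tuples

variable {F : Type*} [Field F] (σ : F →+* F) {n : ℕ}

/-- Linearly independent totally isotropic `k`-tuples of the unitary space. -/
def hIsoTuples (n k : ℕ) : Set (Fin k → (Fin n → F)) :=
  {t | LinearIndependent F t ∧ ∀ i j, hf σ (t i) (t j) = 0}

/-- The fibre over a tuple: isotropic vectors orthogonal to, and outside, its span. -/
def hIsoFibre {k : ℕ} (t : Fin k → (Fin n → F)) : Set (Fin n → F) :=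
  {v | hf σ v v = 0 ∧ (∀ i, hf σ v (t i) = 0) ∧ v ∉ Submodule.span F (Set.range t)}

/-- Splitting off the first vector of an isotropic tuple. -/
noncomputable def hIsoTuplesEquiv (hσ2 : ∀ a, σ (σ a) = a) (n k : ℕ) :
    ↥(hIsoTuples σ n (k + 1)) ≃
      Σ t : ↥(hIsoTuples σ n k), ↥(hIsoFibre σ (t.1 : Fin k → (Fin n → F))) where
  toFun s := ⟨⟨Fin.tail s.1, (linearIndependent_finSucc.mp s.2.1).1,
      fun i j => s.2.2 i.succ j.succ⟩,
    ⟨s.1 0, s.2.2 0 0, fun i => s.2.2 0 i.succ, (linearIndependent_finSucc.mp s.2.1).2⟩⟩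
  invFun p := ⟨Fin.cons p.2.1 p.1.1, linearIndependent_finCons.mpr ⟨p.1.2.1, p.2.2.2.2⟩, by
    intro i j
    refine Fin.cases ?_ (fun i' => ?_) i <;> refine Fin.cases ?_ (fun j' => ?_) j
    · rw [Fin.cons_zero]; exact p.2.2.1
    · rw [Fin.cons_zero, Fin.cons_succ]; exact p.2.2.2.1 j'
    · rw [Fin.cons_zero, Fin.cons_succ, hf_symm σ hσ2, p.2.2.2.1 i', map_zero]
    · rw [Fin.cons_succ, Fin.cons_succ]; exact p.1.2.2 i' j'⟩
  left_inv s := by
    apply Subtype.ext
    exact Fin.cons_self_tail s.1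
  right_inv p := by
    obtain ⟨⟨t, ht⟩, ⟨v, hv⟩⟩ := p
    rfl

theorem hf_frame {m : ℕ} (E : Matrix (Fin n) (Fin m) F) (hE : hs σ E * E = 1)
    (x y : Fin m → F) : hf σ (E *ᵥ x) (E *ᵥ y) = hf σ x y := by
  rw [hf_adjoint, mulVec_mulVec, hE, one_mulVec]

variable [Fintype F]

/-- The number of ways to extend an isotropic tuple. -/
theorem card_hIsoFibre {q : ℕ} (hF : Fintype.card F = q ^ 2) (hσ : ∀ x, σ x = x ^ q)
    (hσ2 : ∀ a, σ (σ a) = a) {k : ℕ} (t : Fin k → (Fin n → F))
    (ht : t ∈ hIsoTuples σ n k) :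
    Nat.card ↥(hIsoFibre σ t) =
      (q ^ 2) ^ k * (Cfsg.Agent.Lib.Helper5.hermCount F q (n - 2 * k) 0 - 1) := by
  classical
  have hne : σ ≠ RingHom.id F := frob_ne_id σ hF hσ
  obtain ⟨S, hS⟩ : ∃ S : Submodule F (Fin n → F),
      S = Submodule.span F (Set.range t) := ⟨_, rfl⟩
  have hSfr : finrank F S = k := by
    rw [hS, finrank_span_eq_card ht.1, Fintype.card_fin]
  have htS : ∀ i, t i ∈ S := fun i => by rw [hS]; exact Submodule.subset_span ⟨i, rfl⟩
  -- S is totally isotropic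
  have hSt : ∀ u ∈ S, ∀ i, hf σ u (t i) = 0 := by
    intro u hu i
    rw [hS] at hu
    induction hu using Submodule.span_induction with
    | mem x hx =>
      obtain ⟨j, rfl⟩ := hx
      exact ht.2 j i
    | zero => exact hf_zero_left σ _
    | add x y _ _ hx hy => rw [hf_add_left, hx, hy, add_zero]
    | smul a x _ hx => rw [hf_smul_left, hx, mul_zero]
  have hSS : ∀ u ∈ S, ∀ w ∈ S, hf σ u w = 0 := by
    intro u hu w hw
    rw [hS] at hw
    exact hf_span_right σ t u (hSt u hu) w hw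
  obtain ⟨P, hP⟩ : ∃ P : Submodule F (Fin n → F), P = perp σ S := ⟨_, rfl⟩
  have hPfr : finrank F P + k = n := by
    rw [hP, ← hSfr]
    exact finrank_perp σ hσ2 S
  have hmemP : ∀ v, v ∈ P ↔ ∀ i, hf σ v (t i) = 0 := by
    intro v
    rw [hP, mem_perp]
    constructor
    · intro h i
      exact h _ (htS i)
    · intro h w hw
      rw [hS] at hw
      exact hf_span_right σ t v h w hw
  have hSP : S ≤ P := by
    intro u hu
    rw [hmemP]
    exact hSt u hu
  -- a complement of S in P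
  obtain ⟨N', hN'⟩ := Submodule.exists_isCompl (Submodule.comap P.subtype S)
  obtain ⟨N, hN⟩ : ∃ N : Submodule F (Fin n → F), N = N'.map P.subtype := ⟨_, rfl⟩
  have hNP : N ≤ P := by
    rw [hN]
    rintro _ ⟨x, -, rfl⟩
    exact x.2
  have hSN : ∀ v, v ∈ S → v ∈ N → v = 0 := by
    intro v hvS hvN
    rw [hN] at hvN
    obtain ⟨x, hx, rfl⟩ := hvN
    have h1 : x ∈ Submodule.comap P.subtype S := hvS
    have h2 : x ∈ Submodule.comap P.subtype S ⊓ N' := ⟨h1, hx⟩
    rw [hN'.inf_eq_bot] at h2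
    rw [(Submodule.mem_bot F).mp h2]
    rfl
  have hdecomp : ∀ v ∈ P, ∃ u ∈ S, ∃ w ∈ N, v = u + w := by
    intro v hv
    have h1 : (⟨v, hv⟩ : ↥P) ∈ Submodule.comap P.subtype S ⊔ N' := by
      rw [hN'.sup_eq_top]; exact Submodule.mem_top
    obtain ⟨a, ha, b, hb, hab⟩ := Submodule.mem_sup.mp h1
    refine ⟨a.1, ha, b.1, ?_, ?_⟩
    · rw [hN]; exact ⟨b, hb, rfl⟩
    · have := congrArg Subtype.val hab
      exact this.symm
  have hNfr : finrank F N + 2 * k = n := by
    have h1 : finrank F N = finrank F N' := by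
      rw [hN]
      exact LinearEquiv.finrank_eq (Submodule.equivMapOfInjective P.subtype
        (Submodule.injective_subtype P) N').symm
    have h2 := Submodule.finrank_add_eq_of_isCompl hN'
    have h3 : finrank F (Submodule.comap P.subtype S) = finrank F S :=
      LinearEquiv.finrank_eq (Submodule.comapSubtypeEquivOfLe hSP)
    omega
  -- N is non-degenerate
  have hperpP : perp σ P = S := by
    symm
    apply Submodule.eq_of_le_of_finrank_eq
    · intro u hu
      rw [mem_perp]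
      intro v hv
      rw [hf_symm σ hσ2, (hP ▸ hv : v ∈ perp σ S) u hu, map_zero]
    · have := finrank_perp σ hσ2 P
      omega
  have hNnd : ∀ u ∈ N, (∀ v ∈ N, hf σ u v = 0) → u = 0 := by
    intro u hu h
    apply hSN u _ hu
    rw [← hperpP, mem_perp]
    intro v hv
    obtain ⟨a, ha, b, hb, rfl⟩ := hdecomp v hv
    rw [hf_add_right, h b hb, add_zero]
    have huP : u ∈ perp σ S := hP ▸ hNP hu
    exact huP a ha
  obtain ⟨E, hEE, hEN, hNE⟩ := exists_frame σ hne hσ2 N hNnd
  have hEinj : ∀ x, E *ᵥ x = 0 → x = 0 := by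
    intro x hx
    have := congrArg (fun y => hs σ E *ᵥ y) hx
    simp only [mulVec_mulVec, hEE, one_mulVec, mulVec_zero] at this
    exact this
  -- the bijection
  have hmain : Nat.card ↥(hIsoFibre σ t) = Nat.card (↥S × Iso σ (finrank F N)) := by
    symm
    apply Nat.card_congr
    refine Equiv.ofBijective (fun p => ⟨(p.1 : Fin n → F) + E *ᵥ p.2.1, ?_, ?_, ?_⟩) ⟨?_, ?_⟩
    · have h1 : hf σ (p.1 : Fin n → F) (E *ᵥ p.2.1) = 0 := by
        have : E *ᵥ p.2.1 ∈ perp σ S := hP ▸ hNP (hEN _)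
        rw [hf_symm σ hσ2, this _ p.1.2, map_zero]
      have h2 : hf σ (E *ᵥ p.2.1) (p.1 : Fin n → F) = 0 := by
        have : E *ᵥ p.2.1 ∈ perp σ S := hP ▸ hNP (hEN _)
        exact this _ p.1.2
      rw [hf_add_left, hf_add_right, hf_add_right, hSS _ p.1.2 _ p.1.2, h1, h2,
        hf_frame σ E hEE, p.2.2.2]
      ring
    · intro i
      rw [hf_add_left, hSt _ p.1.2 i, (hmemP _).mp (hNP (hEN _)) i, add_zero]
    · intro hmem
      rw [← hS] at hmem
      have h1 : E *ᵥ p.2.1 ∈ S := by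
        have := S.sub_mem hmem p.1.2
        rwa [add_sub_cancel_left] at this
      exact p.2.2.1 (hEinj _ (hSN _ h1 (hEN _)))
    · intro p p' hpp'
      have h0 : (p.1 : Fin n → F) + E *ᵥ p.2.1 = (p'.1 : Fin n → F) + E *ᵥ p'.2.1 :=
        congrArg Subtype.val hpp'
      have h1 : (p.1 : Fin n → F) - p'.1 = E *ᵥ (p'.2.1 - p.2.1) := by
        rw [mulVec_sub]
        linear_combination (exp := 1) h0
      have h2 : (p.1 : Fin n → F) - p'.1 = 0 :=
        hSN _ (S.sub_mem p.1.2 p'.1.2) (h1 ▸ hEN _)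
      have h3 : p'.2.1 - p.2.1 = 0 := hEinj _ (by rw [← h1, h2])
      apply Prod.ext
      · exact Subtype.ext (sub_eq_zero.mp h2)
      · exact Subtype.ext (sub_eq_zero.mp h3).symm
    · rintro ⟨v, hv1, hv2, hv3⟩
      obtain ⟨a, ha, b, hb, rfl⟩ := hdecomp v ((hmemP v).mpr hv2)
      obtain ⟨x, rfl⟩ := hNE b hb
      have hx0 : x ≠ 0 := by
        rintro rfl
        apply hv3
        rw [mulVec_zero, add_zero, ← hS]
        exact ha
      have hxx : hf σ x x = 0 := by
        have h1 : hf σ a (E *ᵥ x) = 0 := by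
          have : E *ᵥ x ∈ perp σ S := hP ▸ hNP (hEN _)
          rw [hf_symm σ hσ2, this _ ha, map_zero]
        have h2 : hf σ (E *ᵥ x) a = 0 := by
          have : E *ᵥ x ∈ perp σ S := hP ▸ hNP (hEN _)
          exact this _ ha
        rw [hf_add_left, hf_add_right, hf_add_right, hSS _ ha _ ha, h1, h2,
          hf_frame σ E hEE] at hv1
        linear_combination hv1
      exact ⟨(⟨a, ha⟩, ⟨x, hx0, hxx⟩), rfl⟩
  rw [hmain, Nat.card_prod, card_iso σ hσ, Module.natCard_eq_pow_finrank (K := F) (V := ↥S),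
    hSfr, Nat.card_eq_fintype_card, hF]
  congr 3
  omega

/-- The number of linearly independent totally isotropic `k`-tuples. -/
theorem card_hIsoTuples {q : ℕ} (hF : Fintype.card F = q ^ 2) (hσ : ∀ x, σ x = x ^ q)
    (hσ2 : ∀ a, σ (σ a) = a) (k : ℕ) :
    Nat.card ↥(hIsoTuples σ n k) = ∏ j : Fin k,
      ((q ^ 2) ^ (j : ℕ) * (Cfsg.Agent.Lib.Helper5.hermCount F q (n - 2 * (j : ℕ)) 0 - 1)) := by
  classical
  induction k with
  | zero =>
    rw [Finset.univ_eq_empty, Finset.prod_empty]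
    have : Unique ↥(hIsoTuples σ n 0) :=
      { default := ⟨Fin.elim0, linearIndependent_empty_type, fun i => i.elim0⟩
        uniq := fun a => Subtype.ext (funext fun i => i.elim0) }
    exact Nat.card_unique
  | succ k ih =>
    rw [Nat.card_congr (hIsoTuplesEquiv σ hσ2 n k), Nat.card_sigma, Fin.prod_univ_castSucc]
    have hfib : ∀ t : ↥(hIsoTuples σ n k), Nat.card ↥(hIsoFibre σ (t.1 : Fin k → _)) =
        (q ^ 2) ^ k * (Cfsg.Agent.Lib.Helper5.hermCount F q (n - 2 * k) 0 - 1) :=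
      fun t => card_hIsoFibre σ hF hσ hσ2 t.1 t.2
    simp only [hfib, Finset.sum_const, Finset.card_univ, smul_eq_mul, Fin.val_castSucc,
      Fin.val_last]
    rw [← Nat.card_eq_fintype_card, ih]

end Tuples

section Orbit

variable {F : Type*} [Field F] {n : ℕ} {q : ℕ}

/-- The matrix of an element of `GU_n(q)`. -/
def guToMat (n : ℕ) (F : Type*) [Field F] (q : ℕ) :
    ↥(Cfsg.GU n F q) →* Matrix (Fin n) (Fin n) F :=
  (Units.coeHom (Matrix (Fin n) (Fin n) F)).comp (Cfsg.GU n F q).subtype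

theorem guToMat_apply (g : ↥(Cfsg.GU n F q)) : guToMat n F q g = g.1.1 := rfl

theorem gu_inv_mulVec (g : ↥(Cfsg.GU n F q)) (v : Fin n → F) :
    (g⁻¹).1.1 *ᵥ (g.1.1 *ᵥ v) = v :=
  toMat_inv_mulVec_toMat_mulVec (guToMat n F q) g v

theorem gu_mulVec_inv (g : ↥(Cfsg.GU n F q)) (v : Fin n → F) :
    g.1.1 *ᵥ ((g⁻¹).1.1 *ᵥ v) = v :=
  toMat_mulVec_toMat_inv_mulVec (guToMat n F q) g v

theorem gu_mul_mulVec (a b : ↥(Cfsg.GU n F q)) (v : Fin n → F) :
    (a * b).1.1 *ᵥ v = a.1.1 *ᵥ (b.1.1 *ᵥ v) := by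
  change (a.1.1 * b.1.1) *ᵥ v = _
  rw [← Matrix.mulVec_mulVec]

/-- The pointwise stabiliser of a tuple of vectors in `GU_n(q)`. -/
def guFixTuple {k : ℕ} (w : Fin k → (Fin n → F)) : Subgroup ↥(Cfsg.GU n F q) where
  carrier := {g | ∀ i, g.1.1 *ᵥ w i = w i}
  mul_mem' := by
    intro a b ha hb i
    rw [gu_mul_mulVec, hb i, ha i]
  one_mem' := by
    intro i
    change (1 : Matrix (Fin n) (Fin n) F) *ᵥ w i = w i
    rw [Matrix.one_mulVec]
  inv_mem' := by
    intro a ha i
    have h1 := gu_inv_mulVec a (w i)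
    rw [ha i] at h1
    exact h1

theorem mem_guFixTuple {k : ℕ} (w : Fin k → (Fin n → F)) (g : ↥(Cfsg.GU n F q)) :
    g ∈ guFixTuple w ↔ ∀ i, g.1.1 *ᵥ w i = w i := Iff.rfl

/-- The action of `GU_n(q)` on tuples. -/
def guTupleMap {k : ℕ} (w : Fin k → (Fin n → F)) (g : ↥(Cfsg.GU n F q)) :
    Fin k → (Fin n → F) :=
  fun i => g.1.1 *ᵥ w i

theorem guTupleMap_apply {k : ℕ} (w : Fin k → (Fin n → F)) (g : ↥(Cfsg.GU n F q)) (i : Fin k) :
    guTupleMap w g i = g.1.1 *ᵥ w i := rfl

theorem guTupleMap_eq_iff {k : ℕ} (w : Fin k → (Fin n → F)) (a b : ↥(Cfsg.GU n F q)) :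
    guTupleMap w a = guTupleMap w b ↔ a⁻¹ * b ∈ guFixTuple w := by
  rw [mem_guFixTuple]
  constructor
  · intro h i
    have hi := congrFun h i
    rw [guTupleMap_apply, guTupleMap_apply] at hi
    rw [gu_mul_mulVec, ← hi]
    exact gu_inv_mulVec a (w i)
  · intro h
    funext i
    have hi := h i
    rw [gu_mul_mulVec] at hi
    rw [guTupleMap_apply, guTupleMap_apply]
    have h2 := gu_mulVec_inv a (b.1.1 *ᵥ w i)
    rw [hi] at h2
    exact h2

theorem linearIndependent_guTupleMap {k : ℕ} (w : Fin k → (Fin n → F))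
    (hw : LinearIndependent F w) (g : ↥(Cfsg.GU n F q)) :
    LinearIndependent F (guTupleMap w g) := by
  have hker : LinearMap.ker (Matrix.mulVecLin g.1.1) = ⊥ := by
    rw [LinearMap.ker_eq_bot']
    intro v hv
    rw [Matrix.mulVecLin_apply] at hv
    have h1 := gu_inv_mulVec g v
    rw [hv, Matrix.mulVec_zero] at h1
    exact h1.symm
  have h := hw.map' (Matrix.mulVecLin g.1.1) hker
  have e : guTupleMap w g = ⇑(Matrix.mulVecLin g.1.1) ∘ w := by
    funext i
    rw [guTupleMap_apply, Function.comp_apply, Matrix.mulVecLin_apply]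
  rw [e]
  exact h

variable [Fintype F] (σ : F →+* F)

theorem gu_hf (hσ : ∀ x, σ x = x ^ q) (g : ↥(Cfsg.GU n F q)) (u v : Fin n → F) :
    hf σ (g.1.1 *ᵥ u) (g.1.1 *ᵥ v) = hf σ u v := by
  rw [← hermForm_eq_hf σ hσ, ← hermForm_eq_hf σ hσ]
  exact g.2 u v

/-- The orbit of an isotropic tuple is the set of all isotropic tuples (Witt). -/
theorem range_guTupleMap (hF : Fintype.card F = q ^ 2) (hσ : ∀ x, σ x = x ^ q)
    (hσ2 : ∀ a, σ (σ a) = a) {k : ℕ} (w : Fin k → (Fin n → F))
    (hw : w ∈ hIsoTuples σ n k) :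
    Set.range (guTupleMap (q := q) w) = hIsoTuples σ n k := by
  have hne : σ ≠ RingHom.id F := frob_ne_id σ hF hσ
  ext t
  constructor
  · rintro ⟨g, rfl⟩
    refine ⟨linearIndependent_guTupleMap w hw.1 g, ?_⟩
    intro i j
    rw [guTupleMap_apply, guTupleMap_apply, gu_hf σ hσ]
    exact hw.2 i j
  · intro ht
    obtain ⟨T, hT, hTw⟩ := witt_families_herm σ hne hσ2 (BV σ n) (BV_symm σ hσ2 n)
      (BV_nondeg σ hσ2 n) k w t hw.1 ht.1 (by
        intro i j
        rw [BV_apply, BV_apply, hw.2 j i, ht.2 j i])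
    have hpres : ∀ u v, Cfsg.hermForm n F q (LinearMap.toMatrix' (T : (Fin n → F) →ₗ[F] _) *ᵥ u)
        (LinearMap.toMatrix' (T : (Fin n → F) →ₗ[F] _) *ᵥ v) = Cfsg.hermForm n F q u v := by
      intro u v
      rw [LinearMap.toMatrix'_mulVec, LinearMap.toMatrix'_mulVec, hermForm_eq_hf σ hσ,
        hermForm_eq_hf σ hσ]
      have := hT v u
      rw [BV_apply, BV_apply] at this
      exact this
    refine ⟨Cfsg.Agent.Lib.Helper5.GUofPreserves hF _ hpres, ?_⟩
    funext i
    rw [guTupleMap_apply, Cfsg.Agent.Lib.Helper5.GUofPreserves_coe, LinearMap.toMatrix'_mulVec]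
    exact hTw i

end Orbit

section Parabolic

variable {F : Type*} [Field F] [Fintype F] {n : ℕ} {q : ℕ} (σ : F →+* F)

/-- Linearly independent `k`-tuples of vectors of `W`. -/
def hBasesIn (k : ℕ) (W : Submodule F (Fin n → F)) : Set (Fin k → (Fin n → F)) :=
  {t | LinearIndependent F t ∧ ∀ i, t i ∈ W}

theorem card_hBasesIn (k : ℕ) (W : Submodule F (Fin n → F)) (hWk : Module.finrank F W = k) :
    Nat.card ↥(hBasesIn k W) = ∏ i : Fin k, (Fintype.card F ^ k - Fintype.card F ^ (i : ℕ)) := by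
  have h1 := card_linearIndependent (K := F) (V := ↥W) (k := k) (le_of_eq hWk.symm)
  rw [hWk] at h1
  rw [← h1]
  apply Nat.card_congr
  refine
    { toFun := fun t => ⟨fun i => ⟨t.1 i, t.2.2 i⟩, ?_⟩
      invFun := fun s => ⟨fun i => (s.1 i : Fin n → F), ?_, fun i => (s.1 i).2⟩
      left_inv := fun t => rfl
      right_inv := fun s => rfl }
  · have h := t.2.1
    have e : t.1 = ⇑W.subtype ∘ (fun i => (⟨t.1 i, t.2.2 i⟩ : ↥W)) := rfl
    rw [e] at h
    exact LinearIndependent.of_comp _ h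
  · exact s.2.map' W.subtype (Submodule.ker_subtype W)

/-- The stabiliser of a subspace in `GU_n(q)`. -/
def guStab (q : ℕ) (W : Submodule F (Fin n → F)) : Subgroup ↥(Cfsg.GU n F q) :=
  Cfsg.stabilizing (guToMat n F q) (W : Set (Fin n → F))

/-- The orbit–stabiliser computation for the stabiliser of a totally isotropic subspace. -/
theorem card_guStab_mul (hF : Fintype.card F = q ^ 2) (hσ : ∀ x, σ x = x ^ q)
    (hσ2 : ∀ a, σ (σ a) = a) (k : ℕ) (W : Submodule F (Fin n → F))
    (hWk : Module.finrank F W = k) (hW : ∀ u ∈ W, ∀ v ∈ W, hf σ u v = 0) :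
    Nat.card ↥(guStab q W) * Nat.card ↥(hIsoTuples σ n k)
      = Nat.card ↥(hBasesIn k W) * Nat.card ↥(Cfsg.GU n F q) := by
  classical
  -- a basis of `W`
  obtain ⟨b, -⟩ : ∃ b : Module.Basis (Fin (Module.finrank F W)) F W,
      b = Module.finBasis F W := ⟨_, rfl⟩
  obtain ⟨w, hwdef⟩ : ∃ w : Fin k → (Fin n → F),
      w = fun i => (b (Fin.cast hWk.symm i) : Fin n → F) := ⟨_, rfl⟩
  have hwW : ∀ i, w i ∈ W := by
    intro i
    rw [hwdef]
    exact (b _).2
  have hwli : LinearIndependent F w := by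
    have h1 : LinearIndependent F (fun i : Fin k => b (Fin.cast hWk.symm i)) :=
      b.linearIndependent.comp _ (Fin.cast_injective _)
    have h3 := h1.map' W.subtype (Submodule.ker_subtype W)
    rw [hwdef]
    exact h3
  have hwspan : Submodule.span F (Set.range w) = W := by
    apply Submodule.eq_of_le_of_finrank_eq
    · rw [Submodule.span_le]
      rintro _ ⟨i, rfl⟩
      exact hwW i
    · rw [finrank_span_eq_card hwli, Fintype.card_fin, hWk]
  have hwiso : w ∈ hIsoTuples σ n k := ⟨hwli, fun i j => hW _ (hwW i) _ (hwW j)⟩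
  -- elements mapping the basis into `W` stabilise `W`
  have hstab : ∀ g : ↥(Cfsg.GU n F q), (∀ i, g.1.1 *ᵥ w i ∈ W) → g ∈ guStab q W := by
    intro g hg
    apply mem_stabilizing_of_finite (guToMat n F q) _ (Set.toFinite _)
    intro v hv
    change g.1.1 *ᵥ v ∈ W
    have hv' : v ∈ Submodule.span F (Set.range w) := by rw [hwspan]; exact hv
    clear hv
    induction hv' using Submodule.span_induction with
    | mem x hx =>
      obtain ⟨i, rfl⟩ := hx
      exact hg i
    | zero =>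
      rw [Matrix.mulVec_zero]
      exact W.zero_mem
    | add x y _ _ hx hy =>
      rw [Matrix.mulVec_add]
      exact W.add_mem hx hy
    | smul a x _ hx =>
      rw [Matrix.mulVec_smul]
      exact W.smul_mem a hx
  -- orbit–stabiliser in the whole group
  have h1 := card_eq_card_range_mul (guFixTuple (q := q) w) (guTupleMap w) (guTupleMap_eq_iff w)
  rw [range_guTupleMap σ hF hσ hσ2 w hwiso] at h1
  -- orbit–stabiliser in the stabiliser of `W`
  obtain ⟨K, hK⟩ : ∃ K : Subgroup ↥(Cfsg.GU n F q), K = guStab q W := ⟨_, rfl⟩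
  have hfixK : guFixTuple w ≤ K := by
    intro g hg
    rw [hK]
    apply hstab
    intro i
    rw [(mem_guFixTuple w g).mp hg i]
    exact hwW i
  have h2 := card_eq_card_range_mul ((guFixTuple w).subgroupOf K)
    (fun g : ↥K => guTupleMap w g.1)
    (by
      intro a b
      rw [Subgroup.mem_subgroupOf]
      exact guTupleMap_eq_iff w a.1 b.1)
  have hrange : Set.range (fun g : ↥K => guTupleMap w g.1) = hBasesIn k W := by
    ext t
    constructor
    · rintro ⟨g, rfl⟩
      refine ⟨linearIndependent_guTupleMap w hwli g.1, ?_⟩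
      intro i
      have hg : g.1 ∈ Cfsg.stabilizing (guToMat n F q) (W : Set (Fin n → F)) := by
        have h3 : g.1 ∈ K := g.2
        have h4 : g.1 ∈ guStab q W := hK ▸ h3
        exact h4
      rw [mem_stabilizing_iff] at hg
      exact (hg (w i)).mp (hwW i)
    · intro ht
      have htiso : t ∈ hIsoTuples σ n k := ⟨ht.1, fun i j => hW _ (ht.2 i) _ (ht.2 j)⟩
      rw [← range_guTupleMap σ hF hσ hσ2 w hwiso] at htiso
      obtain ⟨g, rfl⟩ := htiso
      have hgK : g ∈ K := by
        rw [hK]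
        exact hstab g (fun i => ht.2 i)
      exact ⟨⟨g, hgK⟩, rfl⟩
  rw [hrange, Nat.card_congr (Subgroup.subgroupOfEquivOfLe hfixK).toEquiv] at h2
  rw [← hK, h2, h1]
  ring

end Parabolic

section HypDil

variable {F : Type*} [Field F] (σ : F →+* F) {n : ℕ}

theorem vecMulVec_hf (u u' x : Fin n → F) :
    vecMulVec u (σ ∘ u') *ᵥ x = hf σ x u' • u := by
  funext i
  rw [Matrix.mulVec, Pi.smul_apply, smul_eq_mul]
  unfold hf dotProduct
  rw [Finset.sum_mul]
  refine Finset.sum_congr rfl fun j _ => ?_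
  show vecMulVec u (σ ∘ u') i j * x j = _
  rw [Matrix.vecMulVec_apply, Function.comp_apply]
  ring

/-- The dilation of a hyperbolic pair: `u ↦ a u`, `u' ↦ b u'`, identity on the orthogonal
complement. -/
def hypDil (u u' : Fin n → F) (a b : F) : Matrix (Fin n) (Fin n) F :=
  (1 + vecMulVec ((a - 1) • u) (σ ∘ u')) * (1 + vecMulVec ((b - 1) • u') (σ ∘ u))

theorem hypDil_mulVec {u u' : Fin n → F} (h : HP σ u u') (a b : F) (x : Fin n → F) :
    hypDil σ u u' a b *ᵥ x = x + ((b - 1) * hf σ x u) • u' + ((a - 1) * hf σ x u') • u := by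
  unfold hypDil
  rw [← Matrix.mulVec_mulVec, Matrix.add_mulVec, Matrix.one_mulVec, vecMulVec_hf,
    Matrix.add_mulVec, Matrix.one_mulVec, vecMulVec_hf, hf_add_left, hf_smul_left, hf_smul_left,
    h.vv, smul_smul, smul_smul]
  simp only [mul_zero, add_zero]
  rw [mul_comm (hf σ x u) (b - 1), mul_comm (hf σ x u') (a - 1)]

theorem hypDil_det (hσ2 : ∀ a, σ (σ a) = a) {u u' : Fin n → F} (h : HP σ u u') (a b : F) :
    (hypDil σ u u' a b).det = a * b := by
  unfold hypDil
  rw [det_mul, vecMulVec_eq Unit, det_one_add_replicateCol_mul_replicateRow,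
    vecMulVec_eq Unit, det_one_add_replicateCol_mul_replicateRow]
  have h1 : (σ ∘ u') ⬝ᵥ ((a - 1) • u) = (a - 1) * hf σ u u' := by
    unfold hf dotProduct
    rw [Finset.mul_sum]
    refine Finset.sum_congr rfl fun i _ => ?_
    simp only [Function.comp_apply, Pi.smul_apply, smul_eq_mul]
    ring
  have h2 : (σ ∘ u) ⬝ᵥ ((b - 1) • u') = (b - 1) * hf σ u' u := by
    unfold hf dotProduct
    rw [Finset.mul_sum]
    refine Finset.sum_congr rfl fun i _ => ?_
    simp only [Function.comp_apply, Pi.smul_apply, smul_eq_mul]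
    ring
  rw [h1, h2, h.uv hσ2, h.vu]
  ring

theorem hypDil_hf (hσ2 : ∀ a, σ (σ a) = a) {u u' : Fin n → F} (h : HP σ u u') (a b : F)
    (hab : σ a * b = 1) (x y : Fin n → F) :
    hf σ (hypDil σ u u' a b *ᵥ x) (hypDil σ u u' a b *ᵥ y) = hf σ x y := by
  have hab' : a * σ b = 1 := by
    have := congrArg σ hab
    rwa [map_mul, hσ2, map_one] at this
  have hyu : σ (hf σ y u) = hf σ u y := (hf_symm σ hσ2 u y).symm
  have hyu' : σ (hf σ y u') = hf σ u' y := (hf_symm σ hσ2 u' y).symm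
  rw [hypDil_mulVec σ h, hypDil_mulVec σ h]
  simp only [hf_add_left, hf_add_right, hf_smul_left, hf_smul_right, h.uu, h.vv, h.vu,
    h.uv hσ2, map_mul, map_sub, map_one, hyu, hyu']
  linear_combination (hf σ x u * hf σ u' y) * hab + (hf σ x u' * hf σ u y) * hab'

end HypDil

section SUIndex

variable {F : Type*} [Field F] [Fintype F] {n q : ℕ} (σ : F →+* F)

/-- The determinant on the stabiliser of `W` in `GU_n(q)`. -/
noncomputable def detStab (q : ℕ) (W : Submodule F (Fin n → F)) : ↥(guStab q W) →* Fˣ :=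
  (Cfsg.Agent.Lib.Helper5.detGU n F q).comp (guStab q W).subtype

theorem detStab_val (W : Submodule F (Fin n → F)) (g : ↥(guStab q W)) :
    (detStab q W g).1 = g.1.1.1.det := rfl

theorem range_detStab (hF : Fintype.card F = q ^ 2) (hσ : ∀ x, σ x = x ^ q)
    (hσ2 : ∀ a, σ (σ a) = a) (hn : 1 ≤ n) (W : Submodule F (Fin n → F))
    (hW : ∀ u ∈ W, ∀ v ∈ W, hf σ u v = 0) :
    (detStab q W).range = (powMonoidHom (q + 1) : Fˣ →* Fˣ).ker := by
  classical
  have hne : σ ≠ RingHom.id F := frob_ne_id σ hF hσ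
  apply le_antisymm
  · rintro _ ⟨g, rfl⟩
    exact Cfsg.Agent.Lib.Helper5.detGU_mem_ker hF g.1
  · intro l hl
    by_cases hW0 : W = ⊥
    · rw [← Cfsg.Agent.Lib.Helper5.range_detGU hF hn] at hl
      obtain ⟨g, rfl⟩ := hl
      have hg : g ∈ guStab q W := by
        apply mem_stabilizing_of_finite (guToMat n F q) _ (Set.toFinite _)
        intro v hv
        have hv0 : v = 0 := by
          have : v ∈ W := hv
          rw [hW0] at this
          exact (Submodule.mem_bot F).mp this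
        rw [hv0, Matrix.mulVec_zero]
        exact W.zero_mem
      exact ⟨⟨g, hg⟩, rfl⟩
    · obtain ⟨u, hu, hu0⟩ := Submodule.exists_mem_ne_zero_of_ne_bot hW0
      obtain ⟨u', hP⟩ := exists_HP_of_isotropic σ hne hσ2 u hu0 (hW u hu u hu)
      rw [MonoidHom.mem_ker, powMonoidHom_apply] at hl
      have hl' : (l : F) * σ (l : F) = 1 := by
        rw [hσ, ← pow_succ', ← Units.val_pow_eq_pow_val, hl, Units.val_one]
      have hl0 : (l : F) ≠ 0 := l.ne_zero
      have hsl0 : σ (l : F) ≠ 0 := by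
        intro h
        rw [h, mul_zero] at hl'
        exact zero_ne_one hl'
      have hc : (l : F)⁻¹ * σ ((l : F)⁻¹) = 1 := by
        rw [map_inv₀, ← mul_inv, hl', inv_one]
      obtain ⟨a, ha0, ha⟩ := Cfsg.Agent.Lib.Helper36.hilbert90_invol σ hne hσ2 _ hc
      have hsa0 : σ a ≠ 0 := by
        rw [ha]
        exact mul_ne_zero (inv_ne_zero hl0) ha0
      have hab : σ a * (σ a)⁻¹ = 1 := mul_inv_cancel₀ hsa0
      have hpres : ∀ x y, Cfsg.hermForm n F q (hypDil σ u u' a (σ a)⁻¹ *ᵥ x)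
          (hypDil σ u u' a (σ a)⁻¹ *ᵥ y) = Cfsg.hermForm n F q x y := by
        intro x y
        rw [hermForm_eq_hf σ hσ, hermForm_eq_hf σ hσ]
        exact hypDil_hf σ hσ2 hP a _ hab x y
      have hg : Cfsg.Agent.Lib.Helper5.GUofPreserves hF _ hpres ∈ guStab q W := by
        apply mem_stabilizing_of_finite (guToMat n F q) _ (Set.toFinite _)
        intro v hv
        show hypDil σ u u' a (σ a)⁻¹ *ᵥ v ∈ W
        rw [hypDil_mulVec σ hP, hW v hv u hu, mul_zero, zero_smul, add_zero]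
        exact W.add_mem hv (W.smul_mem _ hu)
      refine ⟨⟨_, hg⟩, ?_⟩
      apply Units.ext
      rw [detStab_val]
      show (hypDil σ u u' a (σ a)⁻¹).det = l
      rw [hypDil_det σ hσ2 hP, ha]
      field_simp

/-- The stabiliser of `W` in `SU_n(q)` is the kernel of the determinant on the stabiliser in
`GU_n(q)`. -/
noncomputable def suStabEquivKer (q : ℕ) (W : Submodule F (Fin n → F)) :
    ↥((Cfsg.stabilizing (Cfsg.slToMat n F) (W : Set (Fin n → F))).subgroupOf (Cfsg.SU n F q)) ≃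
      ↥(detStab q W).ker where
  toFun s := ⟨⟨⟨Matrix.SpecialLinearGroup.toGL s.1.1, s.1.2⟩,
      fun v => (Subgroup.mem_subgroupOf.mp s.2) v⟩, by
    rw [MonoidHom.mem_ker]
    apply Units.ext
    rw [detStab_val, Units.val_one]
    exact s.1.1.2⟩
  invFun k := ⟨⟨⟨k.1.1.1.1, by
    have := k.2
    rw [MonoidHom.mem_ker] at this
    have h := congrArg Units.val this
    rwa [detStab_val, Units.val_one] at h⟩, k.1.1.2⟩,
    Subgroup.mem_subgroupOf.mpr (fun v => k.1.2 v)⟩
  left_inv s := by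
    apply Subtype.ext; apply Subtype.ext; apply Subtype.ext; rfl
  right_inv k := by
    apply Subtype.ext; apply Subtype.ext; apply Subtype.ext; apply Units.ext; rfl

theorem card_suStab_mul (hF : Fintype.card F = q ^ 2) (hσ : ∀ x, σ x = x ^ q)
    (hσ2 : ∀ a, σ (σ a) = a) (hn : 1 ≤ n) (W : Submodule F (Fin n → F))
    (hW : ∀ u ∈ W, ∀ v ∈ W, hf σ u v = 0) :
    (q + 1) * Nat.card ↥((Cfsg.stabilizing (Cfsg.slToMat n F)
        (W : Set (Fin n → F))).subgroupOf (Cfsg.SU n F q)) = Nat.card ↥(guStab q W) := by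
  have h1 := Subgroup.card_mul_index (detStab q W).ker
  rw [Subgroup.index_ker, range_detStab σ hF hσ hσ2 hn W hW,
    Cfsg.Agent.Lib.Helper5.card_ker_pow_q_add_one hF,
    ← Nat.card_congr (suStabEquivKer q W)] at h1
  rw [← h1, mul_comm]

end SUIndex

section Arith

/-- The abstract induction behind the order of a maximal parabolic of `GU`. -/
theorem gu_arith (q : ℕ) (z gu : ℕ → ℕ)
    (hstep : ∀ m, gu (m + 2) = gu m * q ^ (2 * m + 1) * z (m + 2)) :
    ∀ k l : ℕ, q ^ (k * (2 * l + k)) * gu l *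
        ∏ j : Fin k, ((q ^ 2) ^ (j : ℕ) * z (l + 2 * k - 2 * (j : ℕ))) = gu (l + 2 * k) := by
  intro k
  induction k with
  | zero =>
    intro l
    simp
  | succ k ih =>
    intro l
    rw [Fin.prod_univ_succ]
    simp only [Fin.val_zero, Fin.val_succ, pow_zero, one_mul, mul_zero, Nat.sub_zero]
    have e1 : ∀ j : Fin k, l + 2 * (k + 1) - 2 * ((j : ℕ) + 1) = l + 2 * k - 2 * (j : ℕ) := by
      intro j
      omega
    simp only [e1]
    have e2 : ∏ j : Fin k, ((q ^ 2) ^ ((j : ℕ) + 1) * z (l + 2 * k - 2 * (j : ℕ)))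
        = (q ^ 2) ^ k * ∏ j : Fin k, ((q ^ 2) ^ (j : ℕ) * z (l + 2 * k - 2 * (j : ℕ))) := by
      rw [show (q ^ 2) ^ k = ∏ _j : Fin k, q ^ 2 by
        rw [Finset.prod_const, Finset.card_univ, Fintype.card_fin], ← Finset.prod_mul_distrib]
      refine Finset.prod_congr rfl fun j _ => ?_
      rw [pow_succ]
      ring
    rw [e2]
    have e3 : l + 2 * (k + 1) = l + 2 * k + 2 := by ring
    rw [e3, hstep, ← ih l]
    have e4 : q ^ ((k + 1) * (2 * l + (k + 1))) * (q ^ 2) ^ k
        = q ^ (k * (2 * l + k)) * q ^ (2 * (l + 2 * k) + 1) := by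
      rw [← pow_mul, ← pow_add, ← pow_add]
      congr 1
      ring
    calc q ^ ((k + 1) * (2 * l + (k + 1))) * gu l *
          (z (l + 2 * k + 2) *
            ((q ^ 2) ^ k * ∏ j : Fin k, ((q ^ 2) ^ (j : ℕ) * z (l + 2 * k - 2 * (j : ℕ)))))
        = (q ^ ((k + 1) * (2 * l + (k + 1))) * (q ^ 2) ^ k) * gu l * z (l + 2 * k + 2) *
            ∏ j : Fin k, ((q ^ 2) ^ (j : ℕ) * z (l + 2 * k - 2 * (j : ℕ))) := by ring
      _ = _ := by rw [e4]; ring

/-- The order formula of `GU_m(q)` as a function of `m`. -/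
def guOrd (q m : ℕ) : ℕ :=
  q ^ (m * (m - 1) / 2) *
    ∏ i ∈ Finset.range m, (if Even i then q ^ (i + 1) + 1 else q ^ (i + 1) - 1)

/-- The number of non-zero isotropic vectors as a function of the dimension. -/
def isoOrd (q m : ℕ) : ℕ :=
  if Even m then (q ^ m - 1) * (q ^ (m - 1) + 1) else (q ^ m + 1) * (q ^ (m - 1) - 1)

theorem guOrd_step (q m : ℕ) :
    guOrd q (m + 2) = guOrd q m * q ^ (2 * m + 1) * isoOrd q (m + 2) := by
  unfold guOrd isoOrd
  rw [Finset.prod_range_succ, Finset.prod_range_succ]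
  have e1 : (m + 2) * (m + 2 - 1) / 2 = m * (m - 1) / 2 + (2 * m + 1) := by
    rcases Nat.eq_zero_or_pos m with h0 | h0
    · subst h0; norm_num
    · obtain ⟨r, rfl⟩ : ∃ r, m = r + 1 := ⟨m - 1, by omega⟩
      have h1 : (r + 1 + 2) * (r + 1 + 2 - 1) = (r + 1) * (r + 1 - 1) + (2 * (r + 1) + 1) * 2 := by
        have e5 : r + 1 + 2 - 1 = r + 2 := by omega
        have e6 : r + 1 - 1 = r := by omega
        rw [e5, e6]
        ring
      rw [h1, Nat.add_mul_div_right _ _ (by norm_num : 0 < 2)]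
  rw [e1, pow_add]
  have e2 : m + 2 - 1 = m + 1 := by omega
  rw [e2]
  by_cases he : Even m
  · have h1 : ¬ Even (m + 1) := by rw [Nat.even_add_one]; exact not_not.mpr he
    have h2 : Even (m + 2) := by rw [Nat.even_add]; simp [he]
    rw [if_pos he, if_neg h1, if_pos h2]
    ring
  · have h1 : Even (m + 1) := by rw [Nat.even_add_one]; exact he
    have h2 : ¬ Even (m + 2) := by rw [Nat.even_add]; simp [he]
    rw [if_neg he, if_pos h1, if_neg h2]
    ring

theorem isoOrd_pos {q m : ℕ} (hq : 2 ≤ q) (hm : 2 ≤ m) : 0 < isoOrd q m := by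
  unfold isoOrd
  have h1 : 2 ≤ q ^ m := by
    calc 2 ≤ q := hq
      _ = q ^ 1 := (pow_one q).symm
      _ ≤ q ^ m := Nat.pow_le_pow_right (by omega) (by omega)
  have h2 : 2 ≤ q ^ (m - 1) := by
    calc 2 ≤ q := hq
      _ = q ^ 1 := (pow_one q).symm
      _ ≤ q ^ (m - 1) := Nat.pow_le_pow_right (by omega) (by omega)
  split_ifs
  · apply Nat.mul_pos <;> omega
  · apply Nat.mul_pos <;> omega

end Arith

section Final

variable {F : Type*} [Field F] [Fintype F] {q : ℕ}

/-- The order of the stabiliser of a totally isotropic subspace in `SU_n(q)`. -/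
theorem card_su_parabolic (hF : Fintype.card F = q ^ 2) (n k : ℕ) (hn : 1 ≤ n) (hk : 2 * k ≤ n)
    (W : Submodule F (Fin n → F)) (hWk : Module.finrank F W = k)
    (hW : ∀ u ∈ W, ∀ v ∈ W, Cfsg.hermForm n F q u v = 0) :
    (q + 1) * Nat.card ↥((Cfsg.stabilizing (Cfsg.slToMat n F)
        (W : Set (Fin n → F))).subgroupOf (Cfsg.SU n F q)) =
      q ^ (k * (2 * n - 3 * k)) * (∏ i : Fin k, ((q ^ 2) ^ k - (q ^ 2) ^ (i : ℕ))) *
        guOrd q (n - 2 * k) := by
  obtain ⟨σ, hσ, hσ2⟩ := exists_frob hF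
  have hq : 2 ≤ q := two_le_of_card_eq_sq hF
  have hW' : ∀ u ∈ W, ∀ v ∈ W, hf σ u v = 0 := by
    intro u hu v hv
    rw [← hermForm_eq_hf σ hσ]
    exact hW u hu v hv
  rw [card_suStab_mul σ hF hσ hσ2 hn W hW']
  have h1 := card_guStab_mul σ hF hσ hσ2 k W hWk hW'
  have hZ : ∀ m, Cfsg.Agent.Lib.Helper5.hermCount F q m 0 - 1 = isoOrd q m := by
    intro m
    rw [Cfsg.Agent.Lib.Helper5.hermCount_zero hF, Nat.add_sub_cancel]
    rfl
  rw [card_hIsoTuples σ hF hσ hσ2, card_hBasesIn k W hWk, Cfsg.Agent.Lib.Helper5.card_GU hF, hF]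
    at h1
  simp only [hZ] at h1
  have h2 := gu_arith q (isoOrd q) (guOrd q) (guOrd_step q) k (n - 2 * k)
  have e1 : n - 2 * k + 2 * k = n := by omega
  rw [e1] at h2
  have e2 : k * (2 * (n - 2 * k) + k) = k * (2 * n - 3 * k) := by
    congr 1
    omega
  rw [e2] at h2
  have hApos : 0 < ∏ j : Fin k, ((q ^ 2) ^ (j : ℕ) * isoOrd q (n - 2 * (j : ℕ))) := by
    apply Finset.prod_pos
    intro j _
    apply Nat.mul_pos
    · exact Nat.pos_of_ne_zero (pow_ne_zero _ (pow_ne_zero _ (by omega)))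
    · apply isoOrd_pos hq
      have := j.2
      omega
  apply Nat.eq_of_mul_eq_mul_right hApos
  rw [h1]
  change _ * guOrd q n = _
  rw [← h2]
  ring

end Final

end Cfsg.Agent.Lib.Helper13
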