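/-
helper13: maximality of the stabiliser of a totally isotropic subspace in the special unitary group,
by the transvection method (isotropic centres), using helper37's generation of `SU_n` by unitary
transvections and Siegel elements centred in the subspace.
-/
import Mathlib
import Cfsg.Agent.Lib.Helper37.UnitaryGen
import Cfsg.Agent.Lib.Helper13.GUParabolic

set_option autoImplicit false

namespace Cfsg.Agent.Lib.Helper13

open Matrix Module Cfsg.Agent.S0837 Cfsg.Agent.S0781 Cfsg.Agent.S2644 Cfsg.Agent.Lib.Helper37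

section UnitMax

variable {F : Type*} [Field F] (σ : F →+* F) {n : ℕ}

/-- isotropic vectors all of whose unitary transvections lie in `M`. -/
def UX (M : Subgroup (GL (Fin n) F)) : Set (Fin n → F) :=
  {v | ∃ hv : hf σ v v = 0, ∀ c, c + σ c = 0 → tvGL σ v c hv ∈ M}

theorem conj_tvGL (g : GL (Fin n) F) (hg : g ∈ UG σ n) (z : Fin n → F) (c : F)
    (hz : hf σ z z = 0) (hz' : hf σ (g.1 *ᵥ z) (g.1 *ᵥ z) = 0) :
    g * tvGL σ z c hz * g⁻¹ = tvGL σ (g.1 *ᵥ z) c hz' := by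
  apply Units.ext
  have h1 : (g : Matrix (Fin n) (Fin n) F) * tv σ z c =
      tv σ ((g : Matrix (Fin n) (Fin n) F) *ᵥ z) c * (g : Matrix (Fin n) (Fin n) F) := by
    apply Matrix.toLin'.injective
    apply LinearMap.ext
    intro x
    rw [Matrix.toLin'_apply, Matrix.toLin'_apply, ← mulVec_mulVec, ← mulVec_mulVec, tv_mulVec,
      tv_mulVec, hg, mulVec_add, mulVec_smul]
  show (g : Matrix (Fin n) (Fin n) F) * tv σ z c * ((g⁻¹ : GL (Fin n) F) : Matrix (Fin n) (Fin n) F) =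
    tv σ ((g : Matrix (Fin n) (Fin n) F) *ᵥ z) c
  rw [h1, Matrix.mul_assoc, ← Units.val_mul, mul_inv_cancel, Units.val_one, Matrix.mul_one]

theorem ux_map {M : Subgroup (GL (Fin n) F)} (g : GL (Fin n) F) (hgM : g ∈ M) (hg : g ∈ UG σ n)
    {v : Fin n → F} (hv : v ∈ UX σ M) : g.1 *ᵥ v ∈ UX σ M := by
  obtain ⟨hv0, hv1⟩ := hv
  have h0 : hf σ (g.1 *ᵥ v) (g.1 *ᵥ v) = 0 := by rw [hg, hv0]
  refine ⟨h0, fun c hc => ?_⟩
  rw [← conj_tvGL σ g hg v c hv0 h0]
  exact M.mul_mem (M.mul_mem hgM (hv1 c hc)) (M.inv_mem hgM)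

theorem tv_smul_center (l : F) (v : Fin n → F) (c : F) :
    tv σ (l • v) c = tv σ v (c * (l * σ l)) := by
  apply Matrix.toLin'.injective
  apply LinearMap.ext
  intro x
  rw [Matrix.toLin'_apply, Matrix.toLin'_apply, tv_mulVec, tv_mulVec, hf_smul_right, smul_smul]
  congr 2
  ring

theorem ux_smul (hσ2 : ∀ a, σ (σ a) = a) {M : Subgroup (GL (Fin n) F)} {v : Fin n → F}
    (hv : v ∈ UX σ M) (l : F) : l • v ∈ UX σ M := by
  obtain ⟨hv0, hv1⟩ := hv
  have h0 : hf σ (l • v) (l • v) = 0 := by rw [hf_smul_left, hf_smul_right, hv0]; ring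
  refine ⟨h0, fun c hc => ?_⟩
  have hc' : c * (l * σ l) + σ (c * (l * σ l)) = 0 := by
    rw [map_mul, map_mul, hσ2]
    linear_combination (l * σ l) * hc
  have h1 := hv1 _ hc'
  have h2 : tvGL σ (l • v) c h0 = tvGL σ v (c * (l * σ l)) hv0 := by
    apply Units.ext
    exact tv_smul_center σ l v c
  rw [h2]
  exact h1

theorem ux_tv {M : Subgroup (GL (Fin n) F)} (hMU : M ≤ UG σ n)
    {x y : Fin n → F} (hx : x ∈ UX σ M) (hy : y ∈ UX σ M) (c : F) (hc : c + σ c = 0) :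
    x + (c * hf σ x y) • y ∈ UX σ M := by
  obtain ⟨hy0, hy1⟩ := hy
  have h := ux_map σ (tvGL σ y c hy0) (hy1 c hc) (hMU (hy1 c hc)) hx
  have e : ((tvGL σ y c hy0 : GL (Fin n) F) : Matrix (Fin n) (Fin n) F) = tv σ y c := rfl
  rwa [e, tv_mulVec] at h

theorem perp_perp (hσ2 : ∀ a, σ (σ a) = a) (W : Submodule F (Fin n → F)) :
    perp σ (perp σ W) = W := by
  symm
  apply Submodule.eq_of_le_of_finrank_eq
  · intro w hw u hu
    rw [hf_symm σ hσ2, hu w hw, map_zero]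
  · have h1 := finrank_perp σ hσ2 W
    have h2 := finrank_perp σ hσ2 (perp σ W)
    omega

/-- Moving a vector of `UX` by a Siegel element centred in the totally isotropic subspace `W`. -/
theorem ux_siegel_move (hσ2 : ∀ a, σ (σ a) = a) (W : Submodule F (Fin n → F))
    (hW : ∀ u ∈ W, ∀ v ∈ W, hf σ u v = 0) (M : Subgroup (GL (Fin n) F))
    (hM : ∀ g : GL (Fin n) F, g ∈ UG σ n → g.1.det = 1 → (∀ w ∈ W, g.1 *ᵥ w ∈ W) → g ∈ M)
    {y : Fin n → F} (hy : y ∈ UX σ M) {w : Fin n → F} (hw : w ∈ W) (hyw : hf σ y w ≠ 0)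
    {z : Fin n → F} (hz : hf σ z z = 0) (hzw : hf σ z w = hf σ y w) : z ∈ UX σ M := by
  obtain ⟨hy0, -⟩ := id hy
  set a := hf σ y w with ha
  have hsa : σ a ≠ 0 := map_ne_zero_of_invol σ hσ2 hyw
  set u : Fin n → F := a⁻¹ • (z - y) with hu
  set β : F := a⁻¹ * hf σ y u with hβ
  have hww : hf σ w w = 0 := hW w hw w hw
  have huw : hf σ u w = 0 := by
    rw [hu, hf_smul_left, hf_sub_left, hzw, sub_self, mul_zero]
  have hyu : hf σ y u = (σ a)⁻¹ * hf σ y z := by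
    rw [hu, hf_smul_right, hf_sub_right, hy0, sub_zero, map_inv₀]
  have hzy : σ (hf σ y z) = hf σ z y := (hf_symm σ hσ2 z y).symm
  have huu : hf σ u u = -(a⁻¹ * (σ a)⁻¹ * (hf σ z y + hf σ y z)) := by
    rw [hu, hf_smul_left, hf_smul_right, hf_sub_left, hf_sub_right, hf_sub_right, hz, hy0, map_inv₀]
    ring
  have hβc : β + σ β + hf σ u u = 0 := by
    rw [huu, hβ, hyu, map_mul, map_mul, map_inv₀, map_inv₀, hσ2, hzy]
    ring
  set s := siegGL σ hσ2 w u β hww huw hβc with hs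
  have hsU : s ∈ UG σ n := siegGL_mem_UG σ hσ2 w u β hww huw hβc
  have hsv : (s : Matrix (Fin n) (Fin n) F) = sieg σ w u β := rfl
  have hsM : s ∈ M := by
    apply hM s hsU
    · rw [hsv]; exact sieg_det σ hσ2 w u β hww huw
    · intro x hx
      rw [hsv, sieg_mulVec, hW x hx w hw, zero_smul, add_zero]
      exact W.sub_mem hx (W.smul_mem _ hw)
  have hsy : (s : Matrix (Fin n) (Fin n) F) *ᵥ y = z := by
    rw [hsv, sieg_mulVec, ← ha, hβ, hu]
    ext i
    simp only [Pi.add_apply, Pi.sub_apply, Pi.smul_apply, smul_eq_mul]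
    field_simp
    ring
  rw [← hsy]
  exact ux_map σ s hsM hsU hy

/-- **The transvection method for the stabiliser of a totally isotropic subspace.** -/
theorem su_le_of_stab_lt [Finite F] (hσ : σ ≠ RingHom.id F) (hσ2 : ∀ a, σ (σ a) = a) (hn : 4 ≤ n)
    (W : Submodule F (Fin n → F)) (hW : ∀ u ∈ W, ∀ v ∈ W, hf σ u v = 0)
    (M : Subgroup (GL (Fin n) F)) (hMU : M ≤ UG σ n)
    (hM : ∀ g : GL (Fin n) F, g ∈ UG σ n → g.1.det = 1 → (∀ w ∈ W, g.1 *ᵥ w ∈ W) → g ∈ M)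
    (g0 : GL (Fin n) F) (hg0 : g0 ∈ M) (w1 : Fin n → F) (hw1 : w1 ∈ W) (hg0w : g0.1 *ᵥ w1 ∉ W) :
    ∀ g : GL (Fin n) F, g ∈ UG σ n → g.1.det = 1 → g ∈ M := by
  -- isotropic vectors of `W^⊥`
  have hA : ∀ v, hf σ v v = 0 → (∀ w ∈ W, hf σ w v = 0) → v ∈ UX σ M := by
    intro v hv hvW
    refine ⟨hv, fun c hc => hM _ (TG_le_UG σ hσ2 (tvGL_mem σ v c hv hc)) ?_ ?_⟩
    · show (tv σ v c).det = 1
      rw [tv_det, hv, mul_zero, add_zero]
    · intro w hw
      show tv σ v c *ᵥ w ∈ W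
      rw [tv_mulVec, hvW w hw, mul_zero, zero_smul, add_zero]
      exact hw
  -- a vector of `UX` outside `W^⊥`
  obtain ⟨y, hyX, w2, hw2, hyw⟩ : ∃ y ∈ UX σ M, ∃ w ∈ W, hf σ y w ≠ 0 := by
    by_cases hc1 : ∃ w ∈ W, ∃ w' ∈ W, hf σ (g0.1 *ᵥ w) w' ≠ 0
    · obtain ⟨w, hw, w', hw', hne⟩ := hc1
      exact ⟨_, ux_map σ g0 hg0 (hMU hg0) (hA w (hW w hw w hw) (fun x hx => hW x hx w hw)),
        w', hw', hne⟩
    · push Not at hc1
      set z := g0.1 *ᵥ w1 with hz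
      have hzz : hf σ z z = 0 := by rw [hz, hMU hg0, hW w1 hw1 w1 hw1]
      obtain ⟨u0, hu0, hu0z⟩ : ∃ u0 ∈ perp σ W, hf σ z u0 ≠ 0 := by
        by_contra hcon
        push Not at hcon
        apply hg0w
        rw [← perp_perp σ hσ2 W]
        exact hcon
      have hu0z' : hf σ u0 z ≠ 0 := by
        rw [hf_symm σ hσ2]; exact map_ne_zero_of_invol σ hσ2 hu0z
      obtain ⟨u1, hu1⟩ : ∃ u1 : Fin n → F, u1 = (hf σ u0 z)⁻¹ • u0 := ⟨_, rfl⟩
      have hu1z : hf σ u1 z = 1 := by rw [hu1, hf_smul_left, inv_mul_cancel₀ hu0z']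
      have hzu1 : hf σ z u1 = 1 := by rw [hf_symm σ hσ2, hu1z, map_one]
      have hu1W : ∀ w ∈ W, hf σ u1 w = 0 := by
        intro w hw
        rw [hu1, hf_smul_left, hu0 w hw, mul_zero]
      obtain ⟨c, hc⟩ := trace_surj σ hσ hσ2 (-hf σ u1 u1) (by rw [map_neg, hf_self_fixed σ hσ2])
      obtain ⟨u, hu⟩ : ∃ u : Fin n → F, u = u1 + c • z := ⟨_, rfl⟩
      have huu : hf σ u u = 0 := by
        rw [hu, hf_add_left, hf_add_right, hf_add_right, hf_smul_left, hf_smul_left, hf_smul_right,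
          hf_smul_right, hu1z, hzu1, hzz]
        linear_combination hc
      have huW : ∀ w ∈ W, hf σ w u = 0 := by
        intro w hw
        rw [hu, hf_add_right, hf_smul_right, hf_symm σ hσ2 w u1, hu1W w hw, map_zero,
          hf_symm σ hσ2 w z, hc1 w1 hw1 w hw, map_zero, mul_zero, add_zero]
      have huz : hf σ u z = 1 := by
        rw [hu, hf_add_left, hf_smul_left, hu1z, hzz, mul_zero, add_zero]
      have huX : u ∈ UX σ M := hA u huu huW
      have hgi : (g0⁻¹ : GL (Fin n) F) ∈ M := M.inv_mem hg0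
      refine ⟨_, ux_map σ g0⁻¹ hgi (hMU hgi) huX, w1, hw1, ?_⟩
      have e : hf σ ((g0⁻¹ : GL (Fin n) F).1 *ᵥ u) w1 = hf σ u z := by
        rw [hz, ← hMU hg0 ((g0⁻¹ : GL (Fin n) F).1 *ᵥ u) w1, mulVec_mulVec, ← Units.val_mul,
          mul_inv_cancel, Units.val_one, one_mulVec]
      rw [e, huz]
      exact one_ne_zero
  -- every isotropic vector outside `W^⊥`
  have hB : ∀ y' : Fin n → F, hf σ y' y' = 0 → ∀ w' ∈ W, hf σ y' w' ≠ 0 → y' ∈ UX σ M := by
    intro y' hy' w' hw' hy'w'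
    obtain ⟨ws, hws, h1, h2⟩ : ∃ ws ∈ W, hf σ y ws ≠ 0 ∧ hf σ y' ws ≠ 0 := by
      by_cases h1 : hf σ y w' = 0
      · by_cases h2 : hf σ y' w2 = 0
        · refine ⟨w2 + w', W.add_mem hw2 hw', ?_, ?_⟩
          · rw [hf_add_right, h1, add_zero]; exact hyw
          · rw [hf_add_right, h2, zero_add]; exact hy'w'
        · exact ⟨w2, hw2, hyw, h2⟩
      · exact ⟨w', hw', h1, hy'w'⟩
    set l : F := hf σ y ws / hf σ y' ws with hl
    have hl0 : l ≠ 0 := div_ne_zero h1 h2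
    have hz0 : hf σ (l • y') (l • y') = 0 := by rw [hf_smul_left, hf_smul_right, hy']; ring
    have hzw : hf σ (l • y') ws = hf σ y ws := by
      rw [hf_smul_left, hl, div_mul_cancel₀ _ h2]
    have := ux_siegel_move σ hσ2 W hW M hM hyX hws h1 hz0 hzw
    have h3 := ux_smul σ hσ2 this l⁻¹
    rwa [smul_smul, inv_mul_cancel₀ hl0, one_smul] at h3
  -- all isotropic vectors
  have hall : ∀ v : Fin n → F, hf σ v v = 0 → v ∈ UX σ M := by
    intro v hv
    by_cases h : ∀ w ∈ W, hf σ w v = 0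
    · exact hA v hv h
    · push Not at h
      obtain ⟨w, hw, hwv⟩ := h
      refine hB v hv w hw ?_
      rw [hf_symm σ hσ2]
      exact map_ne_zero_of_invol σ hσ2 hwv
  have hTG : TG σ n ≤ M := by
    unfold TG
    rw [Subgroup.closure_le]
    rintro g ⟨z, c, hz, hc, hg⟩
    obtain ⟨_, h1⟩ := hall z hz
    have : g = tvGL σ z c hz := Units.ext hg
    rw [this]
    exact h1 c hc
  intro g hg hdet
  exact hTG (su_gen σ hσ hσ2 n (by omega) (fun h3 => absurd h3 (by omega)) g hg hdet)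

end UnitMax

end Cfsg.Agent.Lib.Helper13
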