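import Mathlib

set_option autoImplicit false

/-!
helper13: a quadratic form on `ι → K` is determined by its values on the vectors with coordinates in
the image of a ring homomorphism `j : R →+* K` (all characteristics); similarities extend along `j`.
-/

namespace Cfsg.Agent.Lib.Helper13

open Matrix

variable {ι : Type*} [Fintype ι] [DecidableEq ι] {R K : Type*} [CommRing R] [CommRing K]

/-- the vector with coordinates mapped by `j` -/
def rvec (j : R →+* K) (v : ι → R) : ι → K := fun i => j (v i)

omit [Fintype ι] [DecidableEq ι] in
theorem rvec_apply (j : R →+* K) (v : ι → R) (i : ι) : rvec j v i = j (v i) := rfl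

omit [Fintype ι] [DecidableEq ι] in
theorem rvec_add (j : R →+* K) (v w : ι → R) : rvec j (v + w) = rvec j v + rvec j w := by
  funext i
  simp [rvec]

omit [Fintype ι] [DecidableEq ι] in
theorem rvec_smul (j : R →+* K) (c : R) (v : ι → R) : rvec j (c • v) = j c • rvec j v := by
  funext i
  simp [rvec]

omit [Fintype ι] in
theorem rvec_single (j : R →+* K) (i : ι) : rvec j (Pi.single i (1 : R)) = Pi.single i (1 : K) := by
  funext k
  simp only [rvec, Pi.single_apply]
  split_ifs
  · exact map_one j
  · exact map_zero j

omit [DecidableEq ι] in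
theorem rvec_mulVec (j : R →+* K) (A : Matrix ι ι R) (v : ι → R) :
    (A.map j) *ᵥ rvec j v = rvec j (A *ᵥ v) := by
  funext i
  exact (RingHom.map_mulVec j A v i).symm

/-- a quadratic form vanishing on the standard basis and with vanishing polar form on pairs of
basis vectors is zero -/
theorem quadraticForm_eq_zero_of_basis (D : QuadraticForm K (ι → K))
    (h1 : ∀ i, D (Pi.single i (1 : K)) = 0)
    (h2 : ∀ i k, QuadraticMap.polar (⇑D) (Pi.single i (1 : K)) (Pi.single k (1 : K)) = 0) :
    D = 0 := by
  have hB : QuadraticMap.polarBilin D = 0 := by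
    apply LinearMap.BilinForm.ext_basis (Pi.basisFun K ι)
    intro i k
    rw [Pi.basisFun_apply, Pi.basisFun_apply, QuadraticMap.polarBilin_apply_apply, h2]
    rfl
  have hpol : ∀ x y, QuadraticMap.polar (⇑D) x y = 0 := by
    intro x y
    have := congrArg (fun B : LinearMap.BilinForm K (ι → K) => B x y) hB
    simpa using this
  have hadd : ∀ x y, D (x + y) = D x + D y := by
    intro x y
    have := hpol x y
    unfold QuadraticMap.polar at this
    linear_combination this
  have hsum : ∀ (w : ι → K) (s : Finset ι), D (∑ i ∈ s, w i • (Pi.single i (1 : K) : ι → K)) = 0 := by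
    intro w s
    induction s using Finset.induction_on with
    | empty => simp
    | insert a s ha ih =>
      rw [Finset.sum_insert ha, hadd, ih, QuadraticMap.map_smul, h1]
      simp
  ext w
  have hw : w = ∑ i, w i • (Pi.single i (1 : K) : ι → K) := by
    ext k
    simp [Finset.sum_apply, Pi.single_apply]
  rw [hw, hsum w Finset.univ]
  rfl

/-- two quadratic forms agreeing on the `j`-rational vectors are equal -/
theorem quadraticForm_ext_of_rational (j : R →+* K) (Q Q' : QuadraticForm K (ι → K))
    (h : ∀ v : ι → R, Q (rvec j v) = Q' (rvec j v)) : Q = Q' := by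
  have h0 : Q - Q' = 0 := by
    apply quadraticForm_eq_zero_of_basis
    · intro i
      rw [_root_.sub_apply, ← rvec_single j, h, sub_self]
    · intro i k
      unfold QuadraticMap.polar
      simp only [_root_.sub_apply]
      rw [← rvec_single j i, ← rvec_single j k, ← rvec_add, h, h, h]
      ring
  exact sub_eq_zero.mp h0

/-- a similarity over `R` of a quadratic form stays a similarity of a compatible form over `K` -/
theorem similarity_extend' (j : R →+* K) (QR : (ι → R) → R) (QK : QuadraticForm K (ι → K))
    (hcompat : ∀ v : ι → R, QK (rvec j v) = j (QR v))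
    (A : Matrix ι ι R) (c : R) (hA : ∀ v : ι → R, QR (A *ᵥ v) = c * QR v) (w : ι → K) :
    QK ((A.map j) *ᵥ w) = j c * QK w := by
  have key : QK.comp (Matrix.toLin' (A.map j)) = j c • QK := by
    apply quadraticForm_ext_of_rational j
    intro v
    rw [QuadraticMap.comp_apply, Matrix.toLin'_apply, rvec_mulVec, hcompat, hA, map_mul,
      _root_.smul_apply, hcompat, smul_eq_mul]
  have := congrArg (fun Q : QuadraticForm K (ι → K) => Q w) key
  simpa [QuadraticMap.comp_apply, Matrix.toLin'_apply] using this

end Cfsg.Agent.Lib.Helper13
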