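import Mathlib
import Cfsg.Agent.Lib.Helper13.Dickson

set_option autoImplicit false
set_option linter.unusedSimpArgs false
set_option linter.unnecessarySeqFocus false

/-!
The spinor norm of isometries over a finite field of odd characteristic, as a `±1`-valued
character, via the discriminant of the Wall form on the image of `1 - g` (helper13's library).
-/

namespace Cfsg.Agent.Lib.Helper13

open Matrix

variable {F V : Type*} [Field F] [Fintype F] [DecidableEq F] [AddCommGroup V] [Module F V]

local notation "pol" => QuadraticMap.polar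

/-- `(w, y)` is a basis of the image of `1 - g` with chosen preimages, and `ε` is the quadratic
character of the Gram determinant of the Wall form. -/
def IsWall (Q : QuadraticForm F V) (g : V ≃ₗ[F] V) (d : ℕ) (ε : ℤ) : Prop :=
  ∃ (w y : Fin d → V), LinearIndependent F w ∧
    Submodule.span F (Set.range w) = LinearMap.range ((g : V →ₗ[F] V) - LinearMap.id) ∧
    (∀ i, y i - g (y i) = w i) ∧
    quadraticChar F (Matrix.det (Matrix.of fun i j => pol (⇑Q) (y i) (w j))) = ε

omit [Fintype F] [DecidableEq F] in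
theorem mem_range_sub_id (g : V ≃ₗ[F] V) (z : V) :
    z ∈ LinearMap.range ((g : V →ₗ[F] V) - LinearMap.id) ↔ ∃ y, y - g y = z := by
  constructor
  · rintro ⟨y, rfl⟩
    refine ⟨-y, ?_⟩
    rw [map_neg, LinearMap.sub_apply, LinearMap.id_apply]
    change -y - -(g y) = g y - y
    abel
  · rintro ⟨y, rfl⟩
    refine ⟨-y, ?_⟩
    rw [map_neg, LinearMap.sub_apply, LinearMap.id_apply]
    change -(g y - y) = y - g y
    abel

/-- Wall data exist for every linear equivalence. -/
theorem exists_isWall [FiniteDimensional F V] (Q : QuadraticForm F V) (g : V ≃ₗ[F] V) :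
    ∃ (ε : ℤ) (d : ℕ), IsWall Q g d ε := by
  classical
  obtain ⟨I, hI⟩ : ∃ I : Submodule F V,
      I = LinearMap.range ((g : V →ₗ[F] V) - LinearMap.id) := ⟨_, rfl⟩
  obtain ⟨b, -⟩ : ∃ b : Module.Basis (Fin (Module.finrank F I)) F I,
      b = Module.finBasis F I := ⟨_, rfl⟩
  have hpre : ∀ i, ∃ y : V, y - g y = (b i : V) := by
    intro i
    rw [← mem_range_sub_id, ← hI]
    exact (b i).2
  choose y hy using hpre
  refine ⟨_, Module.finrank F I, fun i => (b i : V), y, ?_, ?_, hy, rfl⟩
  · exact b.linearIndependent.map' I.subtype (Submodule.ker_subtype I)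
  · rw [← hI]
    have h1 : Set.range (fun i => (b i : V)) = I.subtype '' Set.range b := by
      ext z
      constructor
      · rintro ⟨i, rfl⟩
        exact ⟨b i, ⟨i, rfl⟩, rfl⟩
      · rintro ⟨_, ⟨i, rfl⟩, rfl⟩
        exact ⟨i, rfl⟩
    rw [h1, Submodule.span_image, b.span_eq, Submodule.map_top, Submodule.range_subtype]

omit [Fintype F] [DecidableEq F] in
/-- Fixed vectors of an isometry are orthogonal to the image of `1 - g`. -/
theorem polar_fix_sub (Q : QuadraticForm F V) (g : V ≃ₗ[F] V) (hg : ∀ z, Q (g z) = Q z)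
    (f : V) (hf : g f = f) (y : V) : pol (⇑Q) f (y - g y) = 0 := by
  have hpolg : ∀ z w, pol (⇑Q) (g z) (g w) = pol (⇑Q) z w := by
    intro z w
    unfold QuadraticMap.polar
    rw [← map_add, hg, hg, hg]
  rw [QuadraticMap.polar_sub_right]
  nth_rewrite 2 [← hf]
  rw [hpolg, sub_self]

/-- The Wall invariant does not depend on the choices. -/
theorem isWall_unique (Q : QuadraticForm F V) (g : V ≃ₗ[F] V) (hg : ∀ z, Q (g z) = Q z)
    {d d' : ℕ} {ε ε' : ℤ} (h : IsWall Q g d ε) (h' : IsWall Q g d' ε') : ε = ε' := by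
  classical
  obtain ⟨w, y, hw, hspan, hy, hε⟩ := h
  obtain ⟨w', y', hw', hspan', hy', hε'⟩ := h'
  have hdd : d = d' := by
    have h1 := finrank_span_eq_card hw
    have h2 := finrank_span_eq_card hw'
    rw [hspan, Fintype.card_fin] at h1
    rw [hspan', Fintype.card_fin] at h2
    rw [← h1, ← h2]
  subst hdd
  -- change of basis matrices
  have hP : ∀ i, ∃ c : Fin d → F, ∑ k, c k • w k = w' i := by
    intro i
    have : w' i ∈ Submodule.span F (Set.range w) := by
      rw [hspan, ← hspan']
      exact Submodule.subset_span ⟨i, rfl⟩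
    exact (Submodule.mem_span_range_iff_exists_fun F).mp this
  choose P hPw using hP
  have hP' : ∀ i, ∃ c : Fin d → F, ∑ k, c k • w' k = w i := by
    intro i
    have : w i ∈ Submodule.span F (Set.range w') := by
      rw [hspan', ← hspan]
      exact Submodule.subset_span ⟨i, rfl⟩
    exact (Submodule.mem_span_range_iff_exists_fun F).mp this
  choose P' hP'w using hP'
  have hPP' : (Matrix.of P) * (Matrix.of P') = 1 := by
    ext i l
    have h1 : ∑ l, ((Matrix.of P * Matrix.of P') i l - (1 : Matrix (Fin d) (Fin d) F) i l) • w' l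
        = 0 := by
      simp only [sub_smul, Finset.sum_sub_distrib]
      rw [sub_eq_zero]
      have e1 : ∑ l, (1 : Matrix (Fin d) (Fin d) F) i l • w' l = w' i := by
        rw [Finset.sum_eq_single i]
        · rw [Matrix.one_apply_eq, one_smul]
        · intro l _ hl
          rw [Matrix.one_apply_ne (Ne.symm hl), zero_smul]
        · intro h; exact absurd (Finset.mem_univ i) h
      rw [e1]
      conv_rhs => rw [← hPw i]
      simp only [Matrix.mul_apply, Matrix.of_apply, Finset.sum_smul]
      rw [Finset.sum_comm]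
      apply Finset.sum_congr rfl
      intro k _
      rw [← hP'w k, Finset.smul_sum]
      apply Finset.sum_congr rfl
      intro l _
      rw [smul_smul]
    have h2 := Fintype.linearIndependent_iff.mp hw' _ h1 l
    exact sub_eq_zero.mp h2
  have hdetP : (Matrix.of P).det ≠ 0 := by
    intro h0
    have := congrArg Matrix.det hPP'
    rw [Matrix.det_mul, h0, zero_mul, Matrix.det_one] at this
    exact zero_ne_one this
  -- the correction vectors are fixed by g
  have hz : ∀ i, g (y' i - ∑ k, P i k • y k) = y' i - ∑ k, P i k • y k := by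
    intro i
    have h1 : (y' i - ∑ k, P i k • y k) - g (y' i - ∑ k, P i k • y k) = 0 := by
      rw [map_sub, map_sum]
      simp only [map_smul]
      have h2 : y' i - ∑ k, P i k • y k - (g (y' i) - ∑ k, P i k • g (y k))
          = (y' i - g (y' i)) - ∑ k, P i k • (y k - g (y k)) := by
        simp only [smul_sub, Finset.sum_sub_distrib]
        abel
      rw [h2, hy' i]
      simp only [hy]
      rw [hPw i, sub_self]
    exact (sub_eq_zero.mp h1).symm
  have hG : (Matrix.of fun i j => pol (⇑Q) (y' i) (w' j))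
      = Matrix.of P * (Matrix.of fun i j => pol (⇑Q) (y i) (w j)) * (Matrix.of P)ᵀ := by
    ext i j
    have h1 : pol (⇑Q) (y' i) (w' j) = pol (⇑Q) (∑ k, P i k • y k) (w' j) := by
      have h2 : y' i = (y' i - ∑ k, P i k • y k) + ∑ k, P i k • y k := by abel
      conv_lhs => rw [h2]
      rw [QuadraticMap.polar_add_left, ← hy' j, polar_fix_sub Q g hg _ (hz i), zero_add]
    rw [Matrix.of_apply, h1, Matrix.mul_apply]
    have hpl : ∀ (c : Fin d → F) (u : Fin d → V) (x : V),
        pol (⇑Q) (∑ k, c k • u k) x = ∑ k, c k * pol (⇑Q) (u k) x := by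
      intro c u x
      have := map_sum ((QuadraticMap.polarBilin Q).flip x) (fun k => c k • u k) Finset.univ
      simp only [LinearMap.flip_apply, polarBilin_app, map_smul, smul_eq_mul] at this
      exact this
    have hpr : ∀ (c : Fin d → F) (u : Fin d → V) (x : V),
        pol (⇑Q) x (∑ k, c k • u k) = ∑ k, c k * pol (⇑Q) x (u k) := by
      intro c u x
      rw [QuadraticMap.polar_comm, hpl]
      apply Finset.sum_congr rfl
      intro k _
      rw [QuadraticMap.polar_comm]
    rw [hpl]
    simp only [Matrix.mul_apply, Matrix.of_apply, Matrix.transpose_apply, Finset.sum_mul]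
    rw [Finset.sum_comm]
    apply Finset.sum_congr rfl
    intro k _
    rw [← hPw j, hpr, Finset.mul_sum]
    apply Finset.sum_congr rfl
    intro l _
    ring
  rw [← hε, ← hε', hG, Matrix.det_mul, Matrix.det_mul, Matrix.det_transpose, map_mul, map_mul]
  have hsq := quadraticChar_sq_one hdetP
  have : quadraticChar F (Matrix.of P).det * quadraticChar F (Matrix.of fun i j => pol (⇑Q) (y i) (w j)).det
      * quadraticChar F (Matrix.of P).det
      = quadraticChar F (Matrix.of P).det ^ 2
        * quadraticChar F (Matrix.of fun i j => pol (⇑Q) (y i) (w j)).det := by ring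
  rw [this, hsq, one_mul]

/-- The transversal step: if `v ∉ im (1 - g)` then the Wall invariant of `r_v g` is that of `g`
times the quadratic character of `Q v`. -/
theorem isWall_refl_mul [FiniteDimensional F V] (Q : QuadraticForm F V)
    (hQ : (QuadraticMap.polarBilin Q).Nondegenerate) (g : V ≃ₗ[F] V)
    (hg : ∀ z, Q (g z) = Q z) (v : V) (hv : Q v ≠ 0) (T : V ≃ₗ[F] V)
    (hT : ∀ z, T z = reflLin Q v z)
    (hvI : v ∉ LinearMap.range ((g : V →ₗ[F] V) - LinearMap.id)) {d : ℕ} {ε : ℤ}
    (h : IsWall Q g d ε) : IsWall Q (T * g) (d + 1) (quadraticChar F (Q v) * ε) := by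
  classical
  obtain ⟨w, y, hw, hspan, hy, hε⟩ := h
  obtain ⟨c, hc⟩ : ∃ c : V → F, ∀ z, c z = (Q v)⁻¹ * pol (⇑Q) v z := ⟨_, fun z => rfl⟩
  have hc_add : ∀ a b, c (a - b) = c a - c b := by
    intro a b
    rw [hc, hc, hc, QuadraticMap.polar_sub_right]; ring
  have hc_smul : ∀ (t : F) a, c (t • a) = t * c a := by
    intro t a
    rw [hc, hc, QuadraticMap.polar_smul_right, smul_eq_mul]; ring
  have hTg : ∀ x, (T * g) x = g x - c (g x) • v := by
    intro x
    change T (g x) = _
    rw [hT, reflLin_apply, hc]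
  have hkey : ∀ x, x - (T * g) x = (x - g x) + c (g x) • v := by
    intro x
    rw [hTg]; abel
  -- a fixed vector of g pairing to one with v
  have hI := range_sub_id_eq_orthogonal Q hQ g hg
  obtain ⟨k₀, hk₀, hk₀v⟩ : ∃ k₀ ∈ fixSub g, pol (⇑Q) v k₀ ≠ 0 := by
    by_contra hcon
    push Not at hcon
    apply hvI
    rw [hI, LinearMap.BilinForm.mem_orthogonal_iff]
    intro f hf
    rw [polarBilin_app, QuadraticMap.polar_comm]
    exact hcon f hf
  have hgk₀ := (mem_fixSub g k₀).mp hk₀
  have hck₀ : c k₀ ≠ 0 := by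
    rw [hc]
    exact mul_ne_zero (inv_ne_zero hv) hk₀v
  obtain ⟨xv, hxvdef⟩ : ∃ xv : V, xv = (c k₀)⁻¹ • k₀ := ⟨_, rfl⟩
  have hgxv : g xv = xv := by rw [hxvdef, map_smul, hgk₀]
  have hcxv : c xv = 1 := by rw [hxvdef, hc_smul, inv_mul_cancel₀ hck₀]
  have hpolxv : pol (⇑Q) xv v = Q v := by
    have := hcxv
    rw [hc] at this
    rw [QuadraticMap.polar_comm]
    field_simp at this
    exact this
  have hxvw : ∀ j, pol (⇑Q) xv (w j) = 0 := by
    intro j
    rw [← hy j]
    exact polar_fix_sub Q g hg xv hgxv (y j)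
  refine ⟨Fin.snoc w v, Fin.snoc (fun i => y i - c (g (y i)) • xv) xv, ?_, ?_, ?_, ?_⟩
  · rw [linearIndependent_finSnoc]
    refine ⟨hw, ?_⟩
    rw [hspan]
    exact hvI
  · -- the span is the image of 1 - T g
    have hy' : ∀ i : Fin (d + 1),
        (Fin.snoc (fun i => y i - c (g (y i)) • xv) xv : Fin (d + 1) → V) i
          - (T * g) ((Fin.snoc (fun i => y i - c (g (y i)) • xv) xv : Fin (d + 1) → V) i)
          = (Fin.snoc w v : Fin (d + 1) → V) i := by
      intro i
      refine Fin.lastCases ?_ (fun j => ?_) i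
      · rw [Fin.snoc_last, Fin.snoc_last, hkey, hgxv, sub_self, zero_add, hcxv, one_smul]
      · rw [Fin.snoc_castSucc, Fin.snoc_castSucc, hkey]
        have h1 : g (y j - c (g (y j)) • xv) = g (y j) - c (g (y j)) • xv := by
          rw [map_sub, map_smul, hgxv]
        rw [h1, hc_add, hc_smul, hcxv, mul_one, sub_self, zero_smul, add_zero]
        have h2 : y j - c (g (y j)) • xv - (g (y j) - c (g (y j)) • xv) = y j - g (y j) := by abel
        rw [h2, hy j]
    apply le_antisymm
    · rw [Submodule.span_le]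
      rintro _ ⟨i, rfl⟩
      rw [SetLike.mem_coe, mem_range_sub_id]
      exact ⟨_, hy' i⟩
    · intro z hz
      obtain ⟨x, rfl⟩ := (mem_range_sub_id (T * g) z).mp hz
      rw [hkey]
      apply Submodule.add_mem
      · have h1 : x - g x ∈ Submodule.span F (Set.range w) := by
          rw [hspan, mem_range_sub_id]
          exact ⟨x, rfl⟩
        have h2 : Submodule.span F (Set.range w)
            ≤ Submodule.span F (Set.range (Fin.snoc w v : Fin (d + 1) → V)) := by
          apply Submodule.span_mono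
          rintro _ ⟨i, rfl⟩
          exact ⟨Fin.castSucc i, Fin.snoc_castSucc _ _ _⟩
        exact h2 h1
      · apply Submodule.smul_mem
        apply Submodule.subset_span
        exact ⟨Fin.last d, Fin.snoc_last _ _⟩
  · intro i
    refine Fin.lastCases ?_ (fun j => ?_) i
    · rw [Fin.snoc_last, Fin.snoc_last, hkey, hgxv, sub_self, zero_add, hcxv, one_smul]
    · rw [Fin.snoc_castSucc, Fin.snoc_castSucc, hkey]
      have h1 : g (y j - c (g (y j)) • xv) = g (y j) - c (g (y j)) • xv := by
        rw [map_sub, map_smul, hgxv]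
      rw [h1, hc_add, hc_smul, hcxv, mul_one, sub_self, zero_smul, add_zero]
      have h2 : y j - c (g (y j)) • xv - (g (y j) - c (g (y j)) • xv) = y j - g (y j) := by abel
      rw [h2, hy j]
  · -- the determinant
    rw [← hε, ← map_mul]
    congr 1
    rw [Matrix.det_succ_row _ (Fin.last d), Fin.sum_univ_castSucc]
    have hzero : ∀ j : Fin d, (Matrix.of fun i j =>
        pol (⇑Q) ((Fin.snoc (fun i => y i - c (g (y i)) • xv) xv : Fin (d + 1) → V) i)
          ((Fin.snoc w v : Fin (d + 1) → V) j)) (Fin.last d) (Fin.castSucc j) = 0 := by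
      intro j
      rw [Matrix.of_apply, Fin.snoc_last, Fin.snoc_castSucc]
      exact hxvw j
    have hlast : (Matrix.of fun i j =>
        pol (⇑Q) ((Fin.snoc (fun i => y i - c (g (y i)) • xv) xv : Fin (d + 1) → V) i)
          ((Fin.snoc w v : Fin (d + 1) → V) j)) (Fin.last d) (Fin.last d) = Q v := by
      rw [Matrix.of_apply, Fin.snoc_last, Fin.snoc_last]
      exact hpolxv
    have hsub : (Matrix.of fun i j =>
        pol (⇑Q) ((Fin.snoc (fun i => y i - c (g (y i)) • xv) xv : Fin (d + 1) → V) i)
          ((Fin.snoc w v : Fin (d + 1) → V) j)).submatrix (Fin.last d).succAbove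
            (Fin.last d).succAbove = Matrix.of fun i j => pol (⇑Q) (y i) (w j) := by
      ext i j
      rw [Matrix.submatrix_apply, Fin.succAbove_last, Matrix.of_apply, Matrix.of_apply,
        Fin.snoc_castSucc, Fin.snoc_castSucc, QuadraticMap.polar_sub_left,
        QuadraticMap.polar_smul_left, hxvw j, smul_zero, sub_zero]
    simp only [hzero, mul_zero, zero_mul, Finset.sum_const_zero, zero_add]
    rw [hlast, hsub, ← two_mul, pow_mul]
    simp

/-- The spinor norm character of a linear equivalence (meaningful for isometries). -/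
noncomputable def spin [FiniteDimensional F V] (Q : QuadraticForm F V) (g : V ≃ₗ[F] V) : ℤ :=
  Classical.choose (exists_isWall Q g)

theorem spin_spec [FiniteDimensional F V] (Q : QuadraticForm F V) (g : V ≃ₗ[F] V) :
    ∃ d : ℕ, IsWall Q g d (spin Q g) :=
  Classical.choose_spec (exists_isWall Q g)

theorem spin_eq [FiniteDimensional F V] (Q : QuadraticForm F V) (g : V ≃ₗ[F] V)
    (hg : ∀ z, Q (g z) = Q z) {d : ℕ} {ε : ℤ} (h : IsWall Q g d ε) : spin Q g = ε := by
  obtain ⟨d', hd'⟩ := spin_spec Q g
  exact isWall_unique Q g hg hd' h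

theorem spin_one [FiniteDimensional F V] (Q : QuadraticForm F V) :
    spin Q (1 : V ≃ₗ[F] V) = 1 := by
  apply spin_eq Q 1 (fun z => rfl) (d := 0)
  refine ⟨Fin.elim0, Fin.elim0, linearIndependent_empty_type, ?_, fun i => i.elim0, ?_⟩
  · have h1 : Set.range (Fin.elim0 : Fin 0 → V) = ∅ := Set.range_eq_empty _
    rw [h1, Submodule.span_empty]
    symm
    rw [eq_bot_iff]
    rintro _ ⟨z, rfl⟩
    rw [Submodule.mem_bot, LinearMap.sub_apply, LinearMap.id_apply]
    exact sub_self z
  · rw [Matrix.det_isEmpty, map_one]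

omit [Fintype F] [DecidableEq F] in
/-- If `v ∈ im (g - 1)` then `r_v g` has a larger fixed space. -/
theorem finrank_fixSub_of_mem_range [FiniteDimensional F V] (Q : QuadraticForm F V)
    (hQ : (QuadraticMap.polarBilin Q).Nondegenerate) (g : V ≃ₗ[F] V)
    (hg : ∀ z, Q (g z) = Q z) (v : V) (hv : Q v ≠ 0) (T : V ≃ₗ[F] V)
    (hT : ∀ z, T z = reflLin Q v z)
    (hvI : v ∈ LinearMap.range ((g : V →ₗ[F] V) - LinearMap.id)) :
    Module.finrank F (fixSub (T * g)) = Module.finrank F (fixSub g) + 1 := by
  have hv0 : v ≠ 0 := by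
    rintro rfl
    exact hv (QuadraticMap.map_zero Q)
  obtain ⟨lam, hlam⟩ : ∃ lam : V → F, ∀ z, lam z = (Q v)⁻¹ * pol (⇑Q) v (g z) := ⟨_, fun z => rfl⟩
  have hTg : ∀ z, (T * g) z = g z - lam z • v := by
    intro z
    change T (g z) = _
    rw [hT, reflLin_apply, hlam]
  have hK' : ∀ z, z ∈ fixSub (T * g) ↔ g z - z = lam z • v := by
    intro z
    rw [mem_fixSub, hTg]
    constructor
    · intro h
      rw [sub_eq_iff_eq_add] at h ⊢
      rw [h]; abel
    · intro h
      rw [sub_eq_iff_eq_add] at h ⊢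
      rw [h]; abel
  have hI := range_sub_id_eq_orthogonal Q hQ g hg
  obtain ⟨u, hu⟩ := hvI
  have hu' : g u - u = v := hu
  have hgu : g u = u + v := by rw [← hu']; abel
  have hvorth : ∀ f ∈ fixSub g, pol (⇑Q) v f = 0 := by
    intro f hf
    have h1 : v ∈ LinearMap.BilinForm.orthogonal (QuadraticMap.polarBilin Q) (fixSub g) := by
      rw [← hI]; exact ⟨u, hu⟩
    rw [LinearMap.BilinForm.mem_orthogonal_iff] at h1
    have := h1 f hf
    rw [polarBilin_app] at this
    rw [QuadraticMap.polar_comm]; exact this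
  have hlamu : lam u = 1 := by
    rw [hlam]
    have h1 : Q v = 2 * Q u - pol (⇑Q) (g u) u := by
      rw [← hu', Q_sub, hg]; ring
    have h2 : pol (⇑Q) v (g u) = 2 * Q u - pol (⇑Q) (g u) u := by
      rw [← hu', QuadraticMap.polar_sub_left, polar_self', hg,
        QuadraticMap.polar_comm (⇑Q) u (g u)]
    rw [h2, ← h1, inv_mul_cancel₀ hv]
  apply finrank_eq_succ_of_extend (fixSub g) (fixSub (T * g)) ?_ u ?_ ?_ ?_
  · intro f hf
    rw [hK']
    have hf' := (mem_fixSub g f).mp hf
    rw [hf', sub_self, hlam, hf', hvorth f hf, mul_zero, zero_smul]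
  · rw [hK', hu', hlamu, one_smul]
  · rw [mem_fixSub, hgu]
    intro h
    apply hv0
    have : u + v = u + 0 := by rw [add_zero]; exact h
    exact add_left_cancel this
  · intro z hz
    refine ⟨lam z, ?_⟩
    rw [mem_fixSub, map_sub, map_smul, hgu]
    have h1 := (hK' z).mp hz
    have h2 : g z = z + lam z • v := by rw [← h1]; abel
    rw [h2, smul_add]
    abel

/-- Multiplying by a reflection multiplies the spinor norm by the quadratic character of the
norm of the reflecting vector. -/
theorem spin_refl_mul [FiniteDimensional F V] (Q : QuadraticForm F V)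
    (hQ : (QuadraticMap.polarBilin Q).Nondegenerate) (g : V ≃ₗ[F] V) (hg : g ∈ isoGroup Q)
    (v : V) (hv : Q v ≠ 0) (T : V ≃ₗ[F] V) (hT : ∀ z, T z = reflLin Q v z) :
    spin Q (T * g) = quadraticChar F (Q v) * spin Q g := by
  have hTmem : T ∈ isoGroup Q :=
    reflGroup_le_isoGroup Q (Subgroup.subset_closure ⟨v, hv, hT⟩)
  have hTsq : T * T = 1 := by
    apply LinearEquiv.ext
    intro z
    change T (T z) = z
    rw [hT, hT, reflLin_reflLin Q v hv]
  by_cases hvI : v ∈ LinearMap.range ((g : V →ₗ[F] V) - LinearMap.id)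
  · -- apply the transversal step to `T * g`
    have hTg : T * g ∈ isoGroup Q := Subgroup.mul_mem _ hTmem hg
    have hvI' : v ∉ LinearMap.range (((T * g : V ≃ₗ[F] V) : V →ₗ[F] V) - LinearMap.id) := by
      intro hcon
      have h1 := finrank_fixSub_of_mem_range Q hQ g hg v hv T hT hvI
      have h2 := finrank_fixSub_of_mem_range Q hQ (T * g) hTg v hv T hT hcon
      rw [← mul_assoc, hTsq, one_mul] at h2
      omega
    obtain ⟨d, hd⟩ := spin_spec Q (T * g)
    have h3 := isWall_refl_mul Q hQ (T * g) hTg v hv T hT hvI' hd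
    rw [← mul_assoc, hTsq, one_mul] at h3
    have h4 := spin_eq Q g hg h3
    have hsq : quadraticChar F (Q v) * quadraticChar F (Q v) = 1 := by
      have := quadraticChar_sq_one hv
      rw [pow_two] at this
      exact this
    rw [h4, ← mul_assoc, hsq, one_mul]
  · obtain ⟨d, hd⟩ := spin_spec Q g
    have h3 := isWall_refl_mul Q hQ g hg v hv T hT hvI hd
    exact spin_eq Q (T * g) (Subgroup.mul_mem _ hTmem hg) h3

theorem spin_refl [FiniteDimensional F V] (Q : QuadraticForm F V)
    (hQ : (QuadraticMap.polarBilin Q).Nondegenerate) (v : V) (hv : Q v ≠ 0) (T : V ≃ₗ[F] V)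
    (hT : ∀ z, T z = reflLin Q v z) : spin Q T = quadraticChar F (Q v) := by
  have := spin_refl_mul Q hQ 1 (Subgroup.one_mem _) v hv T hT
  rw [mul_one, spin_one, mul_one] at this
  exact this

/-- `spin` is multiplicative on the group generated by reflections. -/
theorem spin_mul [FiniteDimensional F V] (Q : QuadraticForm F V)
    (hQ : (QuadraticMap.polarBilin Q).Nondegenerate) (x : V ≃ₗ[F] V) (hx : x ∈ reflGroup Q) :
    ∀ g ∈ isoGroup Q, spin Q (x * g) = spin Q x * spin Q g := by
  unfold reflGroup at hx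
  induction hx using Subgroup.closure_induction with
  | mem T hT =>
    intro g hg
    obtain ⟨v, hv, hTv⟩ := hT
    rw [spin_refl_mul Q hQ g hg v hv T hTv, spin_refl Q hQ v hv T hTv]
  | one =>
    intro g _
    rw [one_mul, spin_one, one_mul]
  | mul a b ha hb iha ihb =>
    intro g hg
    have hb' : b ∈ isoGroup Q := reflGroup_le_isoGroup Q hb
    rw [mul_assoc, iha (b * g) (Subgroup.mul_mem _ hb' hg), ihb g hg, iha b hb', mul_assoc]
  | inv a ha iha =>
    intro g hg
    have ha' : a ∈ isoGroup Q := reflGroup_le_isoGroup Q ha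
    have h1 := iha (a⁻¹ * g) (Subgroup.mul_mem _ (Subgroup.inv_mem _ ha') hg)
    rw [mul_inv_cancel_left] at h1
    have h2 := iha a⁻¹ (Subgroup.inv_mem _ ha')
    rw [mul_inv_cancel, spin_one] at h2
    calc spin Q (a⁻¹ * g) = (spin Q a * spin Q a⁻¹) * spin Q (a⁻¹ * g) := by rw [← h2, one_mul]
      _ = spin Q a⁻¹ * (spin Q a * spin Q (a⁻¹ * g)) := by ring
      _ = spin Q a⁻¹ * spin Q g := by rw [← h1]

/-- The spinor norm homomorphism on the isometry group. -/
noncomputable def spinHom [FiniteDimensional F V] (Q : QuadraticForm F V)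
    (hQ : (QuadraticMap.polarBilin Q).Nondegenerate)
    (hF : (∀ a b : F, ∃ x : F, x ≠ a ∧ x ≠ b) ∨ Module.finrank F V ≠ 4) :
    ↥(isoGroup Q) →* ℤˣ :=
  MonoidHom.toHomUnits
    { toFun := fun g => spin Q (g : V ≃ₗ[F] V)
      map_one' := spin_one Q
      map_mul' := fun a b => spin_mul Q hQ a.1 (isoGroup_le_reflGroup Q hQ hF a.2) b.1 b.2 }

theorem spinHom_coe [FiniteDimensional F V] (Q : QuadraticForm F V)
    (hQ : (QuadraticMap.polarBilin Q).Nondegenerate)
    (hF : (∀ a b : F, ∃ x : F, x ≠ a ∧ x ≠ b) ∨ Module.finrank F V ≠ 4) (g : ↥(isoGroup Q)) :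
    ((spinHom Q hQ hF g : ℤˣ) : ℤ) = spin Q (g : V ≃ₗ[F] V) := rfl

end Cfsg.Agent.Lib.Helper13
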