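import Mathlib

set_option autoImplicit false

/-!
Symmetric bilinear forms over finite fields of odd characteristic: orthonormal families,
projections, and "a non-degenerate form of dimension at least two represents 1"
(helper13's library).
-/

namespace Cfsg.Agent.Lib.Helper13

variable {F V : Type*} [Field F] [AddCommGroup V] [Module F V]

/-- An orthonormal family for a bilinear form. -/
def IsONb (B : LinearMap.BilinForm F V) {m : ℕ} (e : Fin m → V) : Prop :=
  ∀ i j, B (e i) (e j) = if i = j then 1 else 0

/-- The projection onto the span of an orthonormal family. -/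
def projB (B : LinearMap.BilinForm F V) {m : ℕ} (e : Fin m → V) : V →ₗ[F] V :=
  ∑ i, (B (e i)).smulRight (e i)

theorem projB_apply (B : LinearMap.BilinForm F V) {m : ℕ} (e : Fin m → V) (v : V) :
    projB B e v = ∑ i, B (e i) v • e i := by
  simp [projB, LinearMap.sum_apply, LinearMap.smulRight_apply]

/-- The orthogonal complement of a family. -/
def orthB (B : LinearMap.BilinForm F V) {m : ℕ} (e : Fin m → V) : Submodule F V where
  carrier := {w | ∀ i, B (e i) w = 0}
  add_mem' := by
    intro a b ha hb i
    simp only [Set.mem_ofPred_eq] at ha hb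
    simp [ha i, hb i]
  zero_mem' := by intro i; simp
  smul_mem' := by
    intro c a ha i
    simp only [Set.mem_ofPred_eq] at ha
    simp [ha i]

theorem mem_orthB {B : LinearMap.BilinForm F V} {m : ℕ} {e : Fin m → V} {w : V} :
    w ∈ orthB B e ↔ ∀ i, B (e i) w = 0 := Iff.rfl

theorem sub_projB_mem {B : LinearMap.BilinForm F V} {m : ℕ} {e : Fin m → V} (h : IsONb B e)
    (v : V) : v - projB B e v ∈ orthB B e := by
  intro j
  rw [map_sub, projB_apply, map_sum, Finset.sum_eq_single j]
  · rw [map_smul, h j j]; simp
  · intro i _ hij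
    have : ¬ j = i := fun hh => hij hh.symm
    rw [map_smul, h j i]; simp [this]
  · intro hj; exact absurd (Finset.mem_univ j) hj

theorem projB_mem_span (B : LinearMap.BilinForm F V) {m : ℕ} (e : Fin m → V) (v : V) :
    projB B e v ∈ Submodule.span F (Set.range e) := by
  rw [projB_apply]
  apply Submodule.sum_mem
  intro i _
  exact Submodule.smul_mem _ _ (Submodule.subset_span ⟨i, rfl⟩)

theorem projB_of_mem_orthB {B : LinearMap.BilinForm F V} {m : ℕ} {e : Fin m → V} {w : V}
    (hw : w ∈ orthB B e) : projB B e w = 0 := by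
  rw [projB_apply]
  apply Finset.sum_eq_zero
  intro i _
  rw [hw i, zero_smul]

theorem projB_basis {B : LinearMap.BilinForm F V} {m : ℕ} {e : Fin m → V} (h : IsONb B e)
    (j : Fin m) : projB B e (e j) = e j := by
  rw [projB_apply, Finset.sum_eq_single j]
  · rw [h j j]; simp
  · intro i _ hij
    rw [h i j]; simp [hij]
  · intro hj; exact absurd (Finset.mem_univ j) hj

theorem projB_of_mem_span {B : LinearMap.BilinForm F V} {m : ℕ} {e : Fin m → V} (h : IsONb B e)
    {x : V} (hx : x ∈ Submodule.span F (Set.range e)) : projB B e x = x := by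
  induction hx using Submodule.span_induction with
  | mem v hv =>
    obtain ⟨i, rfl⟩ := hv
    exact projB_basis h i
  | zero => simp
  | add u v _ _ hu hv => rw [map_add, hu, hv]
  | smul a u _ hu => rw [map_smul, hu]

theorem onb_linearIndependent {B : LinearMap.BilinForm F V} {m : ℕ} {e : Fin m → V}
    (h : IsONb B e) : LinearIndependent F e := by
  have h' : ∀ i j, B (e i) (e j) = if i = j then 1 else 0 := h
  rw [Fintype.linearIndependent_iff]
  intro g hg j
  have := congrArg (fun x => B (e j) x) hg
  simp only [map_sum, map_smul, h', smul_eq_mul, mul_ite, mul_one, mul_zero,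
    Finset.sum_ite_eq, Finset.mem_univ, if_true, map_zero] at this
  exact this

theorem isCompl_span_orthB {B : LinearMap.BilinForm F V} {m : ℕ} {e : Fin m → V}
    (h : IsONb B e) : IsCompl (Submodule.span F (Set.range e)) (orthB B e) := by
  constructor
  · rw [Submodule.disjoint_def]
    intro x hxU hxW
    rw [← projB_of_mem_span h hxU]
    exact projB_of_mem_orthB hxW
  · rw [codisjoint_iff, eq_top_iff]
    intro v _
    have h1 : v = projB B e v + (v - projB B e v) := by abel
    rw [h1]
    exact Submodule.add_mem_sup (projB_mem_span B e v) (sub_projB_mem h v)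

theorem finrank_orthB [FiniteDimensional F V] {B : LinearMap.BilinForm F V} {m : ℕ}
    {e : Fin m → V} (h : IsONb B e) :
    m + Module.finrank F (orthB B e) = Module.finrank F V := by
  have h1 := Submodule.finrank_add_eq_of_isCompl (isCompl_span_orthB h)
  rw [finrank_span_eq_card (onb_linearIndependent h), Fintype.card_fin] at h1
  exact h1

/-- The restriction of a non-degenerate symmetric form to the orthogonal complement of an
orthonormal family is non-degenerate. -/
theorem orthB_nondeg {B : LinearMap.BilinForm F V} (hS : B.IsSymm) (hB : B.Nondegenerate)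
    {m : ℕ} {e : Fin m → V} (h : IsONb B e) {w : V} (hw : w ∈ orthB B e)
    (hww : ∀ w' ∈ orthB B e, B w w' = 0) : w = 0 := by
  apply hB.1 w
  intro v
  have h1 : v = (v - projB B e v) + projB B e v := by abel
  rw [h1, map_add, hww _ (sub_projB_mem h v), zero_add, projB_apply, map_sum]
  apply Finset.sum_eq_zero
  intro i _
  have : B w (e i) = 0 := by
    have h3 : B w (e i) = B (e i) w := hS.eq w (e i)
    rw [h3]; exact hw i
  rw [map_smul, this, smul_zero]

theorem onb_snoc {B : LinearMap.BilinForm F V} (hS : B.IsSymm) {m : ℕ} {e : Fin m → V}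
    (h : IsONb B e) {w : V} (hw : w ∈ orthB B e) (hww : B w w = 1) :
    IsONb B (Fin.snoc e w : Fin (m + 1) → V) := by
  have hsymm : ∀ x y, B x y = B y x := fun x y => by
    have := hS.eq x y
    simpa using this
  intro i j
  rcases Fin.eq_castSucc_or_eq_last i with ⟨i', rfl⟩ | rfl
  · rcases Fin.eq_castSucc_or_eq_last j with ⟨j', rfl⟩ | rfl
    · simp only [Fin.snoc_castSucc, h i' j', Fin.castSucc_inj]
    · simp only [Fin.snoc_castSucc, Fin.snoc_last]
      rw [hw i']
      have : Fin.castSucc i' ≠ Fin.last m := (Fin.castSucc_lt_last i').ne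
      simp [this]
  · rcases Fin.eq_castSucc_or_eq_last j with ⟨j', rfl⟩ | rfl
    · simp only [Fin.snoc_castSucc, Fin.snoc_last]
      rw [hsymm, hw j']
      have : Fin.last m ≠ Fin.castSucc j' := (Fin.castSucc_lt_last j').ne'
      simp [this]
    · simp only [Fin.snoc_last, hww, if_true]

/-- In a subspace on which a symmetric form (char ≠ 2) is non-degenerate and which is non-zero
there is a non-isotropic vector. -/
theorem exists_nonisotropic {B : LinearMap.BilinForm F V} (hS : B.IsSymm) (h2 : (2 : F) ≠ 0)
    (W : Submodule F V) (hW0 : W ≠ ⊥)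
    (hWnd : ∀ w ∈ W, (∀ w' ∈ W, B w w' = 0) → w = 0) : ∃ u ∈ W, B u u ≠ 0 := by
  have hsymm : ∀ x y, B x y = B y x := fun x y => by
    have := hS.eq x y
    simpa using this
  by_contra hcon
  push Not at hcon
  obtain ⟨w0, hw0W, hw0⟩ := (Submodule.ne_bot_iff W).mp hW0
  apply hw0
  apply hWnd w0 hw0W
  intro w' hw'
  have h1 := hcon (w0 + w') (W.add_mem hw0W hw')
  simp only [map_add, LinearMap.add_apply, hcon w0 hw0W, hcon w' hw', zero_add, add_zero] at h1
  rw [hsymm w' w0] at h1
  have : (2 : F) * B w0 w' = 0 := by linear_combination h1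
  rcases mul_eq_zero.mp this with h | h
  · exact absurd h h2
  · exact h

/-- Over a finite field of odd order, `a x² + b y² = 1` is solvable for `a, b ≠ 0`. -/
theorem exists_sq_add_sq_eq_one [Finite F] (h2 : (2 : F) ≠ 0) (a b : F) (ha : a ≠ 0)
    (hb : b ≠ 0) : ∃ x y : F, a * x ^ 2 + b * y ^ 2 = 1 := by
  classical
  have : Fintype F := Fintype.ofFinite F
  have hchar : ringChar F ≠ 2 := by
    intro h
    apply h2
    have : ((2 : ℕ) : F) = 0 := by
      rw [← h]; exact ringChar.Nat.cast_ringChar
    exact_mod_cast this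
  have hodd : Fintype.card F % 2 = 1 := FiniteField.odd_card_of_char_ne_two hchar
  open Polynomial in
  obtain ⟨x, y, hxy⟩ := FiniteField.exists_root_sum_quadratic
    (f := (C a * X ^ 2 : F[X])) (g := (C b * X ^ 2 - C 1 : F[X]))
    (by rw [degree_C_mul_X_pow 2 ha]; rfl)
    (by
      rw [degree_sub_eq_left_of_degree_lt]
      · rw [degree_C_mul_X_pow 2 hb]; rfl
      · rw [degree_C_mul_X_pow 2 hb]
        exact lt_of_le_of_lt degree_C_le (by decide))
    hodd
  refine ⟨x, y, ?_⟩
  simp only [Polynomial.eval_mul, Polynomial.eval_C, Polynomial.eval_pow, Polynomial.eval_X,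
    Polynomial.eval_sub] at hxy
  linear_combination hxy

/-- A non-degenerate symmetric form on a subspace of dimension at least two over a finite field
of odd order represents `1`. -/
theorem exists_norm_one [Finite F] [FiniteDimensional F V] {B : LinearMap.BilinForm F V}
    (hS : B.IsSymm) (h2 : (2 : F) ≠ 0) (W : Submodule F V) (hdim : 2 ≤ Module.finrank F W)
    (hWnd : ∀ w ∈ W, (∀ w' ∈ W, B w w' = 0) → w = 0) : ∃ w ∈ W, B w w = 1 := by
  have hsymm : ∀ x y, B x y = B y x := fun x y => by
    have := hS.eq x y
    simpa using this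
  have hW0 : W ≠ ⊥ := by
    intro h
    rw [h, finrank_bot] at hdim
    omega
  obtain ⟨u1, hu1W, hu1⟩ := exists_nonisotropic hS h2 W hW0 hWnd
  -- the orthogonal complement of u1 inside W
  set W' : Submodule F V := W ⊓ LinearMap.ker (B u1) with hW'
  have hW'nd : ∀ w ∈ W', (∀ w' ∈ W', B w w' = 0) → w = 0 := by
    intro w hw hww
    apply hWnd w hw.1
    intro w' hw'
    have hwu : B w u1 = 0 := by rw [hsymm]; exact hw.2
    set c := B u1 w' / B u1 u1 with hc
    have hmem : w' - c • u1 ∈ W' := by
      refine ⟨W.sub_mem hw' (W.smul_mem _ hu1W), ?_⟩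
      change B u1 (w' - c • u1) = 0
      rw [map_sub, map_smul, smul_eq_mul, hc, div_mul_cancel₀ _ hu1, sub_self]
    have h1 : w' = (w' - c • u1) + c • u1 := by abel
    rw [h1, map_add, hww _ hmem, map_smul, hwu, smul_zero, add_zero]
  have hW'0 : W' ≠ ⊥ := by
    intro hbot
    -- W ≤ span{u1}
    have hle : W ≤ Submodule.span F {u1} := by
      intro w hw
      set c := B u1 w / B u1 u1 with hc
      have hmem : w - c • u1 ∈ W' := by
        refine ⟨W.sub_mem hw (W.smul_mem _ hu1W), ?_⟩
        change B u1 (w - c • u1) = 0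
        rw [map_sub, map_smul, smul_eq_mul, hc, div_mul_cancel₀ _ hu1, sub_self]
      rw [hbot, Submodule.mem_bot, sub_eq_zero] at hmem
      rw [hmem]
      exact Submodule.smul_mem _ _ (Submodule.mem_span_singleton_self u1)
    have h1 := Submodule.finrank_mono hle
    have h3 : Module.finrank F (Submodule.span F {u1}) ≤ 1 := by
      have := finrank_span_le_card ({u1} : Set V) (R := F)
      simpa using this
    omega
  obtain ⟨u2, hu2W', hu2⟩ := exists_nonisotropic hS h2 W' hW'0 hW'nd
  have hu12 : B u1 u2 = 0 := hu2W'.2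
  obtain ⟨x, y, hxy⟩ := exists_sq_add_sq_eq_one h2 (B u1 u1) (B u2 u2) hu1 hu2
  refine ⟨x • u1 + y • u2, W.add_mem (W.smul_mem _ hu1W) (W.smul_mem _ hu2W'.1), ?_⟩
  simp only [map_add, map_smul, LinearMap.add_apply, LinearMap.smul_apply, smul_eq_mul, hu12,
    hsymm u2 u1, mul_zero, add_zero, zero_add]
  linear_combination hxy

end Cfsg.Agent.Lib.Helper13
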