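import Mathlib
import Cfsg.Agent.Lib.Helper13.Spinor
import Cfsg.Agent.Lib.Helper13.SymmForm

set_option autoImplicit false
set_option linter.unusedSimpArgs false
set_option linter.unnecessarySeqFocus false

/-!
The commutator subgroup of the isometry group of a quadratic form over a finite field of odd
characteristic has index four (helper13's library).
-/

namespace Cfsg.Agent.Lib.Helper13

variable {F V : Type*} [Field F] [AddCommGroup V] [Module F V]

local notation "pol" => QuadraticMap.polar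

/-- A quadratic form with non-degenerate polar form in dimension at least two over a finite field
of odd characteristic represents every non-zero scalar. -/
theorem exists_Q_eq [Finite F] [FiniteDimensional F V] (Q : QuadraticForm F V)
    (hQ : (QuadraticMap.polarBilin Q).Nondegenerate) (h2 : (2 : F) ≠ 0)
    (hdim : 2 ≤ Module.finrank F V) (c : F) (hc : c ≠ 0) : ∃ v : V, Q v = c := by
  have h2c : (2 * c) ≠ 0 := mul_ne_zero h2 hc
  have hS : LinearMap.BilinForm.IsSymm
      ((2 * c)⁻¹ • QuadraticMap.polarBilin Q : LinearMap.BilinForm F V) := by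
    rw [LinearMap.BilinForm.isSymm_def]
    intro x y
    simp only [LinearMap.smul_apply, polarBilin_app]
    rw [QuadraticMap.polar_comm]
  obtain ⟨w, -, hw⟩ := exists_norm_one hS h2 ⊤ (by rw [finrank_top]; exact hdim) (by
    intro w _ hw
    apply hQ.1
    intro w'
    have := hw w' Submodule.mem_top
    simp only [LinearMap.smul_apply, smul_eq_mul] at this
    rcases mul_eq_zero.mp this with h | h
    · exact absurd h (inv_ne_zero h2c)
    · exact h)
  refine ⟨w, ?_⟩
  simp only [LinearMap.smul_apply, polarBilin_app, polar_self', smul_eq_mul] at hw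
  field_simp at hw
  exact hw

/-- Reflections along vectors whose norms differ by a square are conjugate in the isometry
group. -/
theorem refl_conj_of_sq [FiniteDimensional F V] (Q : QuadraticForm F V)
    (hQ : (QuadraticMap.polarBilin Q).Nondegenerate)
    (v v' : V) (hv : Q v ≠ 0) (a : F) (ha : a ≠ 0) (hv' : Q v' = a ^ 2 * Q v) (T T' : V ≃ₗ[F] V)
    (hT : ∀ z, T z = reflLin Q v z) (hT' : ∀ z, T' z = reflLin Q v' z) :
    ∃ h ∈ isoGroup Q, h * T * h⁻¹ = T' := by
  have hQv' : Q v' ≠ 0 := by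
    rw [hv']
    exact mul_ne_zero (pow_ne_zero 2 ha) hv
  have hQav : Q (a • v) = Q v' := by
    rw [QuadraticMap.map_smul, smul_eq_mul, hv']
    ring
  have hav0 : a • v ≠ 0 := by
    intro h0
    rw [h0, QuadraticMap.map_zero] at hQav
    exact hQv' hQav.symm
  have hv'0 : v' ≠ 0 := by
    rintro rfl
    exact hQv' (QuadraticMap.map_zero Q)
  obtain ⟨h, hh, -, hhv⟩ := quad_core Q hQ ⊥ (a • v) v'
    (by rw [Submodule.mem_bot]; exact hav0) (by rw [Submodule.mem_bot]; exact hv'0)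
    hQav (by
      intro x hx
      rw [Submodule.mem_bot] at hx
      rw [hx, QuadraticMap.polar_zero_left])
  have hpolh : ∀ z w, pol (⇑Q) (h z) (h w) = pol (⇑Q) z w := by
    intro z w
    unfold QuadraticMap.polar
    rw [← map_add, hh, hh, hh]
  have hhv1 : h v = a⁻¹ • v' := by
    rw [← hhv, map_smul, smul_smul, inv_mul_cancel₀ ha, one_smul]
  refine ⟨h, hh, ?_⟩
  apply LinearEquiv.ext
  intro z
  change h (T (h⁻¹ z)) = T' z
  have hz : h (h⁻¹ z) = z := h.apply_symm_apply z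
  rw [hT, hT', reflLin_apply, reflLin_apply, map_sub, map_smul, hz, ← hpolh v (h⁻¹ z), hz, hhv1,
    QuadraticMap.polar_smul_left, hv', smul_smul]
  congr 2
  simp only [smul_eq_mul]
  field_simp

/-- In a field in which `2 ≠ 0` there is an element avoiding any two given ones. -/
theorem exists_ne_ne_of_two_ne_zero (h2 : (2 : F) ≠ 0) (a b : F) : ∃ x : F, x ≠ a ∧ x ≠ b := by
  by_contra hcon
  push Not at hcon
  have h1m : (1 : F) ≠ -1 := by
    intro h
    apply h2
    linear_combination h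
  have h0m : (0 : F) ≠ -1 := by
    intro h
    have : (1 : F) = 0 := by linear_combination h
    exact one_ne_zero this
  by_cases ha0 : (0 : F) = a
  · have e1 := hcon 1 (by rw [← ha0]; exact one_ne_zero)
    have e2 := hcon (-1) (by rw [← ha0]; exact fun h => h0m h.symm)
    exact h1m (e1.trans e2.symm)
  · by_cases ha1 : (1 : F) = a
    · have e1 := hcon 0 ha0
      have e2 := hcon (-1) (by rw [← ha1]; exact fun h => h1m h.symm)
      exact h0m (e1.trans e2.symm)
    · have e1 := hcon 0 ha0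
      have e2 := hcon 1 ha1
      exact zero_ne_one (e1.trans e2.symm)

/-- A commutative group generated (in the weak sense below) by two involutions has at most four
elements. -/
theorem card_le_four_of_two_involutions {A : Type*} [CommGroup A] (ρ₁ ρ₂ : A)
    (h₁ : ρ₁ ^ 2 = 1) (h₂ : ρ₂ ^ 2 = 1) (hall : ∀ y : A, ∃ i j : ℕ, y = ρ₁ ^ i * ρ₂ ^ j) :
    Finite A ∧ Nat.card A ≤ 4 := by
  have hsurj : Function.Surjective (fun b : Fin 2 × Fin 2 => ρ₁ ^ (b.1 : ℕ) * ρ₂ ^ (b.2 : ℕ)) := by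
    intro y
    obtain ⟨i, j, rfl⟩ := hall y
    refine ⟨(⟨i % 2, Nat.mod_lt _ (by norm_num)⟩, ⟨j % 2, Nat.mod_lt _ (by norm_num)⟩), ?_⟩
    change ρ₁ ^ (i % 2) * ρ₂ ^ (j % 2) = _
    rw [← pow_eq_pow_mod i h₁, ← pow_eq_pow_mod j h₂]
  have hfin : Finite A := Finite.of_surjective _ hsurj
  refine ⟨hfin, ?_⟩
  have := Nat.card_le_card_of_surjective _ hsurj
  simpa using this

section Finite

variable [Fintype F] [DecidableEq F]

/-- Over a finite field of odd characteristic, the commutator subgroup of the isometry group of a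
quadratic form with non-degenerate polar form in dimension at least two has index four; moreover
it is the common kernel of the parity and spinor norm characters. -/
theorem commutator_isoGroup_eq_ker [FiniteDimensional F V] (Q : QuadraticForm F V)
    (hQ : (QuadraticMap.polarBilin Q).Nondegenerate) (h2 : (2 : F) ≠ 0)
    (hdim : 2 ≤ Module.finrank F V)
    (hF : (∀ a b : F, ∃ x : F, x ≠ a ∧ x ≠ b) ∨ Module.finrank F V ≠ 4) :
    (commutator ↥(isoGroup Q)).index = 4 ∧
      commutator ↥(isoGroup Q) = ((parHom Q hQ hF).prod (spinHom Q hQ hF)).ker ∧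
      Function.Surjective ((parHom Q hQ hF).prod (spinHom Q hQ hF)) := by
  classical
  have hchar : ringChar F ≠ 2 := by
    intro h
    apply h2
    have : ((2 : ℕ) : F) = 0 := by
      rw [← h]; exact ringChar.Nat.cast_ringChar
    exact_mod_cast this
  obtain ⟨η, hη⟩ := FiniteField.exists_nonsquare hchar
  have hη0 : η ≠ 0 := by
    rintro rfl
    exact hη (IsSquare.zero)
  have hχη : quadraticChar F η = -1 := quadraticChar_neg_one_iff_not_isSquare.mpr hη
  obtain ⟨v₁, hv₁⟩ := exists_Q_eq Q hQ h2 hdim 1 one_ne_zero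
  obtain ⟨v₂, hv₂⟩ := exists_Q_eq Q hQ h2 hdim η hη0
  have hv₁0 : Q v₁ ≠ 0 := by rw [hv₁]; exact one_ne_zero
  have hv₂0 : Q v₂ ≠ 0 := by rw [hv₂]; exact hη0
  obtain ⟨T₁, hT₁⟩ := exists_equiv_of_isom Q hQ (reflLin Q v₁) (reflLin_isom Q v₁ hv₁0)
  obtain ⟨T₂, hT₂⟩ := exists_equiv_of_isom Q hQ (reflLin Q v₂) (reflLin_isom Q v₂ hv₂0)
  have hT₁set : T₁ ∈ reflSet Q := ⟨v₁, hv₁0, hT₁⟩
  have hT₂set : T₂ ∈ reflSet Q := ⟨v₂, hv₂0, hT₂⟩
  have hT₁mem : T₁ ∈ isoGroup Q := reflGroup_le_isoGroup Q (Subgroup.subset_closure hT₁set)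
  have hT₂mem : T₂ ∈ isoGroup Q := reflGroup_le_isoGroup Q (Subgroup.subset_closure hT₂set)
  have hT₁sq : T₁ * T₁ = 1 := by
    apply LinearEquiv.ext
    intro z
    change T₁ (T₁ z) = z
    rw [hT₁, hT₁, reflLin_reflLin Q v₁ hv₁0]
  have hT₂sq : T₂ * T₂ = 1 := by
    apply LinearEquiv.ext
    intro z
    change T₂ (T₂ z) = z
    rw [hT₂, hT₂, reflLin_reflLin Q v₂ hv₂0]
  obtain ⟨r₁, hr₁⟩ : ∃ r₁ : ↥(isoGroup Q), r₁ = ⟨T₁, hT₁mem⟩ := ⟨_, rfl⟩
  obtain ⟨r₂, hr₂⟩ : ∃ r₂ : ↥(isoGroup Q), r₂ = ⟨T₂, hT₂mem⟩ := ⟨_, rfl⟩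
  obtain ⟨ρ₁, hρ₁⟩ : ∃ ρ : Abelianization ↥(isoGroup Q), ρ = Abelianization.of r₁ := ⟨_, rfl⟩
  obtain ⟨ρ₂, hρ₂⟩ : ∃ ρ : Abelianization ↥(isoGroup Q), ρ = Abelianization.of r₂ := ⟨_, rfl⟩
  have hρ₁sq : ρ₁ ^ 2 = 1 := by
    rw [hρ₁, ← map_pow]
    have : r₁ ^ 2 = 1 := by
      rw [hr₁, pow_two]
      apply Subtype.ext
      exact hT₁sq
    rw [this, map_one]
  have hρ₂sq : ρ₂ ^ 2 = 1 := by
    rw [hρ₂, ← map_pow]
    have : r₂ ^ 2 = 1 := by
      rw [hr₂, pow_two]
      apply Subtype.ext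
      exact hT₂sq
    rw [this, map_one]
  have hρ₁inv : ρ₁⁻¹ = ρ₁ := by
    apply inv_eq_of_mul_eq_one_right
    rw [← pow_two]; exact hρ₁sq
  have hρ₂inv : ρ₂⁻¹ = ρ₂ := by
    apply inv_eq_of_mul_eq_one_right
    rw [← pow_two]; exact hρ₂sq
  -- every element of the abelianisation is a product of powers of `ρ₁` and `ρ₂`
  have hclaim : ∀ x : V ≃ₗ[F] V, x ∈ reflGroup Q → ∀ hx' : x ∈ isoGroup Q,
      ∃ i j : ℕ, Abelianization.of (⟨x, hx'⟩ : ↥(isoGroup Q)) = ρ₁ ^ i * ρ₂ ^ j := by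
    intro x hx
    unfold reflGroup at hx
    induction hx using Subgroup.closure_induction with
    | mem T hT =>
      intro hx'
      obtain ⟨v, hv, hTv⟩ := hT
      by_cases hsq : IsSquare (Q v)
      · obtain ⟨a, ha⟩ := hsq
        have ha0 : a ≠ 0 := by
          rintro rfl
          rw [mul_zero] at ha
          exact hv ha
        obtain ⟨h, hh, hconj⟩ := refl_conj_of_sq Q hQ v₁ v hv₁0 a ha0
          (by rw [hv₁, ha]; ring) T₁ T hT₁ hTv
        have : (⟨T, hx'⟩ : ↥(isoGroup Q)) = ⟨h, hh⟩ * r₁ * (⟨h, hh⟩ : ↥(isoGroup Q))⁻¹ := by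
          rw [hr₁]
          apply Subtype.ext
          exact hconj.symm
        refine ⟨1, 0, ?_⟩
        rw [this, map_mul, map_mul, map_inv, ← hρ₁, mul_comm, inv_mul_cancel_left, pow_one,
          pow_zero, mul_one]
      · have hχ : quadraticChar F (Q v * η) = 1 := by
          rw [map_mul, hχη, quadraticChar_neg_one_iff_not_isSquare.mpr hsq]
          norm_num
        obtain ⟨b, hb⟩ := (quadraticChar_one_iff_isSquare (mul_ne_zero hv hη0)).mp hχ
        have hb0 : b ≠ 0 := by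
          rintro rfl
          rw [mul_zero] at hb
          exact (mul_ne_zero hv hη0) hb
        obtain ⟨h, hh, hconj⟩ := refl_conj_of_sq Q hQ v₂ v hv₂0 (b / η) (div_ne_zero hb0 hη0)
          (by
            rw [hv₂]
            field_simp
            linear_combination hb) T₂ T hT₂ hTv
        have : (⟨T, hx'⟩ : ↥(isoGroup Q)) = ⟨h, hh⟩ * r₂ * (⟨h, hh⟩ : ↥(isoGroup Q))⁻¹ := by
          rw [hr₂]
          apply Subtype.ext
          exact hconj.symm
        refine ⟨0, 1, ?_⟩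
        rw [this, map_mul, map_mul, map_inv, ← hρ₂, mul_comm, inv_mul_cancel_left, pow_one,
          pow_zero, one_mul]
    | one =>
      intro hx'
      exact ⟨0, 0, by rw [pow_zero, pow_zero, mul_one]; exact map_one _⟩
    | mul a b ha hb iha ihb =>
      intro hx'
      have ha' : a ∈ isoGroup Q := reflGroup_le_isoGroup Q ha
      have hb' : b ∈ isoGroup Q := reflGroup_le_isoGroup Q hb
      have : (⟨a * b, hx'⟩ : ↥(isoGroup Q)) = ⟨a, ha'⟩ * ⟨b, hb'⟩ := rfl
      obtain ⟨i, j, hij⟩ := iha ha'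
      obtain ⟨i', j', hij'⟩ := ihb hb'
      refine ⟨i + i', j + j', ?_⟩
      rw [this, map_mul, hij, hij', pow_add, pow_add, mul_mul_mul_comm]
    | inv a ha iha =>
      intro hx'
      have ha' : a ∈ isoGroup Q := reflGroup_le_isoGroup Q ha
      have : (⟨a⁻¹, hx'⟩ : ↥(isoGroup Q)) = (⟨a, ha'⟩ : ↥(isoGroup Q))⁻¹ := rfl
      obtain ⟨i, j, hij⟩ := iha ha'
      refine ⟨i, j, ?_⟩
      rw [this, map_inv, hij, mul_inv, ← inv_pow, ← inv_pow, hρ₁inv, hρ₂inv]
  have hall : ∀ y : Abelianization ↥(isoGroup Q), ∃ i j : ℕ, y = ρ₁ ^ i * ρ₂ ^ j := by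
    intro y
    obtain ⟨g, rfl⟩ := QuotientGroup.mk_surjective y
    exact hclaim g.1 (isoGroup_le_reflGroup Q hQ hF g.2) g.2
  obtain ⟨hfin, hcard_le⟩ := card_le_four_of_two_involutions ρ₁ ρ₂ hρ₁sq hρ₂sq hall
  have hcard_pos : 0 < Nat.card (Abelianization ↥(isoGroup Q)) := Nat.card_pos
  -- the character `(parity, spinor norm)` is onto
  obtain ⟨φ, hφ⟩ : ∃ φ : ↥(isoGroup Q) →* Multiplicative (ZMod 2) × ℤˣ,
      φ = (parHom Q hQ hF).prod (spinHom Q hQ hF) := ⟨_, rfl⟩
  have hker : commutator ↥(isoGroup Q) ≤ φ.ker := Abelianization.commutator_subset_ker _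
  have hφr₁ : φ r₁ = (Multiplicative.ofAdd (1 : ZMod 2), 1) := by
    rw [hφ, MonoidHom.prod_apply, parHom_apply, hr₁]
    refine Prod.ext ?_ ?_
    · change Multiplicative.ofAdd (par T₁) = _
      rw [par_refl Q hQ T₁ hT₁set]
    · apply Units.ext
      change spin Q T₁ = _
      rw [spin_refl Q hQ v₁ hv₁0 T₁ hT₁, hv₁, map_one]
      rfl
  have hφr₂ : φ r₂ = (Multiplicative.ofAdd (1 : ZMod 2), -1) := by
    rw [hφ, MonoidHom.prod_apply, parHom_apply, hr₂]
    refine Prod.ext ?_ ?_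
    · change Multiplicative.ofAdd (par T₂) = _
      rw [par_refl Q hQ T₂ hT₂set]
    · apply Units.ext
      change spin Q T₂ = _
      rw [spin_refl Q hQ v₂ hv₂0 T₂ hT₂, hv₂, hχη]
      rfl
  have hpsurj : Function.Surjective φ := by
    rintro ⟨y1, y2⟩
    have hy1 : y1 = Multiplicative.ofAdd (0 : ZMod 2) ∨ y1 = Multiplicative.ofAdd (1 : ZMod 2) := by
      have : ∀ t : ZMod 2, t = 0 ∨ t = 1 := by decide
      rcases this (Multiplicative.toAdd y1) with h | h
      · left; rw [← h]; rfl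
      · right; rw [← h]; rfl
    rcases hy1 with rfl | rfl <;> rcases Int.units_eq_one_or y2 with rfl | rfl
    · exact ⟨1, map_one _⟩
    · refine ⟨r₁ * r₂, ?_⟩
      rw [map_mul, hφr₁, hφr₂]
      rfl
    · exact ⟨r₁, hφr₁⟩
    · exact ⟨r₂, hφr₂⟩
  have hindex_ker : φ.ker.index = 4 := by
    rw [Subgroup.index_ker, MonoidHom.range_eq_top.mpr hpsurj, Subgroup.card_top]
    simp [Nat.card_eq_fintype_card]
  have hdvd : 4 ∣ (commutator ↥(isoGroup Q)).index := by
    rw [← hindex_ker]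
    exact Subgroup.index_dvd_of_le hker
  have hidx : (commutator ↥(isoGroup Q)).index = Nat.card (Abelianization ↥(isoGroup Q)) :=
    Subgroup.index_eq_card _
  have hidx4 : (commutator ↥(isoGroup Q)).index = 4 := by
    rw [hidx] at hdvd ⊢
    obtain ⟨c, hc⟩ := hdvd
    have : c = 1 := by
      rcases c with _ | _ | c
      · omega
      · rfl
      · omega
    rw [hc, this]
  refine ⟨hidx4, ?_, ?_⟩
  · rw [← hφ]
    apply le_antisymm hker
    have h1 := Subgroup.relIndex_mul_index hker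
    rw [hindex_ker, hidx4] at h1
    have h3 : (commutator ↥(isoGroup Q)).relIndex φ.ker = 1 := by omega
    exact Subgroup.relIndex_eq_one.mp h3
  · rw [← hφ]; exact hpsurj

end Finite

end Cfsg.Agent.Lib.Helper13
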