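import Mathlib
import Cfsg.Agent.Lib.Helper13.SpinorIndex

set_option autoImplicit false
set_option linter.unusedSimpArgs false
set_option linter.unnecessarySeqFocus false

/-!
The rotation subgroup (products of an even number of reflections) of the isometry group of a
quadratic form over a finite field of odd characteristic has a unique subgroup of index two
(helper13's library).
-/

namespace Cfsg.Agent.Lib.Helper13

variable {F V : Type*} [Field F] [AddCommGroup V] [Module F V]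

local notation "pol" => QuadraticMap.polar

/-- Products of two reflections. -/
def pairSet (Q : QuadraticForm F V) : Set (V ≃ₗ[F] V) :=
  {g | ∃ T ∈ reflSet Q, ∃ T' ∈ reflSet Q, g = T * T'}

/-- The group generated by products of two reflections. -/
def pairGroup (Q : QuadraticForm F V) : Subgroup (V ≃ₗ[F] V) := Subgroup.closure (pairSet Q)

theorem refl_mul_self (Q : QuadraticForm F V) {T : V ≃ₗ[F] V} (hT : T ∈ reflSet Q) :
    T * T = 1 := by
  obtain ⟨v, hv, hTv⟩ := hT
  apply LinearEquiv.ext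
  intro z
  change T (T z) = z
  rw [hTv, hTv, reflLin_reflLin Q v hv]

theorem refl_inv (Q : QuadraticForm F V) {T : V ≃ₗ[F] V} (hT : T ∈ reflSet Q) : T⁻¹ = T :=
  inv_eq_of_mul_eq_one_right (refl_mul_self Q hT)

theorem pair_mem_pairGroup (Q : QuadraticForm F V) {T T' : V ≃ₗ[F] V} (hT : T ∈ reflSet Q)
    (hT' : T' ∈ reflSet Q) : T * T' ∈ pairGroup Q :=
  Subgroup.subset_closure ⟨T, hT, T', hT', rfl⟩

/-- The group of rotations is normalised by every reflection. -/
theorem conj_mem_pairGroup (Q : QuadraticForm F V) {T : V ≃ₗ[F] V} (hT : T ∈ reflSet Q)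
    {x : V ≃ₗ[F] V} (hx : x ∈ pairGroup Q) : T * x * T ∈ pairGroup Q := by
  have hTT := refl_mul_self Q hT
  unfold pairGroup at hx
  induction hx using Subgroup.closure_induction with
  | mem g hg =>
    obtain ⟨A, hA, B, hB, rfl⟩ := hg
    have : T * (A * B) * T = (T * A) * (B * T) := by group
    rw [this]
    exact Subgroup.mul_mem _ (pair_mem_pairGroup Q hT hA) (pair_mem_pairGroup Q hB hT)
  | one =>
    rw [mul_one, hTT]
    exact Subgroup.one_mem _
  | mul a b _ _ iha ihb =>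
    have : T * (a * b) * T = (T * a * T) * (T * b * T) := by
      calc T * (a * b) * T = T * a * 1 * b * T := by group
        _ = T * a * (T * T) * b * T := by rw [hTT]
        _ = (T * a * T) * (T * b * T) := by group
    rw [this]
    exact Subgroup.mul_mem _ iha ihb
  | inv a _ iha =>
    have : T * a⁻¹ * T = (T * a * T)⁻¹ := by
      rw [mul_inv_rev, mul_inv_rev, refl_inv Q hT, mul_assoc]
    rw [this]
    exact Subgroup.inv_mem _ iha

/-- Every product of reflections is a rotation or a rotation times any given reflection. -/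
theorem mem_pairGroup_or (Q : QuadraticForm F V) {g : V ≃ₗ[F] V} (hg : g ∈ reflGroup Q) :
    ∀ T ∈ reflSet Q, g ∈ pairGroup Q ∨ g * T ∈ pairGroup Q := by
  unfold reflGroup at hg
  induction hg using Subgroup.closure_induction with
  | mem A hA =>
    intro T hT
    right
    exact pair_mem_pairGroup Q hA hT
  | one =>
    intro T _
    left
    exact Subgroup.one_mem _
  | mul a b _ _ iha ihb =>
    intro T hT
    have hTT := refl_mul_self Q hT
    rcases iha T hT with ha | ha <;> rcases ihb T hT with hb | hb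
    · left
      exact Subgroup.mul_mem _ ha hb
    · right
      rw [mul_assoc]
      exact Subgroup.mul_mem _ ha hb
    · right
      have : a * b * T = (a * T) * (T * b * T) := by
        calc a * b * T = a * 1 * b * T := by group
          _ = a * (T * T) * b * T := by rw [hTT]
          _ = (a * T) * (T * b * T) := by group
      rw [this]
      exact Subgroup.mul_mem _ ha (conj_mem_pairGroup Q hT hb)
    · left
      have : a * b = (a * T) * (T * (b * T) * T) := by
        calc a * b = a * 1 * b * 1 := by group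
          _ = a * (T * T) * b * (T * T) := by rw [hTT]
          _ = (a * T) * (T * (b * T) * T) := by group
      rw [this]
      exact Subgroup.mul_mem _ ha (conj_mem_pairGroup Q hT hb)
  | inv a _ iha =>
    intro T hT
    have hTT := refl_mul_self Q hT
    rcases iha T hT with ha | ha
    · left
      exact Subgroup.inv_mem _ ha
    · right
      have : a⁻¹ * T = T * (a * T)⁻¹ * T := by
        rw [mul_inv_rev, refl_inv Q hT]
        calc a⁻¹ * T = 1 * a⁻¹ * T := by group
          _ = (T * T) * a⁻¹ * T := by rw [hTT]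
          _ = T * (T * a⁻¹) * T := by group
      rw [this]
      exact conj_mem_pairGroup Q hT (Subgroup.inv_mem _ ha)

theorem pairGroup_le_reflGroup (Q : QuadraticForm F V) : pairGroup Q ≤ reflGroup Q := by
  unfold pairGroup
  rw [Subgroup.closure_le]
  rintro _ ⟨T, hT, T', hT', rfl⟩
  exact Subgroup.mul_mem _ (Subgroup.subset_closure hT) (Subgroup.subset_closure hT')

/-- The rotations are the isometries of even parity. -/
theorem mem_pairGroup_iff [FiniteDimensional F V] (Q : QuadraticForm F V)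
    (hQ : (QuadraticMap.polarBilin Q).Nondegenerate)
    (hF : (∀ a b : F, ∃ x : F, x ≠ a ∧ x ≠ b) ∨ Module.finrank F V ≠ 4)
    (hne : ∃ v : V, Q v ≠ 0) (g : V ≃ₗ[F] V) :
    g ∈ pairGroup Q ↔ g ∈ isoGroup Q ∧ par g = 0 := by
  have hpar : ∀ x ∈ pairGroup Q, par x = 0 := by
    intro x hx
    unfold pairGroup at hx
    induction hx using Subgroup.closure_induction with
    | mem y hy =>
      obtain ⟨A, hA, B, hB, rfl⟩ := hy
      rw [par_mul Q hQ A (Subgroup.subset_closure hA) B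
        (reflGroup_le_isoGroup Q (Subgroup.subset_closure hB)), par_refl Q hQ A hA,
        par_refl Q hQ B hB]
      exact CharTwo.add_self_eq_zero _
    | one => exact par_one
    | mul a b ha hb iha ihb =>
      rw [par_mul Q hQ a (pairGroup_le_reflGroup Q ha) b
        (reflGroup_le_isoGroup Q (pairGroup_le_reflGroup Q hb)), iha, ihb, add_zero]
    | inv a ha iha =>
      have ha' := pairGroup_le_reflGroup Q ha
      have h1 := par_mul Q hQ a ha' a⁻¹ (Subgroup.inv_mem _ (reflGroup_le_isoGroup Q ha'))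
      rw [mul_inv_cancel, par_one, iha, zero_add] at h1
      exact h1.symm
  constructor
  · intro hg
    exact ⟨reflGroup_le_isoGroup Q (pairGroup_le_reflGroup Q hg), hpar g hg⟩
  · rintro ⟨hg, hp⟩
    obtain ⟨v₀, hv₀⟩ := hne
    obtain ⟨T₀, hT₀⟩ := exists_equiv_of_isom Q hQ (reflLin Q v₀) (reflLin_isom Q v₀ hv₀)
    have hT₀set : T₀ ∈ reflSet Q := ⟨v₀, hv₀, hT₀⟩
    rcases mem_pairGroup_or Q (isoGroup_le_reflGroup Q hQ hF hg) T₀ hT₀set with h | h
    · exact h
    · exfalso
      have h1 := hpar _ h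
      rw [par_mul Q hQ g (isoGroup_le_reflGroup Q hQ hF hg) T₀
        (reflGroup_le_isoGroup Q (Subgroup.subset_closure hT₀set)), hp, zero_add,
        par_refl Q hQ T₀ hT₀set] at h1
      exact one_ne_zero h1

/-- Reflections along vectors whose norms differ by a square are conjugate under a rotation. -/
theorem refl_conj_pairGroup [FiniteDimensional F V] (Q : QuadraticForm F V)
    (hQ : (QuadraticMap.polarBilin Q).Nondegenerate)
    (hF : (∀ a b : F, ∃ x : F, x ≠ a ∧ x ≠ b) ∨ Module.finrank F V ≠ 4)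
    (v v' : V) (hv : Q v ≠ 0) (a : F) (ha : a ≠ 0) (hv' : Q v' = a ^ 2 * Q v) (T T' : V ≃ₗ[F] V)
    (hT : ∀ z, T z = reflLin Q v z) (hT' : ∀ z, T' z = reflLin Q v' z) :
    ∃ h ∈ pairGroup Q, h * T * h⁻¹ = T' := by
  obtain ⟨h, hh, hconj⟩ := refl_conj_of_sq Q hQ v v' hv a ha hv' T T' hT hT'
  have hTset : T ∈ reflSet Q := ⟨v, hv, hT⟩
  have hne : ∃ v : V, Q v ≠ 0 := ⟨v, hv⟩
  by_cases hp : par h = 0
  · exact ⟨h, (mem_pairGroup_iff Q hQ hF hne h).mpr ⟨hh, hp⟩, hconj⟩
  · have hp1 : par h = 1 := by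
      have : ∀ t : ZMod 2, t ≠ 0 → t = 1 := by decide
      exact this _ hp
    have hTmem : T ∈ isoGroup Q := reflGroup_le_isoGroup Q (Subgroup.subset_closure hTset)
    refine ⟨h * T, (mem_pairGroup_iff Q hQ hF hne _).mpr ⟨Subgroup.mul_mem _ hh hTmem, ?_⟩, ?_⟩
    · rw [par_mul Q hQ h (isoGroup_le_reflGroup Q hQ hF hh) T hTmem, hp1, par_refl Q hQ T hTset]
      exact CharTwo.add_self_eq_zero _
    · rw [← hconj]
      group

section Finite

variable [Fintype F] [DecidableEq F]

theorem spin_mul' [FiniteDimensional F V] (Q : QuadraticForm F V)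
    (hQ : (QuadraticMap.polarBilin Q).Nondegenerate)
    (hF : (∀ a b : F, ∃ x : F, x ≠ a ∧ x ≠ b) ∨ Module.finrank F V ≠ 4) {x y : V ≃ₗ[F] V}
    (hx : x ∈ isoGroup Q) (hy : y ∈ isoGroup Q) : spin Q (x * y) = spin Q x * spin Q y :=
  spin_mul Q hQ x (isoGroup_le_reflGroup Q hQ hF hx) y hy

theorem spin_eq_one_or [FiniteDimensional F V] (Q : QuadraticForm F V)
    (hQ : (QuadraticMap.polarBilin Q).Nondegenerate)
    (hF : (∀ a b : F, ∃ x : F, x ≠ a ∧ x ≠ b) ∨ Module.finrank F V ≠ 4) {x : V ≃ₗ[F] V}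
    (hx : x ∈ isoGroup Q) : spin Q x = 1 ∨ spin Q x = -1 := by
  rcases Int.units_eq_one_or (spinHom Q hQ hF ⟨x, hx⟩) with h | h
  · left
    have := congrArg Units.val h
    rw [spinHom_coe] at this
    exact this
  · right
    have := congrArg Units.val h
    rw [spinHom_coe] at this
    exact this

/-- The main lemma: a "character of order two" on the rotation group, given as a predicate, is the
spinor norm. -/
theorem index_two_pred_iff_spin [FiniteDimensional F V] (Q : QuadraticForm F V)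
    (hQ : (QuadraticMap.polarBilin Q).Nondegenerate) (h2 : (2 : F) ≠ 0)
    (hdim : 2 ≤ Module.finrank F V) (M : (V ≃ₗ[F] V) → Prop)
    (hM1 : ∀ a ∈ pairGroup Q, ∀ b ∈ pairGroup Q, (M (a * b) ↔ (M a ↔ M b)))
    (hM2 : M 1) (hM4 : ∃ a ∈ pairGroup Q, ¬ M a) :
    ∀ x ∈ pairGroup Q, (M x ↔ spin Q x = 1) := by
  classical
  have hF : (∀ a b : F, ∃ x : F, x ≠ a ∧ x ≠ b) ∨ Module.finrank F V ≠ 4 :=
    Or.inl (exists_ne_ne_of_two_ne_zero h2)
  have hM3 : ∀ a ∈ pairGroup Q, (M a⁻¹ ↔ M a) := by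
    intro a ha
    have := hM1 a ha a⁻¹ (Subgroup.inv_mem _ ha)
    rw [mul_inv_cancel] at this
    exact (this.mp hM2).symm
  have hchar : ringChar F ≠ 2 := by
    intro h
    apply h2
    have : ((2 : ℕ) : F) = 0 := by
      rw [← h]; exact ringChar.Nat.cast_ringChar
    exact_mod_cast this
  obtain ⟨η, hη⟩ := FiniteField.exists_nonsquare hchar
  have hη0 : η ≠ 0 := by
    rintro rfl
    exact hη (IsSquare.zero)
  have hχη : quadraticChar F η = -1 := quadraticChar_neg_one_iff_not_isSquare.mpr hη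
  obtain ⟨v₁, hv₁⟩ := exists_Q_eq Q hQ h2 hdim 1 one_ne_zero
  obtain ⟨v₂, hv₂⟩ := exists_Q_eq Q hQ h2 hdim η hη0
  have hv₁0 : Q v₁ ≠ 0 := by rw [hv₁]; exact one_ne_zero
  have hv₂0 : Q v₂ ≠ 0 := by rw [hv₂]; exact hη0
  obtain ⟨T₁, hT₁⟩ := exists_equiv_of_isom Q hQ (reflLin Q v₁) (reflLin_isom Q v₁ hv₁0)
  obtain ⟨T₂, hT₂⟩ := exists_equiv_of_isom Q hQ (reflLin Q v₂) (reflLin_isom Q v₂ hv₂0)
  have hT₁set : T₁ ∈ reflSet Q := ⟨v₁, hv₁0, hT₁⟩
  have hT₂set : T₂ ∈ reflSet Q := ⟨v₂, hv₂0, hT₂⟩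
  have hT₁sq : T₁ * T₁ = 1 := refl_mul_self Q hT₁set
  have hreflmem : ∀ T ∈ reflSet Q, T ∈ isoGroup Q := fun T hT =>
    reflGroup_le_isoGroup Q (Subgroup.subset_closure hT)
  have hpairiso : ∀ x ∈ pairGroup Q, x ∈ isoGroup Q := fun x hx =>
    reflGroup_le_isoGroup Q (pairGroup_le_reflGroup Q hx)
  -- (i) conjugation by `T₁` does not change `M`
  have hconj : ∀ x ∈ pairGroup Q, (M (T₁ * x * T₁) ↔ M x) := by
    intro x hx
    unfold pairGroup at hx
    induction hx using Subgroup.closure_induction with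
    | mem g hg =>
      obtain ⟨A, hA, B, hB, rfl⟩ := hg
      have e1 : T₁ * (A * B) * T₁ = (T₁ * A) * (B * T₁) := by group
      have e2 : A * B = (A * T₁) * (T₁ * B) := by
        rw [mul_assoc, ← mul_assoc T₁, hT₁sq, one_mul]
      have e3 : T₁ * A = (A * T₁)⁻¹ := by
        rw [mul_inv_rev, refl_inv Q hT₁set, refl_inv Q hA]
      have e4 : T₁ * B = (B * T₁)⁻¹ := by
        rw [mul_inv_rev, refl_inv Q hT₁set, refl_inv Q hB]
      have hAT := pair_mem_pairGroup Q hA hT₁set
      have hBT := pair_mem_pairGroup Q hB hT₁set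
      have hTA := pair_mem_pairGroup Q hT₁set hA
      have hTB := pair_mem_pairGroup Q hT₁set hB
      have h1 : M (T₁ * A * (B * T₁)) ↔ (M (T₁ * A) ↔ M (B * T₁)) := hM1 _ hTA _ hBT
      have h2 : M (A * T₁ * (T₁ * B)) ↔ (M (A * T₁) ↔ M (T₁ * B)) := hM1 _ hAT _ hTB
      have hTA' : M (T₁ * A) ↔ M (A * T₁) := by
        rw [e3]; exact hM3 _ hAT
      have hTB' : M (T₁ * B) ↔ M (B * T₁) := by
        rw [e4]; exact hM3 _ hBT
      rw [e1, e2, h1, h2, hTA', hTB']
    | one =>
      rw [mul_one, hT₁sq]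
    | mul a b ha hb iha ihb =>
      have : T₁ * (a * b) * T₁ = (T₁ * a * T₁) * (T₁ * b * T₁) := by
        calc T₁ * (a * b) * T₁ = T₁ * a * 1 * b * T₁ := by group
          _ = T₁ * a * (T₁ * T₁) * b * T₁ := by rw [hT₁sq]
          _ = (T₁ * a * T₁) * (T₁ * b * T₁) := by group
      rw [this, hM1 _ (conj_mem_pairGroup Q hT₁set ha) _ (conj_mem_pairGroup Q hT₁set hb),
        iha, ihb, hM1 a ha b hb]
    | inv a ha iha =>
      have : T₁ * a⁻¹ * T₁ = (T₁ * a * T₁)⁻¹ := by
        rw [mul_inv_rev, mul_inv_rev, refl_inv Q hT₁set, mul_assoc]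
      rw [this, hM3 _ (conj_mem_pairGroup Q hT₁set ha), iha, hM3 a ha]
  -- (ii) invariance under conjugation of the reflection by rotations
  have hφ : ∀ T ∈ reflSet Q, ∀ h ∈ pairGroup Q, (M (h * T * h⁻¹ * T₁) ↔ M (T * T₁)) := by
    intro T hT h hh
    have e : h * T * h⁻¹ * T₁ = h * (T * T₁) * (T₁ * h⁻¹ * T₁) := by
      calc h * T * h⁻¹ * T₁ = h * T * 1 * h⁻¹ * T₁ := by group
        _ = h * T * (T₁ * T₁) * h⁻¹ * T₁ := by rw [hT₁sq]
        _ = h * (T * T₁) * (T₁ * h⁻¹ * T₁) := by group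
    have hp1 := pair_mem_pairGroup Q hT hT₁set
    have hp2 := conj_mem_pairGroup Q hT₁set (Subgroup.inv_mem _ hh)
    rw [e, hM1 _ (Subgroup.mul_mem _ hh hp1) _ hp2, hM1 _ hh _ hp1,
      hconj _ (Subgroup.inv_mem _ hh), hM3 _ hh]
    tauto
  -- (iv) the value on `T * T₁` depends only on the square class
  have hsq : ∀ T ∈ reflSet Q, spin Q T = 1 → M (T * T₁) := by
    intro T hT hs
    obtain ⟨u, hu, hTu⟩ := hT
    rw [spin_refl Q hQ u hu T hTu] at hs
    obtain ⟨a, ha⟩ := (quadraticChar_one_iff_isSquare hu).mp hs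
    have ha0 : a ≠ 0 := by
      rintro rfl
      rw [mul_zero] at ha
      exact hu ha
    obtain ⟨h, hh, hconj'⟩ := refl_conj_pairGroup Q hQ hF v₁ u hv₁0 a ha0
      (by rw [hv₁, ha]; ring) T₁ T hT₁ hTu
    rw [← hconj', hφ T₁ hT₁set h hh, hT₁sq]
    exact hM2
  have hnsq : ∀ T ∈ reflSet Q, spin Q T = -1 → (M (T * T₁) ↔ M (T₂ * T₁)) := by
    intro T hT hs
    obtain ⟨u, hu, hTu⟩ := hT
    rw [spin_refl Q hQ u hu T hTu] at hs
    have hχ : quadraticChar F (Q u * η) = 1 := by
      rw [map_mul, hχη, hs]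
      norm_num
    obtain ⟨b, hb⟩ := (quadraticChar_one_iff_isSquare (mul_ne_zero hu hη0)).mp hχ
    have hb0 : b ≠ 0 := by
      rintro rfl
      rw [mul_zero] at hb
      exact (mul_ne_zero hu hη0) hb
    obtain ⟨h, hh, hconj'⟩ := refl_conj_pairGroup Q hQ hF v₂ u hv₂0 (b / η)
      (div_ne_zero hb0 hη0)
      (by
        rw [hv₂]
        field_simp
        linear_combination hb) T₂ T hT₂ hTu
    rw [← hconj', hφ T₂ hT₂set h hh]
  have hspinT : ∀ T ∈ reflSet Q, spin Q T = 1 ∨ spin Q T = -1 := fun T hT =>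
    spin_eq_one_or Q hQ hF (hreflmem T hT)
  -- (v) the mixed pair is not in `M`
  have hmixed : ¬ M (T₂ * T₁) := by
    intro hcon
    have hall : ∀ T ∈ reflSet Q, M (T * T₁) := by
      intro T hT
      rcases hspinT T hT with h | h
      · exact hsq T hT h
      · exact (hnsq T hT h).mpr hcon
    have hall' : ∀ a ∈ pairGroup Q, M a := by
      intro a ha
      unfold pairGroup at ha
      induction ha using Subgroup.closure_induction with
      | mem g hg =>
        obtain ⟨A, hA, B, hB, rfl⟩ := hg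
        have e2 : A * B = (A * T₁) * (T₁ * B) := by
          rw [mul_assoc, ← mul_assoc T₁, hT₁sq, one_mul]
        have e4 : T₁ * B = (B * T₁)⁻¹ := by
          rw [mul_inv_rev, refl_inv Q hT₁set, refl_inv Q hB]
        have hAT := pair_mem_pairGroup Q hA hT₁set
        have hBT := pair_mem_pairGroup Q hB hT₁set
        rw [e2, e4, hM1 _ hAT _ (Subgroup.inv_mem _ hBT), hM3 _ hBT]
        exact ⟨fun _ => hall B hB, fun _ => hall A hA⟩
      | one => exact hM2
      | mul a b ha hb iha ihb =>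
        rw [hM1 a ha b hb]
        exact ⟨fun _ => ihb, fun _ => iha⟩
      | inv a ha iha =>
        rw [hM3 a ha]
        exact iha
    obtain ⟨a, ha, hMa⟩ := hM4
    exact hMa (hall' a ha)
  -- (vi) the value on `T * T₁`
  have hval : ∀ T ∈ reflSet Q, (M (T * T₁) ↔ spin Q T = 1) := by
    intro T hT
    rcases hspinT T hT with h | h
    · exact ⟨fun _ => h, fun _ => hsq T hT h⟩
    · constructor
      · intro hM
        exact absurd ((hnsq T hT h).mp hM) hmixed
      · intro h1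
        rw [h] at h1
        norm_num at h1
  -- (vii) induction over the rotation group
  intro x hx
  unfold pairGroup at hx
  induction hx using Subgroup.closure_induction with
  | mem g hg =>
    obtain ⟨A, hA, B, hB, rfl⟩ := hg
    have e2 : A * B = (A * T₁) * (T₁ * B) := by
      rw [mul_assoc, ← mul_assoc T₁, hT₁sq, one_mul]
    have e4 : T₁ * B = (B * T₁)⁻¹ := by
      rw [mul_inv_rev, refl_inv Q hT₁set, refl_inv Q hB]
    have hAT := pair_mem_pairGroup Q hA hT₁set
    have hBT := pair_mem_pairGroup Q hB hT₁set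
    rw [spin_mul' Q hQ hF (hreflmem A hA) (hreflmem B hB)]
    conv_lhs => rw [e2, e4, hM1 _ hAT _ (Subgroup.inv_mem _ hBT), hM3 _ hBT, hval A hA, hval B hB]
    rcases hspinT A hA with h | h <;> rcases hspinT B hB with h' | h' <;> rw [h, h'] <;> norm_num
  | one =>
    rw [spin_one]
    exact ⟨fun _ => rfl, fun _ => hM2⟩
  | mul a b ha hb iha ihb =>
    rw [hM1 a ha b hb, iha, ihb, spin_mul' Q hQ hF (hpairiso a ha) (hpairiso b hb)]
    rcases spin_eq_one_or Q hQ hF (hpairiso a ha) with h | h <;>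
      rcases spin_eq_one_or Q hQ hF (hpairiso b hb) with h' | h' <;> rw [h, h'] <;> norm_num
  | inv a ha iha =>
    have h1 := spin_mul' Q hQ hF (hpairiso a ha) (Subgroup.inv_mem _ (hpairiso a ha))
    rw [mul_inv_cancel, spin_one] at h1
    have hsinv : spin Q a⁻¹ = spin Q a := by
      rcases spin_eq_one_or Q hQ hF (hpairiso a ha) with h | h <;> rw [h] at h1 ⊢ <;> linarith
    rw [hM3 a ha, iha, hsinv]

/-- The rotation group has a unique subgroup of index two (odd characteristic). -/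
theorem pairGroup_existsUnique_index_two [FiniteDimensional F V] (Q : QuadraticForm F V)
    (hQ : (QuadraticMap.polarBilin Q).Nondegenerate) (h2 : (2 : F) ≠ 0)
    (hdim : 2 ≤ Module.finrank F V) : ∃! H : Subgroup ↥(pairGroup Q), H.index = 2 := by
  classical
  have hF : (∀ a b : F, ∃ x : F, x ≠ a ∧ x ≠ b) ∨ Module.finrank F V ≠ 4 :=
    Or.inl (exists_ne_ne_of_two_ne_zero h2)
  have hle : pairGroup Q ≤ isoGroup Q := fun x hx =>
    reflGroup_le_isoGroup Q (pairGroup_le_reflGroup Q hx)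
  obtain ⟨ψ, hψ⟩ : ∃ ψ : ↥(pairGroup Q) →* ℤˣ, ∀ x, ((ψ x : ℤˣ) : ℤ) = spin Q (x : V ≃ₗ[F] V) :=
    ⟨(spinHom Q hQ hF).comp (Subgroup.inclusion hle), fun x => rfl⟩
  -- `ψ` is onto
  have hchar : ringChar F ≠ 2 := by
    intro h
    apply h2
    have : ((2 : ℕ) : F) = 0 := by
      rw [← h]; exact ringChar.Nat.cast_ringChar
    exact_mod_cast this
  obtain ⟨η, hη⟩ := FiniteField.exists_nonsquare hchar
  have hη0 : η ≠ 0 := by
    rintro rfl
    exact hη (IsSquare.zero)
  have hχη : quadraticChar F η = -1 := quadraticChar_neg_one_iff_not_isSquare.mpr hη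
  obtain ⟨v₁, hv₁⟩ := exists_Q_eq Q hQ h2 hdim 1 one_ne_zero
  obtain ⟨v₂, hv₂⟩ := exists_Q_eq Q hQ h2 hdim η hη0
  have hv₁0 : Q v₁ ≠ 0 := by rw [hv₁]; exact one_ne_zero
  have hv₂0 : Q v₂ ≠ 0 := by rw [hv₂]; exact hη0
  obtain ⟨T₁, hT₁⟩ := exists_equiv_of_isom Q hQ (reflLin Q v₁) (reflLin_isom Q v₁ hv₁0)
  obtain ⟨T₂, hT₂⟩ := exists_equiv_of_isom Q hQ (reflLin Q v₂) (reflLin_isom Q v₂ hv₂0)
  have hT₁set : T₁ ∈ reflSet Q := ⟨v₁, hv₁0, hT₁⟩
  have hT₂set : T₂ ∈ reflSet Q := ⟨v₂, hv₂0, hT₂⟩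
  have hT₁mem : T₁ ∈ isoGroup Q := reflGroup_le_isoGroup Q (Subgroup.subset_closure hT₁set)
  have hT₂mem : T₂ ∈ isoGroup Q := reflGroup_le_isoGroup Q (Subgroup.subset_closure hT₂set)
  have hψsurj : Function.Surjective ψ := by
    intro y
    rcases Int.units_eq_one_or y with rfl | rfl
    · exact ⟨1, map_one _⟩
    · refine ⟨⟨T₂ * T₁, pair_mem_pairGroup Q hT₂set hT₁set⟩, ?_⟩
      apply Units.ext
      rw [hψ]
      change spin Q (T₂ * T₁) = _
      rw [spin_mul' Q hQ hF hT₂mem hT₁mem, spin_refl Q hQ v₂ hv₂0 T₂ hT₂,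
        spin_refl Q hQ v₁ hv₁0 T₁ hT₁, hv₁, hv₂, hχη, map_one]
      rfl
  have hkeridx : ψ.ker.index = 2 := by
    rw [Subgroup.index_ker, MonoidHom.range_eq_top.mpr hψsurj, Subgroup.card_top]
    simp [Nat.card_eq_fintype_card]
  refine ⟨ψ.ker, hkeridx, ?_⟩
  intro H hH
  -- the predicate attached to `H`
  obtain ⟨M, hM⟩ : ∃ M : (V ≃ₗ[F] V) → Prop,
      ∀ a, M a ↔ ∃ ha : a ∈ pairGroup Q, (⟨a, ha⟩ : ↥(pairGroup Q)) ∈ H := ⟨_, fun a => Iff.rfl⟩
  have hM' : ∀ x : ↥(pairGroup Q), M (x : V ≃ₗ[F] V) ↔ x ∈ H := by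
    intro x
    rw [hM]
    constructor
    · rintro ⟨_, h⟩
      exact h
    · intro h
      exact ⟨x.2, h⟩
  have hmain := index_two_pred_iff_spin Q hQ h2 hdim M
    (by
      intro a ha b hb
      have h1 := hM' ⟨a, ha⟩
      have h3 := hM' ⟨b, hb⟩
      have h4 := hM' (⟨a, ha⟩ * ⟨b, hb⟩)
      have h5 := Subgroup.mul_mem_iff_of_index_two hH (a := (⟨a, ha⟩ : ↥(pairGroup Q)))
        (b := ⟨b, hb⟩)
      change M a ↔ _ at h1
      change M b ↔ _ at h3
      change M (a * b) ↔ _ at h4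
      rw [h1, h3, h4, h5])
    (by
      have := hM' 1
      exact this.mpr (Subgroup.one_mem _))
    (by
      have hne : H ≠ ⊤ := by
        intro h
        rw [h, Subgroup.index_top] at hH
        omega
      obtain ⟨x, -, hx⟩ := SetLike.exists_of_lt (lt_top_iff_ne_top.mpr hne)
      exact ⟨x.1, x.2, fun h => hx ((hM' x).mp h)⟩)
  ext x
  rw [MonoidHom.mem_ker, ← hM' x, hmain x.1 x.2, ← hψ]
  constructor
  · intro h
    exact Units.ext h
  · intro h
    rw [h]
    rfl

end Finite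

end Cfsg.Agent.Lib.Helper13
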