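import Mathlib

set_option autoImplicit false

/-!
Counting subgroups of index two through a homomorphism onto a Klein four-group
(helper13's library).
-/

namespace Cfsg.Agent.Lib.Helper13

/-- A subgroup of index two contains the commutator subgroup. -/
theorem commutator_le_of_index_two {G : Type*} [Group G] (H : Subgroup G) (hH : H.index = 2) :
    commutator G ≤ H := by
  rw [commutator_def, Subgroup.commutator_le]
  intro a _ b _
  rw [commutatorElement_def, Subgroup.mul_mem_iff_of_index_two hH,
    Subgroup.mul_mem_iff_of_index_two hH, Subgroup.mul_mem_iff_of_index_two hH, inv_mem_iff,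
    inv_mem_iff]
  tauto

/-- A group of order four and exponent two has exactly three subgroups of index two. -/
theorem card_index_two_of_klein {A : Type*} [Group A] (hcard : Nat.card A = 4)
    (hexp : ∀ a : A, a ^ 2 = 1) : Nat.card {K : Subgroup A // K.index = 2} = 3 := by
  classical
  have hfin : Finite A := Nat.finite_of_card_ne_zero (by rw [hcard]; norm_num)
  have hz : ∀ x : A, ∀ y ∈ Subgroup.zpowers x, y = 1 ∨ y = x := by
    intro x y hy
    obtain ⟨k, rfl⟩ := Subgroup.mem_zpowers_iff.mp hy
    rcases Int.even_or_odd' k with ⟨m, rfl | rfl⟩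
    · left
      rw [zpow_mul, zpow_two, ← pow_two, hexp, one_zpow]
    · right
      rw [zpow_add, zpow_mul, zpow_two, ← pow_two, hexp, one_zpow, one_mul, zpow_one]
  have hord : ∀ x : A, x ≠ 1 → Nat.card (Subgroup.zpowers x) = 2 := by
    intro x hx
    rw [Nat.card_zpowers]
    exact orderOf_eq_prime (hexp x) hx
  have hidx : ∀ x : A, x ≠ 1 → (Subgroup.zpowers x).index = 2 := by
    intro x hx
    have h2 := Subgroup.card_mul_index (Subgroup.zpowers x)
    rw [hord x hx, hcard] at h2
    omega
  obtain ⟨f, hf⟩ : ∃ f : {x : A // x ≠ 1} → {K : Subgroup A // K.index = 2},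
      ∀ x, (f x).1 = Subgroup.zpowers x.1 :=
    ⟨fun x => ⟨Subgroup.zpowers x.1, hidx x.1 x.2⟩, fun x => rfl⟩
  have hbij : Function.Bijective f := by
    constructor
    · intro x y hxy
      have h1 : Subgroup.zpowers x.1 = Subgroup.zpowers y.1 := by
        rw [← hf, ← hf, hxy]
      have h2 : y.1 ∈ Subgroup.zpowers x.1 := by
        rw [h1]; exact Subgroup.mem_zpowers _
      rcases hz _ _ h2 with h | h
      · exact absurd h y.2
      · exact Subtype.ext h.symm
    · intro K
      have h2 := Subgroup.card_mul_index K.1
      rw [K.2, hcard] at h2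
      have hK : Nat.card K.1 = 2 := by omega
      have hne : K.1 ≠ ⊥ := by
        intro h
        rw [h, Subgroup.card_bot] at hK
        omega
      obtain ⟨x, hx1⟩ := (Subgroup.ne_bot_iff_exists_ne_one).mp hne
      have hx1' : (x : A) ≠ 1 := by
        intro h
        apply hx1
        exact Subtype.ext h
      refine ⟨⟨x, hx1'⟩, Subtype.ext ?_⟩
      rw [hf]
      apply Subgroup.eq_of_le_of_card_ge
      · rw [Subgroup.zpowers_le]
        exact x.2
      · rw [hK, hord _ hx1']
  rw [← Nat.card_congr (Equiv.ofBijective f hbij)]
  have : Fintype A := Fintype.ofFinite A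
  have h1 : Nat.card {x : A // x ≠ 1} = Fintype.card {x : A | x ≠ 1} := by
    rw [Nat.card_eq_fintype_card]
    rfl
  rw [h1, Set.card_ne_eq, ← Nat.card_eq_fintype_card, hcard]

/-- If `φ` maps `G` onto a commutative group of order four and exponent two and the commutator
subgroup of `G` has index four, then `G` has exactly three subgroups of index two. -/
theorem card_index_two_of_surjective {G A : Type*} [Group G] [CommGroup A] (φ : G →* A)
    (hφ : Function.Surjective φ) (hcard : Nat.card A = 4) (hexp : ∀ a : A, a ^ 2 = 1)
    (hG : (commutator G).index = 4) : Nat.card {H : Subgroup G // H.index = 2} = 3 := by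
  have hker : commutator G ≤ φ.ker := Abelianization.commutator_subset_ker _
  have hindex_ker : φ.ker.index = 4 := by
    rw [Subgroup.index_ker, MonoidHom.range_eq_top.mpr hφ, Subgroup.card_top, hcard]
  have hkereq : φ.ker ≤ commutator G := by
    have h1 := Subgroup.relIndex_mul_index hker
    rw [hindex_ker, hG] at h1
    have h3 : (commutator G).relIndex φ.ker = 1 := by omega
    exact Subgroup.relIndex_eq_one.mp h3
  rw [← card_index_two_of_klein hcard hexp]
  apply Nat.card_congr
  refine
    { toFun := fun H => ⟨H.1.map φ, ?_⟩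
      invFun := fun K => ⟨K.1.comap φ, ?_⟩
      left_inv := ?_
      right_inv := ?_ }
  · have h1 : φ.ker ≤ H.1 := hkereq.trans (commutator_le_of_index_two H.1 H.2)
    rw [← Subgroup.index_comap_of_surjective (H.1.map φ) hφ, Subgroup.comap_map_eq_self h1]
    exact H.2
  · rw [Subgroup.index_comap_of_surjective K.1 hφ]
    exact K.2
  · intro H
    have h1 : φ.ker ≤ H.1 := hkereq.trans (commutator_le_of_index_two H.1 H.2)
    exact Subtype.ext (Subgroup.comap_map_eq_self h1)
  · intro K
    exact Subtype.ext (Subgroup.map_comap_eq_self_of_surjective hφ K.1)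

end Cfsg.Agent.Lib.Helper13
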