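import Mathlib
import Cfsg.Prelude.Def_ClassicalGeometry

set_option autoImplicit false

/-!
Basic facts about `Cfsg.polarVec`, `Cfsg.reflectionMatrix`, `Cfsg.isometryGroup` (helper13's library).
-/

namespace Cfsg.Agent.Lib.Helper13

open Matrix

variable {ι : Type} [Fintype ι] [DecidableEq ι] {F : Type*} [Field F]

theorem polarVec_dotProduct (Q : QuadraticForm F (ι → F)) (v x : ι → F) :
    Cfsg.polarVec (⇑Q) v ⬝ᵥ x = QuadraticMap.polar (⇑Q) v x := by
  have hx : x = ∑ j, x j • (Pi.single j (1 : F) : ι → F) := by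
    ext i
    simp [Finset.sum_apply, Pi.single_apply]
  have h1 : QuadraticMap.polar (⇑Q) v x = QuadraticMap.polarBilin Q v x := rfl
  rw [h1]
  conv_rhs => rw [hx]
  rw [map_sum]
  unfold Cfsg.polarVec dotProduct
  apply Finset.sum_congr rfl
  intro j _
  rw [map_smul, smul_eq_mul, mul_comm]
  rfl

theorem one_sub_smul_vecMulVec_mulVec (c : F) (v w x : ι → F) :
    (1 - c • Matrix.vecMulVec v w) *ᵥ x = x - (c * (w ⬝ᵥ x)) • v := by
  rw [Matrix.sub_mulVec, Matrix.one_mulVec, Matrix.smul_mulVec, Matrix.vecMulVec_mulVec]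
  ext i
  simp only [Pi.sub_apply, Pi.smul_apply, MulOpposite.smul_eq_mul_unop, MulOpposite.unop_op,
    smul_eq_mul]
  ring

theorem reflectionMatrix_mulVec (Q : QuadraticForm F (ι → F)) (v x : ι → F) :
    Cfsg.reflectionMatrix (⇑Q) v *ᵥ x = x - ((Q v)⁻¹ * QuadraticMap.polar (⇑Q) v x) • v := by
  unfold Cfsg.reflectionMatrix
  rw [one_sub_smul_vecMulVec_mulVec, polarVec_dotProduct]

theorem det_one_sub_smul_vecMulVec (c : F) (v w : ι → F) :
    (1 - c • Matrix.vecMulVec v w).det = 1 - c * (w ⬝ᵥ v) := by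
  have h : (1 - c • Matrix.vecMulVec v w)
      = 1 + Matrix.replicateCol Unit ((-c) • v) * Matrix.replicateRow Unit w := by
    rw [← Matrix.vecMulVec_eq, Matrix.smul_vecMulVec, neg_smul, sub_eq_add_neg]
  rw [h, Matrix.det_one_add_replicateCol_mul_replicateRow, dotProduct_smul]
  simp only [smul_eq_mul]
  ring

omit [Fintype ι] [DecidableEq ι] in
theorem quadraticForm_sub_smul (Q : QuadraticForm F (ι → F)) (x v : ι → F) (c : F) :
    Q (x - c • v) = Q x + c * c * Q v - c * QuadraticMap.polar (⇑Q) v x := by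
  have h1 : Q (x - c • v) = Q x + Q ((-c) • v) + QuadraticMap.polar (⇑Q) ((-c) • v) x := by
    unfold QuadraticMap.polar
    rw [sub_eq_add_neg, ← neg_smul, add_comm x]
    ring
  rw [h1, QuadraticMap.map_smul, QuadraticMap.polar_smul_left]
  simp only [smul_eq_mul]
  ring

theorem reflectionMatrix_isometry (Q : QuadraticForm F (ι → F)) (v : ι → F) (hv : Q v ≠ 0)
    (x : ι → F) : Q (Cfsg.reflectionMatrix (⇑Q) v *ᵥ x) = Q x := by
  rw [reflectionMatrix_mulVec, quadraticForm_sub_smul]
  field_simp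
  ring

theorem reflectionMatrix_mulVec_self (Q : QuadraticForm F (ι → F)) (v : ι → F) (hv : Q v ≠ 0) :
    Cfsg.reflectionMatrix (⇑Q) v *ᵥ v = -v := by
  rw [reflectionMatrix_mulVec, QuadraticMap.polar_self]
  have : (Q v)⁻¹ * (2 • Q v) = 2 := by
    rw [nsmul_eq_mul]
    field_simp
    norm_num
  rw [this, two_smul]
  abel

theorem reflectionMatrix_mulVec_of_polar_eq_zero (Q : QuadraticForm F (ι → F)) (v x : ι → F)
    (h : QuadraticMap.polar (⇑Q) v x = 0) :
    Cfsg.reflectionMatrix (⇑Q) v *ᵥ x = x := by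
  rw [reflectionMatrix_mulVec, h, mul_zero, zero_smul, sub_zero]

theorem reflectionMatrix_det (Q : QuadraticForm F (ι → F)) (v : ι → F) (hv : Q v ≠ 0) :
    (Cfsg.reflectionMatrix (⇑Q) v).det = -1 := by
  unfold Cfsg.reflectionMatrix
  rw [det_one_sub_smul_vecMulVec, polarVec_dotProduct, QuadraticMap.polar_self]
  have : (Q v)⁻¹ * (2 • Q v) = 2 := by
    rw [nsmul_eq_mul]
    field_simp
    norm_num
  rw [this]
  norm_num

theorem mem_isometryGroup_iff (Q : (ι → F) → F) (g : Matrix.GeneralLinearGroup ι F) :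
    g ∈ Cfsg.isometryGroup F Q ↔ ∀ u : ι → F, Q ((g : Matrix ι ι F) *ᵥ u) = Q u := by
  constructor
  · intro h u
    exact h u u
  · intro h u _
    exact h u

omit [DecidableEq ι] in
theorem polar_mulVec_of_isometry (Q : QuadraticForm F (ι → F)) (A : Matrix ι ι F)
    (hA : ∀ u : ι → F, Q (A *ᵥ u) = Q u) (x y : ι → F) :
    QuadraticMap.polar (⇑Q) (A *ᵥ x) (A *ᵥ y) = QuadraticMap.polar (⇑Q) x y := by
  unfold QuadraticMap.polar
  rw [← Matrix.mulVec_add, hA, hA, hA]

theorem isometry_det_sq (Q : QuadraticForm F (ι → F))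
    (hQ : (QuadraticMap.polarBilin Q).Nondegenerate) (g : Matrix.GeneralLinearGroup ι F)
    (hg : g ∈ Cfsg.isometryGroup F (⇑Q)) :
    (g : Matrix ι ι F).det = 1 ∨ (g : Matrix ι ι F).det = -1 := by
  rw [mem_isometryGroup_iff] at hg
  set A : Matrix ι ι F := (g : Matrix ι ι F) with hA
  set B : LinearMap.BilinForm F (ι → F) := QuadraticMap.polarBilin Q with hB
  have hcomp : B.comp (Matrix.toLin' A) (Matrix.toLin' A) = B := by
    refine LinearMap.ext fun x => LinearMap.ext fun y => ?_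
    rw [LinearMap.BilinForm.comp_apply, Matrix.toLin'_apply, Matrix.toLin'_apply]
    exact polar_mulVec_of_isometry Q A hg _ _
  have hM := congrArg LinearMap.BilinForm.toMatrix' hcomp
  rw [LinearMap.BilinForm.toMatrix'_comp, LinearMap.toMatrix'_toLin'] at hM
  have hdet := congrArg Matrix.det hM
  rw [Matrix.det_mul, Matrix.det_mul, Matrix.det_transpose] at hdet
  have hMne : (LinearMap.BilinForm.toMatrix' B).det ≠ 0 := by
    rw [← Matrix.nondegenerate_iff_det_ne_zero]
    exact LinearMap.BilinForm.nondegenerate_toMatrix'_iff.mpr hQ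
  have h1 : (A.det - 1) * (A.det + 1) = 0 := by
    have : (A.det * A.det - 1) * (LinearMap.BilinForm.toMatrix' B).det = 0 := by
      linear_combination hdet
    rcases mul_eq_zero.mp this with h | h
    · linear_combination h
    · exact absurd h hMne
  rcases mul_eq_zero.mp h1 with h | h
  · left; exact sub_eq_zero.mp h
  · right; exact eq_neg_of_add_eq_zero_left h

end Cfsg.Agent.Lib.Helper13
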