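import Mathlib
import Cfsg.Agent.Lib.Helper13.SpinorIndex
import Cfsg.Agent.Lib.Helper13.Orth

set_option autoImplicit false
set_option linter.unusedSimpArgs false
set_option linter.unnecessarySeqFocus false

/-!
The spinor norm of `-1` and the criterion for `-1` to lie in the commutator subgroup of the
isometry group of a quadratic form over a finite field of odd characteristic
(helper13's library).
-/

namespace Cfsg.Agent.Lib.Helper13

open Matrix

section Abstract

variable {F V : Type*} [Field F] [Fintype F] [DecidableEq F] [AddCommGroup V] [Module F V]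

local notation "pol" => QuadraticMap.polar

/-- `spin_eq` with Wall data indexed by an arbitrary finite type. -/
theorem spin_eq_of_fintype [FiniteDimensional F V] (Q : QuadraticForm F V) (g : V ≃ₗ[F] V)
    (hg : ∀ z, Q (g z) = Q z) {ι : Type*} [Fintype ι] [DecidableEq ι] (w y : ι → V)
    (hw : LinearIndependent F w)
    (hspan : Submodule.span F (Set.range w) = LinearMap.range ((g : V →ₗ[F] V) - LinearMap.id))
    (hy : ∀ i, y i - g (y i) = w i) :
    spin Q g = quadraticChar F (Matrix.det (Matrix.of fun i j => pol (⇑Q) (y i) (w j))) := by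
  classical
  obtain ⟨e, -⟩ : ∃ e : ι ≃ Fin (Fintype.card ι), e = Fintype.equivFin ι := ⟨_, rfl⟩
  apply spin_eq Q g hg (d := Fintype.card ι)
  refine ⟨w ∘ e.symm, y ∘ e.symm, hw.comp _ e.symm.injective, ?_, fun i => hy _, ?_⟩
  · rw [EquivLike.range_comp w e.symm]
    exact hspan
  · congr 1
    have : (Matrix.of fun i j => pol (⇑Q) ((y ∘ e.symm) i) ((w ∘ e.symm) j))
        = (Matrix.of fun i j => pol (⇑Q) (y i) (w j)).submatrix e.symm e.symm := rfl
    rw [this, Matrix.det_submatrix_equiv_self]

/-- The spinor norm of `-1` in terms of the Gram determinant of a basis. -/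
theorem spin_neg [FiniteDimensional F V] (Q : QuadraticForm F V) (h2 : (2 : F) ≠ 0)
    {ι : Type*} [Fintype ι] [DecidableEq ι] (b : Module.Basis ι F V) :
    spin Q (LinearEquiv.neg F : V ≃ₗ[F] V) = quadraticChar F 2 ^ Fintype.card ι *
      quadraticChar F (Matrix.det (Matrix.of fun i j => pol (⇑Q) (b i) (b j))) := by
  have hneg : ∀ z : V, (LinearEquiv.neg F : V ≃ₗ[F] V) z = -z := fun z => rfl
  rw [spin_eq_of_fintype Q (LinearEquiv.neg F) (fun z => by rw [hneg, QuadraticMap.map_neg])
    (fun i => (2 : F) • b i) (fun i => b i) ?_ ?_ ?_]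
  · have : (Matrix.of fun i j => pol (⇑Q) (b i) ((2 : F) • b j))
        = (2 : F) • (Matrix.of fun i j => pol (⇑Q) (b i) (b j)) := by
      ext i j
      rw [Matrix.smul_apply, Matrix.of_apply, Matrix.of_apply, QuadraticMap.polar_smul_right]
    rw [this, Matrix.det_smul, map_mul, map_pow]
  · exact b.linearIndependent.units_smul (fun _ => Units.mk0 2 h2)
  · have h1 : Submodule.span F (Set.range fun i => (2 : F) • b i) = ⊤ := by
      rw [← top_le_iff, ← b.span_eq, Submodule.span_le]
      rintro _ ⟨i, rfl⟩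
      have : b i = (2⁻¹ : F) • ((2 : F) • b i) := by
        rw [smul_smul, inv_mul_cancel₀ h2, one_smul]
      rw [this]
      exact Submodule.smul_mem _ _ (Submodule.subset_span ⟨i, rfl⟩)
    have h3 : LinearMap.range (((LinearEquiv.neg F : V ≃ₗ[F] V) : V →ₗ[F] V) - LinearMap.id) = ⊤ := by
      rw [LinearMap.range_eq_top]
      intro z
      refine ⟨-((2⁻¹ : F) • z), ?_⟩
      rw [LinearMap.sub_apply, LinearMap.id_apply]
      change - -((2⁻¹ : F) • z) - -((2⁻¹ : F) • z) = z
      rw [neg_neg, sub_neg_eq_add, ← add_smul, ← two_mul, mul_inv_cancel₀ h2, one_smul]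
    rw [h1, h3]
  · intro i
    rw [hneg, sub_neg_eq_add, two_smul]

omit [Fintype F] [DecidableEq F] in
theorem par_neg [FiniteDimensional F V] (h2 : (2 : F) ≠ 0) (heven : Even (Module.finrank F V)) :
    par (LinearEquiv.neg F : V ≃ₗ[F] V) = 0 := by
  have hfix : fixSub (LinearEquiv.neg F : V ≃ₗ[F] V) = ⊥ := by
    rw [eq_bot_iff]
    intro z hz
    rw [mem_fixSub] at hz
    have hz' : -z = z := hz
    rw [Submodule.mem_bot]
    have h3 : (2 : F) • z = 0 := by
      rw [two_smul]
      nth_rewrite 1 [← hz']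
      exact neg_add_cancel z
    exact (smul_eq_zero.mp h3).resolve_left h2
  unfold par
  rw [hfix, finrank_bot, Nat.cast_zero, zero_add]
  exact heven.natCast_zmod_two

/-- `-1` lies in the commutator subgroup of the isometry group (even dimension, odd
characteristic) iff the Gram determinant of a basis is a square. -/
theorem neg_mem_commutator_iff [FiniteDimensional F V] (Q : QuadraticForm F V)
    (hQ : (QuadraticMap.polarBilin Q).Nondegenerate) (h2 : (2 : F) ≠ 0)
    (hdim : 2 ≤ Module.finrank F V) (heven : Even (Module.finrank F V))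
    {ι : Type*} [Fintype ι] [DecidableEq ι] (b : Module.Basis ι F V)
    (hneg : (LinearEquiv.neg F : V ≃ₗ[F] V) ∈ isoGroup Q) :
    (⟨LinearEquiv.neg F, hneg⟩ : ↥(isoGroup Q)) ∈ commutator ↥(isoGroup Q) ↔
      quadraticChar F (Matrix.det (Matrix.of fun i j => pol (⇑Q) (b i) (b j))) = 1 := by
  have hF : (∀ a b : F, ∃ x : F, x ≠ a ∧ x ≠ b) ∨ Module.finrank F V ≠ 4 :=
    Or.inl (exists_ne_ne_of_two_ne_zero h2)
  obtain ⟨-, hker, -⟩ := commutator_isoGroup_eq_ker Q hQ h2 hdim hF
  have hcard : Even (Fintype.card ι) := by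
    rw [← Module.finrank_eq_card_basis b]; exact heven
  have hspin : spin Q (LinearEquiv.neg F : V ≃ₗ[F] V)
      = quadraticChar F (Matrix.det (Matrix.of fun i j => pol (⇑Q) (b i) (b j))) := by
    rw [spin_neg Q h2 b]
    obtain ⟨k, hk⟩ := hcard
    rw [hk, ← two_mul, pow_mul, quadraticChar_sq_one h2, one_pow, one_mul]
  rw [hker, MonoidHom.mem_ker, MonoidHom.prod_apply, Prod.mk_eq_one, parHom_apply]
  change Multiplicative.ofAdd (par (LinearEquiv.neg F : V ≃ₗ[F] V)) = 1 ∧ _ ↔ _
  rw [par_neg h2 heven, ← hspin]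
  constructor
  · rintro ⟨-, h⟩
    have := congrArg Units.val h
    exact this
  · intro h
    refine ⟨rfl, Units.ext ?_⟩
    exact h

end Abstract

section MatrixSide

/-- `GL_ι(F)` as linear equivalences of `F^ι`. -/
noncomputable def glEquivι (ι : Type*) [Fintype ι] [DecidableEq ι] (F : Type*) [Field F] :
    Matrix.GeneralLinearGroup ι F ≃* ((ι → F) ≃ₗ[F] (ι → F)) :=
  (Matrix.GeneralLinearGroup.toLin).trans
    (LinearMap.GeneralLinearGroup.generalLinearEquiv F (ι → F))

theorem glEquivι_apply {ι : Type*} [Fintype ι] [DecidableEq ι] {F : Type*} [Field F]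
    (g : Matrix.GeneralLinearGroup ι F) (v : ι → F) :
    glEquivι ι F g v = (g : Matrix ι ι F).mulVec v := by
  rfl

/-- The matrix isometry group corresponds to the isometry group of linear equivalences. -/
theorem map_glEquivι_isometryGroup {ι : Type} [Fintype ι] [DecidableEq ι] {F : Type*} [Field F]
    (Q : QuadraticForm F (ι → F)) :
    (Cfsg.isometryGroup F ⇑Q).map (glEquivι ι F).toMonoidHom = isoGroup Q := by
  ext T
  constructor
  · rintro ⟨g, hg, rfl⟩
    intro z
    change Q (glEquivι ι F g z) = Q z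
    rw [glEquivι_apply]
    exact (mem_isometryGroup_iff (⇑Q) g).mp hg z
  · intro hT
    refine ⟨(glEquivι ι F).symm T, ?_, ?_⟩
    · rw [SetLike.mem_coe, mem_isometryGroup_iff]
      intro u
      rw [← glEquivι_apply, MulEquiv.apply_symm_apply]
      exact hT u
    · exact MulEquiv.apply_symm_apply _ T

/-- Membership in the commutator subgroup is transported by group isomorphisms. -/
theorem mem_commutator_congr {G H : Type*} [Group G] [Group H] (e : G ≃* H) (g : G) :
    g ∈ commutator G ↔ e g ∈ commutator H := by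
  have h1 : commutator H = (commutator G).map e.toMonoidHom := by
    rw [commutator_def, commutator_def, Subgroup.map_commutator,
      Subgroup.map_top_of_surjective _ e.surjective]
  rw [h1]
  exact (Subgroup.mem_map_iff_mem (f := e.toMonoidHom) e.injective).symm

/-- The criterion for `-1 ∈ Ω(Q)` over a finite field of odd characteristic, in even dimension
at least two: the Gram determinant of the polar form in the standard basis is a square. -/
theorem neg_one_mem_Omega_iff {ι : Type} [Fintype ι] [DecidableEq ι] {F : Type*} [Field F]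
    [Fintype F] [DecidableEq F] (Q : QuadraticForm F (ι → F))
    (hQ : (QuadraticMap.polarBilin Q).Nondegenerate) (h2 : (2 : F) ≠ 0)
    (hdim : 2 ≤ Fintype.card ι) (heven : Even (Fintype.card ι)) :
    (∃ g : ↥(Cfsg.isometryGroup F ⇑Q), g ∈ Cfsg.Omega F ⇑Q ∧
      ((g : Matrix.GeneralLinearGroup ι F) : Matrix ι ι F) = -1) ↔
    quadraticChar F (Matrix.det (Matrix.of fun i j : ι =>
      QuadraticMap.polar (⇑Q) (Pi.single i (1 : F)) (Pi.single j (1 : F)))) = 1 := by
  have hfr : Module.finrank F (ι → F) = Fintype.card ι := Module.finrank_fintype_fun_eq_card F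
  have hnegmem : (LinearEquiv.neg F : (ι → F) ≃ₗ[F] (ι → F)) ∈ isoGroup Q := by
    intro z
    change Q (-z) = Q z
    exact QuadraticMap.map_neg Q z
  have hiff := neg_mem_commutator_iff Q hQ h2 (by rw [hfr]; exact hdim) (by rw [hfr]; exact heven)
    (Pi.basisFun F ι) hnegmem
  simp only [Pi.basisFun_apply] at hiff
  rw [← hiff]
  obtain ⟨e, he⟩ : ∃ e : ↥(Cfsg.isometryGroup F ⇑Q) ≃* ↥(isoGroup Q),
      ∀ g : ↥(Cfsg.isometryGroup F ⇑Q), ∀ z,
      ((e g : ↥(isoGroup Q)) : (ι → F) ≃ₗ[F] (ι → F)) z
        = ((g : Matrix.GeneralLinearGroup ι F) : Matrix ι ι F).mulVec z :=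
    ⟨((glEquivι ι F).subgroupMap (Cfsg.isometryGroup F ⇑Q)).trans
      (MulEquiv.subgroupCongr (map_glEquivι_isometryGroup Q)), fun g z => rfl⟩
  have hmain : ∀ g : ↥(Cfsg.isometryGroup F ⇑Q),
      ((g : Matrix.GeneralLinearGroup ι F) : Matrix ι ι F) = -1 →
      e g = ⟨LinearEquiv.neg F, hnegmem⟩ := by
    intro g hg
    apply Subtype.ext
    apply LinearEquiv.ext
    intro z
    rw [he, hg, Matrix.neg_mulVec, Matrix.one_mulVec]
    rfl
  constructor
  · rintro ⟨g, hgΩ, hg⟩
    rw [← hmain g hg]
    exact (mem_commutator_congr e g).mp hgΩ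
  · intro h
    refine ⟨e.symm ⟨LinearEquiv.neg F, hnegmem⟩, ?_, ?_⟩
    · change _ ∈ commutator ↥(Cfsg.isometryGroup F ⇑Q)
      rw [mem_commutator_congr e, MulEquiv.apply_symm_apply]
      exact h
    · have h1 : ∀ z, ((e (e.symm ⟨LinearEquiv.neg F, hnegmem⟩) : ↥(isoGroup Q)) :
          (ι → F) ≃ₗ[F] (ι → F)) z = -z := by
        intro z
        rw [MulEquiv.apply_symm_apply]
        rfl
      ext i j
      have h3 := congrFun ((he _ (Pi.single j 1)).symm.trans (h1 (Pi.single j 1))) i
      rw [Matrix.mulVec_single_one] at h3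
      rw [Matrix.neg_apply, Matrix.one_apply]
      rw [Pi.neg_apply, Pi.single_apply] at h3
      exact h3

/-- Non-degeneracy of the polar form from the Gram determinant in the standard basis. -/
theorem nondegenerate_of_gram_det_ne_zero {ι : Type*} [Fintype ι] [DecidableEq ι] {F : Type*}
    [Field F] (Q : QuadraticForm F (ι → F))
    (h : Matrix.det (Matrix.of fun i j : ι =>
      QuadraticMap.polar (⇑Q) (Pi.single i (1 : F)) (Pi.single j (1 : F))) ≠ 0) :
    (QuadraticMap.polarBilin Q).Nondegenerate := by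
  apply LinearMap.BilinForm.nondegenerate_of_det_ne_zero (QuadraticMap.polarBilin Q)
    (Pi.basisFun F ι)
  convert h using 2
  ext i j
  rw [LinearMap.BilinForm.toMatrix_apply, Pi.basisFun_apply, Pi.basisFun_apply, Matrix.of_apply]
  rfl

/-- The determinant of the hyperbolic Gram matrix. -/
theorem det_fromBlocks_antidiag {m : Type*} [Fintype m] [DecidableEq m] {F : Type*} [Field F] :
    (Matrix.fromBlocks (0 : Matrix m m F) (1 : Matrix m m F) (1 : Matrix m m F)
      (0 : Matrix m m F)).det = (-1) ^ Fintype.card m := by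
  have h1 : Matrix.fromBlocks (1 : Matrix m m F) (1 : Matrix m m F) (0 : Matrix m m F)
        (1 : Matrix m m F) *
      Matrix.fromBlocks (0 : Matrix m m F) (1 : Matrix m m F) (1 : Matrix m m F)
        (0 : Matrix m m F)
      = Matrix.fromBlocks (1 : Matrix m m F) (1 : Matrix m m F) (1 : Matrix m m F)
        (0 : Matrix m m F) := by
    rw [Matrix.fromBlocks_multiply]
    simp
  have h2 := congrArg Matrix.det h1
  rw [Matrix.det_mul, Matrix.det_fromBlocks_zero₂₁, Matrix.det_one, one_mul, one_mul,
    Matrix.det_fromBlocks_one₁₁, mul_one, zero_sub, Matrix.det_neg, Matrix.det_one, mul_one] at h2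
  exact h2

/-- In a finite field of odd order, `2 ≠ 0`. -/
theorem two_ne_zero_of_odd_card {F : Type*} [Field F] [Fintype F] (h : Odd (Fintype.card F)) :
    (2 : F) ≠ 0 := by
  intro h0
  have h1 : ringChar F = 2 := CharP.ringChar_of_prime_eq_zero Nat.prime_two (by exact_mod_cast h0)
  have h2 := FiniteField.even_card_of_char_two h1
  rcases h with ⟨k, hk⟩
  omega

/-- The quadratic character of `(-1)^m` in terms of `|F|^m` modulo four. -/
theorem quadraticChar_neg_one_pow {F : Type*} [Field F] [Fintype F] [DecidableEq F]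
    (h2 : (2 : F) ≠ 0) (m : ℕ) :
    quadraticChar F ((-1) ^ m) = if (Fintype.card F ^ m) % 4 = 1 then 1 else -1 := by
  have hchar : ringChar F ≠ 2 := by
    intro h
    apply h2
    have : ((2 : ℕ) : F) = 0 := by
      rw [← h]; exact ringChar.Nat.cast_ringChar
    exact_mod_cast this
  have hodd : Fintype.card F % 2 = 1 := FiniteField.odd_card_of_char_ne_two hchar
  have hodd' : (Fintype.card F ^ m) % 2 ≠ 0 := by
    rw [Nat.pow_mod, hodd, one_pow]
    norm_num
  rw [map_pow, quadraticChar_neg_one hchar, ← map_pow, ← Nat.cast_pow,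
    ZMod.χ₄_nat_eq_if_mod_four, if_neg hodd']

end MatrixSide

end Cfsg.Agent.Lib.Helper13
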