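import Mathlib
import Cfsg.Agent.Lib.Helper13.SOIndexTwo
import Cfsg.Agent.Lib.Helper13.SpinNeg
import Cfsg.Agent.Lib.Helper13.IndexTwo

set_option autoImplicit false
set_option linter.unusedSimpArgs false
set_option linter.unnecessarySeqFocus false

/-!
Transfer of the uniqueness of the index two subgroup of the rotation group to the matrix group
`Cfsg.specialIsometryGroup` (helper13's library).
-/

namespace Cfsg.Agent.Lib.Helper13

open Matrix

/-- Uniqueness of the subgroup of index two is invariant under isomorphism. -/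
theorem existsUnique_index_two_congr {G G' : Type*} [Group G] [Group G'] (e : G ≃* G')
    (h : ∃! H : Subgroup G', H.index = 2) : ∃! H : Subgroup G, H.index = 2 := by
  obtain ⟨H', hH', huniq⟩ := h
  refine ⟨H'.comap e.toMonoidHom, ?_, ?_⟩
  · change (H'.comap e.toMonoidHom).index = 2
    rw [Subgroup.index_comap_of_surjective H' e.surjective]
    exact hH'
  · intro K hK
    have h1 : (K.map e.toMonoidHom).index = 2 := by
      rw [Subgroup.map_equiv_eq_comap_symm',
        Subgroup.index_comap_of_surjective K e.symm.surjective]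
      exact hK
    have h2 := huniq _ h1
    rw [← h2, Subgroup.comap_map_eq_self_of_injective e.injective]

/-- If the commutator subgroup has index two, it is the unique subgroup of index two. -/
theorem existsUnique_index_two_of_commutator {G : Type*} [Group G]
    (h : (commutator G).index = 2) : ∃! H : Subgroup G, H.index = 2 := by
  refine ⟨commutator G, h, ?_⟩
  intro H hH
  have hle := commutator_le_of_index_two H hH
  apply le_antisymm _ hle
  have h1 := Subgroup.relIndex_mul_index hle
  rw [hH, h] at h1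
  have h3 : (commutator G).relIndex H = 1 := by omega
  exact Subgroup.relIndex_eq_one.mp h3

section Det

variable {ι : Type} [Fintype ι] [DecidableEq ι] {F : Type*} [Field F]

/-- The determinant of an isometry detects the parity. -/
theorem det_par_of_mem_reflGroup (Q : QuadraticForm F (ι → F))
    (hQ : (QuadraticMap.polarBilin Q).Nondegenerate) {T : (ι → F) ≃ₗ[F] (ι → F)}
    (hT : T ∈ reflGroup Q) :
    (LinearMap.det (T : (ι → F) →ₗ[F] (ι → F)) = 1 ∧ par T = 0) ∨
      (LinearMap.det (T : (ι → F) →ₗ[F] (ι → F)) = -1 ∧ par T = 1) := by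
  unfold reflGroup at hT
  induction hT using Subgroup.closure_induction with
  | mem A hA =>
    right
    refine ⟨?_, par_refl Q hQ A hA⟩
    obtain ⟨v, hv, hAv⟩ := hA
    have h1 : (A : (ι → F) →ₗ[F] (ι → F)) = Matrix.toLin' (Cfsg.reflectionMatrix (⇑Q) v) := by
      apply LinearMap.ext
      intro z
      rw [Matrix.toLin'_apply, reflectionMatrix_mulVec]
      change A z = _
      rw [hAv, reflLin_apply]
    rw [h1, LinearMap.det_toLin', reflectionMatrix_det Q v hv]
  | one =>
    left
    refine ⟨?_, par_one⟩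
    change LinearMap.det (LinearMap.id : (ι → F) →ₗ[F] (ι → F)) = 1
    exact LinearMap.det_id
  | mul a b ha hb iha ihb =>
    have hdet : LinearMap.det ((a * b : (ι → F) ≃ₗ[F] (ι → F)) : (ι → F) →ₗ[F] (ι → F))
        = LinearMap.det (a : (ι → F) →ₗ[F] (ι → F)) * LinearMap.det (b : (ι → F) →ₗ[F] (ι → F)) := by
      rw [← LinearMap.det_comp]
      rfl
    have hpar := par_mul Q hQ a ha b (reflGroup_le_isoGroup Q hb)
    rw [hdet, hpar]
    rcases iha with ⟨h1, h2⟩ | ⟨h1, h2⟩ <;> rcases ihb with ⟨h3, h4⟩ | ⟨h3, h4⟩ <;>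
      rw [h1, h2, h3, h4]
    · left; exact ⟨by ring, by decide⟩
    · right; exact ⟨by ring, by decide⟩
    · right; exact ⟨by ring, by decide⟩
    · left; exact ⟨by ring, by decide⟩
  | inv a ha iha =>
    have hdet : LinearMap.det ((a⁻¹ : (ι → F) ≃ₗ[F] (ι → F)) : (ι → F) →ₗ[F] (ι → F))
        * LinearMap.det (a : (ι → F) →ₗ[F] (ι → F)) = 1 := by
      rw [← LinearMap.det_comp]
      have : ((a⁻¹ : (ι → F) ≃ₗ[F] (ι → F)) : (ι → F) →ₗ[F] (ι → F)).comp
          (a : (ι → F) →ₗ[F] (ι → F)) = LinearMap.id := by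
        apply LinearMap.ext
        intro z
        exact a.symm_apply_apply z
      rw [this, LinearMap.det_id]
    have hpar := par_mul Q hQ a ha a⁻¹ (Subgroup.inv_mem _ (reflGroup_le_isoGroup Q ha))
    rw [mul_inv_cancel, par_one] at hpar
    rcases iha with ⟨h1, h2⟩ | ⟨h1, h2⟩
    · left
      rw [h1, mul_one] at hdet
      rw [h2, zero_add] at hpar
      exact ⟨hdet, hpar.symm⟩
    · right
      rw [h1] at hdet
      rw [h2] at hpar
      refine ⟨by linear_combination -hdet, ?_⟩
      have : ∀ t : ZMod 2, 0 = 1 + t → t = 1 := by decide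
      exact this _ hpar

theorem det_glEquivι (g : Matrix.GeneralLinearGroup ι F) :
    LinearMap.det ((glEquivι ι F g : (ι → F) ≃ₗ[F] (ι → F)) : (ι → F) →ₗ[F] (ι → F))
      = (g : Matrix ι ι F).det := by
  have h1 : ((glEquivι ι F g : (ι → F) ≃ₗ[F] (ι → F)) : (ι → F) →ₗ[F] (ι → F))
      = Matrix.toLin' (g : Matrix ι ι F) := by
    apply LinearMap.ext
    intro z
    rw [Matrix.toLin'_apply]
    exact glEquivι_apply g z
  rw [h1, LinearMap.det_toLin']

theorem mem_specialIsometryGroup_iff (Q : (ι → F) → F) (g : ↥(Cfsg.isometryGroup F Q)) :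
    g ∈ Cfsg.specialIsometryGroup F Q ↔
      ((g : Matrix.GeneralLinearGroup ι F) : Matrix ι ι F).det = 1 := by
  unfold Cfsg.specialIsometryGroup
  rw [MonoidHom.mem_ker, MonoidHom.comp_apply, ← Units.val_inj]
  rfl

/-- In odd characteristic the determinant one isometries correspond to the rotation group. -/
theorem map_specialIsometryGroup (Q : QuadraticForm F (ι → F))
    (hQ : (QuadraticMap.polarBilin Q).Nondegenerate) (h2 : (2 : F) ≠ 0)
    (hne : ∃ v : ι → F, Q v ≠ 0) :
    ((Cfsg.specialIsometryGroup F ⇑Q).map (Cfsg.isometryGroup F ⇑Q).subtype).map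
      (glEquivι ι F).toMonoidHom = pairGroup Q := by
  have hF : (∀ a b : F, ∃ x : F, x ≠ a ∧ x ≠ b) ∨ Module.finrank F (ι → F) ≠ 4 :=
    Or.inl (exists_ne_ne_of_two_ne_zero h2)
  have h1m : (1 : F) ≠ -1 := by
    intro h
    apply h2
    linear_combination h
  ext T
  constructor
  · rintro ⟨g', ⟨g, hg, rfl⟩, rfl⟩
    rw [SetLike.mem_coe, mem_specialIsometryGroup_iff] at hg
    have hTiso : glEquivι ι F (g : Matrix.GeneralLinearGroup ι F) ∈ isoGroup Q := by
      rw [← map_glEquivι_isometryGroup]
      exact ⟨g.1, g.2, rfl⟩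
    rw [mem_pairGroup_iff Q hQ hF hne]
    refine ⟨hTiso, ?_⟩
    rcases det_par_of_mem_reflGroup Q hQ (isoGroup_le_reflGroup Q hQ hF hTiso) with ⟨-, h⟩ | ⟨h, -⟩
    · exact h
    · exfalso
      have h3 := det_glEquivι (g : Matrix.GeneralLinearGroup ι F)
      change LinearMap.det ((glEquivι ι F (g : Matrix.GeneralLinearGroup ι F) :
        (ι → F) ≃ₗ[F] (ι → F)) : (ι → F) →ₗ[F] (ι → F)) = -1 at h
      rw [h3, hg] at h
      exact h1m h
  · intro hT
    rw [mem_pairGroup_iff Q hQ hF hne] at hT
    obtain ⟨hTiso, hpar⟩ := hT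
    have hg₀ : (glEquivι ι F).symm T ∈ Cfsg.isometryGroup F ⇑Q := by
      rw [mem_isometryGroup_iff]
      intro u
      rw [← glEquivι_apply, MulEquiv.apply_symm_apply]
      exact hTiso u
    refine ⟨(glEquivι ι F).symm T, ⟨⟨(glEquivι ι F).symm T, hg₀⟩, ?_, rfl⟩, ?_⟩
    · rw [SetLike.mem_coe, mem_specialIsometryGroup_iff]
      change ((((glEquivι ι F).symm T : Matrix.GeneralLinearGroup ι F)) : Matrix ι ι F).det = 1
      rw [← det_glEquivι, MulEquiv.apply_symm_apply]
      rcases det_par_of_mem_reflGroup Q hQ (isoGroup_le_reflGroup Q hQ hF hTiso) with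
        ⟨h, -⟩ | ⟨-, h⟩
      · exact h
      · rw [hpar] at h
        exact absurd h zero_ne_one
    · exact MulEquiv.apply_symm_apply _ T

/-- Odd characteristic: the special isometry group has a unique subgroup of index two. -/
theorem specialIsometryGroup_existsUnique_odd [Fintype F] (Q : QuadraticForm F (ι → F))
    (hQ : (QuadraticMap.polarBilin Q).Nondegenerate) (h2 : (2 : F) ≠ 0)
    (hdim : 2 ≤ Fintype.card ι) :
    ∃! H : Subgroup ↥(Cfsg.specialIsometryGroup F ⇑Q), H.index = 2 := by
  classical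
  have hfr : Module.finrank F (ι → F) = Fintype.card ι := Module.finrank_fintype_fun_eq_card F
  have hne : ∃ v : ι → F, Q v ≠ 0 := by
    obtain ⟨v, hv⟩ := exists_Q_eq Q hQ h2 (by rw [hfr]; exact hdim) 1 one_ne_zero
    exact ⟨v, by rw [hv]; exact one_ne_zero⟩
  have e : ↥(Cfsg.specialIsometryGroup F ⇑Q) ≃* ↥(pairGroup Q) :=
    ((Subgroup.equivMapOfInjective _ (Cfsg.isometryGroup F ⇑Q).subtype
        (Subgroup.subtype_injective _)).trans
      ((glEquivι ι F).subgroupMap _)).trans
      (MulEquiv.subgroupCongr (map_specialIsometryGroup Q hQ h2 hne))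
  exact existsUnique_index_two_congr e
    (pairGroup_existsUnique_index_two Q hQ h2 (by rw [hfr]; exact hdim))

/-- Characteristic two: every isometry has determinant one. -/
theorem specialIsometryGroup_eq_top_of_two_eq_zero (Q : QuadraticForm F (ι → F))
    (hQ : (QuadraticMap.polarBilin Q).Nondegenerate) (h0 : (2 : F) = 0) :
    Cfsg.specialIsometryGroup F ⇑Q = ⊤ := by
  rw [eq_top_iff]
  intro g _
  rw [mem_specialIsometryGroup_iff]
  rcases isometry_det_sq Q hQ g.1 g.2 with h | h
  · exact h
  · rw [h]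
    linear_combination (-1 : F) * h0

end Det

end Cfsg.Agent.Lib.Helper13
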