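/-
helper13: semisimilarity pairs of the minus-type quadratic form for every field automorphism
(twisting the anisotropic binary part).
-/
import Mathlib
import Cfsg.Prelude.Def_LieTypeDatum
import Cfsg.Agent.Lib.Helper36.SemiPair

set_option autoImplicit false
set_option linter.unusedSectionVars false

namespace Cfsg.Agent.Lib.Helper13

open Matrix

section Twist

variable {F : Type*} [Field F]

/-- the block matrix `1 ⊕ [[1, r], [0, s]]` -/
def twistMat (m : ℕ) (r s : F) :
    Matrix ((Fin m ⊕ Fin m) ⊕ Fin 2) ((Fin m ⊕ Fin m) ⊕ Fin 2) F :=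
  Matrix.fromBlocks 1 0 0 !![1, r; 0, s]

theorem twistMat_det (m : ℕ) (r s : F) : (twistMat m r s).det = s := by
  unfold twistMat
  rw [Matrix.det_fromBlocks_zero₂₁, Matrix.det_one, Matrix.det_fin_two_of]
  ring

/-- the twisted form -/
theorem quadFormMinus_twistMat (m : ℕ) (a b r s : F) (w : (Fin m ⊕ Fin m) ⊕ Fin 2 → F) :
    Cfsg.quadFormMinus m F a b (twistMat m r s *ᵥ w) =
      Cfsg.quadFormMinus m F (2 * r + a * s) (r ^ 2 + a * r * s + b * s ^ 2) w := by
  have hw : w = Sum.elim (fun i => w (Sum.inl i)) (fun i => w (Sum.inr i)) := by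
    funext j
    rcases j with j | j <;> rfl
  have hAw : twistMat m r s *ᵥ w = Sum.elim (fun i => w (Sum.inl i))
      (!![1, r; 0, s] *ᵥ fun i => w (Sum.inr i)) := by
    conv_lhs => rw [hw]
    unfold twistMat
    rw [Matrix.fromBlocks_mulVec]
    simp
  unfold Cfsg.quadFormMinus
  rw [hAw]
  simp only [Sum.elim_inl, Sum.elim_inr]
  have e1 : (!![1, r; 0, s] *ᵥ fun i => w (Sum.inr i)) 0 = w (Sum.inr 0) + r * w (Sum.inr 1) := by
    simp [Matrix.mulVec, dotProduct, Fin.sum_univ_two]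
  have e2 : (!![1, r; 0, s] *ᵥ fun i => w (Sum.inr i)) 1 = s * w (Sum.inr 1) := by
    simp [Matrix.mulVec, dotProduct, Fin.sum_univ_two]
  rw [e1, e2]
  ring

end Twist

section Frob

variable {F : Type*} [Field F] [Fintype F]

/-- a ring homomorphism applied to the minus form -/
theorem map_quadFormMinus (σ : F →+* F) (m : ℕ) (a b : F) (v : (Fin m ⊕ Fin m) ⊕ Fin 2 → F) :
    σ (Cfsg.quadFormMinus m F a b v) =
      Cfsg.quadFormMinus m F (σ a) (σ b) (fun i => σ (v i)) := by
  unfold Cfsg.quadFormMinus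
  simp only [map_add, map_sum, map_mul, map_pow]

/-- the coefficient `a` of an anisotropic binary form is non-zero in characteristic two. -/
theorem a_ne_zero_of_aniso_char_two (h2 : (2 : F) = 0) (a b : F)
    (hab : ∀ z₁ z₂ : F, z₁ ^ 2 + a * z₁ * z₂ + b * z₂ ^ 2 = 0 → z₁ = 0 ∧ z₂ = 0) : a ≠ 0 := by
  intro ha
  have hchar : ringChar F = 2 :=
    CharP.ringChar_of_prime_eq_zero Nat.prime_two (by exact_mod_cast h2)
  obtain ⟨c, hc⟩ := FiniteField.isSquare_of_char_two hchar b
  have := hab c 1 (by rw [ha, hc]; linear_combination (c * c) * h2)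
  exact one_ne_zero this.2

/-- the discriminant-type constant `b - a² / 4` of an anisotropic binary form is non-zero in odd
characteristic. -/
theorem disc_ne_zero_of_aniso (h2 : (2 : F) ≠ 0) (a b : F)
    (hab : ∀ z₁ z₂ : F, z₁ ^ 2 + a * z₁ * z₂ + b * z₂ ^ 2 = 0 → z₁ = 0 ∧ z₂ = 0) :
    b - a ^ 2 / 4 ≠ 0 := by
  have h4 : (4 : F) ≠ 0 := by
    have : (4 : F) = 2 * 2 := by norm_num
    rw [this]
    exact mul_ne_zero h2 h2
  intro h0
  have hid : (-a / 2) ^ 2 + a * (-a / 2) * 1 + b * 1 ^ 2 = b - a ^ 2 / 4 := by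
    field_simp
    ring
  have := (hab (-a / 2) 1 (by rw [hid, h0])).2
  exact one_ne_zero this

/-- **the Frobenius automorphism** is the field part of a semisimilarity of the minus form. -/
theorem exists_pair_frobenius (p : ℕ) [Fact p.Prime] [CharP F p] (m : ℕ) (a b : F)
    (hab : ∀ z₁ z₂ : F, z₁ ^ 2 + a * z₁ * z₂ + b * z₂ ^ 2 = 0 → z₁ = 0 ∧ z₂ = 0) :
    ∃ g : GL ((Fin m ⊕ Fin m) ⊕ Fin 2) F,
      Cfsg.IsSemisimilarityPair (Cfsg.quadFormMinus m F a b) g (frobeniusEquiv F p) := by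
  have hp := (Fact.out : p.Prime)
  -- it suffices to find `r, s` with `s ≠ 0`
  suffices h : ∃ r s : F, s ≠ 0 ∧ 2 * r + a * s = a ^ p ∧
      r ^ 2 + a * r * s + b * s ^ 2 = b ^ p by
    obtain ⟨r, s, hs, h1, h2⟩ := h
    have hdet : (twistMat m r s).det ≠ 0 := by rw [twistMat_det]; exact hs
    refine ⟨Matrix.GeneralLinearGroup.mkOfDetNeZero (twistMat m r s) hdet, 1, fun v => ?_⟩
    change Cfsg.quadFormMinus m F a b (twistMat m r s *ᵥ fun i => frobeniusEquiv F p (v i)) = _
    rw [quadFormMinus_twistMat, h1, h2, Units.val_one, one_mul]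
    have := map_quadFormMinus (frobenius F p) m a b v
    simp only [frobenius_def] at this
    rw [frobeniusEquiv_def, this]
    rfl
  by_cases h2 : (2 : F) = 0
  · -- characteristic two
    have hp2 : p = 2 := by
      have h3 : ((2 : ℕ) : F) = 0 := by exact_mod_cast h2
      have := (CharP.cast_eq_zero_iff F p 2).mp h3
      exact (Nat.prime_dvd_prime_iff_eq hp Nat.prime_two).mp this
    refine ⟨b, a, a_ne_zero_of_aniso_char_two h2 a b hab, ?_, ?_⟩
    · rw [hp2, h2]; ring
    · rw [hp2]; linear_combination (a ^ 2 * b) * h2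
  · -- odd characteristic
    have h4 : (4 : F) ≠ 0 := by
      have : (4 : F) = 2 * 2 := by norm_num
      rw [this]
      exact mul_ne_zero h2 h2
    have hD := disc_ne_zero_of_aniso h2 a b hab
    set D := b - a ^ 2 / 4 with hDdef
    have hpodd : p ≠ 2 := by
      intro h
      apply h2
      have : ((p : ℕ) : F) = 0 := CharP.cast_eq_zero F p
      rw [h] at this
      exact_mod_cast this
    obtain ⟨k, hk⟩ : ∃ k, p = 2 * k + 1 := by
      rcases hp.eq_two_or_odd with h | h
      · exact absurd h hpodd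
      · exact ⟨p / 2, by omega⟩
    refine ⟨(a ^ p - a * D ^ k) / 2, D ^ k, pow_ne_zero _ hD, ?_, ?_⟩
    · field_simp
      ring
    · have hDp : D ^ p = b ^ p - a ^ (2 * p) / 4 := by
        have h5 : (4 : F) ^ p = 4 := by
          have := map_natCast (frobenius F p) 4
          rw [frobenius_def] at this
          exact_mod_cast this
        rw [hDdef, sub_pow_char, div_pow, h5, ← pow_mul]
      have h6 : D * (D ^ k) ^ 2 = D ^ p := by
        rw [hk, ← pow_mul, ← pow_succ']
        congr 1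
        ring
      have h7 : b = D + a ^ 2 / 4 := by rw [hDdef]; ring
      have h8 : a ^ (2 * p) = (a ^ p) ^ 2 := by rw [← pow_mul]; congr 1; ring
      rw [h8] at hDp
      have h9 : ((a ^ p - a * D ^ k) / 2) ^ 2 + a * ((a ^ p - a * D ^ k) / 2) * D ^ k +
          b * (D ^ k) ^ 2 = (a ^ p) ^ 2 / 4 + D * (D ^ k) ^ 2 := by
        rw [h7]
        field_simp
        ring
      rw [h9, h6, hDp]
      ring

end Frob

section AllAut

variable {F : Type*} [Field F] [Fintype F]

/-- every automorphism of a finite field is a power of the Frobenius. -/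
theorem exists_pow_frobenius (p : ℕ) [Fact p.Prime] [CharP F p] (σ : F ≃+* F) :
    ∃ k : ℕ, ∀ x, σ x = x ^ (p ^ k) := by
  let _ : Algebra (ZMod p) F := ZMod.algebra F p
  have hcomm : ∀ r : ZMod p, σ (algebraMap (ZMod p) F r) = algebraMap (ZMod p) F r := by
    intro r
    rw [← ZMod.natCast_zmod_val r, map_natCast, map_natCast]
  set σ' : F ≃ₐ[ZMod p] F := AlgEquiv.ofRingEquiv (f := σ) hcomm with hσ'
  obtain ⟨k, hk⟩ := (FiniteField.bijective_frobeniusAlgEquivOfAlgebraic_pow (ZMod p) F).2 σ'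
  refine ⟨k.1, fun x => ?_⟩
  have h1 : σ x = σ' x := rfl
  have hk' : FiniteField.frobeniusAlgEquivOfAlgebraic (ZMod p) F ^ k.1 = σ' := hk
  rw [h1, ← hk', AlgEquiv.coe_pow, FiniteField.coe_frobeniusAlgEquivOfAlgebraic_iterate, ZMod.card]

/-- the automorphism `x ↦ x ^ (p ^ k)` is the `k`-th power of the Frobenius. -/
theorem eq_frobeniusEquiv_pow (p : ℕ) [Fact p.Prime] [CharP F p] (σ : F ≃+* F) (k : ℕ)
    (h : ∀ x, σ x = x ^ (p ^ k)) : σ = (frobeniusEquiv F p : RingAut F) ^ k := by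
  apply RingEquiv.ext
  intro x
  rw [h, RingAut.coe_pow]
  have : ∀ (k : ℕ) (x : F), (⇑(frobeniusEquiv F p))^[k] x = x ^ (p ^ k) := by
    intro k
    induction k with
    | zero => intro x; simp
    | succ k ih =>
      intro x
      rw [Function.iterate_succ_apply', ih, frobeniusEquiv_def, ← pow_mul, pow_succ]
  rw [this]

/-- **every field automorphism** is the field part of a semisimilarity of the minus form. -/
theorem exists_pair_minus (p : ℕ) [Fact p.Prime] [CharP F p] (m : ℕ) (a b : F)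
    (hab : ∀ z₁ z₂ : F, z₁ ^ 2 + a * z₁ * z₂ + b * z₂ ^ 2 = 0 → z₁ = 0 ∧ z₂ = 0)
    (σ : F ≃+* F) :
    ∃ g : GL ((Fin m ⊕ Fin m) ⊕ Fin 2) F,
      Cfsg.IsSemisimilarityPair (Cfsg.quadFormMinus m F a b) g σ := by
  obtain ⟨k, hk⟩ := exists_pow_frobenius p σ
  rw [eq_frobeniusEquiv_pow p σ k hk]
  clear hk
  induction k with
  | zero =>
    rw [pow_zero]
    exact ⟨1, Cfsg.Agent.Lib.Helper36.isSemisimilarityPair_one _⟩
  | succ k ih =>
    obtain ⟨g₁, hg₁⟩ := ih
    obtain ⟨g₂, hg₂⟩ := exists_pair_frobenius p m a b hab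
    rw [pow_succ]
    exact ⟨_, Cfsg.Agent.Lib.Helper36.isSemisimilarityPair_mul _ g₁ g₂ _ _ hg₁ hg₂⟩

end AllAut

end Cfsg.Agent.Lib.Helper13
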