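import Mathlib
import Cfsg.Agent.Lib.Helper13.MinusSemi

set_option autoImplicit false
set_option linter.unusedSectionVars false

/-!
helper13: any two anisotropic binary forms `z₁² + a z₁ z₂ + b z₂²` over a finite field are related
by a substitution `z₁ ↦ z₁ + r z₂, z₂ ↦ s z₂` (all characteristics).
-/

namespace Cfsg.Agent.Lib.Helper13

variable {F : Type*} [Field F] [Fintype F]

theorem not_isSquare_disc_of_aniso (h2 : (2 : F) ≠ 0) (a b : F)
    (hab : ∀ z₁ z₂ : F, z₁ ^ 2 + a * z₁ * z₂ + b * z₂ ^ 2 = 0 → z₁ = 0 ∧ z₂ = 0) :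
    ¬ IsSquare (a ^ 2 - 4 * b) := by
  rintro ⟨t, ht⟩
  have h4 : (4 : F) ≠ 0 := by
    have : (4 : F) = 2 * 2 := by norm_num
    rw [this]
    exact mul_ne_zero h2 h2
  have := (hab ((t - a) / 2) 1 (by
    field_simp
    linear_combination -ht)).2
  exact one_ne_zero this

theorem exists_twist_of_aniso_odd (h2 : (2 : F) ≠ 0) (a b a' b' : F)
    (hab : ∀ z₁ z₂ : F, z₁ ^ 2 + a * z₁ * z₂ + b * z₂ ^ 2 = 0 → z₁ = 0 ∧ z₂ = 0)
    (hab' : ∀ z₁ z₂ : F, z₁ ^ 2 + a' * z₁ * z₂ + b' * z₂ ^ 2 = 0 → z₁ = 0 ∧ z₂ = 0) :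
    ∃ r s : F, s ≠ 0 ∧ 2 * r + a * s = a' ∧ r ^ 2 + a * r * s + b * s ^ 2 = b' := by
  have hchar : ringChar F ≠ 2 := by
    intro h
    apply h2
    have : ((2 : ℕ) : F) = 0 := by
      rw [← h]; exact ringChar.Nat.cast_ringChar
    exact_mod_cast this
  have hns := not_isSquare_disc_of_aniso h2 a b hab
  have hns' := not_isSquare_disc_of_aniso h2 a' b' hab'
  set d := a ^ 2 - 4 * b with hd
  set d' := a' ^ 2 - 4 * b' with hd'
  have hd0 : d ≠ 0 := by
    intro h
    apply hns
    rw [h]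
    exact IsSquare.zero
  have hd'0 : d' ≠ 0 := by
    intro h
    apply hns'
    rw [h]
    exact IsSquare.zero
  have e1 : d ^ (Fintype.card F / 2) = -1 := by
    rcases FiniteField.pow_dichotomy hchar hd0 with h | h
    · exact absurd ((FiniteField.isSquare_iff hchar hd0).mpr h) hns
    · exact h
  have e2 : d' ^ (Fintype.card F / 2) = -1 := by
    rcases FiniteField.pow_dichotomy hchar hd'0 with h | h
    · exact absurd ((FiniteField.isSquare_iff hchar hd'0).mpr h) hns'
    · exact h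
  have hq0 : d' / d ≠ 0 := div_ne_zero hd'0 hd0
  have hsq : IsSquare (d' / d) := by
    rw [FiniteField.isSquare_iff hchar hq0, div_pow, e1, e2]
    norm_num
  obtain ⟨s, hs⟩ := hsq
  have hs0 : s ≠ 0 := by
    rintro rfl
    rw [mul_zero] at hs
    exact hq0 hs
  have hs' : d' = s * s * d := by
    rw [← hs]
    field_simp
  refine ⟨(a' - a * s) / 2, s, hs0, ?_, ?_⟩
  · field_simp
    ring
  · rw [hd, hd'] at hs'
    have h4 : (4 : F) ≠ 0 := by
      have : (4 : F) = 2 * 2 := by norm_num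
      rw [this]
      exact mul_ne_zero h2 h2
    field_simp
    linear_combination hs'

/-- the additive map `r ↦ r² + a r` in characteristic two -/
def asHom (h2 : (2 : F) = 0) (a : F) : F →+ F where
  toFun r := r ^ 2 + a * r
  map_zero' := by ring
  map_add' x y := by linear_combination (x * y) * h2

theorem asHom_apply (h2 : (2 : F) = 0) (a r : F) : asHom h2 a r = r ^ 2 + a * r := rfl

theorem index_range_asHom (h2 : (2 : F) = 0) (a : F) (ha : a ≠ 0) :
    (asHom h2 a).range.index = 2 := by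
  classical
  have hker : Nat.card (asHom h2 a).ker = 2 := by
    rw [Nat.card_eq_two_iff]
    refine ⟨⟨0, map_zero _⟩, ⟨a, ?_⟩, ?_, ?_⟩
    · rw [AddMonoidHom.mem_ker, asHom_apply]
      linear_combination (a * a) * h2
    · intro h
      exact ha (congrArg Subtype.val h).symm
    · rw [Set.eq_univ_iff_forall]
      rintro ⟨x, hx⟩
      rw [AddMonoidHom.mem_ker, asHom_apply] at hx
      have : x * (x + a) = 0 := by linear_combination hx
      rcases mul_eq_zero.mp this with h | h
      · left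
        exact Subtype.ext h
      · right
        apply Subtype.ext
        show x = a
        linear_combination h - a * h2
  have h1 := AddSubgroup.index_mul_card (asHom h2 a).range
  have h2' := AddSubgroup.card_eq_card_quotient_mul_card_addSubgroup (asHom h2 a).ker
  have h3 : Nat.card (F ⧸ (asHom h2 a).ker) = Nat.card (asHom h2 a).range :=
    Nat.card_congr (QuotientAddGroup.quotientKerEquivRange (asHom h2 a)).toEquiv
  rw [h3, hker] at h2'
  have hpos : 0 < Nat.card (asHom h2 a).range := Nat.card_pos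
  have : (asHom h2 a).range.index * Nat.card (asHom h2 a).range =
      2 * Nat.card (asHom h2 a).range := by
    rw [h1, h2', mul_comm]
  exact Nat.eq_of_mul_eq_mul_right hpos this

theorem exists_twist_of_aniso_even (h2 : (2 : F) = 0) (a b a' b' : F)
    (hab : ∀ z₁ z₂ : F, z₁ ^ 2 + a * z₁ * z₂ + b * z₂ ^ 2 = 0 → z₁ = 0 ∧ z₂ = 0)
    (hab' : ∀ z₁ z₂ : F, z₁ ^ 2 + a' * z₁ * z₂ + b' * z₂ ^ 2 = 0 → z₁ = 0 ∧ z₂ = 0) :
    ∃ r s : F, s ≠ 0 ∧ 2 * r + a * s = a' ∧ r ^ 2 + a * r * s + b * s ^ 2 = b' := by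
  have ha := a_ne_zero_of_aniso_char_two h2 a b hab
  have ha' := a_ne_zero_of_aniso_char_two h2 a' b' hab'
  set s := a' / a with hs
  have hs0 : s ≠ 0 := div_ne_zero ha' ha
  have has : a * s = a' := by
    rw [hs]
    field_simp
  have hidx := index_range_asHom h2 a' ha'
  have hn1 : b' ∉ (asHom h2 a').range := by
    rintro ⟨r, hr⟩
    rw [asHom_apply] at hr
    have := (hab' r 1 (by linear_combination hr + b' * h2)).2
    exact one_ne_zero this
  have hn2 : b * s ^ 2 ∉ (asHom h2 a').range := by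
    rintro ⟨r, hr⟩
    rw [asHom_apply] at hr
    have := (hab (r / s) 1 (by
      field_simp
      rw [← has] at hr
      linear_combination hr + (b * s ^ 2) * h2)).2
    exact one_ne_zero this
  have hmem : b * s ^ 2 + b' ∈ (asHom h2 a').range := by
    rw [AddSubgroup.add_mem_iff_of_index_two hidx]
    exact ⟨fun h => absurd h hn2, fun h => absurd h hn1⟩
  obtain ⟨r, hr⟩ := hmem
  rw [asHom_apply] at hr
  refine ⟨r, s, hs0, ?_, ?_⟩
  · rw [has]
    linear_combination r * h2
  · rw [← has] at hr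
    linear_combination hr + (b * s ^ 2) * h2

/-- **any two anisotropic binary forms over a finite field are equivalent** -/
theorem exists_twist_of_aniso (a b a' b' : F)
    (hab : ∀ z₁ z₂ : F, z₁ ^ 2 + a * z₁ * z₂ + b * z₂ ^ 2 = 0 → z₁ = 0 ∧ z₂ = 0)
    (hab' : ∀ z₁ z₂ : F, z₁ ^ 2 + a' * z₁ * z₂ + b' * z₂ ^ 2 = 0 → z₁ = 0 ∧ z₂ = 0) :
    ∃ r s : F, s ≠ 0 ∧ 2 * r + a * s = a' ∧ r ^ 2 + a * r * s + b * s ^ 2 = b' := by
  by_cases h2 : (2 : F) = 0
  · exact exists_twist_of_aniso_even h2 a b a' b' hab hab'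
  · exact exists_twist_of_aniso_odd h2 a b a' b' hab hab'

end Cfsg.Agent.Lib.Helper13
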