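import Mathlib
import Cfsg.Agent.Lib.Helper44.Witt
import Cfsg.Prelude.Def_Classical

set_option autoImplicit false
set_option linter.unusedSectionVars false

/-!
helper13: every non-degenerate quadratic form in `2m+2` variables over a finite field (all
characteristics) is, after a linear change of variables and up to a scalar, of the shape
`Σ xᵢ yᵢ + z₁² + α z₁ z₂ + β z₂²`.
-/

namespace Cfsg.Agent.Lib.Helper13

open Module Cfsg.Agent.Lib.Helper44

section Abstract

variable {F : Type*} [Field F]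

theorem quad_sum_of_orth {V : Type*} [AddCommGroup V] [Module F V] (Q : QuadraticForm F V)
    {κ : Type*} [DecidableEq κ] (s : Finset κ) (p : κ → V)
    (h : ∀ i ∈ s, ∀ k ∈ s, i ≠ k → QuadraticMap.polar (⇑Q) (p i) (p k) = 0) :
    Q (∑ i ∈ s, p i) = ∑ i ∈ s, Q (p i) := by
  induction s using Finset.induction_on with
  | empty => simp
  | insert a s ha ih =>
    rw [Finset.sum_insert ha, Finset.sum_insert ha, QuadraticMap.map_add Q, ih]
    · have h0 : QuadraticMap.polar (⇑Q) (p a) (∑ i ∈ s, p i) = 0 := by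
        have e1 : QuadraticMap.polar (⇑Q) (p a) (∑ i ∈ s, p i) =
            QuadraticMap.polarBilin Q (p a) (∑ i ∈ s, p i) := rfl
        rw [e1, map_sum]
        apply Finset.sum_eq_zero
        intro k hk
        rw [QuadraticMap.polarBilin_apply_apply]
        apply h a (Finset.mem_insert_self a s) k (Finset.mem_insert_of_mem hk)
        rintro rfl
        exact ha hk
      rw [h0, add_zero]
    · intro i hi k hk hik
      exact h i (Finset.mem_insert_of_mem hi) k (Finset.mem_insert_of_mem hk) hik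

universe u

/-- Witt decomposition: `k` hyperbolic pairs and a two-dimensional complement -/
theorem hyp_decomp [Finite F] : ∀ (k : ℕ) (V : Type u) [AddCommGroup V] [Module F V]
    [FiniteDimensional F V] (Q : QuadraticForm F V)
    (_ : (QuadraticMap.polarBilin Q).Nondegenerate) (_ : finrank F V = 2 * k + 2),
    ∃ (e f : Fin k → V) (w₁ w₂ : V), HypSys Q e f ∧
      (∀ i, QuadraticMap.polar (⇑Q) (e i) w₁ = 0 ∧ QuadraticMap.polar (⇑Q) (f i) w₁ = 0 ∧
        QuadraticMap.polar (⇑Q) (e i) w₂ = 0 ∧ QuadraticMap.polar (⇑Q) (f i) w₂ = 0) ∧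
      LinearIndependent F ![w₁, w₂] ∧ Q w₁ ≠ 0 := by
  intro k
  induction k with
  | zero =>
    intro V _ _ _ Q hQ hdim
    have hex : ∃ w₁ : V, Q w₁ ≠ 0 := by
      by_contra hcon
      push Not at hcon
      have hpol : ∀ x y : V, QuadraticMap.polarBilin Q x y = 0 := by
        intro x y
        rw [QuadraticMap.polarBilin_apply_apply]
        unfold QuadraticMap.polar
        rw [hcon, hcon, hcon]
        ring
      have hpos : 0 < finrank F V := by omega
      obtain ⟨v, hv⟩ := (Module.finrank_pos_iff_exists_ne_zero (R := F) (M := V)).mp hpos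
      apply hv
      apply hQ.1 v
      intro y
      exact hpol v y
    obtain ⟨w₁, hw₁⟩ := hex
    have hw₁0 : w₁ ≠ 0 := by
      rintro rfl
      exact hw₁ (map_zero Q)
    have hlt : finrank F (Submodule.span F {w₁}) < finrank F V := by
      rw [finrank_span_singleton hw₁0]
      omega
    obtain ⟨w₂, hw₂⟩ : ∃ w₂ : V, w₂ ∉ Submodule.span F {w₁} := by
      by_contra hcon
      push Not at hcon
      have : Submodule.span F {w₁} = ⊤ := by
        rw [eq_top_iff]
        intro x _
        exact hcon x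
      rw [this, finrank_top] at hlt
      exact lt_irrefl _ hlt
    refine ⟨Fin.elim0, Fin.elim0, w₁, w₂, ⟨fun i => i.elim0, fun i => i.elim0, fun i => i.elim0⟩,
      fun i => i.elim0, ?_, hw₁⟩
    rw [LinearIndependent.pair_iff' hw₁0]
    intro a ha
    apply hw₂
    rw [← ha]
    exact Submodule.smul_mem _ _ (Submodule.mem_span_singleton_self w₁)
  | succ k ih =>
    intro V _ _ _ Q hQ hdim
    obtain ⟨e₀, f₀, W, hQe, hQf, hef, hWnd, hWdim, hWorth⟩ := peel Q hQ (by omega)
    have hdimW : finrank F W = 2 * k + 2 := by omega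
    obtain ⟨e, f, w₁, w₂, hsys, horth, hli, hw₁⟩ := ih W (Q.comp W.subtype) hWnd hdimW
    have hpol : ∀ x y : W, QuadraticMap.polar (⇑(Q.comp W.subtype)) x y =
        QuadraticMap.polar (⇑Q) (x : V) (y : V) := by
      intro x y
      simp [QuadraticMap.polar]
    refine ⟨Fin.cons e₀ (fun i => (e i : V)), Fin.cons f₀ (fun i => (f i : V)), (w₁ : V),
      (w₂ : V), HypSys.cons Q e₀ f₀ hQe hQf hef W hWorth e f hsys, ?_, ?_, hw₁⟩
    · intro i
      refine Fin.cases ?_ (fun i => ?_) i
      · simp only [Fin.cons_zero]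
        exact ⟨(hWorth _ w₁.2).1, (hWorth _ w₁.2).2, (hWorth _ w₂.2).1, (hWorth _ w₂.2).2⟩
      · simp only [Fin.cons_succ]
        obtain ⟨h1, h2, h3, h4⟩ := horth i
        rw [hpol] at h1 h2 h3 h4
        exact ⟨h1, h2, h3, h4⟩
    · have := hli.map' W.subtype (Submodule.ker_subtype W)
      have he : (![(w₁ : V), (w₂ : V)] : Fin 2 → V) = ⇑W.subtype ∘ ![w₁, w₂] := by
        funext i
        fin_cases i <;> rfl
      rw [he]
      exact this

end Abstract

section Concrete

variable {F : Type*} [Field F] [Fintype F] {m : ℕ}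

/-- **classification of even-dimensional forms over a finite field, up to similarity** -/
theorem exists_minus_shape (Q : QuadraticForm F ((Fin m ⊕ Fin m) ⊕ Fin 2 → F))
    (hQ : (QuadraticMap.polarBilin Q).Nondegenerate) :
    ∃ (T : Matrix ((Fin m ⊕ Fin m) ⊕ Fin 2) ((Fin m ⊕ Fin m) ⊕ Fin 2) F) (c α β : F),
      IsUnit T ∧ c ≠ 0 ∧ ∀ w, Q (T.mulVec w) = c * Cfsg.quadFormMinus m F α β w := by
  classical
  have hdim : finrank F ((Fin m ⊕ Fin m) ⊕ Fin 2 → F) = 2 * m + 2 := by
    rw [Module.finrank_fintype_fun_eq_card, Fintype.card_sum, Fintype.card_sum, Fintype.card_fin,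
      Fintype.card_fin]
    ring
  obtain ⟨e, f, w₁, w₂, hsys, horth, hli, hw₁⟩ := hyp_decomp m _ Q hQ hdim
  obtain ⟨hs1, hs2, hs3⟩ := hsys
  set A := Q w₁ with hA
  set b₀ : (Fin m ⊕ Fin m) ⊕ Fin 2 → ((Fin m ⊕ Fin m) ⊕ Fin 2 → F) :=
    Sum.elim (Sum.elim e f) ![w₁, w₂] with hb₀
  have hli₀ : LinearIndependent F b₀ := by
    apply HypSys.linearIndependent Q e f ⟨hs1, hs2, hs3⟩ ![w₁, w₂] hli
    intro i j
    fin_cases j
    · exact ⟨(horth i).1, (horth i).2.1⟩
    · exact ⟨(horth i).2.2.1, (horth i).2.2.2⟩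
  set u : (Fin m ⊕ Fin m) ⊕ Fin 2 → Fˣ :=
    Sum.elim (Sum.elim (fun _ => 1) (fun _ => Units.mk0 A hw₁)) (fun _ => 1) with hu
  have hli₁ := hli₀.units_smul u
  set b : (Fin m ⊕ Fin m) ⊕ Fin 2 → ((Fin m ⊕ Fin m) ⊕ Fin 2 → F) := u • b₀ with hb
  set T : Matrix ((Fin m ⊕ Fin m) ⊕ Fin 2) ((Fin m ⊕ Fin m) ⊕ Fin 2) F :=
    Matrix.of (fun i j => b j i) with hT
  have hTcol : T.col = b := by
    funext j i
    rfl
  have hTunit : IsUnit T := by
    rw [← Matrix.linearIndependent_cols_iff_isUnit, hTcol]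
    exact hli₁
  have hTmul : ∀ w, T.mulVec w = ∑ j, w j • b j := by
    intro w
    funext i
    simp only [Matrix.mulVec, dotProduct, hT, Matrix.of_apply, Finset.sum_apply, Pi.smul_apply,
      smul_eq_mul]
    apply Finset.sum_congr rfl
    intro j _
    ring
  refine ⟨T, A, QuadraticMap.polar (⇑Q) w₁ w₂ / A, Q w₂ / A, hTunit, hw₁, fun w => ?_⟩
  rw [hTmul, Fintype.sum_sum_type, Fintype.sum_sum_type, Fin.sum_univ_two]
  have hbx : ∀ i : Fin m, b (Sum.inl (Sum.inl i)) = e i := by
    intro i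
    simp [hb, hu, hb₀]
  have hby : ∀ i : Fin m, b (Sum.inl (Sum.inr i)) = A • f i := by
    intro i
    simp [hb, hu, hb₀, Units.smul_def]
  have hbz0 : b (Sum.inr 0) = w₁ := by simp [hb, hu, hb₀]
  have hbz1 : b (Sum.inr 1) = w₂ := by simp [hb, hu, hb₀]
  simp only [hbx, hby, hbz0, hbz1]
  rw [← Finset.sum_add_distrib]
  set p : Fin m → ((Fin m ⊕ Fin m) ⊕ Fin 2 → F) := fun i =>
    w (Sum.inl (Sum.inl i)) • e i + w (Sum.inl (Sum.inr i)) • A • f i with hp
  set W := w (Sum.inr 0) • w₁ + w (Sum.inr 1) • w₂ with hW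
  have hpe : ∀ i k, QuadraticMap.polar (⇑Q) (e i) (e k) = 0 := fun i k => (hs3 i k).1
  have hpf : ∀ i k, QuadraticMap.polar (⇑Q) (f i) (f k) = 0 := fun i k => (hs3 i k).2
  have hpfe : ∀ i k, QuadraticMap.polar (⇑Q) (f i) (e k) = if k = i then 1 else 0 := by
    intro i k
    rw [QuadraticMap.polar_comm, hs2]
  have hpp : ∀ i k, i ≠ k → QuadraticMap.polar (⇑Q) (p i) (p k) = 0 := by
    intro i k hik
    simp only [hp, QuadraticMap.polar_add_left, QuadraticMap.polar_add_right,
      QuadraticMap.polar_smul_left, QuadraticMap.polar_smul_right, hpe, hpf, hs2, hpfe,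
      smul_eq_mul, if_neg hik, if_neg (Ne.symm hik)]
    ring
  have hQp : ∀ i, Q (p i) = A * (w (Sum.inl (Sum.inl i)) * w (Sum.inl (Sum.inr i))) := by
    intro i
    simp only [hp]
    rw [QuadraticMap.map_add Q, QuadraticMap.map_smul, QuadraticMap.map_smul, QuadraticMap.map_smul,
      (hs1 i).1, (hs1 i).2]
    simp only [QuadraticMap.polar_smul_left, QuadraticMap.polar_smul_right, hs2, smul_eq_mul,
      if_true]
    ring
  have hpW : QuadraticMap.polar (⇑Q) (∑ i, p i) W = 0 := by
    have e1 : QuadraticMap.polar (⇑Q) (∑ i, p i) W =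
        (QuadraticMap.polarBilin Q).flip W (∑ i, p i) := rfl
    rw [e1, map_sum]
    apply Finset.sum_eq_zero
    intro i _
    rw [LinearMap.flip_apply, QuadraticMap.polarBilin_apply_apply]
    simp only [hp, hW, QuadraticMap.polar_add_left, QuadraticMap.polar_add_right,
      QuadraticMap.polar_smul_left, QuadraticMap.polar_smul_right, (horth i).1, (horth i).2.1,
      (horth i).2.2.1, (horth i).2.2.2, smul_eq_mul]
    ring
  have hQW : Q W = A * (w (Sum.inr 0) ^ 2 + QuadraticMap.polar (⇑Q) w₁ w₂ / A *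
      w (Sum.inr 0) * w (Sum.inr 1) + Q w₂ / A * w (Sum.inr 1) ^ 2) := by
    simp only [hW]
    rw [QuadraticMap.map_add Q, QuadraticMap.map_smul, QuadraticMap.map_smul,
      QuadraticMap.polar_smul_left, QuadraticMap.polar_smul_right]
    simp only [smul_eq_mul]
    field_simp
    ring
  have hsum : (∑ i : Fin m, (w (Sum.inl (Sum.inl i)) • e i + w (Sum.inl (Sum.inr i)) • A • f i)) =
      ∑ i, p i := rfl
  have hWeq : w (Sum.inr 0) • w₁ + w (Sum.inr 1) • w₂ = W := rfl
  rw [QuadraticMap.map_add Q, hpW, add_zero,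
    quad_sum_of_orth Q Finset.univ p (fun i _ k _ hik => hpp i k hik), hQW]
  simp only [hQp]
  unfold Cfsg.quadFormMinus
  rw [← Finset.mul_sum]
  ring

end Concrete

end Cfsg.Agent.Lib.Helper13
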