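import Mathlib
import Cfsg.Agent.Lib.Helper36.MaxTS
import Cfsg.Agent.Lib.Helper36.MinusExt
import Cfsg.Agent.Lib.Helper36.DicksonMatrix
import Cfsg.Agent.Lib.Helper44.POmegaOrder
import Cfsg.Agent.S0791

set_option autoImplicit false
set_option linter.unusedSectionVars false

/-!
helper13: a minus-type form with anisotropic binary part has no totally singular subspace of
dimension `m + 1`; one with isotropic binary part has; hence anisotropy of the binary part is
invariant under similarity of the forms (all characteristics).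
-/

namespace Cfsg.Agent.Lib.Helper13

open Module Matrix Cfsg.Agent.S0791 Cfsg.Agent.Lib.Helper36 Cfsg.Agent.Lib.Helper44

variable {F : Type*} [Field F] {m : ℕ}

theorem minusForm_eq_minusQF (m : ℕ) (F : Type*) [Field F] (a b : F) :
    minusForm m F a b = minusQF m F a b :=
  DFunLike.coe_injective (by rw [minusForm_coe, minusQF_coe])

theorem minusForm_nondeg_of_aniso [Finite F] (m : ℕ) (a b : F)
    (hab : ∀ z₁ z₂ : F, z₁ ^ 2 + a * z₁ * z₂ + b * z₂ ^ 2 = 0 → z₁ = 0 ∧ z₂ = 0) :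
    (QuadraticMap.polarBilin (minusForm m F a b)).Nondegenerate := by
  rw [minusForm_eq_minusQF]
  exact minusQF_nondeg_of_aniso m a b hab

theorem finrank_minus_space (m : ℕ) (F : Type*) [Field F] :
    finrank F ((Fin m ⊕ Fin m) ⊕ Fin 2 → F) = 2 * (m + 1) := by
  rw [Module.finrank_fintype_fun_eq_card, Fintype.card_sum, Fintype.card_sum, Fintype.card_fin,
    Fintype.card_fin]
  ring

/-- the embedding of the standard totally singular `m`-space -/
def xInl (m : ℕ) (F : Type*) [Field F] : (Fin m → F) →ₗ[F] ((Fin m ⊕ Fin m) ⊕ Fin 2 → F) where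
  toFun p := Sum.elim (Sum.elim p 0) 0
  map_add' p p' := by
    funext j
    rcases j with (j | j) | j <;> simp
  map_smul' c p := by
    funext j
    rcases j with (j | j) | j <;> simp

theorem range_xInl_ts (m : ℕ) (a b : F) :
    IsTS (minusForm m F a b) (LinearMap.range (xInl m F)) := by
  rintro _ ⟨p, rfl⟩
  rw [minusForm_coe]
  unfold Cfsg.quadFormMinus
  have h1 : ∑ i : Fin m, xInl m F p (Sum.inl (Sum.inl i)) * xInl m F p (Sum.inl (Sum.inr i)) = 0 := by
    apply Finset.sum_eq_zero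
    intro i _
    change p i * 0 = 0
    rw [mul_zero]
  have h3 : xInl m F p (Sum.inr 0) = 0 := rfl
  have h4 : xInl m F p (Sum.inr 1) = 0 := rfl
  rw [h1, h3, h4]
  ring

/-- **(W1)** no totally singular subspace of dimension `m + 1` when the binary part is
anisotropic -/
theorem finrank_ne_of_aniso [Finite F] (m : ℕ) (a b : F)
    (hab : ∀ z₁ z₂ : F, z₁ ^ 2 + a * z₁ * z₂ + b * z₂ ^ 2 = 0 → z₁ = 0 ∧ z₂ = 0)
    (E : Submodule F ((Fin m ⊕ Fin m) ⊕ Fin 2 → F)) (hE : IsTS (minusForm m F a b) E) :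
    finrank F E ≠ m + 1 := by
  intro hfE
  have hQ := minusForm_nondeg_of_aniso m a b hab
  have hdim := finrank_minus_space m F
  obtain ⟨W, hW, hfW, hle⟩ := exists_mts_ge (minusForm m F a b) hQ hdim hE hfE
    (range_xInl_ts m a b)
  have hlt : finrank F (LinearMap.range (xInl m F)) < finrank F W := by
    have := LinearMap.finrank_range_le (xInl m F)
    rw [Module.finrank_fin_fun] at this
    omega
  obtain ⟨x, hxW, hxP⟩ := exists_mem_not_mem_of_finrank_lt hlt
  apply hxP
  -- the `y`-coordinates of `x` vanish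
  have hy : ∀ i : Fin m, x (Sum.inl (Sum.inr i)) = 0 := by
    intro i
    have h1 : xInl m F (Pi.single i 1) ∈ W := hle ⟨_, rfl⟩
    have h2 := hW.polar_eq_zero h1 hxW
    rw [minusForm_polar] at h2
    have e3 : xInl m F (Pi.single i 1) (Sum.inr 0) = 0 := rfl
    have e4 : xInl m F (Pi.single i 1) (Sum.inr 1) = 0 := rfl
    have e5 : ∀ k : Fin m, xInl m F (Pi.single i 1) (Sum.inl (Sum.inr k)) = 0 := fun k => rfl
    have e6 : ∀ k : Fin m, xInl m F (Pi.single i 1) (Sum.inl (Sum.inl k)) =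
        (Pi.single i 1 : Fin m → F) k := fun k => rfl
    simp only [e3, e4, e5, e6, mul_zero, zero_mul, add_zero] at h2
    rw [Finset.sum_eq_single i] at h2
    · simpa using h2
    · intro k _ hk
      rw [Pi.single_eq_of_ne hk, zero_mul]
    · intro h
      exact absurd (Finset.mem_univ i) h
  have hQx := hW x hxW
  rw [minusForm_coe] at hQx
  unfold Cfsg.quadFormMinus at hQx
  have h1 : ∑ i : Fin m, x (Sum.inl (Sum.inl i)) * x (Sum.inl (Sum.inr i)) = 0 := by
    apply Finset.sum_eq_zero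
    intro i _
    rw [hy i, mul_zero]
  rw [h1, zero_add] at hQx
  obtain ⟨hz0, hz1⟩ := hab _ _ hQx
  refine ⟨fun i => x (Sum.inl (Sum.inl i)), ?_⟩
  funext j
  rcases j with (j | j) | j
  · rfl
  · exact (hy j).symm
  · fin_cases j
    · exact hz0.symm
    · exact hz1.symm

/-- **(W2)+(W1)**: a form similar (by an invertible matrix) to an anisotropic minus-type form has
anisotropic binary part -/
theorem aniso_of_similar [Finite F] (m : ℕ) (a b α β : F)
    (hab : ∀ z₁ z₂ : F, z₁ ^ 2 + a * z₁ * z₂ + b * z₂ ^ 2 = 0 → z₁ = 0 ∧ z₂ = 0)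
    (M : GL ((Fin m ⊕ Fin m) ⊕ Fin 2) F) (κ : F)
    (hM : ∀ w, Cfsg.quadFormMinus m F a b ((M : Matrix _ _ F) *ᵥ w) =
      κ * Cfsg.quadFormMinus m F α β w) :
    ∀ z₁ z₂ : F, z₁ ^ 2 + α * z₁ * z₂ + β * z₂ ^ 2 = 0 → z₁ = 0 ∧ z₂ = 0 := by
  intro z₁ z₂ hz
  by_contra hne
  have hz₂ : z₂ ≠ 0 := by
    intro h0
    rw [h0] at hz
    have : z₁ = 0 := by
      have : z₁ ^ 2 = 0 := by linear_combination hz
      exact pow_eq_zero_iff (two_ne_zero) |>.mp this
    exact hne ⟨this, h0⟩
  set r := z₁ / z₂ with hr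
  have hroot : r ^ 2 + α * r + β = 0 := by
    rw [hr]
    field_simp
    linear_combination hz
  have hts := range_minusInl_ts m α β r hroot
  have hfr := finrank_range_minusInl (K := F) m r
  set E : Submodule F ((Fin m ⊕ Fin m) ⊕ Fin 2 → F) := (LinearMap.range (minusInl m r)).map
    ((glLinEquiv ((Fin m ⊕ Fin m) ⊕ Fin 2) F M : ((Fin m ⊕ Fin m) ⊕ Fin 2 → F) ≃ₗ[F]
      ((Fin m ⊕ Fin m) ⊕ Fin 2 → F)) : ((Fin m ⊕ Fin m) ⊕ Fin 2 → F) →ₗ[F]
      ((Fin m ⊕ Fin m) ⊕ Fin 2 → F)) with hEdef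
  have hE : IsTS (minusForm m F a b) E := by
    rintro _ ⟨w, hw, rfl⟩
    have h1 := hts w hw
    rw [minusForm_coe] at h1
    change minusForm m F a b ((M : Matrix _ _ F) *ᵥ w) = 0
    rw [minusForm_coe, hM, h1, mul_zero]
  have hfE : finrank F E = m + 1 := by
    rw [hEdef, LinearEquiv.finrank_map_eq, hfr]
  exact finrank_ne_of_aniso m a b hab E hE hfE

end Cfsg.Agent.Lib.Helper13
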