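import Mathlib
import Cfsg.Agent.Lib.Helper36.AutO.FieldPart2
import Cfsg.Agent.Lib.Helper45.PSLField.Norm
import Cfsg.Agent.Lib.Helper43.PSpH90

set_option autoImplicit false
set_option linter.unusedSectionVars false

/-!
helper13: powers of automorphisms of `PΩ(Q)` induced by semisimilarity pairs, scalar multiples of
pairs, and Hilbert 90 for a pair inducing an automorphism of order `r = orderOf σ`.
-/

namespace Cfsg.Agent.Lib.Helper13

open Matrix Cfsg.Agent.Lib.Helper36 Cfsg.Agent.Lib.Helper36.AutO Cfsg.Agent.Lib.Helper45.PSLField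

variable {ι : Type} [Fintype ι] [DecidableEq ι] {F : Type*} [Field F]

theorem glMap_refl (g : GL ι F) : glMap (RingEquiv.refl F) g = g := by
  apply Units.ext
  rw [glMap_coe]
  ext i j
  rfl

theorem trans_refl_eq (σ : F ≃+* F) : σ.trans (RingEquiv.refl F) = σ := RingEquiv.ext fun _ => rfl

theorem refl_trans_eq (σ : F ≃+* F) : (RingEquiv.refl F).trans σ = σ := RingEquiv.ext fun _ => rfl

/-- the matrix of a scalar multiple -/
theorem scalar_mul_val (u : Fˣ) (g : GL ι F) :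
    ((Matrix.GeneralLinearGroup.scalar ι u * g : GL ι F) : Matrix ι ι F) =
      (u : F) • (g : Matrix ι ι F) := by
  rw [Units.val_mul, Matrix.GeneralLinearGroup.coe_scalar, Matrix.scalar_apply,
    ← Matrix.smul_eq_diagonal_mul]

theorem scalar_mul_inv_val (u : Fˣ) (g : GL ι F) :
    (((Matrix.GeneralLinearGroup.scalar ι u * g)⁻¹ : GL ι F) : Matrix ι ι F) =
      ((u⁻¹ : Fˣ) : F) • ((g⁻¹ : GL ι F) : Matrix ι ι F) := by
  rw [_root_.mul_inv_rev, ← map_inv, ← Matrix.GeneralLinearGroup.scalar_commute, scalar_mul_val]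

/-- conjugation by a scalar multiple -/
theorem scalar_mul_conj (u : Fˣ) (g : GL ι F) (X : Matrix ι ι F) :
    ((Matrix.GeneralLinearGroup.scalar ι u * g : GL ι F) : Matrix ι ι F) * X *
        (((Matrix.GeneralLinearGroup.scalar ι u * g)⁻¹ : GL ι F) : Matrix ι ι F) =
      (g : Matrix ι ι F) * X * ((g⁻¹ : GL ι F) : Matrix ι ι F) := by
  rw [scalar_mul_val, scalar_mul_inv_val, Matrix.smul_mul, Matrix.smul_mul, Matrix.mul_smul,
    smul_smul, ← Units.val_mul, mul_inv_cancel, Units.val_one, one_smul]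

/-- a scalar multiple of a pair induces the same automorphism -/
theorem isInduced_scalar_mul (Q : (ι → F) → F) (u : Fˣ) (g : GL ι F) (σ : F ≃+* F)
    (β : MulAut (Cfsg.POmega F Q)) (hi : Cfsg.IsInducedBySemilinearPOmega Q g σ β) :
    Cfsg.IsInducedBySemilinearPOmega Q (Matrix.GeneralLinearGroup.scalar ι u * g) σ β := by
  intro s s' h
  apply hi s s'
  rw [h, scalar_mul_conj]

/-- a scalar multiple of a semisimilarity pair is a semisimilarity pair -/
theorem isSemisimilarityPair_scalar_mul (Q : QuadraticForm F (ι → F)) (u : Fˣ) (g : GL ι F)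
    (σ : F ≃+* F) (hp : Cfsg.IsSemisimilarityPair (⇑Q) g σ) :
    Cfsg.IsSemisimilarityPair (⇑Q) (Matrix.GeneralLinearGroup.scalar ι u * g) σ := by
  obtain ⟨c, hc⟩ := hp
  refine ⟨u * u * c, fun v => ?_⟩
  rw [scalar_mul_val, Matrix.smul_mulVec, QuadraticMap.map_smul, hc, Units.val_mul, Units.val_mul,
    smul_eq_mul]
  ring

/-- powers of a pair -/
theorem pair_pow (Q : (ι → F) → F) (g : GL ι F) (σ : RingAut F) (β : MulAut (Cfsg.POmega F Q))
    (hp : Cfsg.IsSemisimilarityPair Q g σ) (hi : Cfsg.IsInducedBySemilinearPOmega Q g σ β)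
    (i : ℕ) :
    ∃ gi : GL ι F, (gi : Matrix ι ι F) = cocyc σ (g : Matrix ι ι F) i ∧
      Cfsg.IsSemisimilarityPair Q gi (σ ^ i : RingAut F) ∧
      Cfsg.IsInducedBySemilinearPOmega Q gi (σ ^ i : RingAut F) (β ^ i) := by
  induction i with
  | zero =>
    refine ⟨1, rfl, ?_, ?_⟩
    · rw [pow_zero]
      exact isSemisimilarityPair_one Q
    · rw [pow_zero, pow_zero]
      exact isInduced_one Q
  | succ i ih =>
    obtain ⟨gi, hgi, hpi, hii⟩ := ih
    have e : ((σ ^ i : RingAut F) : F ≃+* F).trans σ = (σ ^ (i + 1) : RingAut F) := by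
      rw [pow_succ']
      rfl
    refine ⟨g * glMap σ gi, ?_, ?_, ?_⟩
    · rw [Units.val_mul, glMap_coe, hgi, cocyc_succ]
    · rw [← e]
      exact isSemisimilarityPair_mul Q g gi σ _ hp hpi
    · rw [← e, pow_succ']
      exact isInduced_mul Q g gi σ _ β (β ^ i) hpi hi hii

omit [DecidableEq ι] in
theorem matrix_eq_smul_one_of_mulVec' [DecidableEq ι] (G : Matrix ι ι F) (c : F)
    (h : ∀ v : ι → F, G *ᵥ v = c • v) : G = c • (1 : Matrix ι ι F) := by
  ext i j
  have := congrFun (h (Pi.single j 1)) i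
  rw [Matrix.mulVec_single_one] at this
  rw [Matrix.smul_apply, Matrix.one_apply, smul_eq_mul]
  rw [Pi.smul_apply, Pi.single_apply, smul_eq_mul] at this
  exact this

/-- **Hilbert 90 for pairs**: a pair `(g, σ)` inducing an automorphism `β` with `β ^ r = 1`,
`r = orderOf σ`, can be rescaled to `(u g, σ)` with `u g σ(A) = A` for an invertible `A`. -/
theorem pair_hilbert90 [Fintype F] (Q : QuadraticForm F (ι → F))
    (hQ : (QuadraticMap.polarBilin Q).Nondegenerate) (h7 : 7 ≤ Fintype.card ι)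
    (g : GL ι F) (σ : RingAut F) {r : ℕ} (hr : 0 < r) (hσ : orderOf σ = r)
    (β : MulAut (Cfsg.POmega F (⇑Q)))
    (hp : Cfsg.IsSemisimilarityPair (⇑Q) g σ)
    (hi : Cfsg.IsInducedBySemilinearPOmega (⇑Q) g σ β) (hβ : β ^ r = 1) :
    ∃ (u : Fˣ) (A : GL ι F),
      ((Matrix.GeneralLinearGroup.scalar ι u * g : GL ι F) : Matrix ι ι F) *
        (A : Matrix ι ι F).map σ = (A : Matrix ι ι F) := by
  have hσr : σ ^ r = 1 := by rw [← hσ]; exact pow_orderOf_eq_one σ
  obtain ⟨gr, hgr, hpr, hir⟩ := pair_pow (⇑Q) g σ β hp hi r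
  rw [hβ] at hir
  obtain ⟨-, l, hl0, hl⟩ := pair_faithful Q hQ h7 gr _ hpr hir
  have hcoc : cocyc σ (g : Matrix ι ι F) r = l • (1 : Matrix ι ι F) := by
    rw [← hgr]
    exact matrix_eq_smul_one_of_mulVec' _ l hl
  have hg0 : (g : Matrix ι ι F) ≠ 0 := by
    intro h0
    have h1 : (g : Matrix ι ι F) * ((g⁻¹ : GL ι F) : Matrix ι ι F) = 1 := by
      rw [← Units.val_mul, mul_inv_cancel, Units.val_one]
    rw [h0, Matrix.zero_mul] at h1
    have : Nonempty ι := by
      rw [← Fintype.card_pos_iff]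
      omega
    obtain ⟨i⟩ := this
    have := congrFun (congrFun h1 i) i
    rw [Matrix.zero_apply, Matrix.one_apply_eq] at this
    exact zero_ne_one this
  have hlfix := Cfsg.Agent.Lib.Helper43.cocyc_scalar_fixed σ hσr (g : Matrix ι ι F) hg0 l hcoc
  obtain ⟨a, ha0, ha⟩ := exists_nrm_eq σ hr hσ l⁻¹ (inv_ne_zero hl0)
    (by rw [map_inv₀, hlfix])
  have hcoc' : cocyc σ (a • (g : Matrix ι ι F)) r = 1 := by
    rw [cocyc_smul, ha, hcoc, smul_smul, inv_mul_cancel₀ hl0, one_smul]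
  obtain ⟨A, hA, hgA⟩ := hilbert90_matrix σ hr hσ _ hcoc'
  obtain ⟨A', hA'⟩ := hA
  refine ⟨Units.mk0 a ha0, A', ?_⟩
  rw [scalar_mul_val, Units.val_mk0, hA']
  exact hgA

end Cfsg.Agent.Lib.Helper13
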