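import Mathlib
import Cfsg.Agent.Lib.Helper13.QuadExt
import Cfsg.Agent.Lib.Helper45.PSLField.Norm
import Cfsg.Agent.Lib.Helper45.PSLField.Fixed
import Cfsg.Agent.Lib.Helper36.SemiPair
import Cfsg.Agent.Lib.Helper44.MinusQF

set_option autoImplicit false
set_option linter.unusedSectionVars false

/-!
helper13: descent of a quadratic form on `ι → F` commuting with a field automorphism `σ` to a
quadratic form over the fixed field of `σ` (all characteristics).
-/

namespace Cfsg.Agent.Lib.Helper13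

open Matrix Cfsg.Agent.Lib.Helper45.PSLField Cfsg.Agent.Lib.Helper36 Cfsg.Agent.Lib.Helper44

variable {ι : Type} [Fintype ι] [DecidableEq ι] {F : Type*} [Field F]

/-- inclusion of the fixed field -/
noncomputable abbrev finc (σ : RingAut F) : ↥(fixF σ) →+* F := (fixF σ).subtype

omit [Fintype ι] [DecidableEq ι] in
theorem vmap_rvec_finc (σ : RingAut F) (w : ι → ↥(fixF σ)) :
    vmap σ (rvec (finc σ) w) = rvec (finc σ) w := by
  funext i
  exact (mem_fixF σ _).mp (w i).2

omit [Fintype ι] [DecidableEq ι] in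
theorem descend_mem (σ : RingAut F) (Q₁ : (ι → F) → F)
    (hinv : ∀ w, Q₁ (vmap σ w) = σ (Q₁ w)) (w : ι → ↥(fixF σ)) :
    Q₁ (rvec (finc σ) w) ∈ fixF σ := by
  rw [mem_fixF, ← hinv, vmap_rvec_finc]

/-- the descended function -/
noncomputable def descendFun (σ : RingAut F) (Q₁ : (ι → F) → F)
    (hinv : ∀ w, Q₁ (vmap σ w) = σ (Q₁ w)) (w : ι → ↥(fixF σ)) : ↥(fixF σ) :=
  ⟨Q₁ (rvec (finc σ) w), descend_mem σ Q₁ hinv w⟩

omit [Fintype ι] [DecidableEq ι] in
theorem descendFun_polar (σ : RingAut F) (Q₁ : (ι → F) → F)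
    (hinv : ∀ w, Q₁ (vmap σ w) = σ (Q₁ w)) (x y : ι → ↥(fixF σ)) :
    ((QuadraticMap.polar (descendFun σ Q₁ hinv) x y : ↥(fixF σ)) : F) =
      QuadraticMap.polar Q₁ (rvec (finc σ) x) (rvec (finc σ) y) := by
  unfold QuadraticMap.polar
  rw [← rvec_add]
  rfl

/-- the descended quadratic form -/
noncomputable def descend (σ : RingAut F) (Q₁ : QuadraticForm F (ι → F))
    (hinv : ∀ w, Q₁ (vmap σ w) = σ (Q₁ w)) : QuadraticForm ↥(fixF σ) (ι → ↥(fixF σ)) :=
  QuadraticMap.ofPolar (descendFun σ (⇑Q₁) hinv)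
    (by
      intro a x
      apply Subtype.ext
      show Q₁ (rvec (finc σ) (a • x)) = _
      rw [rvec_smul, QuadraticMap.map_smul]
      rfl)
    (by
      intro x x' y
      apply Subtype.ext
      rw [descendFun_polar, rvec_add, QuadraticMap.polar_add_left]
      show _ = ((QuadraticMap.polar (descendFun σ (⇑Q₁) hinv) x y : ↥(fixF σ)) : F) +
        ((QuadraticMap.polar (descendFun σ (⇑Q₁) hinv) x' y : ↥(fixF σ)) : F)
      rw [descendFun_polar, descendFun_polar])
    (by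
      intro a x y
      apply Subtype.ext
      rw [descendFun_polar, rvec_smul, QuadraticMap.polar_smul_left]
      show _ = (a : F) * ((QuadraticMap.polar (descendFun σ (⇑Q₁) hinv) x y : ↥(fixF σ)) : F)
      rw [descendFun_polar]
      rfl)

theorem descend_coe (σ : RingAut F) (Q₁ : QuadraticForm F (ι → F))
    (hinv : ∀ w, Q₁ (vmap σ w) = σ (Q₁ w)) (w : ι → ↥(fixF σ)) :
    ((descend σ Q₁ hinv w : ↥(fixF σ)) : F) = Q₁ (rvec (finc σ) w) := rfl

theorem descend_polar (σ : RingAut F) (Q₁ : QuadraticForm F (ι → F))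
    (hinv : ∀ w, Q₁ (vmap σ w) = σ (Q₁ w)) (x y : ι → ↥(fixF σ)) :
    ((QuadraticMap.polar (⇑(descend σ Q₁ hinv)) x y : ↥(fixF σ)) : F) =
      QuadraticMap.polar (⇑Q₁) (rvec (finc σ) x) (rvec (finc σ) y) :=
  descendFun_polar σ (⇑Q₁) hinv x y

theorem gramStd_descend (σ : RingAut F) (Q₁ : QuadraticForm F (ι → F))
    (hinv : ∀ w, Q₁ (vmap σ w) = σ (Q₁ w)) :
    (gramStd (⇑(descend σ Q₁ hinv))).map (finc σ) = gramStd (⇑Q₁) := by
  ext i k
  rw [Matrix.map_apply, gramStd_apply, gramStd_apply]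
  show ((QuadraticMap.polar (⇑(descend σ Q₁ hinv)) _ _ : ↥(fixF σ)) : F) = _
  rw [descend_polar, rvec_single, rvec_single]

/-- the descended form is non-degenerate -/
theorem descend_nondeg (σ : RingAut F) (Q₁ : QuadraticForm F (ι → F))
    (hinv : ∀ w, Q₁ (vmap σ w) = σ (Q₁ w))
    (hQ₁ : (QuadraticMap.polarBilin Q₁).Nondegenerate) :
    (QuadraticMap.polarBilin (descend σ Q₁ hinv)).Nondegenerate := by
  rw [nondeg_iff_gramStd_det_ne_zero] at hQ₁ ⊢
  intro h0
  apply hQ₁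
  rw [← gramStd_descend σ Q₁ hinv, ← RingHom.mapMatrix_apply, ← RingHom.map_det, h0, map_zero]

/-- a relation between the descended form and a quadratic form with coefficients in the fixed
field, transferred to `F` -/
theorem descend_transfer (σ : RingAut F) (Q₁ : QuadraticForm F (ι → F))
    (hinv : ∀ w, Q₁ (vmap σ w) = σ (Q₁ w))
    (T₀ : Matrix ι ι ↥(fixF σ)) (P₀ : (ι → ↥(fixF σ)) → ↥(fixF σ)) (P : QuadraticForm F (ι → F))
    (hP : ∀ w : ι → ↥(fixF σ), P (rvec (finc σ) w) = ((P₀ w : ↥(fixF σ)) : F))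
    (h : ∀ w : ι → ↥(fixF σ), descend σ Q₁ hinv (T₀ *ᵥ w) = P₀ w) (w : ι → F) :
    Q₁ ((T₀.map (finc σ)) *ᵥ w) = P w := by
  have key : Q₁.comp (Matrix.toLin' (T₀.map (finc σ))) = P := by
    apply quadraticForm_ext_of_rational (finc σ)
    intro v
    rw [QuadraticMap.comp_apply, Matrix.toLin'_apply, rvec_mulVec, hP, ← h, descend_coe]
  have := congrArg (fun Q : QuadraticForm F (ι → F) => Q w) key
  simpa [QuadraticMap.comp_apply, Matrix.toLin'_apply] using this

end Cfsg.Agent.Lib.Helper13
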