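import Mathlib
import Cfsg.Agent.Lib.Helper13.QuadDescent
import Cfsg.Agent.Lib.Helper13.BinaryAniso
import Cfsg.Agent.Lib.Helper13.EvenFormClass
import Cfsg.Agent.Lib.Helper13.MinusNoTS
import Cfsg.Agent.Lib.Helper13.PairH90

set_option autoImplicit false
set_option linter.unusedSectionVars false

/-!
helper13: the normal form of a semisimilarity `(g, σ)` of the minus-type form with `g σ(A) = A`:
a frame `M` with `g σ(M) = M` in which the form is a multiple of a minus-type form with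
coefficients in the fixed field of `σ`.  Two such semisimilarities with the same `σ` are conjugate
under a similarity.
-/

namespace Cfsg.Agent.Lib.Helper13

open Matrix Module Cfsg.Agent.S0791 Cfsg.Agent.Lib.Helper36 Cfsg.Agent.Lib.Helper44
  Cfsg.Agent.Lib.Helper45.PSLField

section general

variable {F V : Type*} [Field F] [AddCommGroup V] [Module F V]

/-- composing with a linear equivalence and rescaling preserves non-degeneracy -/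
theorem nondeg_smul_comp (Q : QuadraticForm F V)
    (hQ : (QuadraticMap.polarBilin Q).Nondegenerate) (e : V ≃ₗ[F] V) (k : F) (hk : k ≠ 0) :
    (QuadraticMap.polarBilin (k • Q.comp (e : V →ₗ[F] V))).Nondegenerate := by
  have hpol : ∀ x y, QuadraticMap.polarBilin (k • Q.comp (e : V →ₗ[F] V)) x y =
      k * QuadraticMap.polarBilin Q (e x) (e y) := by
    intro x y
    simp only [QuadraticMap.polarBilin_apply_apply, QuadraticMap.polar, _root_.smul_apply,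
      QuadraticMap.comp_apply, LinearEquiv.coe_coe, map_add, smul_eq_mul]
    ring
  constructor
  · intro x hx
    have h1 : e x = 0 := by
      apply hQ.1 (e x)
      intro y
      have := hx (e.symm y)
      rw [hpol, e.apply_symm_apply] at this
      exact (mul_eq_zero.mp this).resolve_left hk
    exact (LinearEquiv.map_eq_zero_iff e).mp h1
  · intro y hy
    have h1 : e y = 0 := by
      apply hQ.2 (e y)
      intro x
      have := hy (e.symm x)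
      rw [hpol, e.apply_symm_apply] at this
      exact (mul_eq_zero.mp this).resolve_left hk
    exact (LinearEquiv.map_eq_zero_iff e).mp h1

end general

section ringhom

variable {R K : Type*} [Field R] [Field K]

theorem quadFormMinus_rvec (j : R →+* K) (m : ℕ) (a b : R)
    (v : (Fin m ⊕ Fin m) ⊕ Fin 2 → R) :
    Cfsg.quadFormMinus m K (j a) (j b) (rvec j v) = j (Cfsg.quadFormMinus m R a b v) := by
  unfold Cfsg.quadFormMinus rvec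
  simp only [map_add, map_sum, map_mul, map_pow]

end ringhom

section core

variable {F : Type*} [Field F] [Fintype F] {m : ℕ}

theorem quadFormMinus_single_z (a b : F) :
    Cfsg.quadFormMinus m F a b (Pi.single (Sum.inr 0) 1) = 1 := by
  unfold Cfsg.quadFormMinus
  have h1 : ∑ i : Fin m, (Pi.single (Sum.inr 0) 1 : (Fin m ⊕ Fin m) ⊕ Fin 2 → F)
      (Sum.inl (Sum.inl i)) * (Pi.single (Sum.inr 0) 1 : (Fin m ⊕ Fin m) ⊕ Fin 2 → F)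
      (Sum.inl (Sum.inr i)) = 0 := by
    apply Finset.sum_eq_zero
    intro i _
    rw [Pi.single_eq_of_ne (by simp), zero_mul]
  rw [h1, Pi.single_eq_same, Pi.single_eq_of_ne (by simp)]
  ring

/-- **normal form** of a semisimilarity `(g, σ)` with `g σ(A) = A` -/
theorem minus_normal_form (a b : F)
    (hab : ∀ z₁ z₂ : F, z₁ ^ 2 + a * z₁ * z₂ + b * z₂ ^ 2 = 0 → z₁ = 0 ∧ z₂ = 0)
    (g : GL ((Fin m ⊕ Fin m) ⊕ Fin 2) F) (σ : RingAut F) {r : ℕ} (hr : 0 < r)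
    (hσ : orderOf σ = r)
    (hp : Cfsg.IsSemisimilarityPair (Cfsg.quadFormMinus m F a b) g σ)
    (A : GL ((Fin m ⊕ Fin m) ⊕ Fin 2) F)
    (hgA : (g : Matrix ((Fin m ⊕ Fin m) ⊕ Fin 2) ((Fin m ⊕ Fin m) ⊕ Fin 2) F) * (A : Matrix ((Fin m ⊕ Fin m) ⊕ Fin 2) ((Fin m ⊕ Fin m) ⊕ Fin 2) F).map σ = (A : Matrix ((Fin m ⊕ Fin m) ⊕ Fin 2) ((Fin m ⊕ Fin m) ⊕ Fin 2) F)) :
    ∃ (M : GL ((Fin m ⊕ Fin m) ⊕ Fin 2) F) (κ : F) (α β : ↥(fixF σ)), κ ≠ 0 ∧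
      (g : Matrix ((Fin m ⊕ Fin m) ⊕ Fin 2) ((Fin m ⊕ Fin m) ⊕ Fin 2) F) * (M : Matrix ((Fin m ⊕ Fin m) ⊕ Fin 2) ((Fin m ⊕ Fin m) ⊕ Fin 2) F).map σ = (M : Matrix ((Fin m ⊕ Fin m) ⊕ Fin 2) ((Fin m ⊕ Fin m) ⊕ Fin 2) F) ∧
      (∀ w, Cfsg.quadFormMinus m F a b ((M : Matrix ((Fin m ⊕ Fin m) ⊕ Fin 2) ((Fin m ⊕ Fin m) ⊕ Fin 2) F) *ᵥ w) =
        κ * Cfsg.quadFormMinus m F (α : F) (β : F) w) ∧
      (∀ z₁ z₂ : F, z₁ ^ 2 + (α : F) * z₁ * z₂ + (β : F) * z₂ ^ 2 = 0 → z₁ = 0 ∧ z₂ = 0) := by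
  classical
  have : Fintype ↥(fixF σ) := Fintype.ofFinite _
  obtain ⟨c, hc⟩ := hp
  have hσr : σ ^ r = 1 := by rw [← hσ]; exact pow_orderOf_eq_one σ
  set Q := minusForm m F a b with hQdef
  have hQcoe : ∀ v, Q v = Cfsg.quadFormMinus m F a b v := fun v => by
    rw [hQdef, minusForm_coe]
  have hQnd : (QuadraticMap.polarBilin Q).Nondegenerate := minusForm_nondeg_of_aniso m a b hab
  have hcQ : ∀ v, Q ((g : Matrix ((Fin m ⊕ Fin m) ⊕ Fin 2) ((Fin m ⊕ Fin m) ⊕ Fin 2) F) *ᵥ vmap σ v) = (c : F) * σ (Q v) := by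
    intro v
    rw [hQcoe, hQcoe]
    exact hc v
  set eA : ((Fin m ⊕ Fin m) ⊕ Fin 2 → F) ≃ₗ[F] ((Fin m ⊕ Fin m) ⊕ Fin 2 → F) :=
    glLinEquiv ((Fin m ⊕ Fin m) ⊕ Fin 2) F A with heA
  set QA : QuadraticForm F ((Fin m ⊕ Fin m) ⊕ Fin 2 → F) :=
    Q.comp (eA : ((Fin m ⊕ Fin m) ⊕ Fin 2 → F) →ₗ[F] ((Fin m ⊕ Fin m) ⊕ Fin 2 → F)) with hQA
  have hQAapp : ∀ w, QA w = Q ((A : Matrix ((Fin m ⊕ Fin m) ⊕ Fin 2) ((Fin m ⊕ Fin m) ⊕ Fin 2) F) *ᵥ w) := fun w => rfl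
  have hQAσ : ∀ w, QA (vmap σ w) = (c : F) * σ (QA w) := by
    intro w
    rw [hQAapp, hQAapp]
    have h1 : (A : Matrix ((Fin m ⊕ Fin m) ⊕ Fin 2) ((Fin m ⊕ Fin m) ⊕ Fin 2) F) *ᵥ vmap σ w =
        (g : Matrix ((Fin m ⊕ Fin m) ⊕ Fin 2) ((Fin m ⊕ Fin m) ⊕ Fin 2) F) *ᵥ vmap σ ((A : Matrix ((Fin m ⊕ Fin m) ⊕ Fin 2) ((Fin m ⊕ Fin m) ⊕ Fin 2) F) *ᵥ w) := by
      rw [← map_mulVec_vmap, Matrix.mulVec_mulVec, hgA]
    rw [h1, hcQ]
  have hpow : ∀ (i : ℕ) (w : (Fin m ⊕ Fin m) ⊕ Fin 2 → F),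
      QA (vmap (σ ^ i : RingAut F) w) = nrm σ (c : F) i * (σ ^ i : RingAut F) (QA w) := by
    intro i
    induction i with
    | zero =>
      intro w
      rw [pow_zero, nrm_zero, one_mul]
      rfl
    | succ i ih =>
      intro w
      have e : vmap (σ ^ (i + 1) : RingAut F) w = vmap σ (vmap (σ ^ i : RingAut F) w) := by
        funext k
        rw [pow_succ']
        rfl
      rw [e, hQAσ, ih, map_mul, nrm_succ, pow_succ', RingAut.mul_apply]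
      ring
  -- the multiplier has norm one
  have hnrm : nrm σ (c : F) r = 1 := by
    set w₀ : (Fin m ⊕ Fin m) ⊕ Fin 2 → F :=
      ((A⁻¹ : GL ((Fin m ⊕ Fin m) ⊕ Fin 2) F) : Matrix ((Fin m ⊕ Fin m) ⊕ Fin 2) ((Fin m ⊕ Fin m) ⊕ Fin 2) F) *ᵥ (Pi.single (Sum.inr 0) 1) with hw₀
    have h1 : QA w₀ = 1 := by
      rw [hQAapp, hw₀, gl_inv_mulVec_mulVec, hQcoe, quadFormMinus_single_z]
    have h2 := hpow r w₀
    rw [hσr, h1] at h2
    have h3 : vmap (1 : RingAut F) w₀ = w₀ := rfl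
    rw [h3, h1, RingAut.one_apply, mul_one] at h2
    exact h2.symm
  obtain ⟨b₀, hb₀, hcb⟩ := hilbert90_scalar σ hr hσ (c : F) hnrm
  have hσb : σ b₀ ≠ 0 := by
    intro h0
    apply hb₀
    exact (map_eq_zero σ).mp h0
  set Q₁ : QuadraticForm F ((Fin m ⊕ Fin m) ⊕ Fin 2 → F) := b₀⁻¹ • QA with hQ₁
  have hQ₁app : ∀ w, Q₁ w = b₀⁻¹ * QA w := fun w => rfl
  have hinv : ∀ w, Q₁ (vmap σ w) = σ (Q₁ w) := by
    intro w
    rw [hQ₁app, hQ₁app, hQAσ, map_mul, map_inv₀]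
    field_simp
    linear_combination (σ (QA w)) * hcb
  have hQ₁nd : (QuadraticMap.polarBilin Q₁).Nondegenerate :=
    nondeg_smul_comp Q hQnd eA b₀⁻¹ (inv_ne_zero hb₀)
  have hdnd := descend_nondeg σ Q₁ hinv hQ₁nd
  obtain ⟨T₀, e₀, α, β, hT₀, he₀, hshape⟩ := exists_minus_shape (descend σ Q₁ hinv) hdnd
  have htr := descend_transfer σ Q₁ hinv T₀
    (fun w => e₀ * Cfsg.quadFormMinus m ↥(fixF σ) α β w)
    ((e₀ : F) • minusForm m F (α : F) (β : F))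
    (by
      intro w
      rw [_root_.smul_apply, minusForm_coe, smul_eq_mul]
      have := quadFormMinus_rvec (finc σ) m α β w
      rw [show (finc σ) α = (α : F) from rfl, show (finc σ) β = (β : F) from rfl] at this
      rw [this]
      rfl)
    hshape
  -- the frame
  have hTunit : IsUnit (T₀.map (finc σ)) := by
    have := hT₀.map (RingHom.mapMatrix (finc σ))
    exact this
  obtain ⟨T, hT⟩ := hTunit
  have hTσ : (T : Matrix ((Fin m ⊕ Fin m) ⊕ Fin 2) ((Fin m ⊕ Fin m) ⊕ Fin 2) F).map σ = (T : Matrix ((Fin m ⊕ Fin m) ⊕ Fin 2) ((Fin m ⊕ Fin m) ⊕ Fin 2) F) := by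
    rw [hT]
    ext i j
    exact (mem_fixF σ _).mp (T₀ i j).2
  have he₀F : (e₀ : F) ≠ 0 := by
    intro h0
    apply he₀
    exact Subtype.ext h0
  have hM : ∀ w, Cfsg.quadFormMinus m F a b (((A * T : GL ((Fin m ⊕ Fin m) ⊕ Fin 2) F) : Matrix ((Fin m ⊕ Fin m) ⊕ Fin 2) ((Fin m ⊕ Fin m) ⊕ Fin 2) F) *ᵥ w) =
      (b₀ * (e₀ : F)) * Cfsg.quadFormMinus m F (α : F) (β : F) w := by
    intro w
    have h1 := htr w
    rw [← hT, hQ₁app, hQAapp, hQcoe, _root_.smul_apply, smul_eq_mul, minusForm_coe,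
      Matrix.mulVec_mulVec, ← Units.val_mul] at h1
    field_simp at h1
    linear_combination h1
  refine ⟨A * T, b₀ * (e₀ : F), α, β, mul_ne_zero hb₀ he₀F, ?_, hM, ?_⟩
  · rw [Units.val_mul, Matrix.map_mul, hTσ, ← Matrix.mul_assoc, hgA]
  · exact aniso_of_similar m a b (α : F) (β : F) hab (A * T) _ hM

theorem twistMat_map (σ : F ≃+* F) (r s : F) :
    (twistMat m r s).map σ = twistMat m (σ r) (σ s) := by
  unfold twistMat
  rw [Matrix.fromBlocks_map]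
  congr 1
  · ext i j
    by_cases h : i = j
    · rw [h, Matrix.map_apply, Matrix.one_apply_eq, map_one]
    · rw [Matrix.map_apply, Matrix.one_apply_ne h, map_zero]
  · ext i j
    simp
  · ext i j
    simp
  · ext i j
    fin_cases i <;> fin_cases j <;> simp

theorem vmap_single_one (σ : F ≃+* F) (j : (Fin m ⊕ Fin m) ⊕ Fin 2) :
    vmap σ (Pi.single j (1 : F)) = Pi.single j (1 : F) := by
  funext k
  unfold vmap
  by_cases h : k = j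
  · rw [h, Pi.single_eq_same, map_one]
  · rw [Pi.single_eq_of_ne h, map_zero]

/-- two semisimilarities in normal form with the same field automorphism are conjugate under a
similarity; moreover the first one fixes a non-singular vector -/
theorem exists_conj_similarity (a b : F) (σ : RingAut F)
    (g₁ g₂ M₁ M₂ : GL ((Fin m ⊕ Fin m) ⊕ Fin 2) F) (κ₁ κ₂ : F) (α₁ β₁ α₂ β₂ : ↥(fixF σ))
    (hκ₁ : κ₁ ≠ 0)
    (h₁ : (g₁ : Matrix ((Fin m ⊕ Fin m) ⊕ Fin 2) ((Fin m ⊕ Fin m) ⊕ Fin 2) F) *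
      (M₁ : Matrix ((Fin m ⊕ Fin m) ⊕ Fin 2) ((Fin m ⊕ Fin m) ⊕ Fin 2) F).map σ =
      (M₁ : Matrix ((Fin m ⊕ Fin m) ⊕ Fin 2) ((Fin m ⊕ Fin m) ⊕ Fin 2) F))
    (h₂ : (g₂ : Matrix ((Fin m ⊕ Fin m) ⊕ Fin 2) ((Fin m ⊕ Fin m) ⊕ Fin 2) F) *
      (M₂ : Matrix ((Fin m ⊕ Fin m) ⊕ Fin 2) ((Fin m ⊕ Fin m) ⊕ Fin 2) F).map σ =
      (M₂ : Matrix ((Fin m ⊕ Fin m) ⊕ Fin 2) ((Fin m ⊕ Fin m) ⊕ Fin 2) F))
    (hf₁ : ∀ w, Cfsg.quadFormMinus m F a b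
      ((M₁ : Matrix ((Fin m ⊕ Fin m) ⊕ Fin 2) ((Fin m ⊕ Fin m) ⊕ Fin 2) F) *ᵥ w) =
        κ₁ * Cfsg.quadFormMinus m F (α₁ : F) (β₁ : F) w)
    (hf₂ : ∀ w, Cfsg.quadFormMinus m F a b
      ((M₂ : Matrix ((Fin m ⊕ Fin m) ⊕ Fin 2) ((Fin m ⊕ Fin m) ⊕ Fin 2) F) *ᵥ w) =
        κ₂ * Cfsg.quadFormMinus m F (α₂ : F) (β₂ : F) w)
    (han₁ : ∀ z₁ z₂ : F, z₁ ^ 2 + (α₁ : F) * z₁ * z₂ + (β₁ : F) * z₂ ^ 2 = 0 → z₁ = 0 ∧ z₂ = 0)
    (han₂ : ∀ z₁ z₂ : F, z₁ ^ 2 + (α₂ : F) * z₁ * z₂ + (β₂ : F) * z₂ ^ 2 = 0 → z₁ = 0 ∧ z₂ = 0) :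
    ∃ (B : GL ((Fin m ⊕ Fin m) ⊕ Fin 2) F) (v : (Fin m ⊕ Fin m) ⊕ Fin 2 → F),
      (∀ w, Cfsg.quadFormMinus m F a b
        ((B : Matrix ((Fin m ⊕ Fin m) ⊕ Fin 2) ((Fin m ⊕ Fin m) ⊕ Fin 2) F) *ᵥ w) =
          (κ₂ * κ₁⁻¹) * Cfsg.quadFormMinus m F a b w) ∧
      B * g₁ = g₂ * glMap σ B ∧ Cfsg.quadFormMinus m F a b v ≠ 0 ∧
      (g₁ : Matrix ((Fin m ⊕ Fin m) ⊕ Fin 2) ((Fin m ⊕ Fin m) ⊕ Fin 2) F) *ᵥ vmap σ v = v := by
  classical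
  have : Fintype ↥(fixF σ) := Fintype.ofFinite _
  have han₁' : ∀ z₁ z₂ : ↥(fixF σ), z₁ ^ 2 + α₁ * z₁ * z₂ + β₁ * z₂ ^ 2 = 0 →
      z₁ = 0 ∧ z₂ = 0 := by
    intro z₁ z₂ h
    have h' := congrArg (Subtype.val : ↥(fixF σ) → F) h
    obtain ⟨e1, e2⟩ := han₁ (z₁ : F) (z₂ : F) (by exact_mod_cast h')
    exact ⟨Subtype.ext e1, Subtype.ext e2⟩
  have han₂' : ∀ z₁ z₂ : ↥(fixF σ), z₁ ^ 2 + α₂ * z₁ * z₂ + β₂ * z₂ ^ 2 = 0 →
      z₁ = 0 ∧ z₂ = 0 := by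
    intro z₁ z₂ h
    have h' := congrArg (Subtype.val : ↥(fixF σ) → F) h
    obtain ⟨e1, e2⟩ := han₂ (z₁ : F) (z₂ : F) (by exact_mod_cast h')
    exact ⟨Subtype.ext e1, Subtype.ext e2⟩
  obtain ⟨r, s, hs, e1, e2⟩ := exists_twist_of_aniso α₁ β₁ α₂ β₂ han₁' han₂'
  have e1' : 2 * (r : F) + (α₁ : F) * (s : F) = (α₂ : F) := by
    rw [two_mul] at e1
    have := congrArg (Subtype.val : ↥(fixF σ) → F) e1
    rw [two_mul]
    exact_mod_cast this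
  have e2' : (r : F) ^ 2 + (α₁ : F) * (r : F) * (s : F) + (β₁ : F) * (s : F) ^ 2 = (β₂ : F) := by
    have := congrArg (Subtype.val : ↥(fixF σ) → F) e2
    exact_mod_cast this
  have hsF : (s : F) ≠ 0 := by
    intro h0
    exact hs (Subtype.ext h0)
  have hdet : (twistMat m (r : F) (s : F)).det ≠ 0 := by rw [twistMat_det]; exact hsF
  set Tg : GL ((Fin m ⊕ Fin m) ⊕ Fin 2) F :=
    Matrix.GeneralLinearGroup.mkOfDetNeZero (twistMat m (r : F) (s : F)) hdet with hTg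
  have hTgval : (Tg : Matrix ((Fin m ⊕ Fin m) ⊕ Fin 2) ((Fin m ⊕ Fin m) ⊕ Fin 2) F) =
      twistMat m (r : F) (s : F) := rfl
  have hTσ : glMap σ Tg = Tg := by
    apply Units.ext
    rw [glMap_coe, hTgval, twistMat_map, (mem_fixF σ _).mp r.2, (mem_fixF σ _).mp s.2]
  set M₁' : GL ((Fin m ⊕ Fin m) ⊕ Fin 2) F := M₁ * Tg with hM₁'
  have hf₁' : ∀ w, Cfsg.quadFormMinus m F a b
      ((M₁' : Matrix ((Fin m ⊕ Fin m) ⊕ Fin 2) ((Fin m ⊕ Fin m) ⊕ Fin 2) F) *ᵥ w) =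
        κ₁ * Cfsg.quadFormMinus m F (α₂ : F) (β₂ : F) w := by
    intro w
    rw [hM₁', Units.val_mul, ← Matrix.mulVec_mulVec, hf₁, hTgval, quadFormMinus_twistMat, e1', e2']
  have hG₁ : g₁ * glMap σ M₁ = M₁ := by
    apply Units.ext
    rw [Units.val_mul, glMap_coe]
    exact h₁
  have hG₂ : g₂ * glMap σ M₂ = M₂ := by
    apply Units.ext
    rw [Units.val_mul, glMap_coe]
    exact h₂
  have hG₁' : g₁ * glMap σ M₁' = M₁' := by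
    rw [hM₁', map_mul, hTσ, ← mul_assoc, hG₁]
  refine ⟨M₂ * M₁'⁻¹, (M₁' : Matrix ((Fin m ⊕ Fin m) ⊕ Fin 2) ((Fin m ⊕ Fin m) ⊕ Fin 2) F) *ᵥ
    (Pi.single (Sum.inr 0) 1), ?_, ?_, ?_, ?_⟩
  · intro w
    set u := ((M₁'⁻¹ : GL ((Fin m ⊕ Fin m) ⊕ Fin 2) F) :
      Matrix ((Fin m ⊕ Fin m) ⊕ Fin 2) ((Fin m ⊕ Fin m) ⊕ Fin 2) F) *ᵥ w with hu
    have hw : w = (M₁' : Matrix ((Fin m ⊕ Fin m) ⊕ Fin 2) ((Fin m ⊕ Fin m) ⊕ Fin 2) F) *ᵥ u := by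
      rw [hu, gl_inv_mulVec_mulVec]
    rw [Units.val_mul, ← Matrix.mulVec_mulVec, ← hu, hf₂]
    conv_rhs => rw [hw, hf₁']
    field_simp
  · rw [map_mul, map_inv]
    have hA : M₁'⁻¹ * g₁ = (glMap σ M₁')⁻¹ := by
      have h0 : M₁'⁻¹ = (g₁ * glMap σ M₁')⁻¹ := by rw [hG₁']
      rw [h0]
      group
    calc M₂ * M₁'⁻¹ * g₁ = M₂ * (M₁'⁻¹ * g₁) := mul_assoc _ _ _
      _ = M₂ * (glMap σ M₁')⁻¹ := by rw [hA]
      _ = g₂ * glMap σ M₂ * (glMap σ M₁')⁻¹ := by rw [hG₂]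
      _ = g₂ * (glMap σ M₂ * (glMap σ M₁')⁻¹) := mul_assoc _ _ _
  · rw [hf₁', quadFormMinus_single_z, mul_one]
    exact hκ₁
  · rw [← map_mulVec_vmap, Matrix.mulVec_mulVec, vmap_single_one, ← glMap_coe, ← Units.val_mul,
      hG₁']

end core

end Cfsg.Agent.Lib.Helper13
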