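import Mathlib
import Cfsg.Agent.Lib.Helper13.QuadExt
import Cfsg.Agent.Lib.Helper13.MinusNoTS
import Cfsg.Agent.Lib.Helper13.MinusCosetCore
import Cfsg.Agent.Lib.Helper36.PreserveGen
import Cfsg.Agent.Lib.Helper36.ReflMatrix
import Cfsg.Agent.Lib.Helper44.Refl

set_option autoImplicit false
set_option linter.unusedSectionVars false

/-!
helper13: for a similarity `B` of the minus-type form (anisotropic binary part, all
characteristics) and a non-singular vector `v`, one of `B`, `B ρ_v` preserves the two classes of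
maximal totally singular subspaces over a quadratic extension.
-/

namespace Cfsg.Agent.Lib.Helper13

open Matrix Module Polynomial Cfsg.Agent.S0791 Cfsg.Agent.Lib.Helper36 Cfsg.Agent.Lib.Helper44

section compat

variable {ι : Type} [Fintype ι] [DecidableEq ι] {R K : Type*} [Field R] [Field K]

omit [Fintype ι] [DecidableEq ι] in
theorem rvec_sub (j : R →+* K) (v w : ι → R) : rvec j (v - w) = rvec j v - rvec j w := by
  funext i
  exact map_sub j (v i) (w i)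

omit [Fintype ι] [DecidableEq ι] in
theorem polar_compat (j : R →+* K) (QR : (ι → R) → R) (QK : (ι → K) → K)
    (hcompat : ∀ v : ι → R, QK (rvec j v) = j (QR v)) (x y : ι → R) :
    QuadraticMap.polar QK (rvec j x) (rvec j y) = j (QuadraticMap.polar QR x y) := by
  unfold QuadraticMap.polar
  rw [← rvec_add, hcompat, hcompat, hcompat, map_sub, map_sub]

omit [Fintype ι] in
theorem matrix_eq_of_mulVec_single [Fintype ι] (A B : Matrix ι ι K)
    (h : ∀ k, A *ᵥ Pi.single k 1 = B *ᵥ Pi.single k 1) : A = B := by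
  ext i k
  have := congrFun (h k) i
  rw [Matrix.mulVec_single_one, Matrix.mulVec_single_one] at this
  exact this

/-- base change of a reflection matrix -/
theorem reflectionMatrix_map (j : R →+* K) (QR : QuadraticForm R (ι → R))
    (QK : QuadraticForm K (ι → K)) (hcompat : ∀ v : ι → R, QK (rvec j v) = j (QR v))
    (v : ι → R) :
    (Cfsg.reflectionMatrix (⇑QR) v).map j = Cfsg.reflectionMatrix (⇑QK) (rvec j v) := by
  apply matrix_eq_of_mulVec_single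
  intro k
  rw [← rvec_single j k, rvec_mulVec, reflectionMatrix_mulVec, reflectionMatrix_mulVec, rvec_sub,
    rvec_smul, polar_compat j (⇑QR) (⇑QK) hcompat, hcompat, map_mul, map_inv₀]

end compat

section delta

variable {ι : Type} [Fintype ι] [DecidableEq ι] {K : Type*} [Field K]

omit [Fintype ι] [DecidableEq ι] in
theorem map_mul_linearEquiv {V : Type*} [AddCommGroup V] [Module K V] (U : Submodule K V)
    (e₁ e₂ : V ≃ₗ[K] V) :
    U.map ((e₁ * e₂ : V ≃ₗ[K] V) : V →ₗ[K] V) =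
      (U.map (e₂ : V →ₗ[K] V)).map (e₁ : V →ₗ[K] V) := by
  ext x
  simp only [Submodule.mem_map]
  constructor
  · rintro ⟨u, hu, rfl⟩
    exact ⟨e₂ u, ⟨u, hu, rfl⟩, rfl⟩
  · rintro ⟨_, ⟨u, hu, rfl⟩, rfl⟩
    exact ⟨u, hu, rfl⟩

/-- a similarity with even `δ` on one maximal totally singular subspace preserves the classes -/
theorem preserves_of_even_delta (Q : QuadraticForm K (ι → K))
    (hQ : (QuadraticMap.polarBilin Q).Nondegenerate) (M : ℕ)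
    (hcard : Fintype.card ι = 2 * M) (U₀ : Submodule K (ι → K)) (hU₀ : IsTS Q U₀)
    (hfU₀ : finrank K U₀ = M) (h : GL ι K) (c : K)
    (hh : ∀ z, Q ((h : Matrix ι ι K) *ᵥ z) = c * Q z)
    (he : Even (M - finrank K ↥(U₀ ⊓ U₀.map
      ((glLinEquiv ι K h : (ι → K) ≃ₗ[K] (ι → K)) : (ι → K) →ₗ[K] (ι → K))))) :
    Cfsg.PreservesSingularClasses (⇑Q) (h : Matrix ι ι K) := by
  have hdim : finrank K (ι → K) = 2 * M := by
    rw [Module.finrank_fintype_fun_eq_card, hcard]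
  set H : (ι → K) ≃ₗ[K] (ι → K) := glLinEquiv ι K h with hH
  have hHz : ∀ z, Q (H z) = c * Q z := hh
  have hlin : Matrix.toLin' (h : Matrix ι ι K) = (H : (ι → K) →ₗ[K] (ι → K)) := by
    rw [Matrix.toLin'_apply', hH, glLinEquiv_coe]
  intro U hU
  obtain ⟨hts, hfU⟩ := isTS_finrank_of_isMaxTS_gen Q hQ M hcard U₀ hU₀ hfU₀ hU
  unfold Cfsg.SameParityClass Cfsg.imageSubmodule
  rw [hlin, hfU]
  exact (even_delta_similarity Q hQ hdim hU₀ hfU₀ H c hHz hts hfU).mpr he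

end delta

section ext

universe u

/-- a quadratic extension in which the anisotropic binary form acquires a root -/
theorem exists_quadratic_root_extension (F : Type u) [Field F] (a b : F)
    (hab : ∀ z₁ z₂ : F, z₁ ^ 2 + a * z₁ * z₂ + b * z₂ ^ 2 = 0 → z₁ = 0 ∧ z₂ = 0) :
    ∃ (K : Type u) (_ : Field K) (_ : Algebra F K), Module.finrank F K = 2 ∧
      ∃ r : K, r ^ 2 + algebraMap F K a * r + algebraMap F K b = 0 := by
  classical
  set f : Polynomial F := X ^ 2 + C a * X + C b with hf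
  have hdeg : f.natDegree = 2 := by
    rw [hf]
    compute_degree!
  have hmonic : f.Monic := by
    rw [hf]
    monicity!
  have hirr : Irreducible f := by
    rw [hmonic.irreducible_iff_roots_eq_zero_of_degree_le_three (by rw [hdeg])
      (by rw [hdeg]; norm_num), Multiset.eq_zero_iff_forall_notMem]
    intro z hz
    rw [Polynomial.mem_roots hmonic.ne_zero, Polynomial.IsRoot.def, hf] at hz
    simp only [eval_add, eval_pow, eval_X, eval_mul, eval_C] at hz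
    have := (hab z 1 (by linear_combination hz)).2
    exact one_ne_zero this
  have : Fact (Irreducible f) := ⟨hirr⟩
  refine ⟨AdjoinRoot f, inferInstance, inferInstance, ?_, AdjoinRoot.root f, ?_⟩
  · rw [(AdjoinRoot.powerBasis hmonic.ne_zero).finrank, AdjoinRoot.powerBasis_dim, hdeg]
  · have h1 := AdjoinRoot.eval₂_root f
    rw [hf] at h1
    simp only [eval₂_add, eval₂_pow, eval₂_X, eval₂_mul, eval₂_C] at h1
    rw [AdjoinRoot.algebraMap_eq]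
    exact h1

end ext

section main

universe u

variable {F : Type u} [Field F] [Fintype F] {m : ℕ}

theorem disc_ne_zero_of_aniso' (a b : F)
    (hab : ∀ z₁ z₂ : F, z₁ ^ 2 + a * z₁ * z₂ + b * z₂ ^ 2 = 0 → z₁ = 0 ∧ z₂ = 0) :
    a ^ 2 - 4 * b ≠ 0 := by
  by_cases h2 : (2 : F) = 0
  · have ha := a_ne_zero_of_aniso_char_two h2 a b hab
    have h4 : (4 : F) = 0 := by
      have : (4 : F) = 2 * 2 := by norm_num
      rw [this, h2, mul_zero]
    rw [h4, zero_mul, sub_zero]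
    exact pow_ne_zero 2 ha
  · have hd := disc_ne_zero_of_aniso h2 a b hab
    have h4 : (4 : F) ≠ 0 := by
      have : (4 : F) = 2 * 2 := by norm_num
      rw [this]
      exact mul_ne_zero h2 h2
    intro h0
    apply hd
    field_simp
    linear_combination -h0

/-- **class adjustment**: one of `B`, `B ρ_v` preserves the singular classes -/
theorem exists_preserving (a b : F)
    (hab : ∀ z₁ z₂ : F, z₁ ^ 2 + a * z₁ * z₂ + b * z₂ ^ 2 = 0 → z₁ = 0 ∧ z₂ = 0)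
    (B : GL ((Fin m ⊕ Fin m) ⊕ Fin 2) F) (μ : F)
    (hB : ∀ w, Cfsg.quadFormMinus m F a b
      ((B : Matrix ((Fin m ⊕ Fin m) ⊕ Fin 2) ((Fin m ⊕ Fin m) ⊕ Fin 2) F) *ᵥ w) =
        μ * Cfsg.quadFormMinus m F a b w)
    (v : (Fin m ⊕ Fin m) ⊕ Fin 2 → F) (hv : minusForm m F a b v ≠ 0) :
    Cfsg.PreservesSingularClassesMinus m a b
      (B : Matrix ((Fin m ⊕ Fin m) ⊕ Fin 2) ((Fin m ⊕ Fin m) ⊕ Fin 2) F) ∨
    Cfsg.PreservesSingularClassesMinus m a b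
      ((B * reflGL (minusForm m F a b) v hv : GL ((Fin m ⊕ Fin m) ⊕ Fin 2) F) :
        Matrix ((Fin m ⊕ Fin m) ⊕ Fin 2) ((Fin m ⊕ Fin m) ⊕ Fin 2) F) := by
  classical
  obtain ⟨K, instK, instA, hK, r, hr⟩ := exists_quadratic_root_extension F a b hab
  set j : F →+* K := algebraMap F K with hj
  set Q := minusForm m F a b with hQdef
  set QK := minusForm m K (j a) (j b) with hQKdef
  have hcompat : ∀ w : (Fin m ⊕ Fin m) ⊕ Fin 2 → F, QK (rvec j w) = j (Q w) := by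
    intro w
    rw [hQKdef, hQdef, minusForm_coe, minusForm_coe]
    exact quadFormMinus_rvec j m a b w
  have hdisc : (j a) ^ 2 - 4 * (j b) ≠ 0 := by
    have h0 := disc_ne_zero_of_aniso' a b hab
    intro h1
    apply h0
    apply (algebraMap F K).injective
    rw [map_zero, ← h1, map_sub, map_pow, map_mul]
    congr 2
    exact map_ofNat (algebraMap F K) 4
  have hQK : (QuadraticMap.polarBilin QK).Nondegenerate := minusForm_nondeg_of_disc m (j a) (j b) hdisc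
  have hcard : Fintype.card ((Fin m ⊕ Fin m) ⊕ Fin 2) = 2 * (m + 1) := by
    rw [Fintype.card_sum, Fintype.card_sum, Fintype.card_fin, Fintype.card_fin]
    ring
  have hdim := finrank_minus_space m K
  set U₀ : Submodule K ((Fin m ⊕ Fin m) ⊕ Fin 2 → K) := LinearMap.range (minusInl m r) with hU₀def
  have hU₀ : IsTS QK U₀ := range_minusInl_ts m (j a) (j b) r hr
  have hfU₀ : finrank K U₀ = m + 1 := finrank_range_minusInl m r
  set ρ : GL ((Fin m ⊕ Fin m) ⊕ Fin 2) F := reflGL Q v hv with hρ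
  set BK : GL ((Fin m ⊕ Fin m) ⊕ Fin 2) K := Matrix.GeneralLinearGroup.map j B with hBK
  set ρK : GL ((Fin m ⊕ Fin m) ⊕ Fin 2) K := Matrix.GeneralLinearGroup.map j ρ with hρK
  have hBKval : (BK : Matrix ((Fin m ⊕ Fin m) ⊕ Fin 2) ((Fin m ⊕ Fin m) ⊕ Fin 2) K) =
      (B : Matrix ((Fin m ⊕ Fin m) ⊕ Fin 2) ((Fin m ⊕ Fin m) ⊕ Fin 2) F).map j := rfl
  have hρKval : (ρK : Matrix ((Fin m ⊕ Fin m) ⊕ Fin 2) ((Fin m ⊕ Fin m) ⊕ Fin 2) K) =
      (Cfsg.reflectionMatrix (⇑Q) v).map j := rfl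
  have hBsim : ∀ z, QK ((BK : Matrix ((Fin m ⊕ Fin m) ⊕ Fin 2) ((Fin m ⊕ Fin m) ⊕ Fin 2) K) *ᵥ z) =
      j μ * QK z := by
    intro z
    rw [hBKval]
    apply similarity_extend' j (⇑Q) QK hcompat _ μ
    intro w
    rw [hQdef, minusForm_coe]
    exact hB w
  have hvK : QK (rvec j v) ≠ 0 := by
    rw [hcompat]
    exact (map_ne_zero j).mpr hv
  have hρrefl : ∀ z, (ρK : Matrix ((Fin m ⊕ Fin m) ⊕ Fin 2) ((Fin m ⊕ Fin m) ⊕ Fin 2) K) *ᵥ z =
      reflLin QK (rvec j v) z := by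
    intro z
    rw [hρKval, reflectionMatrix_map j Q QK hcompat, reflectionMatrix_mulVec_eq_reflLin]
  set HB := glLinEquiv ((Fin m ⊕ Fin m) ⊕ Fin 2) K BK with hHB
  set Hρ := glLinEquiv ((Fin m ⊕ Fin m) ⊕ Fin 2) K ρK with hHρ
  have hHρ_mem : Hρ ∈ reflSet QK := ⟨rvec j v, hvK, hρrefl⟩
  have h1 := finrank_inf_map_refl QK hQK hdim hU₀ hfU₀ Hρ hHρ_mem
  have hHBz : ∀ z, QK (HB z) = j μ * QK z := hBsim
  have hHρz : ∀ z, QK (Hρ z) = QK z := by
    intro z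
    change QK ((ρK : Matrix ((Fin m ⊕ Fin m) ⊕ Fin 2) ((Fin m ⊕ Fin m) ⊕ Fin 2) K) *ᵥ z) = _
    rw [hρrefl, reflLin_isom QK _ hvK]
  have hmapB : ∀ W : Submodule K ((Fin m ⊕ Fin m) ⊕ Fin 2 → K), IsTS QK W →
      IsTS QK (W.map (HB : ((Fin m ⊕ Fin m) ⊕ Fin 2 → K) →ₗ[K] ((Fin m ⊕ Fin m) ⊕ Fin 2 → K))) := by
    rintro W hW _ ⟨w, hw, rfl⟩
    change QK (HB w) = 0
    rw [hHBz, hW w hw, mul_zero]
  have hmapρ : IsTS QK (U₀.map
      (Hρ : ((Fin m ⊕ Fin m) ⊕ Fin 2 → K) →ₗ[K] ((Fin m ⊕ Fin m) ⊕ Fin 2 → K))) := by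
    rintro _ ⟨w, hw, rfl⟩
    change QK (Hρ w) = 0
    rw [hHρz, hU₀ w hw]
  have hprod : U₀.map ((HB * Hρ : ((Fin m ⊕ Fin m) ⊕ Fin 2 → K) ≃ₗ[K] ((Fin m ⊕ Fin m) ⊕ Fin 2 → K)) :
      ((Fin m ⊕ Fin m) ⊕ Fin 2 → K) →ₗ[K] ((Fin m ⊕ Fin m) ⊕ Fin 2 → K)) =
      (U₀.map (Hρ : ((Fin m ⊕ Fin m) ⊕ Fin 2 → K) →ₗ[K] ((Fin m ⊕ Fin m) ⊕ Fin 2 → K))).map
        (HB : ((Fin m ⊕ Fin m) ⊕ Fin 2 → K) →ₗ[K] ((Fin m ⊕ Fin m) ⊕ Fin 2 → K)) := map_mul_linearEquiv U₀ HB Hρ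
  have e := even_delta_sum' QK hQK hdim hU₀ hfU₀ (hmapB U₀ hU₀)
    (by rw [LinearEquiv.finrank_map_eq, hfU₀]) (hmapB _ hmapρ)
    (by rw [LinearEquiv.finrank_map_eq, LinearEquiv.finrank_map_eq, hfU₀])
  have e3 : finrank K ↥(U₀.map (HB : ((Fin m ⊕ Fin m) ⊕ Fin 2 → K) →ₗ[K] ((Fin m ⊕ Fin m) ⊕ Fin 2 → K)) ⊓
      (U₀.map (Hρ : ((Fin m ⊕ Fin m) ⊕ Fin 2 → K) →ₗ[K] ((Fin m ⊕ Fin m) ⊕ Fin 2 → K))).map
        (HB : ((Fin m ⊕ Fin m) ⊕ Fin 2 → K) →ₗ[K] ((Fin m ⊕ Fin m) ⊕ Fin 2 → K))) =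
      finrank K ↥(U₀ ⊓ U₀.map (Hρ : ((Fin m ⊕ Fin m) ⊕ Fin 2 → K) →ₗ[K] ((Fin m ⊕ Fin m) ⊕ Fin 2 → K))) := by
    rw [← Submodule.map_inf (HB : ((Fin m ⊕ Fin m) ⊕ Fin 2 → K) →ₗ[K] ((Fin m ⊕ Fin m) ⊕ Fin 2 → K)) HB.injective,
      LinearEquiv.finrank_map_eq]
  rw [e3] at e
  have hb1 := finrank_inf_le_left' (U := U₀)
    (W := U₀.map (HB : ((Fin m ⊕ Fin m) ⊕ Fin 2 → K) →ₗ[K] ((Fin m ⊕ Fin m) ⊕ Fin 2 → K))) hfU₀
  have hb2 := finrank_inf_le_left' (U := U₀)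
    (W := (U₀.map (Hρ : ((Fin m ⊕ Fin m) ⊕ Fin 2 → K) →ₗ[K] ((Fin m ⊕ Fin m) ⊕ Fin 2 → K))).map
        (HB : ((Fin m ⊕ Fin m) ⊕ Fin 2 → K) →ₗ[K] ((Fin m ⊕ Fin m) ⊕ Fin 2 → K))) hfU₀
  rcases Nat.even_or_odd (m + 1 - finrank K ↥(U₀ ⊓ U₀.map
      (HB : ((Fin m ⊕ Fin m) ⊕ Fin 2 → K) →ₗ[K] ((Fin m ⊕ Fin m) ⊕ Fin 2 → K)))) with he | ho
  · left
    refine ⟨K, instK, instA, hK, ?_⟩
    rw [← minusForm_coe]
    exact preserves_of_even_delta QK hQK (m + 1) hcard U₀ hU₀ hfU₀ BK (j μ) hBsim he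
  · right
    refine ⟨K, instK, instA, hK, ?_⟩
    rw [← minusForm_coe]
    have hval : ((B * ρ : GL ((Fin m ⊕ Fin m) ⊕ Fin 2) F) :
        Matrix ((Fin m ⊕ Fin m) ⊕ Fin 2) ((Fin m ⊕ Fin m) ⊕ Fin 2) F).map (algebraMap F K) =
        ((BK * ρK : GL ((Fin m ⊕ Fin m) ⊕ Fin 2) K) :
          Matrix ((Fin m ⊕ Fin m) ⊕ Fin 2) ((Fin m ⊕ Fin m) ⊕ Fin 2) K) := by
      rw [hBK, hρK, ← map_mul]
      rfl
    rw [hval]
    apply preserves_of_even_delta QK hQK (m + 1) hcard U₀ hU₀ hfU₀ (BK * ρK) (j μ)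
    · intro z
      rw [Units.val_mul, ← Matrix.mulVec_mulVec, hBsim]
      congr 1
      exact hHρz z
    · rw [map_mul, ← hHB, ← hHρ, hprod]
      rw [Nat.even_iff] at e ⊢
      rw [Nat.odd_iff] at ho
      omega

end main

end Cfsg.Agent.Lib.Helper13
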