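import Mathlib
import Cfsg.Agent.Lib.Helper36.SemiPair
import Cfsg.Agent.Lib.Helper44.Transport

set_option autoImplicit false
set_option linter.unusedSectionVars false

/-!
helper13: an invertible matrix `T` with `f (T v) = f' v` induces an isomorphism
`PΩ(f') ≃* PΩ(f)`, the class of `s` going to the class of `T s T⁻¹`.
-/

namespace Cfsg.Agent.Lib.Helper13

open Matrix Cfsg.Agent.Lib.Helper36 Cfsg.Agent.Lib.Helper44

section abstract

variable {G H : Type*} [Group G] [Group H]

/-- an isomorphism of groups restricts to the commutator subgroups -/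
def commCongr (e : G ≃* H) : ↥(commutator G) ≃* ↥(commutator H) where
  toFun x := ⟨e (x : G), monoidHom_mem_commutator e.toMonoidHom x.2⟩
  invFun y := ⟨e.symm (y : H), monoidHom_mem_commutator e.symm.toMonoidHom y.2⟩
  left_inv x := Subtype.ext (e.symm_apply_apply (x : G))
  right_inv y := Subtype.ext (e.apply_symm_apply (y : H))
  map_mul' x y := Subtype.ext (map_mul e (x : G) (y : G))

theorem commCongr_coe (e : G ≃* H) (x : ↥(commutator G)) :
    ((commCongr e x : ↥(commutator H)) : H) = e (x : G) := rfl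

theorem commCongr_symm_coe (e : G ≃* H) (y : ↥(commutator H)) :
    (((commCongr e).symm y : ↥(commutator G)) : G) = e.symm (y : H) := rfl

theorem map_center_eq (e : G ≃* H) :
    (Subgroup.center G).map e.toMonoidHom = Subgroup.center H := by
  ext y
  constructor
  · rintro ⟨x, hx, rfl⟩
    have hx' : x ∈ Subgroup.center G := hx
    rw [Subgroup.mem_center_iff] at hx'
    show e x ∈ Subgroup.center H
    rw [Subgroup.mem_center_iff]
    intro h
    have := hx' (e.symm h)
    have h2 := congrArg e this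
    rw [map_mul, map_mul, e.apply_symm_apply] at h2
    exact h2
  · intro hy
    rw [Subgroup.mem_center_iff] at hy
    refine ⟨e.symm y, ?_, e.apply_symm_apply y⟩
    show e.symm y ∈ Subgroup.center G
    rw [Subgroup.mem_center_iff]
    intro g
    have := hy (e g)
    apply e.injective
    rw [map_mul, map_mul, e.apply_symm_apply]
    exact this

/-- an isomorphism of groups induces an isomorphism of the central quotients of the commutator
subgroups -/
noncomputable def commCenterCongr (e : G ≃* H) :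
    (↥(commutator G) ⧸ Subgroup.center ↥(commutator G)) ≃*
      (↥(commutator H) ⧸ Subgroup.center ↥(commutator H)) :=
  QuotientGroup.congr (Subgroup.center ↥(commutator G)) (Subgroup.center ↥(commutator H))
    (commCongr e) (map_center_eq (commCongr e))

theorem commCenterCongr_mk (e : G ≃* H) (x : ↥(commutator G)) :
    commCenterCongr e (QuotientGroup.mk x) = QuotientGroup.mk (commCongr e x) := rfl

theorem commCenterCongr_symm_mk (e : G ≃* H) (y : ↥(commutator H)) :
    (commCenterCongr e).symm (QuotientGroup.mk y) = QuotientGroup.mk ((commCongr e).symm y) := by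
  rw [MulEquiv.symm_apply_eq, commCenterCongr_mk, MulEquiv.apply_symm_apply]

end abstract

section matrix

variable {ι : Type} [Fintype ι] [DecidableEq ι] {F : Type*} [Field F]

theorem conj_mem_isometryGroup (f f' : (ι → F) → F) (T : GL ι F)
    (hT : ∀ v, f ((T : Matrix ι ι F) *ᵥ v) = f' v) (s : GL ι F)
    (hs : s ∈ Cfsg.isometryGroup F f') : T * s * T⁻¹ ∈ Cfsg.isometryGroup F f := by
  rw [mem_isometryGroup_iff'] at hs ⊢
  intro v
  rw [Units.val_mul, Units.val_mul, ← Matrix.mulVec_mulVec, ← Matrix.mulVec_mulVec, hT, hs, ← hT,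
    gl_inv_mulVec_mulVec]

theorem transport_inv (f f' : (ι → F) → F) (T : GL ι F)
    (hT : ∀ v, f ((T : Matrix ι ι F) *ᵥ v) = f' v) (v : ι → F) :
    f' (((T⁻¹ : GL ι F) : Matrix ι ι F) *ᵥ v) = f v := by
  rw [← hT, gl_inv_mulVec_mulVec]

/-- conjugation by `T` as an isomorphism of isometry groups -/
def isoConj (f f' : (ι → F) → F) (T : GL ι F) (hT : ∀ v, f ((T : Matrix ι ι F) *ᵥ v) = f' v) :
    ↥(Cfsg.isometryGroup F f') ≃* ↥(Cfsg.isometryGroup F f) where
  toFun s := ⟨T * s * T⁻¹, conj_mem_isometryGroup f f' T hT s s.2⟩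
  invFun s := ⟨T⁻¹ * s * T, by
    have := conj_mem_isometryGroup f' f T⁻¹ (transport_inv f f' T hT) s s.2
    rwa [inv_inv] at this⟩
  left_inv s := by
    apply Subtype.ext
    show T⁻¹ * (T * (s : GL ι F) * T⁻¹) * T = s
    group
  right_inv s := by
    apply Subtype.ext
    show T * (T⁻¹ * (s : GL ι F) * T) * T⁻¹ = s
    group
  map_mul' s t := by
    apply Subtype.ext
    show T * ((s : GL ι F) * (t : GL ι F)) * T⁻¹ = T * s * T⁻¹ * (T * t * T⁻¹)
    group

/-- the induced isomorphism `PΩ(f') ≃* PΩ(f)` -/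
noncomputable def pomegaConj (f f' : (ι → F) → F) (T : GL ι F)
    (hT : ∀ v, f ((T : Matrix ι ι F) *ᵥ v) = f' v) : Cfsg.POmega F f' ≃* Cfsg.POmega F f :=
  commCenterCongr (isoConj f f' T hT)

theorem pomegaConj_mk (f f' : (ι → F) → F) (T : GL ι F)
    (hT : ∀ v, f ((T : Matrix ι ι F) *ᵥ v) = f' v) (s : ↥(Cfsg.Omega F f'))
    (s' : ↥(Cfsg.Omega F f))
    (h : ((s' : ↥(Cfsg.isometryGroup F f)) : GL ι F) =
      T * ((s : ↥(Cfsg.isometryGroup F f')) : GL ι F) * T⁻¹) :
    pomegaConj f f' T hT (QuotientGroup.mk s) = QuotientGroup.mk s' := by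
  unfold pomegaConj
  rw [commCenterCongr_mk]
  congr 1
  apply Subtype.ext
  apply Subtype.ext
  rw [h]
  rfl

/-- the preimage of the class of `s` -/
theorem pomegaConj_symm_mk (f f' : (ι → F) → F) (T : GL ι F)
    (hT : ∀ v, f ((T : Matrix ι ι F) *ᵥ v) = f' v) (s : ↥(Cfsg.Omega F f)) :
    ∃ t : ↥(Cfsg.Omega F f'),
      ((t : ↥(Cfsg.isometryGroup F f')) : GL ι F) =
        T⁻¹ * ((s : ↥(Cfsg.isometryGroup F f)) : GL ι F) * T ∧
      (pomegaConj f f' T hT).symm (QuotientGroup.mk s) = QuotientGroup.mk t := by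
  refine ⟨(commCongr (isoConj f f' T hT)).symm s, rfl, ?_⟩
  unfold pomegaConj
  rw [commCenterCongr_symm_mk]

end matrix

end Cfsg.Agent.Lib.Helper13
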