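import Mathlib
import Cfsg.Agent.Lib.Helper13.POmegaTransport
import Cfsg.Agent.Lib.Helper13.BinaryAniso
import Cfsg.Agent.Lib.Helper13.MinusSemi
import Cfsg.Agent.Lib.Helper13.PairH90
import Cfsg.Agent.S2696

set_option autoImplicit false
set_option linter.unusedSectionVars false

/-!
helper13: a field automorphism (in the sense of `Cfsg.IsFieldAutClassPOmegaMinus`) of
`PΩ⁻_{2m+2}(F)` is induced by a semisimilarity pair `(g, σ)` with `σ ≠ 1`.
-/

namespace Cfsg.Agent.Lib.Helper13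

open Matrix Cfsg.Agent.Lib.Helper36 Cfsg.Agent.Lib.Helper36.AutO

variable {F : Type*} [Field F] [Fintype F] {m : ℕ}

/-- `(1, σ)` is a semisimilarity pair of the minus form when `σ` fixes the coefficients -/
theorem isSemisimilarityPair_one_sigma (a' b' : F) (σ : F ≃+* F) (ha : σ a' = a')
    (hb : σ b' = b') :
    Cfsg.IsSemisimilarityPair (Cfsg.quadFormMinus m F a' b')
      (1 : GL ((Fin m ⊕ Fin m) ⊕ Fin 2) F) σ := by
  refine ⟨1, fun v => ?_⟩
  rw [Units.val_one, Matrix.one_mulVec, Units.val_one, one_mul]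
  have := map_quadFormMinus (σ : F →+* F) m a' b' v
  simp only [RingEquiv.coe_toRingHom] at this
  rw [ha, hb] at this
  exact this.symm

/-- the standard field automorphism is induced by the pair `(1, σ)` -/
theorem isInduced_one_sigma_of_fieldAut (f' : ((Fin m ⊕ Fin m) ⊕ Fin 2 → F) → F) (σ : F ≃+* F)
    (φ : Cfsg.POmega F f' ≃* Cfsg.POmega F f') (h : Cfsg.IsFieldAutPOmegaOf f' σ φ) :
    Cfsg.IsInducedBySemilinearPOmega f' (1 : GL ((Fin m ⊕ Fin m) ⊕ Fin 2) F) σ φ := by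
  intro s s' hs
  apply h s s'
  rw [hs, inv_one, Units.val_one, Matrix.one_mul, Matrix.mul_one]

/-- transport of an automorphism induced by a pair along `pomegaConj` -/
theorem isInduced_transport (f f' : ((Fin m ⊕ Fin m) ⊕ Fin 2 → F) → F)
    (T : GL ((Fin m ⊕ Fin m) ⊕ Fin 2) F)
    (hT : ∀ v, f ((T : Matrix ((Fin m ⊕ Fin m) ⊕ Fin 2) ((Fin m ⊕ Fin m) ⊕ Fin 2) F) *ᵥ v) = f' v)
    (g' : GL ((Fin m ⊕ Fin m) ⊕ Fin 2) F) (σ : F ≃+* F)
    (hp' : Cfsg.IsSemisimilarityPair f' g' σ)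
    (φ' : MulAut (Cfsg.POmega F f'))
    (hi' : Cfsg.IsInducedBySemilinearPOmega f' g' σ φ')
    (φ : MulAut (Cfsg.POmega F f))
    (hφ : ∀ y, φ y = pomegaConj f f' T hT (φ' ((pomegaConj f f' T hT).symm y))) :
    Cfsg.IsInducedBySemilinearPOmega f (T * g' * (glMap σ T)⁻¹) σ φ := by
  intro s s₂ hs
  obtain ⟨t, ht, hPt⟩ := pomegaConj_symm_mk f f' T hT s
  obtain ⟨t', ht'⟩ := exists_semiconj_Omega f' g' σ hp' t
  rw [hφ, hPt, hi' t t' ht']
  apply pomegaConj_mk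
  have hs' : ((s₂ : ↥(Cfsg.isometryGroup F f)) : GL ((Fin m ⊕ Fin m) ⊕ Fin 2) F) =
      (T * g' * (glMap σ T)⁻¹) * glMap σ ((s : ↥(Cfsg.isometryGroup F f)) : GL _ F) *
        (T * g' * (glMap σ T)⁻¹)⁻¹ := by
    apply Units.ext
    rw [Units.val_mul, Units.val_mul, glMap_coe]
    exact hs
  have ht'' : ((t' : ↥(Cfsg.isometryGroup F f')) : GL ((Fin m ⊕ Fin m) ⊕ Fin 2) F) =
      g' * glMap σ ((t : ↥(Cfsg.isometryGroup F f')) : GL _ F) * g'⁻¹ := by
    apply Units.ext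
    rw [Units.val_mul, Units.val_mul, glMap_coe]
    exact ht'
  rw [hs', ht'', ht, map_mul, map_mul, map_inv]
  group

/-- transport of a semisimilarity pair -/
theorem isSemisimilarityPair_transport (f f' : ((Fin m ⊕ Fin m) ⊕ Fin 2 → F) → F)
    (T : GL ((Fin m ⊕ Fin m) ⊕ Fin 2) F)
    (hT : ∀ v, f ((T : Matrix ((Fin m ⊕ Fin m) ⊕ Fin 2) ((Fin m ⊕ Fin m) ⊕ Fin 2) F) *ᵥ v) = f' v)
    (g' : GL ((Fin m ⊕ Fin m) ⊕ Fin 2) F) (σ : F ≃+* F)
    (hp' : Cfsg.IsSemisimilarityPair f' g' σ) :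
    Cfsg.IsSemisimilarityPair f (T * g' * (glMap σ T)⁻¹) σ := by
  obtain ⟨c, hc⟩ := hp'
  have hc' : ∀ w, f' ((g' : Matrix ((Fin m ⊕ Fin m) ⊕ Fin 2) ((Fin m ⊕ Fin m) ⊕ Fin 2) F) *ᵥ
      vmap σ w) = (c : F) * σ (f' w) := hc
  refine ⟨c, fun v => ?_⟩
  change f (((T * g' * (glMap σ T)⁻¹ : GL ((Fin m ⊕ Fin m) ⊕ Fin 2) F) :
    Matrix ((Fin m ⊕ Fin m) ⊕ Fin 2) ((Fin m ⊕ Fin m) ⊕ Fin 2) F) *ᵥ vmap σ v) = _
  rw [← map_inv, Units.val_mul, Units.val_mul, ← Matrix.mulVec_mulVec, ← Matrix.mulVec_mulVec,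
    glMap_coe, map_mulVec_vmap, hT, hc', transport_inv f f' T hT]

/-- **Step 1**: a field automorphism of `PΩ⁻` is induced by a semisimilarity pair with non-trivial
field automorphism -/
theorem exists_pair_of_fieldAutClass (hm : 3 ≤ m) (a b : F)
    (hab : ∀ z₁ z₂ : F, z₁ ^ 2 + a * z₁ * z₂ + b * z₂ ^ 2 = 0 → z₁ = 0 ∧ z₂ = 0)
    (x : MulAut (Cfsg.POmega F (Cfsg.quadFormMinus m F a b)))
    (hx : Cfsg.IsFieldAutClassPOmegaMinus m x) :
    ∃ (g : GL ((Fin m ⊕ Fin m) ⊕ Fin 2) F) (σ : F ≃+* F), σ ≠ RingEquiv.refl F ∧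
      Cfsg.IsSemisimilarityPair (Cfsg.quadFormMinus m F a b) g σ ∧
      Cfsg.IsInducedBySemilinearPOmega (Cfsg.quadFormMinus m F a b) g σ x := by
  obtain ⟨a', b', ψ, σ, hab', hσ, hσa, hσb, hfa⟩ := hx
  obtain ⟨r, s, hs, e1, e2⟩ := exists_twist_of_aniso a b a' b' hab hab'
  have hdet : (twistMat m r s).det ≠ 0 := by rw [twistMat_det]; exact hs
  set T : GL ((Fin m ⊕ Fin m) ⊕ Fin 2) F :=
    Matrix.GeneralLinearGroup.mkOfDetNeZero (twistMat m r s) hdet with hTdef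
  have hT : ∀ v, Cfsg.quadFormMinus m F a b
      ((T : Matrix ((Fin m ⊕ Fin m) ⊕ Fin 2) ((Fin m ⊕ Fin m) ⊕ Fin 2) F) *ᵥ v) =
        Cfsg.quadFormMinus m F a' b' v := by
    intro v
    change Cfsg.quadFormMinus m F a b (twistMat m r s *ᵥ v) = _
    rw [quadFormMinus_twistMat, e1, e2]
  set P := pomegaConj (Cfsg.quadFormMinus m F a b) (Cfsg.quadFormMinus m F a' b') T hT with hP
  set x' : MulAut (Cfsg.POmega F (Cfsg.quadFormMinus m F a' b')) := (ψ.symm.trans x).trans ψ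
    with hx'
  have hp' := isSemisimilarityPair_one_sigma (m := m) a' b' σ hσa hσb
  have hi' := isInduced_one_sigma_of_fieldAut (Cfsg.quadFormMinus m F a' b') σ x' hfa
  set α : MulAut (Cfsg.POmega F (Cfsg.quadFormMinus m F a b)) := ψ.trans P with hα
  set x'' : MulAut (Cfsg.POmega F (Cfsg.quadFormMinus m F a b)) := α * x * α⁻¹ with hx''
  have hx''app : ∀ y, x'' y = P (x' (P.symm y)) := fun y => rfl
  have hi'' := isInduced_transport (Cfsg.quadFormMinus m F a b) (Cfsg.quadFormMinus m F a' b') T hT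
    1 σ hp' x' hi' x'' hx''app
  have hp'' := isSemisimilarityPair_transport (Cfsg.quadFormMinus m F a b)
    (Cfsg.quadFormMinus m F a' b') T hT 1 σ hp'
  have htop := Cfsg.Agent.S2696.result hm a b hab
  obtain ⟨k, τ, hpk, hik⟩ := (mem_gammaPOmega_iff (Cfsg.quadFormMinus m F a b) α).mp
    (by rw [htop]; exact Subgroup.mem_top α)
  have hxeq : x = α⁻¹ * x'' * α := by
    rw [hx'']
    group
  have hik' := isInduced_inv (Cfsg.quadFormMinus m F a b) k τ α hik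
  have hpk' := isSemisimilarityPair_inv (Cfsg.quadFormMinus m F a b) k τ hpk
  have h1 := isInduced_mul (Cfsg.quadFormMinus m F a b) _ _ _ _ α⁻¹ x'' hp'' hik' hi''
  have hp1 := isSemisimilarityPair_mul (Cfsg.quadFormMinus m F a b) _ _ _ _ hpk' hp''
  have h2 := isInduced_mul (Cfsg.quadFormMinus m F a b) _ _ _ _ (α⁻¹ * x'') α hpk h1 hik
  have hp2 := isSemisimilarityPair_mul (Cfsg.quadFormMinus m F a b) _ _ _ _ hp1 hpk
  refine ⟨_, _, ?_, hp2, by rw [hxeq]; exact h2⟩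
  intro h
  apply hσ
  apply RingEquiv.ext
  intro z
  have := congrArg (fun ρ : F ≃+* F => τ (ρ (τ.symm z))) h
  simp only [RingEquiv.trans_apply, RingEquiv.apply_symm_apply, RingEquiv.refl_apply] at this
  exact this

end Cfsg.Agent.Lib.Helper13
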