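import Mathlib
import Cfsg.Agent.Lib.Helper13.MinusNoTS

set_option autoImplicit false
set_option linter.unusedSectionVars false

/-!
helper13: the minus-type form as a `QuadraticForm` whose coercion is *definitionally*
`Cfsg.quadFormMinus m F a b`.
-/

namespace Cfsg.Agent.Lib.Helper13

open Cfsg.Agent.S0791

variable {F : Type*} [Field F]

/-- the minus-type quadratic form, with `⇑(minusQ m F a b) = Cfsg.quadFormMinus m F a b` by `rfl` -/
def minusQ (m : ℕ) (F : Type*) [Field F] (a b : F) :
    QuadraticForm F ((Fin m ⊕ Fin m) ⊕ Fin 2 → F) where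
  toFun := Cfsg.quadFormMinus m F a b
  toFun_smul := by
    intro c x
    have := (minusForm m F a b).toFun_smul c x
    have e : (minusForm m F a b).toFun = Cfsg.quadFormMinus m F a b := minusForm_coe m F a b
    rw [e] at this
    exact this
  exists_companion' := by
    obtain ⟨B, hB⟩ := (minusForm m F a b).exists_companion'
    have e : (minusForm m F a b).toFun = Cfsg.quadFormMinus m F a b := minusForm_coe m F a b
    rw [e] at hB
    exact ⟨B, hB⟩

theorem minusQ_coe (m : ℕ) (F : Type*) [Field F] (a b : F) :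
    ⇑(minusQ m F a b) = Cfsg.quadFormMinus m F a b := rfl

theorem minusQ_eq_minusForm (m : ℕ) (F : Type*) [Field F] (a b : F) :
    minusQ m F a b = minusForm m F a b :=
  DFunLike.coe_injective (by rw [minusQ_coe, minusForm_coe])

theorem minusQ_nondeg_of_aniso [Finite F] (m : ℕ) (a b : F)
    (hab : ∀ z₁ z₂ : F, z₁ ^ 2 + a * z₁ * z₂ + b * z₂ ^ 2 = 0 → z₁ = 0 ∧ z₂ = 0) :
    (QuadraticMap.polarBilin (minusQ m F a b)).Nondegenerate := by
  rw [minusQ_eq_minusForm]
  exact minusForm_nondeg_of_aniso m a b hab

end Cfsg.Agent.Lib.Helper13
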