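import Mathlib
import Cfsg.Agent.Lib.Helper13.MinusCosetCore
import Cfsg.Agent.Lib.Helper13.MinusClassAdjust
import Cfsg.Agent.Lib.Helper13.MinusFieldPair
import Cfsg.Agent.Lib.Helper13.MinusQ
import Cfsg.Agent.Lib.Helper36.AutO.OutMinusOdd

set_option autoImplicit false
set_option linter.unusedSectionVars false

/-!
helper13: conjugacy in the coset of a field automorphism of `PΩ⁻_{2m+2}(F)` (all characteristics).
-/

namespace Cfsg.Agent.Lib.Helper13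

open Matrix Cfsg.Agent.S0791 Cfsg.Agent.Lib.Helper36 Cfsg.Agent.Lib.Helper36.AutO
  Cfsg.Agent.Lib.Helper44 Cfsg.Agent.Lib.Helper45.PSLField

section semi

variable {ι : Type} [Fintype ι] [DecidableEq ι] {F : Type*} [Field F]

omit [Fintype ι] [DecidableEq ι] in
theorem vmap_add (σ : F ≃+* F) (x y : ι → F) : vmap σ (x + y) = vmap σ x + vmap σ y := by
  funext i
  exact map_add σ (x i) (y i)

omit [Fintype ι] [DecidableEq ι] in
theorem vmap_sub (σ : F ≃+* F) (x y : ι → F) : vmap σ (x - y) = vmap σ x - vmap σ y := by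
  funext i
  exact map_sub σ (x i) (y i)

omit [Fintype ι] [DecidableEq ι] in
theorem vmap_smul (σ : F ≃+* F) (k : F) (x : ι → F) : vmap σ (k • x) = σ k • vmap σ x := by
  funext i
  exact map_mul σ k (x i)

/-- the polar form under a semisimilarity -/
theorem polar_semi (Q : QuadraticForm F (ι → F)) (g : GL ι F) (σ : F ≃+* F) (c : F)
    (hc : ∀ w, Q ((g : Matrix ι ι F) *ᵥ vmap σ w) = c * σ (Q w)) (x y : ι → F) :
    QuadraticMap.polar (⇑Q) ((g : Matrix ι ι F) *ᵥ vmap σ x) ((g : Matrix ι ι F) *ᵥ vmap σ y) =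
      c * σ (QuadraticMap.polar (⇑Q) x y) := by
  unfold QuadraticMap.polar
  rw [← Matrix.mulVec_add, ← vmap_add, hc, hc, hc, map_sub, map_sub]
  ring

/-- a semisimilarity fixing a non-singular vector `v` commutes with the reflection in `v` -/
theorem refl_semi_commute (Q : QuadraticForm F (ι → F)) (g : GL ι F) (σ : F ≃+* F) (c : F)
    (hc0 : c ≠ 0)
    (hc : ∀ w, Q ((g : Matrix ι ι F) *ᵥ vmap σ w) = c * σ (Q w)) (v : ι → F) (hv : Q v ≠ 0)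
    (hgv : (g : Matrix ι ι F) *ᵥ vmap σ v = v) :
    reflGL Q v hv * g = g * glMap σ (reflGL Q v hv) := by
  apply Units.ext
  rw [Units.val_mul, Units.val_mul, glMap_coe]
  apply matrix_eq_of_mulVec
  intro z
  set u := vmap σ.symm z with hu
  have hz : z = vmap σ u := by rw [hu, vmap_symm_vmap]
  have hQv : Q v = c * σ (Q v) := by
    conv_lhs => rw [← hgv, hc]
  have hσQv : σ (Q v) ≠ 0 := by
    intro h0
    apply hv
    rw [hQv, h0, mul_zero]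
  have hpol : QuadraticMap.polar (⇑Q) v ((g : Matrix ι ι F) *ᵥ vmap σ u) =
      c * σ (QuadraticMap.polar (⇑Q) v u) := by
    conv_lhs => rw [← hgv]
    exact polar_semi Q g σ c hc v u
  rw [← Matrix.mulVec_mulVec, ← Matrix.mulVec_mulVec, hz, map_mulVec_vmap]
  change Cfsg.reflectionMatrix (⇑Q) v *ᵥ _ = (g : Matrix ι ι F) *ᵥ
    vmap σ (Cfsg.reflectionMatrix (⇑Q) v *ᵥ u)
  rw [reflectionMatrix_mulVec, reflectionMatrix_mulVec, vmap_sub, vmap_smul, Matrix.mulVec_sub,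
    Matrix.mulVec_smul, hgv, hpol, map_mul, map_inv₀]
  congr 2
  conv_lhs => rw [hQv]
  field_simp

end semi

section final

variable {F : Type*} [Field F] [Fintype F] {m : ℕ}

/-- two automorphisms induced by pairs `(g₁, σ)`, `(g₂, σ)` related by a class-preserving
similarity are conjugate under `Inndiag` -/
theorem conjUnder_of_pairs (a b : F) (σ : F ≃+* F)
    (x y : MulAut (Cfsg.POmega F (Cfsg.quadFormMinus m F a b)))
    (g₁ g₂ : GL ((Fin m ⊕ Fin m) ⊕ Fin 2) F)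
    (hp₁ : Cfsg.IsSemisimilarityPair (Cfsg.quadFormMinus m F a b) g₁ σ)
    (hi₁ : Cfsg.IsInducedBySemilinearPOmega (Cfsg.quadFormMinus m F a b) g₁ σ x)
    (hp₂ : Cfsg.IsSemisimilarityPair (Cfsg.quadFormMinus m F a b) g₂ σ)
    (hi₂ : Cfsg.IsInducedBySemilinearPOmega (Cfsg.quadFormMinus m F a b) g₂ σ y)
    (B' : GL ((Fin m ⊕ Fin m) ⊕ Fin 2) F) (μ : F) (hμ : μ ≠ 0)
    (hsim : ∀ w, Cfsg.quadFormMinus m F a b
        ((B' : Matrix ((Fin m ⊕ Fin m) ⊕ Fin 2) ((Fin m ⊕ Fin m) ⊕ Fin 2) F) *ᵥ w) =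
          μ * Cfsg.quadFormMinus m F a b w)
    (hconj : B' * g₁ = g₂ * glMap σ B')
    (hpres : Cfsg.PreservesSingularClassesMinus m a b
        (B' : Matrix ((Fin m ⊕ Fin m) ⊕ Fin 2) ((Fin m ⊕ Fin m) ⊕ Fin 2) F)) :
    Cfsg.IsConjUnder (Cfsg.inndiagPOmegaMinus m F a b) x y := by
  have hmem : B' ∈ Cfsg.Geo.quadSimilarityGroup (Cfsg.quadFormMinus m F a b) :=
    ⟨Units.mk0 μ hμ, fun v => hsim v⟩
  obtain ⟨Bs, hBs⟩ : ∃ Bs : ↥(Cfsg.Geo.quadSimilarityGroup (Cfsg.quadFormMinus m F a b)),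
      (Bs : GL ((Fin m ⊕ Fin m) ⊕ Fin 2) F) = B' := ⟨⟨B', hmem⟩, rfl⟩
  have hih : Cfsg.IsInducedBySemilinearPOmega (Cfsg.quadFormMinus m F a b) B'
      (RingEquiv.refl F) (simAut (Cfsg.quadFormMinus m F a b) Bs) := by
    rw [← hBs]
    exact (isInduced_iff _ Bs _).mpr rfl
  refine ⟨simAut (Cfsg.quadFormMinus m F a b) Bs, ?_, ?_⟩
  · apply Subgroup.subset_closure
    exact ⟨B', hmem, hpres, hih⟩
  · have hpB : Cfsg.IsSemisimilarityPair (Cfsg.quadFormMinus m F a b) B' (RingEquiv.refl F) :=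
      ⟨Units.mk0 μ hμ, fun v => hsim v⟩
    have h1 := isInduced_mul (Cfsg.quadFormMinus m F a b) B' g₁ (RingEquiv.refl F) σ
      (simAut (Cfsg.quadFormMinus m F a b) Bs) x hp₁ hih hi₁
    rw [glMap_refl, trans_refl_eq] at h1
    have h2 := isInduced_inv (Cfsg.quadFormMinus m F a b) B' (RingEquiv.refl F)
      (simAut (Cfsg.quadFormMinus m F a b) Bs) hih
    have hpB' := isSemisimilarityPair_inv (Cfsg.quadFormMinus m F a b) B' (RingEquiv.refl F) hpB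
    have e1 : (RingEquiv.refl F).symm = RingEquiv.refl F := rfl
    rw [e1, glMap_refl] at h2 hpB'
    have h3 := isInduced_mul (Cfsg.quadFormMinus m F a b) (B' * g₁) B'⁻¹ σ (RingEquiv.refl F)
      (simAut (Cfsg.quadFormMinus m F a b) Bs * x)
      (simAut (Cfsg.quadFormMinus m F a b) Bs)⁻¹ hpB' h1 h2
    rw [refl_trans_eq] at h3
    have e2 : B' * g₁ * glMap σ B'⁻¹ = g₂ := by
      rw [hconj, map_inv]
      group
    rw [e2] at h3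
    exact induced_unique (Cfsg.quadFormMinus m F a b) g₂ σ hp₂ _ _ hi₂ h3

/-- two semisimilarities in normal form with the same field automorphism are conjugate under a
class-preserving similarity -/
theorem exists_class_preserving_conj (a b : F)
    (hab : ∀ z₁ z₂ : F, z₁ ^ 2 + a * z₁ * z₂ + b * z₂ ^ 2 = 0 → z₁ = 0 ∧ z₂ = 0)
    (σ : RingAut F) (g₁ g₂ M₁ M₂ : GL ((Fin m ⊕ Fin m) ⊕ Fin 2) F) (κ₁ κ₂ : F)
    (α₁ β₁ α₂ β₂ : ↥(fixF σ)) (hκ₁ : κ₁ ≠ 0) (hκ₂ : κ₂ ≠ 0)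
    (hp₁ : Cfsg.IsSemisimilarityPair (Cfsg.quadFormMinus m F a b) g₁ σ)
    (h₁ : (g₁ : Matrix ((Fin m ⊕ Fin m) ⊕ Fin 2) ((Fin m ⊕ Fin m) ⊕ Fin 2) F) *
      (M₁ : Matrix ((Fin m ⊕ Fin m) ⊕ Fin 2) ((Fin m ⊕ Fin m) ⊕ Fin 2) F).map σ =
      (M₁ : Matrix ((Fin m ⊕ Fin m) ⊕ Fin 2) ((Fin m ⊕ Fin m) ⊕ Fin 2) F))
    (h₂ : (g₂ : Matrix ((Fin m ⊕ Fin m) ⊕ Fin 2) ((Fin m ⊕ Fin m) ⊕ Fin 2) F) *
      (M₂ : Matrix ((Fin m ⊕ Fin m) ⊕ Fin 2) ((Fin m ⊕ Fin m) ⊕ Fin 2) F).map σ =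
      (M₂ : Matrix ((Fin m ⊕ Fin m) ⊕ Fin 2) ((Fin m ⊕ Fin m) ⊕ Fin 2) F))
    (hf₁ : ∀ w, Cfsg.quadFormMinus m F a b
      ((M₁ : Matrix ((Fin m ⊕ Fin m) ⊕ Fin 2) ((Fin m ⊕ Fin m) ⊕ Fin 2) F) *ᵥ w) =
        κ₁ * Cfsg.quadFormMinus m F (α₁ : F) (β₁ : F) w)
    (hf₂ : ∀ w, Cfsg.quadFormMinus m F a b
      ((M₂ : Matrix ((Fin m ⊕ Fin m) ⊕ Fin 2) ((Fin m ⊕ Fin m) ⊕ Fin 2) F) *ᵥ w) =
        κ₂ * Cfsg.quadFormMinus m F (α₂ : F) (β₂ : F) w)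
    (han₁ : ∀ z₁ z₂ : F, z₁ ^ 2 + (α₁ : F) * z₁ * z₂ + (β₁ : F) * z₂ ^ 2 = 0 → z₁ = 0 ∧ z₂ = 0)
    (han₂ : ∀ z₁ z₂ : F, z₁ ^ 2 + (α₂ : F) * z₁ * z₂ + (β₂ : F) * z₂ ^ 2 = 0 → z₁ = 0 ∧ z₂ = 0) :
    ∃ (B' : GL ((Fin m ⊕ Fin m) ⊕ Fin 2) F) (μ : F), μ ≠ 0 ∧
      (∀ w, Cfsg.quadFormMinus m F a b
        ((B' : Matrix ((Fin m ⊕ Fin m) ⊕ Fin 2) ((Fin m ⊕ Fin m) ⊕ Fin 2) F) *ᵥ w) =
          μ * Cfsg.quadFormMinus m F a b w) ∧
      B' * g₁ = g₂ * glMap σ B' ∧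
      Cfsg.PreservesSingularClassesMinus m a b
        (B' : Matrix ((Fin m ⊕ Fin m) ⊕ Fin 2) ((Fin m ⊕ Fin m) ⊕ Fin 2) F) := by
  obtain ⟨B, v, hBsim, hBg, hv, hgv⟩ := exists_conj_similarity a b σ g₁ g₂ M₁ M₂ κ₁ κ₂ α₁ β₁ α₂ β₂
    hκ₁ h₁ h₂ hf₁ hf₂ han₁ han₂
  have hv' : minusForm m F a b v ≠ 0 := by
    rw [minusForm_coe]
    exact hv
  have hμ : κ₂ * κ₁⁻¹ ≠ 0 := mul_ne_zero hκ₂ (inv_ne_zero hκ₁)
  rcases exists_preserving a b hab B (κ₂ * κ₁⁻¹) hBsim v hv' with hpres | hpres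
  · exact ⟨B, _, hμ, hBsim, hBg, hpres⟩
  · have hρsim : ∀ w, Cfsg.quadFormMinus m F a b
        (((reflGL (minusForm m F a b) v hv' : GL ((Fin m ⊕ Fin m) ⊕ Fin 2) F) :
          Matrix ((Fin m ⊕ Fin m) ⊕ Fin 2) ((Fin m ⊕ Fin m) ⊕ Fin 2) F) *ᵥ w) =
        Cfsg.quadFormMinus m F a b w := by
      intro w
      have h0 := Cfsg.Agent.Lib.Helper13.reflectionMatrix_isometry (minusForm m F a b) v hv' w
      change Cfsg.quadFormMinus m F a b (Cfsg.reflectionMatrix (⇑(minusForm m F a b)) v *ᵥ w) = _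
      rw [← minusForm_coe]
      exact h0
    obtain ⟨c₁, hc₁⟩ := hp₁
    have hcomm := refl_semi_commute (minusForm m F a b) g₁ σ (c₁ : F) c₁.ne_zero
      (by
        intro w
        rw [minusForm_coe]
        exact hc₁ w) v hv' hgv
    refine ⟨B * reflGL (minusForm m F a b) v hv', _, hμ, ?_, ?_, hpres⟩
    · intro w
      rw [Units.val_mul, ← Matrix.mulVec_mulVec, hBsim, hρsim]
    · rw [mul_assoc, hcomm, ← mul_assoc, hBg, mul_assoc, ← map_mul]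

/-- **Coset conjugacy for field automorphisms of `PΩ⁻`** (the non-trivial direction). -/
theorem minus_field_coset (hm : 3 ≤ m) (a b : F)
    (hab : ∀ z₁ z₂ : F, z₁ ^ 2 + a * z₁ * z₂ + b * z₂ ^ 2 = 0 → z₁ = 0 ∧ z₂ = 0)
    (x δ : MulAut (Cfsg.POmega F (Cfsg.quadFormMinus m F a b)))
    (hx : Cfsg.IsFieldAutClassPOmegaMinus m x) {r : ℕ} (hr : r.Prime) (hxr : orderOf x = r)
    (hδ : δ ∈ Cfsg.inndiagPOmegaMinus m F a b) (hy : orderOf (δ * x) = r) :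
    Cfsg.IsConjUnder (Cfsg.inndiagPOmegaMinus m F a b) x (δ * x) := by
  classical
  have hQnd := minusQ_nondeg_of_aniso m a b hab
  have h7 : 7 ≤ Fintype.card ((Fin m ⊕ Fin m) ⊕ Fin 2) := by
    rw [Fintype.card_sum, Fintype.card_sum, Fintype.card_fin, Fintype.card_fin]
    omega
  obtain ⟨g, σ, hσ, hp, hi⟩ := exists_pair_of_fieldAutClass hm a b hab x hx
  have hxr' : x ^ r = 1 := by rw [← hxr]; exact pow_orderOf_eq_one x
  have hyr' : (δ * x) ^ r = 1 := by rw [← hy]; exact pow_orderOf_eq_one _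
  -- the order of `σ`
  have hσord : orderOf (σ : RingAut F) = r := by
    obtain ⟨gr, -, hpr, hir⟩ := pair_pow (Cfsg.quadFormMinus m F a b) g σ x hp hi r
    rw [hxr'] at hir
    obtain ⟨hσr, -⟩ := pair_faithful (minusQ m F a b) hQnd h7 gr _ hpr hir
    have h1 : orderOf (σ : RingAut F) ∣ r := orderOf_dvd_of_pow_eq_one hσr
    rcases (Nat.dvd_prime hr).mp h1 with h | h
    · exfalso
      apply hσ
      exact orderOf_eq_one_iff.mp h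
    · exact h
  -- `δ` is induced by a similarity
  have hδ' : δ ∈ Cfsg.pgoAut F (Cfsg.quadFormMinus m F a b) := by
    have hle : Cfsg.inndiagPOmegaMinus m F a b ≤ Cfsg.pgoAut F (Cfsg.quadFormMinus m F a b) := by
      unfold Cfsg.inndiagPOmegaMinus Cfsg.pgoAut Cfsg.autSubgroupOf
      apply Subgroup.closure_mono
      rintro β ⟨g, hg, -, hind⟩
      exact ⟨g, hg, hind⟩
    exact hle hδ
  rw [pgoAut_eq] at hδ'
  obtain ⟨d, rfl⟩ := hδ'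
  have hid : Cfsg.IsInducedBySemilinearPOmega (Cfsg.quadFormMinus m F a b)
      (d : GL ((Fin m ⊕ Fin m) ⊕ Fin 2) F) (RingEquiv.refl F)
      (simAut (Cfsg.quadFormMinus m F a b) d) := (isInduced_iff _ d _).mpr rfl
  have hpd : Cfsg.IsSemisimilarityPair (Cfsg.quadFormMinus m F a b)
      (d : GL ((Fin m ⊕ Fin m) ⊕ Fin 2) F) (RingEquiv.refl F) := by
    obtain ⟨c, hc⟩ := d.2
    exact ⟨c, fun v => hc v⟩
  have hiy0 := isInduced_mul (Cfsg.quadFormMinus m F a b) (d : GL ((Fin m ⊕ Fin m) ⊕ Fin 2) F) g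
    (RingEquiv.refl F) σ (simAut (Cfsg.quadFormMinus m F a b) d) x hp hid hi
  have hpy0 := isSemisimilarityPair_mul (Cfsg.quadFormMinus m F a b)
    (d : GL ((Fin m ⊕ Fin m) ⊕ Fin 2) F) g (RingEquiv.refl F) σ hpd hp
  rw [glMap_refl, trans_refl_eq] at hiy0 hpy0
  -- Hilbert 90
  obtain ⟨u₁, A₁, hA₁⟩ := pair_hilbert90 (minusQ m F a b) hQnd h7 g σ hr.pos hσord x hp hi hxr'
  obtain ⟨u₂, A₂, hA₂⟩ := pair_hilbert90 (minusQ m F a b) hQnd h7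
    ((d : GL ((Fin m ⊕ Fin m) ⊕ Fin 2) F) * g) σ hr.pos hσord
    (simAut (Cfsg.quadFormMinus m F a b) d * x) hpy0 hiy0 hyr'
  have hp₁ : Cfsg.IsSemisimilarityPair (Cfsg.quadFormMinus m F a b)
      (Matrix.GeneralLinearGroup.scalar ((Fin m ⊕ Fin m) ⊕ Fin 2) u₁ * g) σ :=
    isSemisimilarityPair_scalar_mul (minusQ m F a b) u₁ g σ hp
  have hi₁ : Cfsg.IsInducedBySemilinearPOmega (Cfsg.quadFormMinus m F a b)
      (Matrix.GeneralLinearGroup.scalar ((Fin m ⊕ Fin m) ⊕ Fin 2) u₁ * g) σ x :=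
    isInduced_scalar_mul _ u₁ g σ x hi
  have hp₂ : Cfsg.IsSemisimilarityPair (Cfsg.quadFormMinus m F a b)
      (Matrix.GeneralLinearGroup.scalar ((Fin m ⊕ Fin m) ⊕ Fin 2) u₂ *
        ((d : GL ((Fin m ⊕ Fin m) ⊕ Fin 2) F) * g)) σ :=
    isSemisimilarityPair_scalar_mul (minusQ m F a b) u₂ _ σ hpy0
  have hi₂ : Cfsg.IsInducedBySemilinearPOmega (Cfsg.quadFormMinus m F a b)
      (Matrix.GeneralLinearGroup.scalar ((Fin m ⊕ Fin m) ⊕ Fin 2) u₂ *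
        ((d : GL ((Fin m ⊕ Fin m) ⊕ Fin 2) F) * g)) σ
      (simAut (Cfsg.quadFormMinus m F a b) d * x) :=
    isInduced_scalar_mul _ u₂ _ σ _ hiy0
  obtain ⟨M₁, κ₁, α₁, β₁, hκ₁, hM₁, hf₁, han₁⟩ :=
    minus_normal_form a b hab _ σ hr.pos hσord hp₁ A₁ hA₁
  obtain ⟨M₂, κ₂, α₂, β₂, hκ₂, hM₂, hf₂, han₂⟩ :=
    minus_normal_form a b hab _ σ hr.pos hσord hp₂ A₂ hA₂
  obtain ⟨B', μ, hμ, hsim, hconj, hpres⟩ := exists_class_preserving_conj a b hab σ _ _ M₁ M₂ κ₁ κ₂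
    α₁ β₁ α₂ β₂ hκ₁ hκ₂ hp₁ hM₁ hM₂ hf₁ hf₂ han₁ han₂
  exact conjUnder_of_pairs a b σ x _ _ _ hp₁ hi₁ hp₂ hi₂ B' μ hμ hsim hconj hpres

end final

end Cfsg.Agent.Lib.Helper13
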