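import Mathlib
import Cfsg.Agent.Lib.Helper13.MinusCosetFinal
import Cfsg.Agent.Lib.Helper43.OH90

set_option autoImplicit false
set_option linter.unusedSectionVars false

/-!
helper13: preliminaries for the centraliser of a field automorphism of `PΩ⁻`:
roots of quadratics in even-degree extensions of finite fields, uniqueness of the matrix of a pair
up to scalars, conjugation of pair-induced automorphisms by similarities.
-/

namespace Cfsg.Agent.Lib.Helper13

open Matrix Module Cfsg.Agent.S0791 Cfsg.Agent.Lib.Helper36 Cfsg.Agent.Lib.Helper36.AutO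
  Cfsg.Agent.Lib.Helper44 Cfsg.Agent.Lib.Helper45.PSLField

section root

universe u

/-- a binary form `z₁² + a z₁ z₂ + b z₂²` without non-trivial zero is anisotropic iff the
polynomial has no root -/
theorem aniso_of_no_root {F : Type*} [Field F] (a b : F) (h : ¬ ∃ z : F, z ^ 2 + a * z + b = 0) :
    ∀ z₁ z₂ : F, z₁ ^ 2 + a * z₁ * z₂ + b * z₂ ^ 2 = 0 → z₁ = 0 ∧ z₂ = 0 := by
  intro z₁ z₂ hz
  have hz₂ : z₂ = 0 := by
    by_contra h0
    apply h
    refine ⟨z₁ / z₂, ?_⟩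
    field_simp
    linear_combination hz
  rw [hz₂] at hz
  have : z₁ ^ 2 = 0 := by linear_combination hz
  exact ⟨pow_eq_zero_iff (two_ne_zero) |>.mp this, hz₂⟩

/-- every monic quadratic over a finite field `F` has a root in any finite extension of even
degree -/
theorem exists_root_of_even_finrank {F : Type u} {L : Type*} [Field F] [Field L] [Algebra F L]
    [Finite L] (hL : 2 ∣ finrank F L) (a b : F) :
    ∃ r : L, r ^ 2 + algebraMap F L a * r + algebraMap F L b = 0 := by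
  by_cases h : ∃ z : F, z ^ 2 + a * z + b = 0
  · obtain ⟨z, hz⟩ := h
    refine ⟨algebraMap F L z, ?_⟩
    rw [← map_pow, ← map_mul, ← map_add, ← map_add, hz, map_zero]
  · obtain ⟨K, instK, instA, hK, ρ, hρ⟩ :=
      exists_quadratic_root_extension F a b (aniso_of_no_root a b h)
    obtain ⟨φ⟩ := FiniteField.nonempty_algHom_of_finrank_dvd (F := F) (K := K) (L := L)
      (by rw [hK]; exact hL)
    refine ⟨φ ρ, ?_⟩
    have := congrArg φ hρ
    rw [map_add, map_add, map_pow, map_mul, map_zero, φ.commutes, φ.commutes] at this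
    exact this

end root

section fixroot

variable {F : Type*} [Field F] [Finite F]

/-- an anisotropic binary form with coefficients in the fixed field of `σ`: the order of `σ` is
odd -/
theorem odd_orderOf_of_aniso_fixed (σ : RingAut F) (α β : ↥(fixF σ))
    (han : ∀ z₁ z₂ : F, z₁ ^ 2 + (α : F) * z₁ * z₂ + (β : F) * z₂ ^ 2 = 0 → z₁ = 0 ∧ z₂ = 0) :
    Odd (orderOf σ) := by
  by_contra hodd
  rw [Nat.not_odd_iff_even, even_iff_two_dvd] at hodd
  have hfr := finrank_fixF σ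
  obtain ⟨ρ, hρ⟩ := exists_root_of_even_finrank (F := ↥(fixF σ)) (L := F)
    (by rw [hfr]; exact hodd) α β
  have h1 := han ρ 1 (by
    have e1 : algebraMap ↥(fixF σ) F α = (α : F) := rfl
    have e2 : algebraMap ↥(fixF σ) F β = (β : F) := rfl
    rw [e1, e2] at hρ
    linear_combination hρ)
  exact one_ne_zero h1.2

end fixroot

section pairs

variable {ι : Type} [Fintype ι] [DecidableEq ι] {F : Type*} [Field F] [Fintype F]

/-- conjugating a pair-induced automorphism by a similarity -/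
theorem conj_simAut_pair (f : (ι → F) → F) (σ : F ≃+* F) (x y : MulAut (Cfsg.POmega F f))
    (g₁ g₂ : GL ι F) (hp₁ : Cfsg.IsSemisimilarityPair f g₁ σ)
    (hi₁ : Cfsg.IsInducedBySemilinearPOmega f g₁ σ x)
    (hp₂ : Cfsg.IsSemisimilarityPair f g₂ σ)
    (hi₂ : Cfsg.IsInducedBySemilinearPOmega f g₂ σ y)
    (Bs : ↥(Cfsg.Geo.quadSimilarityGroup f))
    (hconj : (Bs : GL ι F) * g₁ = g₂ * glMap σ (Bs : GL ι F)) :
    y = simAut f Bs * x * (simAut f Bs)⁻¹ := by
  have hih : Cfsg.IsInducedBySemilinearPOmega f (Bs : GL ι F) (RingEquiv.refl F) (simAut f Bs) :=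
    (isInduced_iff _ Bs _).mpr rfl
  have hpB : Cfsg.IsSemisimilarityPair f (Bs : GL ι F) (RingEquiv.refl F) := by
    obtain ⟨c, hc⟩ := Bs.2
    exact ⟨c, fun v => hc v⟩
  have h1 := isInduced_mul f (Bs : GL ι F) g₁ (RingEquiv.refl F) σ (simAut f Bs) x hp₁ hih hi₁
  rw [glMap_refl, trans_refl_eq] at h1
  have h2 := isInduced_inv f (Bs : GL ι F) (RingEquiv.refl F) (simAut f Bs) hih
  have hpB' := isSemisimilarityPair_inv f (Bs : GL ι F) (RingEquiv.refl F) hpB
  have e1 : (RingEquiv.refl F).symm = RingEquiv.refl F := rfl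
  rw [e1, glMap_refl] at h2 hpB'
  have h3 := isInduced_mul f ((Bs : GL ι F) * g₁) (Bs : GL ι F)⁻¹ σ (RingEquiv.refl F)
    (simAut f Bs * x) (simAut f Bs)⁻¹ hpB' h1 h2
  rw [refl_trans_eq] at h3
  have e2 : (Bs : GL ι F) * g₁ * glMap σ (Bs : GL ι F)⁻¹ = g₂ := by
    rw [hconj, map_inv]
    group
  rw [e2] at h3
  exact induced_unique f g₂ σ hp₂ _ _ hi₂ h3

/-- two pairs with the same field automorphism inducing the same automorphism differ by a
scalar -/
theorem pair_unique_up_to_scalar (Q : QuadraticForm F (ι → F))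
    (hQ : (QuadraticMap.polarBilin Q).Nondegenerate) (h7 : 7 ≤ Fintype.card ι)
    (σ : F ≃+* F) (x : MulAut (Cfsg.POmega F (⇑Q))) (g₁ g₂ : GL ι F)
    (hp₁ : Cfsg.IsSemisimilarityPair (⇑Q) g₁ σ)
    (hi₁ : Cfsg.IsInducedBySemilinearPOmega (⇑Q) g₁ σ x)
    (hp₂ : Cfsg.IsSemisimilarityPair (⇑Q) g₂ σ)
    (hi₂ : Cfsg.IsInducedBySemilinearPOmega (⇑Q) g₂ σ x) :
    ∃ l : F, l ≠ 0 ∧ (g₂ : Matrix ι ι F) = l • (g₁ : Matrix ι ι F) := by
  have hp₁' := isSemisimilarityPair_inv (⇑Q) g₁ σ hp₁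
  have hi₁' := isInduced_inv (⇑Q) g₁ σ x hi₁
  have hp := isSemisimilarityPair_mul (⇑Q) g₂ _ σ _ hp₂ hp₁'
  have hi := isInduced_mul (⇑Q) g₂ _ σ _ x x⁻¹ hp₁' hi₂ hi₁'
  rw [mul_inv_cancel, glMap_glMap_symm] at hi
  rw [glMap_glMap_symm] at hp
  obtain ⟨-, l, hl0, hl⟩ := pair_faithful Q hQ h7 _ _ hp hi
  refine ⟨l, hl0, ?_⟩
  have h1 : ((g₂ * g₁⁻¹ : GL ι F) : Matrix ι ι F) = l • (1 : Matrix ι ι F) :=
    matrix_eq_smul_one_of_mulVec' _ l hl
  have h2 : (g₂ : Matrix ι ι F) = ((g₂ * g₁⁻¹ : GL ι F) : Matrix ι ι F) * (g₁ : Matrix ι ι F) := by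
    rw [← Units.val_mul, inv_mul_cancel_right]
  rw [h2, h1, Matrix.smul_mul, Matrix.one_mul]

/-- the kernel of `simAut` consists of the scalar matrices -/
theorem simAut_eq_one_iff (Q : QuadraticForm F (ι → F))
    (hQ : (QuadraticMap.polarBilin Q).Nondegenerate) (h7 : 7 ≤ Fintype.card ι)
    (g : ↥(Cfsg.Geo.quadSimilarityGroup (⇑Q))) :
    simAut (⇑Q) g = 1 ↔ ∃ l : F, ((g : GL ι F) : Matrix ι ι F) = l • (1 : Matrix ι ι F) := by
  constructor
  · intro h
    have hi : Cfsg.IsInducedBySemilinearPOmega (⇑Q) (g : GL ι F) (RingEquiv.refl F)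
        (1 : MulAut (Cfsg.POmega F (⇑Q))) := by
      rw [← h]
      exact (isInduced_iff _ g _).mpr rfl
    have hp : Cfsg.IsSemisimilarityPair (⇑Q) (g : GL ι F) (RingEquiv.refl F) := by
      obtain ⟨c, hc⟩ := g.2
      exact ⟨c, fun v => hc v⟩
    obtain ⟨-, l, -, hl⟩ := pair_faithful Q hQ h7 _ _ hp hi
    exact ⟨l, matrix_eq_smul_one_of_mulVec' _ l hl⟩
  · rintro ⟨l, hl⟩
    exact Cfsg.Agent.Lib.Helper43.simAut_eq_one_of_scalar (⇑Q) g l hl

end pairs

end Cfsg.Agent.Lib.Helper13
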