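import Mathlib
import Cfsg.Agent.Lib.Helper13.MinusCent1
import Cfsg.Agent.Lib.Helper79.RankMap

set_option autoImplicit false
set_option linter.unusedSectionVars false

/-!
helper13: the class of a similarity of a hyperbolic quadratic space (whether it preserves or swaps
the two families of maximal totally singular subspaces) read off from the rank of the matrix of
polar values `B(uᵢ, h uⱼ)` on a basis of one maximal totally singular subspace.  This is stable
under field extensions and under transport by similarities.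
-/

namespace Cfsg.Agent.Lib.Helper13

open Matrix Module Cfsg.Agent.S0791 Cfsg.Agent.Lib.Helper36 Cfsg.Agent.Lib.Helper36.AutO
  Cfsg.Agent.Lib.Helper44

section polarMat

variable {ι : Type} [Fintype ι] [DecidableEq ι] {K : Type*} [Field K]
  {κ : Type} [Fintype κ] [DecidableEq κ]

/-- the matrix of polar values `B(uᵢ, h uⱼ)` -/
def polarMat (Q : QuadraticForm K (ι → K)) (u : κ → ι → K) (h : Matrix ι ι K) : Matrix κ κ K :=
  Matrix.of fun i j => QuadraticMap.polar (⇑Q) (u i) (h *ᵥ u j)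

omit [DecidableEq ι] [DecidableEq κ] in
theorem polarMat_apply (Q : QuadraticForm K (ι → K)) (u : κ → ι → K) (h : Matrix ι ι K)
    (i j : κ) : polarMat Q u h i j = QuadraticMap.polar (⇑Q) (u i) (h *ᵥ u j) := rfl

omit [DecidableEq ι] [DecidableEq κ] in
theorem polar_linearCombination_left (Q : QuadraticForm K (ι → K)) (u : κ → ι → K)
    (y : κ → K) (z : ι → K) :
    QuadraticMap.polar (⇑Q) (Fintype.linearCombination K u y) z =
      ∑ i, y i * QuadraticMap.polar (⇑Q) (u i) z := by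
  have h1 : QuadraticMap.polar (⇑Q) (Fintype.linearCombination K u y) z =
      (QuadraticMap.polarBilin Q).flip z (Fintype.linearCombination K u y) := rfl
  rw [h1, Fintype.linearCombination_apply, map_sum]
  apply Finset.sum_congr rfl
  intro i _
  rw [map_smul]
  rfl

omit [DecidableEq ι] [DecidableEq κ] in
theorem polarMat_mulVec (Q : QuadraticForm K (ι → K)) (u : κ → ι → K) (h : Matrix ι ι K)
    (y : κ → K) (i : κ) :
    (polarMat Q u h *ᵥ y) i =
      QuadraticMap.polar (⇑Q) (u i) (h *ᵥ Fintype.linearCombination K u y) := by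
  have h1 : QuadraticMap.polar (⇑Q) (u i) (h *ᵥ Fintype.linearCombination K u y) =
      (QuadraticMap.polarBilin Q (u i)).comp h.mulVecLin (Fintype.linearCombination K u y) := rfl
  rw [h1, Fintype.linearCombination_apply, map_sum]
  change ∑ j, polarMat Q u h i j * y j = _
  apply Finset.sum_congr rfl
  intro j _
  rw [map_smul, smul_eq_mul, mul_comm]
  rfl

/-- the dimension of `U ∩ hU` for a maximal totally singular `U` with basis `u`, through the rank of
the matrix of polar values -/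
theorem finrank_inf_add_rank (Q : QuadraticForm K (ι → K))
    (hQ : (QuadraticMap.polarBilin Q).Nondegenerate) (M : ℕ)
    (hcard : Fintype.card ι = 2 * M) (u : κ → ι → K) (hκ : Fintype.card κ = M)
    (hinj : Function.Injective (Fintype.linearCombination K u))
    (hts : ∀ y, Q (Fintype.linearCombination K u y) = 0) (h : GL ι K) :
    finrank K ↥(LinearMap.range (Fintype.linearCombination K u) ⊓
      (LinearMap.range (Fintype.linearCombination K u)).map
        ((glLinEquiv ι K h : (ι → K) ≃ₗ[K] (ι → K)) : (ι → K) →ₗ[K] (ι → K))) +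
      (polarMat Q u (h : Matrix ι ι K)).rank = M := by
  have hdim : finrank K (ι → K) = 2 * M := by
    rw [Module.finrank_fintype_fun_eq_card, hcard]
  set B := Fintype.linearCombination K u with hB
  set U := LinearMap.range B with hU
  have hUts : IsTS Q U := by
    rintro _ ⟨y, rfl⟩
    exact hts y
  have hfU : finrank K U = M := by
    rw [hU, LinearMap.finrank_range_of_inj hinj, Module.finrank_fintype_fun_eq_card, hκ]
  have hperp : perp Q U = U := hUts.perp_eq_self hQ hdim hfU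
  set H : (ι → K) ≃ₗ[K] (ι → K) := glLinEquiv ι K h with hH
  set f : (κ → K) →ₗ[K] (ι → K) := (H : (ι → K) →ₗ[K] (ι → K)).comp B with hf
  have hfinj : Function.Injective f := by
    rw [hf, LinearMap.coe_comp]
    exact H.injective.comp hinj
  have hfapp : ∀ y, f y = (h : Matrix ι ι K) *ᵥ B y := fun y => rfl
  set P := (polarMat Q u (h : Matrix ι ι K)).mulVecLin with hP
  have hker : LinearMap.ker P = U.comap f := by
    ext y
    rw [LinearMap.mem_ker, Submodule.mem_comap]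
    constructor
    · intro hy
      rw [← hperp, mem_perp]
      rintro _ ⟨y', rfl⟩
      rw [hB, polar_linearCombination_left]
      apply Finset.sum_eq_zero
      intro i _
      have := congrFun hy i
      rw [hP, Matrix.mulVecLin_apply, polarMat_mulVec] at this
      rw [hfapp, this, Pi.zero_apply, mul_zero]
    · intro hy
      rw [← hperp, mem_perp] at hy
      funext i
      rw [hP, Matrix.mulVecLin_apply, polarMat_mulVec, Pi.zero_apply]
      apply hy
      refine ⟨Pi.single i 1, ?_⟩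
      rw [hB, Fintype.linearCombination_apply_single, one_smul]
  have h1 := LinearMap.finrank_range_add_finrank_ker P
  rw [Module.finrank_fintype_fun_eq_card, hκ, hker] at h1
  have h2 : finrank K ↥(U.comap f) = finrank K ↥((U.comap f).map f) :=
    (Submodule.equivMapOfInjective f hfinj (U.comap f)).finrank_eq
  have h3 : (U.comap f).map f = U ⊓ U.map (H : (ι → K) →ₗ[K] (ι → K)) := by
    rw [Submodule.map_comap_eq, hf, LinearMap.range_comp, inf_comm]
  rw [h2, h3] at h1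
  rw [add_comm]
  exact h1

/-- a similarity preserves the two classes iff the matrix of polar values has even rank -/
theorem preserves_iff_even_rank (Q : QuadraticForm K (ι → K))
    (hQ : (QuadraticMap.polarBilin Q).Nondegenerate) (M : ℕ)
    (hcard : Fintype.card ι = 2 * M) (u : κ → ι → K) (hκ : Fintype.card κ = M)
    (hinj : Function.Injective (Fintype.linearCombination K u))
    (hts : ∀ y, Q (Fintype.linearCombination K u y) = 0) (h : GL ι K) (c : K)
    (hh : ∀ z, Q ((h : Matrix ι ι K) *ᵥ z) = c * Q z) :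
    Cfsg.PreservesSingularClasses (⇑Q) (h : Matrix ι ι K) ↔
      Even (polarMat Q u (h : Matrix ι ι K)).rank := by
  have hrank := finrank_inf_add_rank Q hQ M hcard u hκ hinj hts h
  set U := LinearMap.range (Fintype.linearCombination K u) with hU
  have hUts : IsTS Q U := by
    rintro _ ⟨y, rfl⟩
    exact hts y
  have hfU : finrank K U = M := by
    rw [hU, LinearMap.finrank_range_of_inj hinj, Module.finrank_fintype_fun_eq_card, hκ]
  have hd : M - finrank K ↥(U ⊓ U.map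
      ((glLinEquiv ι K h : (ι → K) ≃ₗ[K] (ι → K)) : (ι → K) →ₗ[K] (ι → K))) =
      (polarMat Q u (h : Matrix ι ι K)).rank := by
    omega
  rw [← hd]
  constructor
  · intro hp
    have h1 := hp U (isMaxTS_of_finrank Q hQ M hcard U hUts hfU)
    unfold Cfsg.SameParityClass Cfsg.imageSubmodule at h1
    have hlin : Matrix.toLin' (h : Matrix ι ι K) =
        ((glLinEquiv ι K h : (ι → K) ≃ₗ[K] (ι → K)) : (ι → K) →ₗ[K] (ι → K)) := by
      rw [Matrix.toLin'_apply', glLinEquiv_coe]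
    rw [hlin, hfU] at h1
    exact h1
  · intro he
    exact preserves_of_even_delta Q hQ M hcard U hUts hfU h c hh he

end polarMat

section minus

variable {K : Type*} [Field K] {m : ℕ}

/-- a basis of a maximal totally singular subspace of the split minus-type form -/
def uvec (m : ℕ) (ρ : K) : Fin m ⊕ Unit → ((Fin m ⊕ Fin m) ⊕ Fin 2 → K)
  | Sum.inl i => Pi.single (Sum.inl (Sum.inl i)) 1
  | Sum.inr _ => Sum.elim 0 ![ρ, 1]

theorem linearCombination_uvec (ρ : K) (y : Fin m ⊕ Unit → K) :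
    Fintype.linearCombination K (uvec m ρ) y =
      minusInl m ρ (fun i => y (Sum.inl i), y (Sum.inr ())) := by
  rw [Fintype.linearCombination_apply, Fintype.sum_sum_type]
  funext k
  simp only [Finset.univ_unique, Finset.sum_singleton, Pi.add_apply, Finset.sum_apply,
    Pi.smul_apply, smul_eq_mul, uvec]
  rcases k with (k | k) | k
  · simp [minusInl, Pi.single_apply]
  · simp [minusInl]
  · fin_cases k
    · simp [minusInl, mul_comm]
    · simp [minusInl]

theorem linearCombination_uvec_injective (ρ : K) :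
    Function.Injective (Fintype.linearCombination K (uvec m ρ)) := by
  intro y y' h
  rw [linearCombination_uvec, linearCombination_uvec] at h
  have h1 := minusInl_injective m ρ h
  funext k
  rcases k with k | k
  · exact congrFun (congrArg Prod.fst h1) k
  · exact congrArg Prod.snd h1

theorem quadFormMinus_linearCombination_uvec (a b ρ : K) (hρ : ρ ^ 2 + a * ρ + b = 0)
    (y : Fin m ⊕ Unit → K) :
    Cfsg.quadFormMinus m K a b (Fintype.linearCombination K (uvec m ρ) y) = 0 := by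
  rw [linearCombination_uvec, ← minusForm_coe]
  exact range_minusInl_ts m a b ρ hρ _ ⟨_, rfl⟩

theorem rvec_uvec {K₀ : Type*} [Field K₀] (ψ : K₀ →+* K) (ρ : K₀) (k : Fin m ⊕ Unit) :
    rvec ψ (uvec m ρ k) = uvec m (ψ ρ) k := by
  rcases k with k | k
  · exact rvec_single ψ _
  · funext i
    rcases i with (i | i) | i
    · simp [rvec, uvec]
    · simp [rvec, uvec]
    · fin_cases i
      · simp [rvec, uvec]
      · simp [rvec, uvec]

end minus

section transfer

variable {K₀ K : Type*} [Field K₀] [Field K] {m : ℕ}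

theorem minusQ_nondeg_of_disc (m : ℕ) (a b : K) (hdisc : a ^ 2 - 4 * b ≠ 0) :
    (QuadraticMap.polarBilin (minusQ m K a b)).Nondegenerate := by
  rw [minusQ_eq_minusForm]
  exact minusForm_nondeg_of_disc m a b hdisc

theorem rank_smul_of_ne_zero {κ : Type} [Fintype κ] [DecidableEq κ] (c : K) (hc : c ≠ 0)
    (X : Matrix κ κ K) : (c • X).rank = X.rank := by
  have h1 : c • X = (c • (1 : Matrix κ κ K)) * X := by rw [Matrix.smul_mul, Matrix.one_mul]
  rw [h1]
  apply Matrix.rank_mul_eq_right_of_isUnit_det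
  rw [Matrix.det_smul, Matrix.det_one, mul_one]
  exact (pow_ne_zero _ hc).isUnit

/-- the polar form under a similarity between two forms -/
theorem polar_of_similarity₂ {ι : Type} [Fintype ι] (Q Q' : (ι → K) → K) (N : Matrix ι ι K) (κ : K)
    (hN : ∀ w, Q (N *ᵥ w) = κ * Q' w) (x y : ι → K) :
    QuadraticMap.polar Q (N *ᵥ x) (N *ᵥ y) = κ * QuadraticMap.polar Q' x y := by
  unfold QuadraticMap.polar
  rw [← Matrix.mulVec_add, hN, hN, hN]
  ring

/-- **transfer of the class** of a similarity along a homomorphism of fields and a similarity of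
forms -/
theorem preserves_transfer (ψ : K₀ →+* K) (a₀ b₀ ρ₀ : K₀)
    (hρ₀ : ρ₀ ^ 2 + a₀ * ρ₀ + b₀ = 0) (hdisc₀ : a₀ ^ 2 - 4 * b₀ ≠ 0)
    (a b : K) (hdisc : a ^ 2 - 4 * b ≠ 0)
    (A₀ : GL ((Fin m ⊕ Fin m) ⊕ Fin 2) K₀) (c₀ : K₀)
    (hA₀ : ∀ z, Cfsg.quadFormMinus m K₀ a₀ b₀
      ((A₀ : Matrix ((Fin m ⊕ Fin m) ⊕ Fin 2) ((Fin m ⊕ Fin m) ⊕ Fin 2) K₀) *ᵥ z) =
        c₀ * Cfsg.quadFormMinus m K₀ a₀ b₀ z)
    (N : GL ((Fin m ⊕ Fin m) ⊕ Fin 2) K) (κ : K) (hκ : κ ≠ 0)
    (hN : ∀ w, Cfsg.quadFormMinus m K a b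
      ((N : Matrix ((Fin m ⊕ Fin m) ⊕ Fin 2) ((Fin m ⊕ Fin m) ⊕ Fin 2) K) *ᵥ w) =
        κ * Cfsg.quadFormMinus m K (ψ a₀) (ψ b₀) w) :
    Cfsg.PreservesSingularClasses (Cfsg.quadFormMinus m K₀ a₀ b₀)
        (A₀ : Matrix ((Fin m ⊕ Fin m) ⊕ Fin 2) ((Fin m ⊕ Fin m) ⊕ Fin 2) K₀) ↔
      Cfsg.PreservesSingularClasses (Cfsg.quadFormMinus m K a b)
        ((N * Matrix.GeneralLinearGroup.map ψ A₀ * N⁻¹ : GL ((Fin m ⊕ Fin m) ⊕ Fin 2) K) :
          Matrix ((Fin m ⊕ Fin m) ⊕ Fin 2) ((Fin m ⊕ Fin m) ⊕ Fin 2) K) := by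
  classical
  have hcard := card_minus_index m
  have hκ' : Fintype.card (Fin m ⊕ Unit) = m + 1 := by simp
  have hQ₀ := minusQ_nondeg_of_disc m a₀ b₀ hdisc₀
  have hQ := minusQ_nondeg_of_disc m a b hdisc
  have hρ : (ψ ρ₀) ^ 2 + ψ a₀ * ψ ρ₀ + ψ b₀ = 0 := by
    rw [← map_pow, ← map_mul, ← map_add, ← map_add, hρ₀, map_zero]
  obtain ⟨h, hh⟩ : ∃ h : GL ((Fin m ⊕ Fin m) ⊕ Fin 2) K,
      h = N * Matrix.GeneralLinearGroup.map ψ A₀ * N⁻¹ := ⟨_, rfl⟩
  rw [← hh]
  have hAψ : ∀ w, Cfsg.quadFormMinus m K (ψ a₀) (ψ b₀)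
      (((A₀ : Matrix ((Fin m ⊕ Fin m) ⊕ Fin 2) ((Fin m ⊕ Fin m) ⊕ Fin 2) K₀).map ψ) *ᵥ w) =
      ψ c₀ * Cfsg.quadFormMinus m K (ψ a₀) (ψ b₀) w := by
    intro w
    exact similarity_extend' ψ (Cfsg.quadFormMinus m K₀ a₀ b₀) (minusQ m K (ψ a₀) (ψ b₀))
      (fun v => quadFormMinus_rvec ψ m a₀ b₀ v) _ c₀ hA₀ w
  have hmapcoe : ((Matrix.GeneralLinearGroup.map ψ A₀ : GL ((Fin m ⊕ Fin m) ⊕ Fin 2) K) :
      Matrix ((Fin m ⊕ Fin m) ⊕ Fin 2) ((Fin m ⊕ Fin m) ⊕ Fin 2) K) =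
      (A₀ : Matrix ((Fin m ⊕ Fin m) ⊕ Fin 2) ((Fin m ⊕ Fin m) ⊕ Fin 2) K₀).map ψ := rfl
  have hhN : ∀ w, (h : Matrix ((Fin m ⊕ Fin m) ⊕ Fin 2) ((Fin m ⊕ Fin m) ⊕ Fin 2) K) *ᵥ
      ((N : Matrix ((Fin m ⊕ Fin m) ⊕ Fin 2) ((Fin m ⊕ Fin m) ⊕ Fin 2) K) *ᵥ w) =
      (N : Matrix ((Fin m ⊕ Fin m) ⊕ Fin 2) ((Fin m ⊕ Fin m) ⊕ Fin 2) K) *ᵥ
        (((A₀ : Matrix ((Fin m ⊕ Fin m) ⊕ Fin 2) ((Fin m ⊕ Fin m) ⊕ Fin 2) K₀).map ψ) *ᵥ w) := by
    intro w
    have e : h * N = N * Matrix.GeneralLinearGroup.map ψ A₀ := by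
      rw [hh]
      group
    rw [Matrix.mulVec_mulVec, Matrix.mulVec_mulVec, ← Units.val_mul, e, Units.val_mul, hmapcoe]
  have hNinv : ∀ z : (Fin m ⊕ Fin m) ⊕ Fin 2 → K,
      z = (N : Matrix ((Fin m ⊕ Fin m) ⊕ Fin 2) ((Fin m ⊕ Fin m) ⊕ Fin 2) K) *ᵥ
        (((N⁻¹ : GL ((Fin m ⊕ Fin m) ⊕ Fin 2) K) :
          Matrix ((Fin m ⊕ Fin m) ⊕ Fin 2) ((Fin m ⊕ Fin m) ⊕ Fin 2) K) *ᵥ z) := by
    intro z
    rw [Matrix.mulVec_mulVec, ← Units.val_mul, mul_inv_cancel, Units.val_one, Matrix.one_mulVec]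
  have hhsim : ∀ z, Cfsg.quadFormMinus m K a b
      ((h : Matrix ((Fin m ⊕ Fin m) ⊕ Fin 2) ((Fin m ⊕ Fin m) ⊕ Fin 2) K) *ᵥ z) =
      ψ c₀ * Cfsg.quadFormMinus m K a b z := by
    intro z
    have hz := hNinv z
    obtain ⟨w, hw⟩ : ∃ w, w = ((N⁻¹ : GL ((Fin m ⊕ Fin m) ⊕ Fin 2) K) :
          Matrix ((Fin m ⊕ Fin m) ⊕ Fin 2) ((Fin m ⊕ Fin m) ⊕ Fin 2) K) *ᵥ z := ⟨_, rfl⟩
    rw [← hw] at hz
    rw [hz, hhN, hN, hAψ, hN]
    ring
  -- the basis of the transported subspace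
  obtain ⟨u, hu⟩ : ∃ u : Fin m ⊕ Unit → ((Fin m ⊕ Fin m) ⊕ Fin 2 → K),
      u = fun k => (N : Matrix ((Fin m ⊕ Fin m) ⊕ Fin 2) ((Fin m ⊕ Fin m) ⊕ Fin 2) K) *ᵥ
        uvec m (ψ ρ₀) k := ⟨_, rfl⟩
  have hlc : ∀ y, Fintype.linearCombination K u y =
      (N : Matrix ((Fin m ⊕ Fin m) ⊕ Fin 2) ((Fin m ⊕ Fin m) ⊕ Fin 2) K) *ᵥ
        Fintype.linearCombination K (uvec m (ψ ρ₀)) y := by
    intro y
    have e : (N : Matrix ((Fin m ⊕ Fin m) ⊕ Fin 2) ((Fin m ⊕ Fin m) ⊕ Fin 2) K) *ᵥ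
        Fintype.linearCombination K (uvec m (ψ ρ₀)) y =
        (N : Matrix ((Fin m ⊕ Fin m) ⊕ Fin 2) ((Fin m ⊕ Fin m) ⊕ Fin 2) K).mulVecLin
          (Fintype.linearCombination K (uvec m (ψ ρ₀)) y) := rfl
    rw [e, Fintype.linearCombination_apply, Fintype.linearCombination_apply, map_sum]
    apply Finset.sum_congr rfl
    intro i _
    rw [map_smul, hu]
    rfl
  have hinj : Function.Injective (Fintype.linearCombination K u) := by
    intro y y' hy
    rw [hlc, hlc] at hy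
    exact linearCombination_uvec_injective _
      ((glLinEquiv ((Fin m ⊕ Fin m) ⊕ Fin 2) K N).injective hy)
  have hts : ∀ y, minusQ m K a b (Fintype.linearCombination K u y) = 0 := by
    intro y
    rw [hlc]
    change Cfsg.quadFormMinus m K a b _ = 0
    rw [hN, quadFormMinus_linearCombination_uvec (ψ a₀) (ψ b₀) (ψ ρ₀) hρ, mul_zero]
  have e₁ : Cfsg.PreservesSingularClasses (Cfsg.quadFormMinus m K₀ a₀ b₀)
      (A₀ : Matrix ((Fin m ⊕ Fin m) ⊕ Fin 2) ((Fin m ⊕ Fin m) ⊕ Fin 2) K₀) ↔ _ :=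
    preserves_iff_even_rank (minusQ m K₀ a₀ b₀) hQ₀ (m + 1) hcard (uvec m ρ₀) hκ'
      (linearCombination_uvec_injective ρ₀)
      (quadFormMinus_linearCombination_uvec a₀ b₀ ρ₀ hρ₀) A₀ c₀ hA₀
  have e₂ : Cfsg.PreservesSingularClasses (Cfsg.quadFormMinus m K a b)
      (h : Matrix ((Fin m ⊕ Fin m) ⊕ Fin 2) ((Fin m ⊕ Fin m) ⊕ Fin 2) K) ↔ _ :=
    preserves_iff_even_rank (minusQ m K a b) hQ (m + 1) hcard u hκ' hinj hts h (ψ c₀) hhsim
  rw [e₁, e₂]
  have hP : polarMat (minusQ m K a b) u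
      (h : Matrix ((Fin m ⊕ Fin m) ⊕ Fin 2) ((Fin m ⊕ Fin m) ⊕ Fin 2) K) =
      κ • (polarMat (minusQ m K₀ a₀ b₀) (uvec m ρ₀)
        (A₀ : Matrix ((Fin m ⊕ Fin m) ⊕ Fin 2) ((Fin m ⊕ Fin m) ⊕ Fin 2) K₀)).map ψ := by
    ext i k
    rw [polarMat_apply, Matrix.smul_apply, Matrix.map_apply, polarMat_apply, hu]
    change QuadraticMap.polar (Cfsg.quadFormMinus m K a b) _ _ = _
    rw [hhN, polar_of_similarity₂ (Cfsg.quadFormMinus m K a b)
      (Cfsg.quadFormMinus m K (ψ a₀) (ψ b₀)) _ κ hN, ← rvec_uvec ψ ρ₀ i, ← rvec_uvec ψ ρ₀ k,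
      rvec_mulVec, polar_compat ψ (Cfsg.quadFormMinus m K₀ a₀ b₀)
        (Cfsg.quadFormMinus m K (ψ a₀) (ψ b₀)) (fun v => quadFormMinus_rvec ψ m a₀ b₀ v),
      smul_eq_mul]
    rfl
  rw [hP, rank_smul_of_ne_zero κ hκ, Cfsg.Agent.Lib.Helper79.rank_map_field ψ]

end transfer

end Cfsg.Agent.Lib.Helper13
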