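import Mathlib
import Cfsg.Agent.Lib.Helper13.MinusCent2

set_option autoImplicit false
set_option linter.unusedSectionVars false

/-!
helper13: the class character of the similarity group of the minus-type form (all
characteristics), its independence of the quadratic extension, and the transfer along a subfield.
-/

namespace Cfsg.Agent.Lib.Helper13

open Matrix Module Cfsg.Agent.S0791 Cfsg.Agent.Lib.Helper36 Cfsg.Agent.Lib.Helper36.AutO
  Cfsg.Agent.Lib.Helper44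

section general

variable {ι : Type} [Fintype ι] [DecidableEq ι] {K : Type*} [Field K]
  {κ : Type} [Fintype κ] [DecidableEq κ]

/-- additivity mod 2 of the rank of the matrix of polar values -/
theorem even_rank_mul (Q : QuadraticForm K (ι → K))
    (hQ : (QuadraticMap.polarBilin Q).Nondegenerate) (M : ℕ)
    (hcard : Fintype.card ι = 2 * M) (u : κ → ι → K) (hκ : Fintype.card κ = M)
    (hinj : Function.Injective (Fintype.linearCombination K u))
    (hts : ∀ y, Q (Fintype.linearCombination K u y) = 0) (h₁ h₂ : GL ι K) (c₁ c₂ : K)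
    (hh₁ : ∀ z, Q ((h₁ : Matrix ι ι K) *ᵥ z) = c₁ * Q z)
    (hh₂ : ∀ z, Q ((h₂ : Matrix ι ι K) *ᵥ z) = c₂ * Q z) :
    Even ((polarMat Q u (h₁ : Matrix ι ι K)).rank + (polarMat Q u (h₂ : Matrix ι ι K)).rank +
      (polarMat Q u ((h₁ * h₂ : GL ι K) : Matrix ι ι K)).rank) := by
  have hdim : finrank K (ι → K) = 2 * M := by
    rw [Module.finrank_fintype_fun_eq_card, hcard]
  have r₁ := finrank_inf_add_rank Q hQ M hcard u hκ hinj hts h₁
  have r₂ := finrank_inf_add_rank Q hQ M hcard u hκ hinj hts h₂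
  have r₁₂ := finrank_inf_add_rank Q hQ M hcard u hκ hinj hts (h₁ * h₂)
  set U := LinearMap.range (Fintype.linearCombination K u) with hU
  have hUts : IsTS Q U := by
    rintro _ ⟨y, rfl⟩
    exact hts y
  have hfU : finrank K U = M := by
    rw [hU, LinearMap.finrank_range_of_inj hinj, Module.finrank_fintype_fun_eq_card, hκ]
  set H₁ : (ι → K) ≃ₗ[K] (ι → K) := glLinEquiv ι K h₁ with hH₁
  set H₂ : (ι → K) ≃ₗ[K] (ι → K) := glLinEquiv ι K h₂ with hH₂
  have hH₁₂ : glLinEquiv ι K (h₁ * h₂) = H₁ * H₂ := map_mul _ _ _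
  rw [hH₁₂] at r₁₂
  have hmap₁ : ∀ W : Submodule K (ι → K), IsTS Q W →
      IsTS Q (W.map (H₁ : (ι → K) →ₗ[K] (ι → K))) := by
    rintro W hW _ ⟨w, hw, rfl⟩
    change Q ((h₁ : Matrix ι ι K) *ᵥ w) = 0
    rw [hh₁, hW w hw, mul_zero]
  have hmap₂ : IsTS Q (U.map (H₂ : (ι → K) →ₗ[K] (ι → K))) := by
    rintro _ ⟨w, hw, rfl⟩
    change Q ((h₂ : Matrix ι ι K) *ᵥ w) = 0
    rw [hh₂, hUts w hw, mul_zero]
  have hprod : U.map ((H₁ * H₂ : (ι → K) ≃ₗ[K] (ι → K)) : (ι → K) →ₗ[K] (ι → K)) =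
      (U.map (H₂ : (ι → K) →ₗ[K] (ι → K))).map (H₁ : (ι → K) →ₗ[K] (ι → K)) :=
    map_mul_linearEquiv U H₁ H₂
  rw [hprod] at r₁₂
  have e := even_delta_sum' Q hQ hdim hUts hfU (hmap₁ U hUts)
    (by rw [LinearEquiv.finrank_map_eq, hfU]) (hmap₁ _ hmap₂)
    (by rw [LinearEquiv.finrank_map_eq, LinearEquiv.finrank_map_eq, hfU])
  have e3 : finrank K ↥(U.map (H₁ : (ι → K) →ₗ[K] (ι → K)) ⊓
      (U.map (H₂ : (ι → K) →ₗ[K] (ι → K))).map (H₁ : (ι → K) →ₗ[K] (ι → K))) =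
      finrank K ↥(U ⊓ U.map (H₂ : (ι → K) →ₗ[K] (ι → K))) := by
    rw [← Submodule.map_inf (H₁ : (ι → K) →ₗ[K] (ι → K)) H₁.injective,
      LinearEquiv.finrank_map_eq]
  rw [e3] at e
  rw [Nat.even_iff] at e ⊢
  omega

/-- scalar matrices have zero matrix of polar values -/
theorem polarMat_scalar (Q : QuadraticForm K (ι → K)) (u : κ → ι → K)
    (hts : ∀ y, Q (Fintype.linearCombination K u y) = 0) (l : K) :
    polarMat Q u (l • (1 : Matrix ι ι K)) = 0 := by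
  ext i k
  rw [polarMat_apply, Matrix.smul_mulVec, Matrix.one_mulVec, QuadraticMap.polar_smul_right,
    Matrix.zero_apply]
  have h1 : u i = Fintype.linearCombination K u (Pi.single i 1) := by
    rw [Fintype.linearCombination_apply_single, one_smul]
  have h2 : u k = Fintype.linearCombination K u (Pi.single k 1) := by
    rw [Fintype.linearCombination_apply_single, one_smul]
  have h3 : QuadraticMap.polar (⇑Q) (u i) (u k) = 0 := by
    unfold QuadraticMap.polar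
    rw [h1, h2, ← map_add, hts, hts, hts]
    ring
  rw [h3, smul_zero]

/-- a reflection has matrix of polar values of rank one -/
theorem rank_polarMat_refl (Q : QuadraticForm K (ι → K))
    (hQ : (QuadraticMap.polarBilin Q).Nondegenerate) (M : ℕ)
    (hcard : Fintype.card ι = 2 * M) (u : κ → ι → K) (hκ : Fintype.card κ = M)
    (hinj : Function.Injective (Fintype.linearCombination K u))
    (hts : ∀ y, Q (Fintype.linearCombination K u y) = 0) (v : ι → K) (hv : Q v ≠ 0) :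
    (polarMat Q u (Cfsg.reflectionMatrix (⇑Q) v)).rank = 1 := by
  have hdim : finrank K (ι → K) = 2 * M := by
    rw [Module.finrank_fintype_fun_eq_card, hcard]
  have r₁ := finrank_inf_add_rank Q hQ M hcard u hκ hinj hts (reflGL Q v hv)
  set U := LinearMap.range (Fintype.linearCombination K u) with hU
  have hUts : IsTS Q U := by
    rintro _ ⟨y, rfl⟩
    exact hts y
  have hfU : finrank K U = M := by
    rw [hU, LinearMap.finrank_range_of_inj hinj, Module.finrank_fintype_fun_eq_card, hκ]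
  have hmem : glLinEquiv ι K (reflGL Q v hv) ∈ reflSet Q := by
    refine ⟨v, hv, ?_⟩
    intro z
    rw [glLinEquiv_apply]
    exact reflectionMatrix_mulVec_eq_reflLin Q v z
  have h1 := finrank_inf_map_refl Q hQ hdim hUts hfU _ hmem
  have h2 : ((reflGL Q v hv : GL ι K) : Matrix ι ι K) = Cfsg.reflectionMatrix (⇑Q) v := rfl
  rw [h2] at r₁
  omega

end general

section fieldhom

/-- a homomorphism between quadratic extensions compatible with a homomorphism of the (finite)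
base fields -/
theorem exists_compat_hom {F₀ F K₀ K : Type*} [Field F₀] [Field F] [Field K₀] [Field K]
    [Finite F] [Algebra F₀ K₀] [Algebra F K] (hK₀ : finrank F₀ K₀ = 2) (hK : finrank F K = 2)
    (j : F₀ →+* F) :
    ∃ ψ : K₀ →+* K, ∀ c : F₀, ψ (algebraMap F₀ K₀ c) = algebraMap F K (j c) := by
  letI : Algebra F₀ F := j.toAlgebra
  letI : Algebra F₀ K := ((algebraMap F K).comp j).toAlgebra
  haveI : IsScalarTower F₀ F K := IsScalarTower.of_algebraMap_eq (fun x => rfl)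
  haveI : Module.Finite F K := Module.finite_of_finrank_pos (by rw [hK]; norm_num)
  haveI : Finite K := Module.finite_of_finite F (M := K)
  have h1 : finrank F₀ K = finrank F₀ F * 2 := by
    rw [← hK]
    exact (Module.finrank_mul_finrank F₀ F K).symm
  obtain ⟨φ⟩ := FiniteField.nonempty_algHom_of_finrank_dvd (F := F₀) (K := K₀) (L := K)
    (by rw [hK₀, h1]; exact dvd_mul_left 2 _)
  exact ⟨φ.toRingHom, fun c => φ.commutes c⟩

variable {ι : Type} [Fintype ι] [DecidableEq ι] {R K : Type*} [CommRing R] [CommRing K]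

/-- a similarity between two forms over `R` stays one between compatible forms over `K` -/
theorem similarity_extend₂ (j : R →+* K) (QR QR' : (ι → R) → R) (QK QK' : QuadraticForm K (ι → K))
    (hcompat : ∀ v : ι → R, QK (rvec j v) = j (QR v))
    (hcompat' : ∀ v : ι → R, QK' (rvec j v) = j (QR' v))
    (A : Matrix ι ι R) (c : R) (hA : ∀ v : ι → R, QR (A *ᵥ v) = c * QR' v) (w : ι → K) :
    QK ((A.map j) *ᵥ w) = j c * QK' w := by
  have key : QK.comp (Matrix.toLin' (A.map j)) = j c • QK' := by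
    apply quadraticForm_ext_of_rational j
    intro v
    rw [QuadraticMap.comp_apply, Matrix.toLin'_apply, rvec_mulVec, hcompat, hA, map_mul,
      _root_.smul_apply, hcompat', smul_eq_mul]
  have := congrArg (fun Q : QuadraticForm K (ι → K) => Q w) key
  simpa [QuadraticMap.comp_apply, Matrix.toLin'_apply] using this

end fieldhom

section conj

variable {ι : Type} [Fintype ι] [DecidableEq ι] {K : Type*} [Field K]

/-- conjugating a similarity of `Q'` by a similarity `N : Q' → Q` -/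
theorem similarity_conj (Q Q' : (ι → K) → K) (N : GL ι K) (κ : K)
    (hN : ∀ w, Q ((N : Matrix ι ι K) *ᵥ w) = κ * Q' w) (A' : GL ι K) (c : K)
    (hA' : ∀ w, Q' ((A' : Matrix ι ι K) *ᵥ w) = c * Q' w) (z : ι → K) :
    Q (((N * A' * N⁻¹ : GL ι K) : Matrix ι ι K) *ᵥ z) = c * Q z := by
  obtain ⟨w, hw⟩ : ∃ w, w = ((N⁻¹ : GL ι K) : Matrix ι ι K) *ᵥ z := ⟨_, rfl⟩
  have hz : z = (N : Matrix ι ι K) *ᵥ w := by
    rw [hw, Matrix.mulVec_mulVec, ← Units.val_mul, mul_inv_cancel, Units.val_one,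
      Matrix.one_mulVec]
  have e : ((N * A' * N⁻¹ : GL ι K) : Matrix ι ι K) *ᵥ z =
      (N : Matrix ι ι K) *ᵥ ((A' : Matrix ι ι K) *ᵥ w) := by
    rw [hw, Matrix.mulVec_mulVec, Matrix.mulVec_mulVec, ← Units.val_mul, ← Units.val_mul]
  rw [e, hN, hA', hz, hN]
  ring

end conj

section lemmaT

variable {F₀ F K₀ K : Type*} [Field F₀] [Field F] [Field K₀] [Field K] [Finite F₀] [Finite F]
  [Algebra F₀ K₀] [Algebra F K] {m : ℕ}

omit [Finite F₀] in
theorem disc_map_ne_zero (a b : F) (hab : ∀ z₁ z₂ : F, z₁ ^ 2 + a * z₁ * z₂ + b * z₂ ^ 2 = 0 →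
    z₁ = 0 ∧ z₂ = 0) : (algebraMap F K a) ^ 2 - 4 * algebraMap F K b ≠ 0 := by
  have := Fintype.ofFinite F
  have h0 := disc_ne_zero_of_aniso' a b hab
  intro h1
  apply h0
  apply (algebraMap F K).injective
  rw [map_zero, ← h1, map_sub, map_pow, map_mul]
  congr 2
  exact map_ofNat (algebraMap F K) 4

/-- **transfer of the class along a subfield**, at the level of chosen quadratic extensions -/
theorem preserves_ext_transfer (hK₀ : finrank F₀ K₀ = 2) (hK : finrank F K = 2) (j : F₀ →+* F)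
    (a₀ b₀ : F₀) (hab₀ : ∀ z₁ z₂ : F₀, z₁ ^ 2 + a₀ * z₁ * z₂ + b₀ * z₂ ^ 2 = 0 → z₁ = 0 ∧ z₂ = 0)
    (a b : F) (hab : ∀ z₁ z₂ : F, z₁ ^ 2 + a * z₁ * z₂ + b * z₂ ^ 2 = 0 → z₁ = 0 ∧ z₂ = 0)
    (A : GL ((Fin m ⊕ Fin m) ⊕ Fin 2) F₀) (c₀ : F₀)
    (hA : ∀ z, Cfsg.quadFormMinus m F₀ a₀ b₀
      ((A : Matrix ((Fin m ⊕ Fin m) ⊕ Fin 2) ((Fin m ⊕ Fin m) ⊕ Fin 2) F₀) *ᵥ z) =
        c₀ * Cfsg.quadFormMinus m F₀ a₀ b₀ z)
    (M : GL ((Fin m ⊕ Fin m) ⊕ Fin 2) F) (κ : F) (hκ : κ ≠ 0)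
    (hM : ∀ w, Cfsg.quadFormMinus m F a b
      ((M : Matrix ((Fin m ⊕ Fin m) ⊕ Fin 2) ((Fin m ⊕ Fin m) ⊕ Fin 2) F) *ᵥ w) =
        κ * Cfsg.quadFormMinus m F (j a₀) (j b₀) w) :
    Cfsg.PreservesSingularClasses
        (Cfsg.quadFormMinus m K₀ (algebraMap F₀ K₀ a₀) (algebraMap F₀ K₀ b₀))
        ((A : Matrix ((Fin m ⊕ Fin m) ⊕ Fin 2) ((Fin m ⊕ Fin m) ⊕ Fin 2) F₀).map
          (algebraMap F₀ K₀)) ↔
      Cfsg.PreservesSingularClasses
        (Cfsg.quadFormMinus m K (algebraMap F K a) (algebraMap F K b))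
        (((M * Matrix.GeneralLinearGroup.map j A * M⁻¹ : GL ((Fin m ⊕ Fin m) ⊕ Fin 2) F) :
          Matrix ((Fin m ⊕ Fin m) ⊕ Fin 2) ((Fin m ⊕ Fin m) ⊕ Fin 2) F).map (algebraMap F K)) := by
  obtain ⟨ψ, hψ⟩ := exists_compat_hom hK₀ hK j
  have : Module.Finite F₀ K₀ := Module.finite_of_finrank_pos (by rw [hK₀]; norm_num)
  have : Finite K₀ := Module.finite_of_finite F₀ (M := K₀)
  obtain ⟨ρ₀, hρ₀⟩ := exists_root_of_even_finrank (F := F₀) (L := K₀) (by rw [hK₀]) a₀ b₀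
  have hd₀ := disc_map_ne_zero (K := K₀) a₀ b₀ hab₀
  have hd := disc_map_ne_zero (K := K) a b hab
  have hA' : ∀ z, Cfsg.quadFormMinus m K₀ (algebraMap F₀ K₀ a₀) (algebraMap F₀ K₀ b₀)
      (((Matrix.GeneralLinearGroup.map (algebraMap F₀ K₀) A : GL ((Fin m ⊕ Fin m) ⊕ Fin 2) K₀) :
        Matrix ((Fin m ⊕ Fin m) ⊕ Fin 2) ((Fin m ⊕ Fin m) ⊕ Fin 2) K₀) *ᵥ z) =
      algebraMap F₀ K₀ c₀ *
        Cfsg.quadFormMinus m K₀ (algebraMap F₀ K₀ a₀) (algebraMap F₀ K₀ b₀) z := by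
    intro z
    exact similarity_extend' (algebraMap F₀ K₀) (Cfsg.quadFormMinus m F₀ a₀ b₀)
      (minusQ m K₀ (algebraMap F₀ K₀ a₀) (algebraMap F₀ K₀ b₀))
      (fun v => quadFormMinus_rvec (algebraMap F₀ K₀) m a₀ b₀ v) _ c₀ hA z
  have hN : ∀ w, Cfsg.quadFormMinus m K (algebraMap F K a) (algebraMap F K b)
      (((Matrix.GeneralLinearGroup.map (algebraMap F K) M : GL ((Fin m ⊕ Fin m) ⊕ Fin 2) K) :
        Matrix ((Fin m ⊕ Fin m) ⊕ Fin 2) ((Fin m ⊕ Fin m) ⊕ Fin 2) K) *ᵥ w) =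
      algebraMap F K κ * Cfsg.quadFormMinus m K (ψ (algebraMap F₀ K₀ a₀))
        (ψ (algebraMap F₀ K₀ b₀)) w := by
    intro w
    rw [hψ, hψ]
    exact similarity_extend₂ (algebraMap F K) (Cfsg.quadFormMinus m F a b)
      (Cfsg.quadFormMinus m F (j a₀) (j b₀))
      (minusQ m K (algebraMap F K a) (algebraMap F K b))
      (minusQ m K (algebraMap F K (j a₀)) (algebraMap F K (j b₀)))
      (fun v => quadFormMinus_rvec (algebraMap F K) m a b v)
      (fun v => quadFormMinus_rvec (algebraMap F K) m (j a₀) (j b₀) v) _ κ hM w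
  have key := preserves_transfer ψ (algebraMap F₀ K₀ a₀) (algebraMap F₀ K₀ b₀) ρ₀ hρ₀ hd₀
    (algebraMap F K a) (algebraMap F K b) hd (Matrix.GeneralLinearGroup.map (algebraMap F₀ K₀) A)
    (algebraMap F₀ K₀ c₀) hA' (Matrix.GeneralLinearGroup.map (algebraMap F K) M)
    (algebraMap F K κ) ((map_ne_zero (algebraMap F K)).mpr hκ) hN
  have e : Matrix.GeneralLinearGroup.map (algebraMap F K) M *
      Matrix.GeneralLinearGroup.map ψ (Matrix.GeneralLinearGroup.map (algebraMap F₀ K₀) A) *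
      (Matrix.GeneralLinearGroup.map (algebraMap F K) M)⁻¹ =
      Matrix.GeneralLinearGroup.map (algebraMap F K)
        (M * Matrix.GeneralLinearGroup.map j A * M⁻¹) := by
    rw [map_mul, map_mul, map_inv]
    congr 2
    apply Units.ext
    ext i k
    exact hψ _
  rw [e] at key
  exact key

omit [Finite F₀] in
/-- independence of the quadratic extension -/
theorem preserves_ext_indep {K' : Type*} [Field K'] [Algebra F K'] (hK : finrank F K = 2)
    (hK' : finrank F K' = 2) (a b : F)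
    (hab : ∀ z₁ z₂ : F, z₁ ^ 2 + a * z₁ * z₂ + b * z₂ ^ 2 = 0 → z₁ = 0 ∧ z₂ = 0)
    (g : GL ((Fin m ⊕ Fin m) ⊕ Fin 2) F) (c : F)
    (hg : ∀ z, Cfsg.quadFormMinus m F a b
      ((g : Matrix ((Fin m ⊕ Fin m) ⊕ Fin 2) ((Fin m ⊕ Fin m) ⊕ Fin 2) F) *ᵥ z) =
        c * Cfsg.quadFormMinus m F a b z) :
    Cfsg.PreservesSingularClasses
        (Cfsg.quadFormMinus m K (algebraMap F K a) (algebraMap F K b))
        ((g : Matrix ((Fin m ⊕ Fin m) ⊕ Fin 2) ((Fin m ⊕ Fin m) ⊕ Fin 2) F).map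
          (algebraMap F K)) ↔
      Cfsg.PreservesSingularClasses
        (Cfsg.quadFormMinus m K' (algebraMap F K' a) (algebraMap F K' b))
        ((g : Matrix ((Fin m ⊕ Fin m) ⊕ Fin 2) ((Fin m ⊕ Fin m) ⊕ Fin 2) F).map
          (algebraMap F K')) := by
  have key := preserves_ext_transfer (K₀ := K) (K := K') hK hK' (RingHom.id F) a b hab a b hab
    g c hg 1 1 one_ne_zero (by
      intro w
      rw [Units.val_one, Matrix.one_mulVec, one_mul]
      rfl)
  have e : (1 : GL ((Fin m ⊕ Fin m) ⊕ Fin 2) F) *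
      Matrix.GeneralLinearGroup.map (RingHom.id F) g * 1⁻¹ = g := by
    rw [one_mul, inv_one, mul_one]
    apply Units.ext
    ext i k
    rfl
  rw [e] at key
  exact key

end lemmaT

section minusPred

universe u u₀

variable {F : Type u} [Field F] [Finite F] {m : ℕ}

/-- the class predicate can be tested in any quadratic extension -/
theorem preservesMinus_iff_ext (a b : F)
    (hab : ∀ z₁ z₂ : F, z₁ ^ 2 + a * z₁ * z₂ + b * z₂ ^ 2 = 0 → z₁ = 0 ∧ z₂ = 0)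
    (K : Type u) [Field K] [Algebra F K] (hK : finrank F K = 2)
    (g : GL ((Fin m ⊕ Fin m) ⊕ Fin 2) F) (c : F)
    (hg : ∀ z, Cfsg.quadFormMinus m F a b
      ((g : Matrix ((Fin m ⊕ Fin m) ⊕ Fin 2) ((Fin m ⊕ Fin m) ⊕ Fin 2) F) *ᵥ z) =
        c * Cfsg.quadFormMinus m F a b z) :
    Cfsg.PreservesSingularClassesMinus m a b
        (g : Matrix ((Fin m ⊕ Fin m) ⊕ Fin 2) ((Fin m ⊕ Fin m) ⊕ Fin 2) F) ↔
      Cfsg.PreservesSingularClasses
        (Cfsg.quadFormMinus m K (algebraMap F K a) (algebraMap F K b))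
        ((g : Matrix ((Fin m ⊕ Fin m) ⊕ Fin 2) ((Fin m ⊕ Fin m) ⊕ Fin 2) F).map
          (algebraMap F K)) := by
  constructor
  · rintro ⟨K', _, _, hK', hp⟩
    exact (preserves_ext_indep hK' hK a b hab g c hg).mp hp
  · intro hp
    exact ⟨K, _, _, hK, hp⟩

/-- **transfer of the class predicate along a subfield** -/
theorem preservesMinus_transfer {F₀ : Type u₀} [Field F₀] [Finite F₀] (j : F₀ →+* F)
    (a₀ b₀ : F₀) (hab₀ : ∀ z₁ z₂ : F₀, z₁ ^ 2 + a₀ * z₁ * z₂ + b₀ * z₂ ^ 2 = 0 → z₁ = 0 ∧ z₂ = 0)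
    (a b : F) (hab : ∀ z₁ z₂ : F, z₁ ^ 2 + a * z₁ * z₂ + b * z₂ ^ 2 = 0 → z₁ = 0 ∧ z₂ = 0)
    (A : GL ((Fin m ⊕ Fin m) ⊕ Fin 2) F₀) (c₀ : F₀)
    (hA : ∀ z, Cfsg.quadFormMinus m F₀ a₀ b₀
      ((A : Matrix ((Fin m ⊕ Fin m) ⊕ Fin 2) ((Fin m ⊕ Fin m) ⊕ Fin 2) F₀) *ᵥ z) =
        c₀ * Cfsg.quadFormMinus m F₀ a₀ b₀ z)
    (M : GL ((Fin m ⊕ Fin m) ⊕ Fin 2) F) (κ : F) (hκ : κ ≠ 0)
    (hM : ∀ w, Cfsg.quadFormMinus m F a b
      ((M : Matrix ((Fin m ⊕ Fin m) ⊕ Fin 2) ((Fin m ⊕ Fin m) ⊕ Fin 2) F) *ᵥ w) =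
        κ * Cfsg.quadFormMinus m F (j a₀) (j b₀) w) :
    Cfsg.PreservesSingularClassesMinus m a₀ b₀
        (A : Matrix ((Fin m ⊕ Fin m) ⊕ Fin 2) ((Fin m ⊕ Fin m) ⊕ Fin 2) F₀) ↔
      Cfsg.PreservesSingularClassesMinus m a b
        ((M * Matrix.GeneralLinearGroup.map j A * M⁻¹ : GL ((Fin m ⊕ Fin m) ⊕ Fin 2) F) :
          Matrix ((Fin m ⊕ Fin m) ⊕ Fin 2) ((Fin m ⊕ Fin m) ⊕ Fin 2) F) := by
  obtain ⟨K₀, _, _, hK₀, -⟩ := exists_quadratic_root_extension F₀ a₀ b₀ hab₀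
  obtain ⟨K, _, _, hK, -⟩ := exists_quadratic_root_extension F a b hab
  have hAj : ∀ w, Cfsg.quadFormMinus m F (j a₀) (j b₀)
      (((Matrix.GeneralLinearGroup.map j A : GL ((Fin m ⊕ Fin m) ⊕ Fin 2) F) :
        Matrix ((Fin m ⊕ Fin m) ⊕ Fin 2) ((Fin m ⊕ Fin m) ⊕ Fin 2) F) *ᵥ w) =
      j c₀ * Cfsg.quadFormMinus m F (j a₀) (j b₀) w := by
    intro w
    exact similarity_extend' j (Cfsg.quadFormMinus m F₀ a₀ b₀) (minusQ m F (j a₀) (j b₀))
      (fun v => quadFormMinus_rvec j m a₀ b₀ v) _ c₀ hA w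
  have hsim := similarity_conj (Cfsg.quadFormMinus m F a b) (Cfsg.quadFormMinus m F (j a₀) (j b₀))
    M κ hM (Matrix.GeneralLinearGroup.map j A) (j c₀) hAj
  rw [preservesMinus_iff_ext a₀ b₀ hab₀ K₀ hK₀ A c₀ hA,
    preservesMinus_iff_ext a b hab K hK _ (j c₀) hsim]
  exact preserves_ext_transfer hK₀ hK j a₀ b₀ hab₀ a b hab A c₀ hA M κ hκ hM

end minusPred

end Cfsg.Agent.Lib.Helper13
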