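import Mathlib
import Cfsg.Agent.Lib.Helper13.MinusCent3
import Cfsg.Agent.Lib.Helper36.AutO.OutMinusTwo

set_option autoImplicit false
set_option linter.unusedSectionVars false
set_option linter.style.haveILetI false

/-!
helper13: the class character `GO⁻ → ℤ/2` of the minus-type form (all characteristics); the
inner-diagonal group of `PΩ⁻` is the image of its kernel; in characteristic two it is `Inn`.
-/

namespace Cfsg.Agent.Lib.Helper13

open Matrix Module Cfsg.Agent.S0791 Cfsg.Agent.Lib.Helper36 Cfsg.Agent.Lib.Helper36.AutO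
  Cfsg.Agent.Lib.Helper44

section classHom

universe u

variable {F : Type u} [Field F] [Fintype F] {m : ℕ} {K : Type*} [Field K] [Algebra F K]

theorem zmod2_add_eq (x y z : ZMod 2) (h : x + y + z = 0) : z = x + y := by
  revert x y z
  decide

/-- extension of a similarity of the minus-type form to `K` -/
theorem minus_similarity_ext (a b : F)
    (g : ↥(Cfsg.Geo.quadSimilarityGroup (Cfsg.quadFormMinus m F a b))) :
    ∃ c : F, ∀ z, minusQ m K (algebraMap F K a) (algebraMap F K b)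
      (((Matrix.GeneralLinearGroup.map (algebraMap F K) (g : GL ((Fin m ⊕ Fin m) ⊕ Fin 2) F) :
        GL ((Fin m ⊕ Fin m) ⊕ Fin 2) K) :
        Matrix ((Fin m ⊕ Fin m) ⊕ Fin 2) ((Fin m ⊕ Fin m) ⊕ Fin 2) K) *ᵥ z) =
      algebraMap F K c * minusQ m K (algebraMap F K a) (algebraMap F K b) z := by
  obtain ⟨c, hc⟩ := g.2
  refine ⟨(c : F), fun z => ?_⟩
  exact similarity_extend' (algebraMap F K) (Cfsg.quadFormMinus m F a b)
    (minusQ m K (algebraMap F K a) (algebraMap F K b))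
    (fun v => quadFormMinus_rvec (algebraMap F K) m a b v) _ (c : F) hc z

/-- the class character of the similarity group of the minus-type form -/
noncomputable def classHom (m : ℕ) (a b : F) (K : Type*) [Field K] [Algebra F K] (ρ : K)
    (hρ : ρ ^ 2 + algebraMap F K a * ρ + algebraMap F K b = 0)
    (hdisc : (algebraMap F K a) ^ 2 - 4 * algebraMap F K b ≠ 0) :
    ↥(Cfsg.Geo.quadSimilarityGroup (Cfsg.quadFormMinus m F a b)) →* Multiplicative (ZMod 2) :=
  MonoidHom.mk' (fun g => Multiplicative.ofAdd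
    (((polarMat (minusQ m K (algebraMap F K a) (algebraMap F K b)) (uvec m ρ)
      (((g : GL ((Fin m ⊕ Fin m) ⊕ Fin 2) F) :
        Matrix ((Fin m ⊕ Fin m) ⊕ Fin 2) ((Fin m ⊕ Fin m) ⊕ Fin 2) F).map
          (algebraMap F K))).rank : ℕ) : ZMod 2))
    (by
      intro g h
      obtain ⟨cg, hcg⟩ := minus_similarity_ext (K := K) a b g
      obtain ⟨ch, hch⟩ := minus_similarity_ext (K := K) a b h
      have hκ' : Fintype.card (Fin m ⊕ Unit) = m + 1 := by simp
      have e := even_rank_mul (minusQ m K (algebraMap F K a) (algebraMap F K b))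
        (minusQ_nondeg_of_disc m _ _ hdisc) (m + 1) (card_minus_index m) (uvec m ρ) hκ'
        (linearCombination_uvec_injective ρ)
        (quadFormMinus_linearCombination_uvec _ _ ρ hρ) _ _ _ _ hcg hch
      rw [← map_mul] at e
      have h0 := (ZMod.natCast_eq_zero_iff_even).mpr e
      push_cast at h0
      rw [← ofAdd_add]
      congr 1
      exact zmod2_add_eq _ _ _ h0)

theorem classHom_apply (a b : F) (ρ : K)
    (hρ : ρ ^ 2 + algebraMap F K a * ρ + algebraMap F K b = 0)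
    (hdisc : (algebraMap F K a) ^ 2 - 4 * algebraMap F K b ≠ 0)
    (g : ↥(Cfsg.Geo.quadSimilarityGroup (Cfsg.quadFormMinus m F a b))) :
    classHom m a b K ρ hρ hdisc g = Multiplicative.ofAdd
      (((polarMat (minusQ m K (algebraMap F K a) (algebraMap F K b)) (uvec m ρ)
        (((g : GL ((Fin m ⊕ Fin m) ⊕ Fin 2) F) :
          Matrix ((Fin m ⊕ Fin m) ⊕ Fin 2) ((Fin m ⊕ Fin m) ⊕ Fin 2) F).map
            (algebraMap F K))).rank : ℕ) : ZMod 2) := rfl

/-- the kernel of the class character consists of the class-preserving similarities -/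
theorem classHom_eq_one_iff_preserves (a b : F) (ρ : K)
    (hρ : ρ ^ 2 + algebraMap F K a * ρ + algebraMap F K b = 0)
    (hdisc : (algebraMap F K a) ^ 2 - 4 * algebraMap F K b ≠ 0)
    (g : ↥(Cfsg.Geo.quadSimilarityGroup (Cfsg.quadFormMinus m F a b))) :
    classHom m a b K ρ hρ hdisc g = 1 ↔
      Cfsg.PreservesSingularClasses
        (Cfsg.quadFormMinus m K (algebraMap F K a) (algebraMap F K b))
        (((g : GL ((Fin m ⊕ Fin m) ⊕ Fin 2) F) :
          Matrix ((Fin m ⊕ Fin m) ⊕ Fin 2) ((Fin m ⊕ Fin m) ⊕ Fin 2) F).map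
            (algebraMap F K)) := by
  obtain ⟨cg, hcg⟩ := minus_similarity_ext (K := K) a b g
  have hκ' : Fintype.card (Fin m ⊕ Unit) = m + 1 := by simp
  have e := preserves_iff_even_rank (minusQ m K (algebraMap F K a) (algebraMap F K b))
    (minusQ_nondeg_of_disc m _ _ hdisc) (m + 1) (card_minus_index m) (uvec m ρ) hκ'
    (linearCombination_uvec_injective ρ)
    (quadFormMinus_linearCombination_uvec _ _ ρ hρ) _ _ hcg
  rw [classHom_apply, ← ofAdd_zero, Multiplicative.ofAdd.injective.eq_iff,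
    ZMod.natCast_eq_zero_iff_even]
  exact e.symm

/-- scalar similarities are in the kernel of the class character -/
theorem classHom_scalar (a b : F) (ρ : K)
    (hρ : ρ ^ 2 + algebraMap F K a * ρ + algebraMap F K b = 0)
    (hdisc : (algebraMap F K a) ^ 2 - 4 * algebraMap F K b ≠ 0)
    (g : ↥(Cfsg.Geo.quadSimilarityGroup (Cfsg.quadFormMinus m F a b))) (l : F)
    (hg : ((g : GL ((Fin m ⊕ Fin m) ⊕ Fin 2) F) :
      Matrix ((Fin m ⊕ Fin m) ⊕ Fin 2) ((Fin m ⊕ Fin m) ⊕ Fin 2) F) = l • 1) :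
    classHom m a b K ρ hρ hdisc g = 1 := by
  rw [classHom_apply, hg]
  have e : (l • (1 : Matrix ((Fin m ⊕ Fin m) ⊕ Fin 2) ((Fin m ⊕ Fin m) ⊕ Fin 2) F)).map
      (algebraMap F K) = algebraMap F K l •
        (1 : Matrix ((Fin m ⊕ Fin m) ⊕ Fin 2) ((Fin m ⊕ Fin m) ⊕ Fin 2) K) := by
    ext i k
    simp only [Matrix.map_apply, Matrix.smul_apply, Matrix.one_apply, smul_eq_mul]
    split_ifs
    · rw [mul_one, mul_one]
    · rw [mul_zero, mul_zero, map_zero]
  rw [e, polarMat_scalar _ _ (quadFormMinus_linearCombination_uvec _ _ ρ hρ), Matrix.rank_zero,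
    Nat.cast_zero, ofAdd_zero]

/-- a reflection is not in the kernel of the class character -/
theorem classHom_refl (a b : F) (ρ : K)
    (hρ : ρ ^ 2 + algebraMap F K a * ρ + algebraMap F K b = 0)
    (hdisc : (algebraMap F K a) ^ 2 - 4 * algebraMap F K b ≠ 0)
    (g : ↥(Cfsg.Geo.quadSimilarityGroup (Cfsg.quadFormMinus m F a b)))
    (v : (Fin m ⊕ Fin m) ⊕ Fin 2 → F) (hv : Cfsg.quadFormMinus m F a b v ≠ 0)
    (hg : ((g : GL ((Fin m ⊕ Fin m) ⊕ Fin 2) F) :
      Matrix ((Fin m ⊕ Fin m) ⊕ Fin 2) ((Fin m ⊕ Fin m) ⊕ Fin 2) F) =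
        Cfsg.reflectionMatrix (Cfsg.quadFormMinus m F a b) v) :
    classHom m a b K ρ hρ hdisc g = Multiplicative.ofAdd 1 := by
  have hκ' : Fintype.card (Fin m ⊕ Unit) = m + 1 := by simp
  have hcompat : ∀ w : (Fin m ⊕ Fin m) ⊕ Fin 2 → F,
      minusQ m K (algebraMap F K a) (algebraMap F K b) (rvec (algebraMap F K) w) =
        algebraMap F K (minusQ m F a b w) :=
    fun w => quadFormMinus_rvec (algebraMap F K) m a b w
  have hvK : minusQ m K (algebraMap F K a) (algebraMap F K b) (rvec (algebraMap F K) v) ≠ 0 := by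
    rw [hcompat]
    exact (map_ne_zero (algebraMap F K)).mpr hv
  rw [classHom_apply, hg]
  have e : (Cfsg.reflectionMatrix (Cfsg.quadFormMinus m F a b) v).map (algebraMap F K) =
      Cfsg.reflectionMatrix (⇑(minusQ m K (algebraMap F K a) (algebraMap F K b)))
        (rvec (algebraMap F K) v) :=
    reflectionMatrix_map (algebraMap F K) (minusQ m F a b)
      (minusQ m K (algebraMap F K a) (algebraMap F K b)) hcompat v
  rw [e, rank_polarMat_refl (minusQ m K (algebraMap F K a) (algebraMap F K b))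
    (minusQ_nondeg_of_disc m _ _ hdisc) (m + 1) (card_minus_index m) (uvec m ρ) hκ'
    (linearCombination_uvec_injective ρ)
    (quadFormMinus_linearCombination_uvec _ _ ρ hρ) _ hvK, Nat.cast_one]

end classHom

section inndiag

universe u

variable {F : Type u} [Field F] [Fintype F] {m : ℕ} {K : Type u} [Field K] [Algebra F K]

/-- the kernel of the class character consists of the class-preserving similarities -/
theorem classHom_eq_one_iff (hK : finrank F K = 2) (a b : F)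
    (hab : ∀ z₁ z₂ : F, z₁ ^ 2 + a * z₁ * z₂ + b * z₂ ^ 2 = 0 → z₁ = 0 ∧ z₂ = 0) (ρ : K)
    (hρ : ρ ^ 2 + algebraMap F K a * ρ + algebraMap F K b = 0)
    (hdisc : (algebraMap F K a) ^ 2 - 4 * algebraMap F K b ≠ 0)
    (g : ↥(Cfsg.Geo.quadSimilarityGroup (Cfsg.quadFormMinus m F a b))) :
    classHom m a b K ρ hρ hdisc g = 1 ↔
      Cfsg.PreservesSingularClassesMinus m a b
        ((g : GL ((Fin m ⊕ Fin m) ⊕ Fin 2) F) :
          Matrix ((Fin m ⊕ Fin m) ⊕ Fin 2) ((Fin m ⊕ Fin m) ⊕ Fin 2) F) := by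
  obtain ⟨c, hc⟩ := g.2
  rw [classHom_eq_one_iff_preserves,
    preservesMinus_iff_ext a b hab K hK (g : GL ((Fin m ⊕ Fin m) ⊕ Fin 2) F) (c : F) hc]

/-- the inner-diagonal group is the image of the kernel of the class character -/
theorem inndiag_eq_map (hK : finrank F K = 2) (a b : F)
    (hab : ∀ z₁ z₂ : F, z₁ ^ 2 + a * z₁ * z₂ + b * z₂ ^ 2 = 0 → z₁ = 0 ∧ z₂ = 0) (ρ : K)
    (hρ : ρ ^ 2 + algebraMap F K a * ρ + algebraMap F K b = 0)
    (hdisc : (algebraMap F K a) ^ 2 - 4 * algebraMap F K b ≠ 0) :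
    Cfsg.inndiagPOmegaMinus m F a b =
      (classHom m a b K ρ hρ hdisc).ker.map (simAut (Cfsg.quadFormMinus m F a b)) := by
  unfold Cfsg.inndiagPOmegaMinus Cfsg.autSubgroupOf
  have hset : {β : MulAut (Cfsg.POmega F (Cfsg.quadFormMinus m F a b)) |
      Cfsg.IsInnerDiagonalAutPOmegaMinus m a b β} =
      (((classHom m a b K ρ hρ hdisc).ker.map (simAut (Cfsg.quadFormMinus m F a b)) :
        Subgroup (MulAut (Cfsg.POmega F (Cfsg.quadFormMinus m F a b)))) :
        Set (MulAut (Cfsg.POmega F (Cfsg.quadFormMinus m F a b)))) := by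
    ext β
    constructor
    · rintro ⟨g, hgG, hpres, hind⟩
      refine ⟨⟨g, hgG⟩, ?_, ((isInduced_iff _ ⟨g, hgG⟩ β).mp hind).symm⟩
      rw [SetLike.mem_coe, MonoidHom.mem_ker, classHom_eq_one_iff hK a b hab]
      exact hpres
    · rintro ⟨g, hg, rfl⟩
      rw [SetLike.mem_coe, MonoidHom.mem_ker, classHom_eq_one_iff hK a b hab] at hg
      exact ⟨g, g.2, hg, (isInduced_iff _ g _).mpr rfl⟩
  rw [hset, Subgroup.closure_eq]

/-- membership of a similarity-induced automorphism in the inner-diagonal group -/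
theorem simAut_mem_inndiag_iff (hm : 3 ≤ m) (hK : finrank F K = 2) (a b : F)
    (hab : ∀ z₁ z₂ : F, z₁ ^ 2 + a * z₁ * z₂ + b * z₂ ^ 2 = 0 → z₁ = 0 ∧ z₂ = 0) (ρ : K)
    (hρ : ρ ^ 2 + algebraMap F K a * ρ + algebraMap F K b = 0)
    (hdisc : (algebraMap F K a) ^ 2 - 4 * algebraMap F K b ≠ 0)
    (g : ↥(Cfsg.Geo.quadSimilarityGroup (Cfsg.quadFormMinus m F a b))) :
    simAut (Cfsg.quadFormMinus m F a b) g ∈ Cfsg.inndiagPOmegaMinus m F a b ↔
      classHom m a b K ρ hρ hdisc g = 1 := by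
  rw [inndiag_eq_map hK a b hab ρ hρ hdisc]
  constructor
  · rintro ⟨g', hg', hgg'⟩
    have h7 : 7 ≤ Fintype.card ((Fin m ⊕ Fin m) ⊕ Fin 2) := by
      rw [card_minus_index]
      omega
    have h1 : simAut (Cfsg.quadFormMinus m F a b) (g'⁻¹ * g) = 1 := by
      rw [map_mul, map_inv, hgg', inv_mul_cancel]
    obtain ⟨l, hl⟩ := (simAut_eq_one_iff (minusQ m F a b) (minusQ_nondeg_of_aniso m a b hab) h7
      (g'⁻¹ * g)).mp h1
    have h2 := classHom_scalar a b ρ hρ hdisc (g'⁻¹ * g) l hl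
    rw [map_mul, map_inv, MonoidHom.mem_ker.mp hg', inv_one, one_mul] at h2
    exact h2
  · intro h
    exact ⟨g, h, rfl⟩

/-- inner automorphisms are inner-diagonal -/
theorem Inn_le_inndiag (hK : finrank F K = 2) (a b : F)
    (hab : ∀ z₁ z₂ : F, z₁ ^ 2 + a * z₁ * z₂ + b * z₂ ^ 2 = 0 → z₁ = 0 ∧ z₂ = 0) (ρ : K)
    (hρ : ρ ^ 2 + algebraMap F K a * ρ + algebraMap F K b = 0)
    (hdisc : (algebraMap F K a) ^ 2 - 4 * algebraMap F K b ≠ 0) :
    Cfsg.Inn (Cfsg.POmega F (Cfsg.quadFormMinus m F a b)) ≤ Cfsg.inndiagPOmegaMinus m F a b := by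
  rw [Inn_eq, inndiag_eq_map hK a b hab ρ hρ hdisc]
  rintro β ⟨g, hg, rfl⟩
  refine ⟨g, ?_, rfl⟩
  rw [SetLike.mem_coe, Subgroup.mem_subgroupOf, mem_OmegaGL_iff] at hg
  obtain ⟨hiso, hΩ⟩ := hg
  set χ : ↥(Cfsg.isometryGroup F (Cfsg.quadFormMinus m F a b)) →* Multiplicative (ZMod 2) :=
    (classHom m a b K ρ hρ hdisc).comp
      (Subgroup.inclusion (isometryGroup_le_similarity (Cfsg.quadFormMinus m F a b))) with hχ
  have h1 : (⟨(g : GL ((Fin m ⊕ Fin m) ⊕ Fin 2) F), hiso⟩ :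
      ↥(Cfsg.isometryGroup F (Cfsg.quadFormMinus m F a b))) ∈ χ.ker :=
    Abelianization.commutator_subset_ker χ hΩ
  rw [SetLike.mem_coe, MonoidHom.mem_ker]
  rw [MonoidHom.mem_ker, hχ, MonoidHom.comp_apply] at h1
  exact h1

/-- in characteristic two the inner-diagonal group of `PΩ⁻` is `Inn` -/
theorem inndiag_le_Inn_of_two (hm : 3 ≤ m) (hK : finrank F K = 2) (a b : F)
    (hab : ∀ z₁ z₂ : F, z₁ ^ 2 + a * z₁ * z₂ + b * z₂ ^ 2 = 0 → z₁ = 0 ∧ z₂ = 0) (ρ : K)
    (hρ : ρ ^ 2 + algebraMap F K a * ρ + algebraMap F K b = 0)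
    (hdisc : (algebraMap F K a) ^ 2 - 4 * algebraMap F K b ≠ 0) (h2 : (2 : F) = 0) :
    Cfsg.inndiagPOmegaMinus m F a b ≤ Cfsg.Inn (Cfsg.POmega F (Cfsg.quadFormMinus m F a b)) := by
  classical
  have h7 : 7 ≤ Fintype.card ((Fin m ⊕ Fin m) ⊕ Fin 2) := by
    rw [card_minus_index]
    omega
  have hidx := relIndex_Inn_pgoAut_two (minusQ m F a b) (minusQ_nondeg_of_aniso m a b hab) h7 h2
  have hidx' : ((Cfsg.Inn (Cfsg.POmega F (Cfsg.quadFormMinus m F a b))).subgroupOf
      (Cfsg.pgoAut F (Cfsg.quadFormMinus m F a b))).index = 2 := hidx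
  have hle : Cfsg.inndiagPOmegaMinus m F a b ≤ Cfsg.pgoAut F (Cfsg.quadFormMinus m F a b) := by
    unfold Cfsg.inndiagPOmegaMinus Cfsg.pgoAut Cfsg.autSubgroupOf
    apply Subgroup.closure_mono
    rintro β ⟨g, hg, -, hind⟩
    exact ⟨g, hg, hind⟩
  -- a reflection
  have hv : Cfsg.quadFormMinus m F a b (Pi.single (Sum.inr 0) 1) ≠ 0 := by
    rw [quadFormMinus_single_z]
    exact one_ne_zero
  obtain ⟨t, ht⟩ : ∃ t : ↥(Cfsg.Geo.quadSimilarityGroup (Cfsg.quadFormMinus m F a b)),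
      (t : GL ((Fin m ⊕ Fin m) ⊕ Fin 2) F) = reflGL (minusQ m F a b) _ hv := by
    refine ⟨⟨reflGL (minusQ m F a b) _ hv, ⟨1, fun w => ?_⟩⟩, rfl⟩
    rw [Units.val_one, one_mul]
    exact Cfsg.Agent.Lib.Helper13.reflectionMatrix_isometry (minusQ m F a b) _ hv w
  have htc : classHom m a b K ρ hρ hdisc t = Multiplicative.ofAdd 1 :=
    classHom_refl a b ρ hρ hdisc t _ hv (by rw [ht]; rfl)
  have htD : simAut (Cfsg.quadFormMinus m F a b) t ∉ Cfsg.inndiagPOmegaMinus m F a b := by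
    rw [simAut_mem_inndiag_iff hm hK a b hab ρ hρ hdisc, htc]
    decide
  have hInn := Inn_le_inndiag (m := m) hK a b hab ρ hρ hdisc
  have htI : simAut (Cfsg.quadFormMinus m F a b) t ∉
      Cfsg.Inn (Cfsg.POmega F (Cfsg.quadFormMinus m F a b)) := fun h => htD (hInn h)
  have htP : simAut (Cfsg.quadFormMinus m F a b) t ∈
      Cfsg.pgoAut F (Cfsg.quadFormMinus m F a b) := by
    rw [pgoAut_eq]
    exact ⟨t, rfl⟩
  intro x hx
  by_contra hxI
  have h1 := Subgroup.mul_mem_iff_of_index_two hidx'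
    (a := (⟨x, hle hx⟩ : ↥(Cfsg.pgoAut F (Cfsg.quadFormMinus m F a b))))
    (b := (⟨simAut (Cfsg.quadFormMinus m F a b) t, htP⟩ :
      ↥(Cfsg.pgoAut F (Cfsg.quadFormMinus m F a b))))
  rw [Subgroup.mem_subgroupOf, Subgroup.mem_subgroupOf, Subgroup.mem_subgroupOf] at h1
  have h3 : x * simAut (Cfsg.quadFormMinus m F a b) t ∈
      Cfsg.Inn (Cfsg.POmega F (Cfsg.quadFormMinus m F a b)) :=
    h1.mpr ⟨fun h => absurd h hxI, fun h => absurd h htI⟩
  apply htD
  have h4 := (Cfsg.inndiagPOmegaMinus m F a b).mul_mem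
    ((Cfsg.inndiagPOmegaMinus m F a b).inv_mem hx) (hInn h3)
  rwa [inv_mul_cancel_left] at h4

end inndiag

end Cfsg.Agent.Lib.Helper13
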