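import Mathlib
import Cfsg.Agent.Lib.Helper13.MinusCent4
import Cfsg.Agent.Lib.Helper45.PSLField.Centralizer

set_option autoImplicit false
set_option linter.unusedSectionVars false
set_option linter.style.haveILetI false

/-!
helper13: the centraliser of a field automorphism (given by a pair in normal form) in the
inner-diagonal group of `PΩ⁻_{2m+2}(F)` is the inner-diagonal group over the fixed field.
-/

namespace Cfsg.Agent.Lib.Helper13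

open Matrix Module Cfsg.Agent.S0791 Cfsg.Agent.Lib.Helper36 Cfsg.Agent.Lib.Helper36.AutO
  Cfsg.Agent.Lib.Helper44 Cfsg.Agent.Lib.Helper45.PSLField

section abs

/-- two homomorphisms with the same kernel have isomorphic images of corresponding subgroups -/
theorem nonempty_mulEquiv_of_ker_eq {G₀ X Y : Type*} [Group G₀] [Group X] [Group Y]
    (S₀ : G₀ →* Y) (Φ : G₀ →* X) (hker : Φ.ker = S₀.ker) (D₀ : Subgroup Y) (E : Subgroup X)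
    (hD₀ : D₀ ≤ S₀.range) (hE : E ≤ Φ.range) (hiff : ∀ A, Φ A ∈ E ↔ S₀ A ∈ D₀) :
    Nonempty (↥E ≃* ↥D₀) := by
  set P : Subgroup G₀ := D₀.comap S₀ with hP
  have hP' : P = E.comap Φ := by
    ext A
    rw [hP, Subgroup.mem_comap, Subgroup.mem_comap, hiff]
  have h1 : (Φ.comp P.subtype).range = E := by
    rw [MonoidHom.range_comp, Subgroup.range_subtype, hP', Subgroup.map_comap_eq]
    exact inf_eq_right.mpr hE
  have h2 : (S₀.comp P.subtype).range = D₀ := by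
    rw [MonoidHom.range_comp, Subgroup.range_subtype, hP, Subgroup.map_comap_eq]
    exact inf_eq_right.mpr hD₀
  have h3 : (Φ.comp P.subtype).ker = (S₀.comp P.subtype).ker := by
    ext p
    rw [MonoidHom.mem_ker, MonoidHom.mem_ker, MonoidHom.comp_apply, MonoidHom.comp_apply,
      ← MonoidHom.mem_ker, ← MonoidHom.mem_ker, hker]
  exact ⟨(MulEquiv.subgroupCongr h1.symm).trans
    ((QuotientGroup.quotientKerEquivRange (Φ.comp P.subtype)).symm.trans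
      ((QuotientGroup.quotientMulEquivOfEq h3).trans
        ((QuotientGroup.quotientKerEquivRange (S₀.comp P.subtype)).trans
          (MulEquiv.subgroupCongr h2))))⟩

end abs

section kfree

universe u

variable {F : Type u} [Field F] [Fintype F] {m : ℕ}

/-- membership in the inner-diagonal group of a similarity-induced automorphism -/
theorem simAut_mem_inndiag_iff_preserves (hm : 3 ≤ m) (a b : F)
    (hab : ∀ z₁ z₂ : F, z₁ ^ 2 + a * z₁ * z₂ + b * z₂ ^ 2 = 0 → z₁ = 0 ∧ z₂ = 0)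
    (g : ↥(Cfsg.Geo.quadSimilarityGroup (Cfsg.quadFormMinus m F a b))) :
    simAut (Cfsg.quadFormMinus m F a b) g ∈ Cfsg.inndiagPOmegaMinus m F a b ↔
      Cfsg.PreservesSingularClassesMinus m a b
        ((g : GL ((Fin m ⊕ Fin m) ⊕ Fin 2) F) :
          Matrix ((Fin m ⊕ Fin m) ⊕ Fin 2) ((Fin m ⊕ Fin m) ⊕ Fin 2) F) := by
  obtain ⟨K, _, _, hK, ρ, hρ⟩ := exists_quadratic_root_extension F a b hab
  have hdisc := disc_map_ne_zero (K := K) a b hab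
  rw [simAut_mem_inndiag_iff hm hK a b hab ρ hρ hdisc, classHom_eq_one_iff hK a b hab ρ hρ hdisc]

theorem Inn_le_inndiag_minus (a b : F)
    (hab : ∀ z₁ z₂ : F, z₁ ^ 2 + a * z₁ * z₂ + b * z₂ ^ 2 = 0 → z₁ = 0 ∧ z₂ = 0) :
    Cfsg.Inn (Cfsg.POmega F (Cfsg.quadFormMinus m F a b)) ≤ Cfsg.inndiagPOmegaMinus m F a b := by
  obtain ⟨K, _, _, hK, ρ, hρ⟩ := exists_quadratic_root_extension F a b hab
  exact Inn_le_inndiag hK a b hab ρ hρ (disc_map_ne_zero (K := K) a b hab)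

theorem inndiag_minus_le_Inn_of_two (hm : 3 ≤ m) (a b : F)
    (hab : ∀ z₁ z₂ : F, z₁ ^ 2 + a * z₁ * z₂ + b * z₂ ^ 2 = 0 → z₁ = 0 ∧ z₂ = 0)
    (h2 : (2 : F) = 0) :
    Cfsg.inndiagPOmegaMinus m F a b ≤ Cfsg.Inn (Cfsg.POmega F (Cfsg.quadFormMinus m F a b)) := by
  obtain ⟨K, _, _, hK, ρ, hρ⟩ := exists_quadratic_root_extension F a b hab
  exact inndiag_le_Inn_of_two hm hK a b hab ρ hρ (disc_map_ne_zero (K := K) a b hab) h2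

theorem inndiag_minus_le_pgoAut (a b : F) :
    Cfsg.inndiagPOmegaMinus m F a b ≤ Cfsg.pgoAut F (Cfsg.quadFormMinus m F a b) := by
  unfold Cfsg.inndiagPOmegaMinus Cfsg.pgoAut Cfsg.autSubgroupOf
  apply Subgroup.closure_mono
  rintro β ⟨g, hg, -, hind⟩
  exact ⟨g, hg, hind⟩

end kfree

section sub

universe u u₀

variable {F : Type u} [Field F] [Fintype F] {F₀ : Type u₀} [Field F₀] [Fintype F₀] {m : ℕ}

/-- the embedding of the similarity group over the subfield, conjugated by `M` -/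
noncomputable def subHom (j : F₀ →+* F) (a₀ b₀ : F₀) (a b : F)
    (M : GL ((Fin m ⊕ Fin m) ⊕ Fin 2) F) (κ : F)
    (hM : ∀ w, Cfsg.quadFormMinus m F a b
      ((M : Matrix ((Fin m ⊕ Fin m) ⊕ Fin 2) ((Fin m ⊕ Fin m) ⊕ Fin 2) F) *ᵥ w) =
        κ * Cfsg.quadFormMinus m F (j a₀) (j b₀) w) :
    ↥(Cfsg.Geo.quadSimilarityGroup (Cfsg.quadFormMinus m F₀ a₀ b₀)) →*
      ↥(Cfsg.Geo.quadSimilarityGroup (Cfsg.quadFormMinus m F a b)) :=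
  MonoidHom.mk' (fun A => ⟨M * Matrix.GeneralLinearGroup.map j
      (A : GL ((Fin m ⊕ Fin m) ⊕ Fin 2) F₀) * M⁻¹, by
    obtain ⟨c, hc⟩ := A.2
    refine ⟨Units.map (j : F₀ →* F) c, fun v => ?_⟩
    have hAj : ∀ w, Cfsg.quadFormMinus m F (j a₀) (j b₀)
        (((Matrix.GeneralLinearGroup.map j (A : GL ((Fin m ⊕ Fin m) ⊕ Fin 2) F₀) :
          GL ((Fin m ⊕ Fin m) ⊕ Fin 2) F) :
          Matrix ((Fin m ⊕ Fin m) ⊕ Fin 2) ((Fin m ⊕ Fin m) ⊕ Fin 2) F) *ᵥ w) =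
        j (c : F₀) * Cfsg.quadFormMinus m F (j a₀) (j b₀) w := by
      intro w
      exact similarity_extend' j (Cfsg.quadFormMinus m F₀ a₀ b₀) (minusQ m F (j a₀) (j b₀))
        (fun v => quadFormMinus_rvec j m a₀ b₀ v) _ (c : F₀) hc w
    exact similarity_conj (Cfsg.quadFormMinus m F a b) (Cfsg.quadFormMinus m F (j a₀) (j b₀))
      M κ hM _ (j (c : F₀)) hAj v⟩)
    (by
      intro A B
      apply Subtype.ext
      change M * Matrix.GeneralLinearGroup.map j ((A : GL ((Fin m ⊕ Fin m) ⊕ Fin 2) F₀) *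
        (B : GL ((Fin m ⊕ Fin m) ⊕ Fin 2) F₀)) * M⁻¹ =
        (M * Matrix.GeneralLinearGroup.map j (A : GL ((Fin m ⊕ Fin m) ⊕ Fin 2) F₀) * M⁻¹) *
        (M * Matrix.GeneralLinearGroup.map j (B : GL ((Fin m ⊕ Fin m) ⊕ Fin 2) F₀) * M⁻¹)
      rw [map_mul]
      group)

theorem subHom_coe (j : F₀ →+* F) (a₀ b₀ : F₀) (a b : F)
    (M : GL ((Fin m ⊕ Fin m) ⊕ Fin 2) F) (κ : F)
    (hM : ∀ w, Cfsg.quadFormMinus m F a b
      ((M : Matrix ((Fin m ⊕ Fin m) ⊕ Fin 2) ((Fin m ⊕ Fin m) ⊕ Fin 2) F) *ᵥ w) =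
        κ * Cfsg.quadFormMinus m F (j a₀) (j b₀) w)
    (A : ↥(Cfsg.Geo.quadSimilarityGroup (Cfsg.quadFormMinus m F₀ a₀ b₀))) :
    ((subHom j a₀ b₀ a b M κ hM A :
      ↥(Cfsg.Geo.quadSimilarityGroup (Cfsg.quadFormMinus m F a b))) :
      GL ((Fin m ⊕ Fin m) ⊕ Fin 2) F) =
      M * Matrix.GeneralLinearGroup.map j (A : GL ((Fin m ⊕ Fin m) ⊕ Fin 2) F₀) * M⁻¹ := rfl

/-- the image of `subHom` centralises the automorphism induced by `(g₁, σ)` -/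
theorem subHom_mem_centralizer (j : F₀ →+* F) (a₀ b₀ : F₀) (a b : F)
    (M : GL ((Fin m ⊕ Fin m) ⊕ Fin 2) F) (κ : F)
    (hM : ∀ w, Cfsg.quadFormMinus m F a b
      ((M : Matrix ((Fin m ⊕ Fin m) ⊕ Fin 2) ((Fin m ⊕ Fin m) ⊕ Fin 2) F) *ᵥ w) =
        κ * Cfsg.quadFormMinus m F (j a₀) (j b₀) w)
    (σ : RingAut F) (hj : ∀ c : F₀, σ (j c) = j c)
    (g₁ : GL ((Fin m ⊕ Fin m) ⊕ Fin 2) F)
    (hg₁ : (g₁ : Matrix ((Fin m ⊕ Fin m) ⊕ Fin 2) ((Fin m ⊕ Fin m) ⊕ Fin 2) F) *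
      (M : Matrix ((Fin m ⊕ Fin m) ⊕ Fin 2) ((Fin m ⊕ Fin m) ⊕ Fin 2) F).map σ =
      (M : Matrix ((Fin m ⊕ Fin m) ⊕ Fin 2) ((Fin m ⊕ Fin m) ⊕ Fin 2) F))
    (x : MulAut (Cfsg.POmega F (Cfsg.quadFormMinus m F a b)))
    (hp₁ : Cfsg.IsSemisimilarityPair (Cfsg.quadFormMinus m F a b) g₁ σ)
    (hi₁ : Cfsg.IsInducedBySemilinearPOmega (Cfsg.quadFormMinus m F a b) g₁ σ x)
    (A : ↥(Cfsg.Geo.quadSimilarityGroup (Cfsg.quadFormMinus m F₀ a₀ b₀))) :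
    simAut (Cfsg.quadFormMinus m F a b) (subHom j a₀ b₀ a b M κ hM A) ∈
      Subgroup.centralizer {x} := by
  have hgM : g₁ * glMap σ M = M := by
    apply Units.ext
    rw [Units.val_mul, glMap_coe]
    exact hg₁
  have hAσ : glMap σ (Matrix.GeneralLinearGroup.map j (A : GL ((Fin m ⊕ Fin m) ⊕ Fin 2) F₀)) =
      Matrix.GeneralLinearGroup.map j (A : GL ((Fin m ⊕ Fin m) ⊕ Fin 2) F₀) := by
    apply Units.ext
    ext i k
    exact hj _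
  have hconj : ((subHom j a₀ b₀ a b M κ hM A :
      ↥(Cfsg.Geo.quadSimilarityGroup (Cfsg.quadFormMinus m F a b))) :
      GL ((Fin m ⊕ Fin m) ⊕ Fin 2) F) = g₁ * glMap σ ((subHom j a₀ b₀ a b M κ hM A :
      ↥(Cfsg.Geo.quadSimilarityGroup (Cfsg.quadFormMinus m F a b))) :
      GL ((Fin m ⊕ Fin m) ⊕ Fin 2) F) * g₁⁻¹ := by
    rw [subHom_coe, map_mul, map_mul, map_inv, hAσ]
    have e : g₁ * (glMap σ M * Matrix.GeneralLinearGroup.map j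
        (A : GL ((Fin m ⊕ Fin m) ⊕ Fin 2) F₀) * (glMap σ M)⁻¹) * g₁⁻¹ =
        (g₁ * glMap σ M) * Matrix.GeneralLinearGroup.map j
        (A : GL ((Fin m ⊕ Fin m) ⊕ Fin 2) F₀) * (g₁ * glMap σ M)⁻¹ := by
      group
    rw [e, hgM]
  have h1 := conj_simAut (Cfsg.quadFormMinus m F a b) g₁ σ hp₁ x hi₁
    (subHom j a₀ b₀ a b M κ hM A) (subHom j a₀ b₀ a b M κ hM A) hconj
  rw [Subgroup.mem_centralizer_iff]
  intro y hy
  rw [Set.mem_singleton_iff] at hy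
  subst hy
  calc y * simAut (Cfsg.quadFormMinus m F a b) (subHom j a₀ b₀ a b M κ hM A)
      = (y * simAut (Cfsg.quadFormMinus m F a b) (subHom j a₀ b₀ a b M κ hM A) * y⁻¹) * y := by
        group
    _ = simAut (Cfsg.quadFormMinus m F a b) (subHom j a₀ b₀ a b M κ hM A) * y := by rw [h1]

/-- every similarity-induced automorphism centralising `x` comes from the subfield -/
theorem exists_subHom_of_mem_centralizer (hm : 3 ≤ m) (j : F₀ →+* F) (a₀ b₀ : F₀) (a b : F)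
    (hab : ∀ z₁ z₂ : F, z₁ ^ 2 + a * z₁ * z₂ + b * z₂ ^ 2 = 0 → z₁ = 0 ∧ z₂ = 0)
    (M : GL ((Fin m ⊕ Fin m) ⊕ Fin 2) F) (κ : F) (hκ : κ ≠ 0)
    (hM : ∀ w, Cfsg.quadFormMinus m F a b
      ((M : Matrix ((Fin m ⊕ Fin m) ⊕ Fin 2) ((Fin m ⊕ Fin m) ⊕ Fin 2) F) *ᵥ w) =
        κ * Cfsg.quadFormMinus m F (j a₀) (j b₀) w)
    (σ : RingAut F) {r : ℕ} (hr : 0 < r) (hσ : orderOf σ = r)
    (hj : ∀ c : F, σ c = c ↔ ∃ d, j d = c)
    (g₁ : GL ((Fin m ⊕ Fin m) ⊕ Fin 2) F)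
    (hg₁ : (g₁ : Matrix ((Fin m ⊕ Fin m) ⊕ Fin 2) ((Fin m ⊕ Fin m) ⊕ Fin 2) F) *
      (M : Matrix ((Fin m ⊕ Fin m) ⊕ Fin 2) ((Fin m ⊕ Fin m) ⊕ Fin 2) F).map σ =
      (M : Matrix ((Fin m ⊕ Fin m) ⊕ Fin 2) ((Fin m ⊕ Fin m) ⊕ Fin 2) F))
    (x : MulAut (Cfsg.POmega F (Cfsg.quadFormMinus m F a b)))
    (hp₁ : Cfsg.IsSemisimilarityPair (Cfsg.quadFormMinus m F a b) g₁ σ)
    (hi₁ : Cfsg.IsInducedBySemilinearPOmega (Cfsg.quadFormMinus m F a b) g₁ σ x)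
    (h : ↥(Cfsg.Geo.quadSimilarityGroup (Cfsg.quadFormMinus m F a b)))
    (hc : simAut (Cfsg.quadFormMinus m F a b) h ∈ Subgroup.centralizer {x}) :
    ∃ A : ↥(Cfsg.Geo.quadSimilarityGroup (Cfsg.quadFormMinus m F₀ a₀ b₀)),
      simAut (Cfsg.quadFormMinus m F a b) (subHom j a₀ b₀ a b M κ hM A) =
        simAut (Cfsg.quadFormMinus m F a b) h := by
  classical
  have h7 : 7 ≤ Fintype.card ((Fin m ⊕ Fin m) ⊕ Fin 2) := by
    rw [card_minus_index]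
    omega
  have hQnd := minusQ_nondeg_of_aniso m a b hab
  have hcomm : x * simAut (Cfsg.quadFormMinus m F a b) h =
      simAut (Cfsg.quadFormMinus m F a b) h * x := (Subgroup.mem_centralizer_iff.mp hc) x rfl
  obtain ⟨c₁, hc₁⟩ := hp₁
  obtain ⟨μ, hμ⟩ := h.2
  have hh'mem : g₁ * glMap σ (h : GL ((Fin m ⊕ Fin m) ⊕ Fin 2) F) * g₁⁻¹ ∈
      Cfsg.Geo.quadSimilarityGroup (Cfsg.quadFormMinus m F a b) := by
    refine ⟨Units.map ((σ : F ≃+* F) : F →* F) μ, fun v => ?_⟩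
    exact conj_similarity (Cfsg.quadFormMinus m F a b) g₁ σ (c₁ : F) hc₁
      (h : GL ((Fin m ⊕ Fin m) ⊕ Fin 2) F) (μ : F) hμ v
  obtain ⟨h', hh'⟩ : ∃ h' : ↥(Cfsg.Geo.quadSimilarityGroup (Cfsg.quadFormMinus m F a b)),
      (h' : GL ((Fin m ⊕ Fin m) ⊕ Fin 2) F) =
        g₁ * glMap σ (h : GL ((Fin m ⊕ Fin m) ⊕ Fin 2) F) * g₁⁻¹ := ⟨⟨_, hh'mem⟩, rfl⟩
  have h1 := conj_simAut (Cfsg.quadFormMinus m F a b) g₁ σ ⟨c₁, hc₁⟩ x hi₁ h h' hh'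
  have h2 : simAut (Cfsg.quadFormMinus m F a b) h' = simAut (Cfsg.quadFormMinus m F a b) h := by
    rw [← h1, hcomm, mul_inv_cancel_right]
  have h3 : simAut (Cfsg.quadFormMinus m F a b) (h⁻¹ * h') = 1 := by
    rw [map_mul, map_inv, h2, inv_mul_cancel]
  obtain ⟨l, hl⟩ := (simAut_eq_one_iff (minusQ m F a b) hQnd h7 (h⁻¹ * h')).mp h3
  -- `h' = l h`
  have hmat : ((h' : GL ((Fin m ⊕ Fin m) ⊕ Fin 2) F) :
      Matrix ((Fin m ⊕ Fin m) ⊕ Fin 2) ((Fin m ⊕ Fin m) ⊕ Fin 2) F) =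
      l • ((h : GL ((Fin m ⊕ Fin m) ⊕ Fin 2) F) :
        Matrix ((Fin m ⊕ Fin m) ⊕ Fin 2) ((Fin m ⊕ Fin m) ⊕ Fin 2) F) := by
    have e : (h' : GL ((Fin m ⊕ Fin m) ⊕ Fin 2) F) = (h : GL ((Fin m ⊕ Fin m) ⊕ Fin 2) F) *
        ((h⁻¹ * h' : ↥(Cfsg.Geo.quadSimilarityGroup (Cfsg.quadFormMinus m F a b))) :
          GL ((Fin m ⊕ Fin m) ⊕ Fin 2) F) := by
      rw [Subgroup.coe_mul, Subgroup.coe_inv, mul_inv_cancel_left]
    rw [e, Units.val_mul, hl, Matrix.mul_smul, Matrix.mul_one]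
  -- the matrix `k = M⁻¹ h M`
  obtain ⟨k, hk⟩ : ∃ k : GL ((Fin m ⊕ Fin m) ⊕ Fin 2) F,
      k = M⁻¹ * (h : GL ((Fin m ⊕ Fin m) ⊕ Fin 2) F) * M := ⟨_, rfl⟩
  have hgM : g₁ * glMap σ M = M := by
    apply Units.ext
    rw [Units.val_mul, glMap_coe]
    exact hg₁
  have hσM : glMap σ M = g₁⁻¹ * M := by
    rw [eq_inv_mul_iff_mul_eq]
    exact hgM
  have hσk : glMap σ k = M⁻¹ * (h' : GL ((Fin m ⊕ Fin m) ⊕ Fin 2) F) * M := by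
    rw [hk, map_mul, map_mul, map_inv, hσM, hh']
    group
  have hsemi : (k : Matrix ((Fin m ⊕ Fin m) ⊕ Fin 2) ((Fin m ⊕ Fin m) ⊕ Fin 2) F).map σ =
      l • (k : Matrix ((Fin m ⊕ Fin m) ⊕ Fin 2) ((Fin m ⊕ Fin m) ⊕ Fin 2) F) := by
    rw [← glMap_coe, hσk, hk, Units.val_mul, Units.val_mul, hmat, Matrix.mul_smul,
      Matrix.smul_mul, Units.val_mul, Units.val_mul]
  have hk0 : (k : Matrix ((Fin m ⊕ Fin m) ⊕ Fin 2) ((Fin m ⊕ Fin m) ⊕ Fin 2) F) ≠ 0 := by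
    intro h0
    have e : (k : Matrix ((Fin m ⊕ Fin m) ⊕ Fin 2) ((Fin m ⊕ Fin m) ⊕ Fin 2) F) *
        ((k⁻¹ : GL ((Fin m ⊕ Fin m) ⊕ Fin 2) F) :
          Matrix ((Fin m ⊕ Fin m) ⊕ Fin 2) ((Fin m ⊕ Fin m) ⊕ Fin 2) F) = 1 := by
      rw [← Units.val_mul, mul_inv_cancel, Units.val_one]
    rw [h0, Matrix.zero_mul] at e
    have := congrFun (congrFun e (Sum.inr 0)) (Sum.inr 0)
    rw [Matrix.zero_apply, Matrix.one_apply_eq] at this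
    exact zero_ne_one this
  obtain ⟨b', hb0, hb⟩ := exists_fixed_multiple σ hr hσ _ hk0 l hsemi
  have hent : ∀ i i', ∃ d : F₀, j d =
      b' * (k : Matrix ((Fin m ⊕ Fin m) ⊕ Fin 2) ((Fin m ⊕ Fin m) ⊕ Fin 2) F) i i' := by
    intro i i'
    apply (hj _).mp
    have := congrFun (congrFun hb i) i'
    simpa using this
  choose A₀ hA₀ using hent
  have hmap : (Matrix.of A₀).map j =
      b' • (k : Matrix ((Fin m ⊕ Fin m) ⊕ Fin 2) ((Fin m ⊕ Fin m) ⊕ Fin 2) F) := by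
    ext i i'
    rw [Matrix.map_apply, Matrix.of_apply, hA₀, Matrix.smul_apply, smul_eq_mul]
  have hdet : (Matrix.of A₀).det ≠ 0 := by
    intro h0
    have h1 : j (Matrix.of A₀).det =
        (b' • (k : Matrix ((Fin m ⊕ Fin m) ⊕ Fin 2) ((Fin m ⊕ Fin m) ⊕ Fin 2) F)).det := by
      rw [← hmap, RingHom.map_det]
      rfl
    rw [h0, map_zero, Matrix.det_smul] at h1
    have h2 : (k : Matrix ((Fin m ⊕ Fin m) ⊕ Fin 2) ((Fin m ⊕ Fin m) ⊕ Fin 2) F).det ≠ 0 := by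
      have := (Matrix.isUnit_iff_isUnit_det _).mp ⟨k, rfl⟩
      exact this.ne_zero
    exact (mul_ne_zero (pow_ne_zero _ hb0) h2) h1.symm
  obtain ⟨Ag, hAgdef⟩ : ∃ Ag : GL ((Fin m ⊕ Fin m) ⊕ Fin 2) F₀,
      (Ag : Matrix ((Fin m ⊕ Fin m) ⊕ Fin 2) ((Fin m ⊕ Fin m) ⊕ Fin 2) F₀) = Matrix.of A₀ :=
    ⟨Matrix.GeneralLinearGroup.mkOfDetNeZero (Matrix.of A₀) hdet, rfl⟩
  have hAg : Matrix.GeneralLinearGroup.map j Ag =
      Matrix.GeneralLinearGroup.scalar ((Fin m ⊕ Fin m) ⊕ Fin 2) (Units.mk0 b' hb0) * k := by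
    apply Units.ext
    rw [scalar_mul_val, Units.val_mk0, ← hmap, ← hAgdef]
    rfl
  -- `k` is a similarity of the form with coefficients `j a₀`, `j b₀`
  have hMinv : ∀ w, Cfsg.quadFormMinus m F (j a₀) (j b₀)
      (((M⁻¹ : GL ((Fin m ⊕ Fin m) ⊕ Fin 2) F) :
        Matrix ((Fin m ⊕ Fin m) ⊕ Fin 2) ((Fin m ⊕ Fin m) ⊕ Fin 2) F) *ᵥ w) =
      κ⁻¹ * Cfsg.quadFormMinus m F a b w := by
    intro w
    have e := hM (((M⁻¹ : GL ((Fin m ⊕ Fin m) ⊕ Fin 2) F) :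
        Matrix ((Fin m ⊕ Fin m) ⊕ Fin 2) ((Fin m ⊕ Fin m) ⊕ Fin 2) F) *ᵥ w)
    rw [Matrix.mulVec_mulVec, ← Units.val_mul, mul_inv_cancel, Units.val_one,
      Matrix.one_mulVec] at e
    rw [e]
    field_simp
  have hksim : ∀ z, Cfsg.quadFormMinus m F (j a₀) (j b₀)
      ((k : Matrix ((Fin m ⊕ Fin m) ⊕ Fin 2) ((Fin m ⊕ Fin m) ⊕ Fin 2) F) *ᵥ z) =
      (μ : F) * Cfsg.quadFormMinus m F (j a₀) (j b₀) z := by
    intro z
    have e := similarity_conj (Cfsg.quadFormMinus m F (j a₀) (j b₀)) (Cfsg.quadFormMinus m F a b)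
      M⁻¹ κ⁻¹ hMinv (h : GL ((Fin m ⊕ Fin m) ⊕ Fin 2) F) (μ : F) hμ z
    rw [inv_inv, ← hk] at e
    exact e
  have hsimF : ∀ w, Cfsg.quadFormMinus m F (j a₀) (j b₀)
      (((Matrix.of A₀).map j) *ᵥ w) =
      (b' * b' * (μ : F)) * Cfsg.quadFormMinus m F (j a₀) (j b₀) w := by
    intro w
    rw [hmap, Matrix.smul_mulVec]
    have e := QuadraticMap.map_smul (minusQ m F (j a₀) (j b₀)) b'
      ((k : Matrix ((Fin m ⊕ Fin m) ⊕ Fin 2) ((Fin m ⊕ Fin m) ⊕ Fin 2) F) *ᵥ w)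
    change Cfsg.quadFormMinus m F (j a₀) (j b₀) _ = _ • Cfsg.quadFormMinus m F (j a₀) (j b₀) _ at e
    rw [e, hksim, smul_eq_mul]
    ring
  -- the multiplier over the subfield
  obtain ⟨c₀, hc₀⟩ : ∃ c₀ : F₀, c₀ = Cfsg.quadFormMinus m F₀ a₀ b₀
      ((Matrix.of A₀) *ᵥ Pi.single (Sum.inr 0) 1) := ⟨_, rfl⟩
  have hjc₀ : j c₀ = b' * b' * (μ : F) := by
    rw [hc₀, ← quadFormMinus_rvec, ← rvec_mulVec, hsimF, quadFormMinus_rvec,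
      quadFormMinus_single_z, map_one, mul_one]
  have hc₀ne : c₀ ≠ 0 := by
    intro h0
    rw [h0, map_zero] at hjc₀
    exact (mul_ne_zero (mul_ne_zero hb0 hb0) μ.ne_zero) hjc₀.symm
  have hAmem : Ag ∈ Cfsg.Geo.quadSimilarityGroup (Cfsg.quadFormMinus m F₀ a₀ b₀) := by
    refine ⟨Units.mk0 c₀ hc₀ne, fun v => ?_⟩
    apply j.injective
    rw [hAgdef, Units.val_mk0, map_mul, hjc₀, ← quadFormMinus_rvec, ← rvec_mulVec, hsimF,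
      quadFormMinus_rvec]
  refine ⟨⟨Ag, hAmem⟩, ?_⟩
  apply simAut_eq_of_scalar_mul (Cfsg.quadFormMinus m F a b) _ h (Units.mk0 b' hb0)
  rw [subHom_coe]
  change M * Matrix.GeneralLinearGroup.map j Ag * M⁻¹ = _
  have hsc := Matrix.GeneralLinearGroup.scalar_commute (Units.mk0 b' hb0) M
  rw [hAg, hk, ← mul_assoc M, ← hsc]
  group

/-- the kernel of `simAut ∘ subHom` is the kernel of `simAut` over the subfield -/
theorem ker_simAut_subHom (hm : 3 ≤ m) (j : F₀ →+* F) (a₀ b₀ : F₀)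
    (hab₀ : ∀ z₁ z₂ : F₀, z₁ ^ 2 + a₀ * z₁ * z₂ + b₀ * z₂ ^ 2 = 0 → z₁ = 0 ∧ z₂ = 0) (a b : F)
    (hab : ∀ z₁ z₂ : F, z₁ ^ 2 + a * z₁ * z₂ + b * z₂ ^ 2 = 0 → z₁ = 0 ∧ z₂ = 0)
    (M : GL ((Fin m ⊕ Fin m) ⊕ Fin 2) F) (κ : F)
    (hM : ∀ w, Cfsg.quadFormMinus m F a b
      ((M : Matrix ((Fin m ⊕ Fin m) ⊕ Fin 2) ((Fin m ⊕ Fin m) ⊕ Fin 2) F) *ᵥ w) =
        κ * Cfsg.quadFormMinus m F (j a₀) (j b₀) w) :
    ((simAut (Cfsg.quadFormMinus m F a b)).comp (subHom j a₀ b₀ a b M κ hM)).ker =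
      (simAut (Cfsg.quadFormMinus m F₀ a₀ b₀)).ker := by
  have h7 : 7 ≤ Fintype.card ((Fin m ⊕ Fin m) ⊕ Fin 2) := by
    rw [card_minus_index]
    omega
  ext A
  rw [MonoidHom.mem_ker, MonoidHom.mem_ker, MonoidHom.comp_apply]
  refine (simAut_eq_one_iff (minusQ m F a b) (minusQ_nondeg_of_aniso m a b hab) h7
    (subHom j a₀ b₀ a b M κ hM A)).trans (Iff.trans ?_
    (simAut_eq_one_iff (minusQ m F₀ a₀ b₀) (minusQ_nondeg_of_aniso m a₀ b₀ hab₀) h7 A).symm)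
  constructor
  · rintro ⟨l, hl⟩
    have e : Matrix.GeneralLinearGroup.map j (A : GL ((Fin m ⊕ Fin m) ⊕ Fin 2) F₀) =
        M⁻¹ * ((subHom j a₀ b₀ a b M κ hM A :
          ↥(Cfsg.Geo.quadSimilarityGroup (Cfsg.quadFormMinus m F a b))) :
          GL ((Fin m ⊕ Fin m) ⊕ Fin 2) F) * M := by
      rw [subHom_coe]
      group
    have e2 : ((A : GL ((Fin m ⊕ Fin m) ⊕ Fin 2) F₀) :
        Matrix ((Fin m ⊕ Fin m) ⊕ Fin 2) ((Fin m ⊕ Fin m) ⊕ Fin 2) F₀).map j =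
        l • (1 : Matrix ((Fin m ⊕ Fin m) ⊕ Fin 2) ((Fin m ⊕ Fin m) ⊕ Fin 2) F) := by
      have e3 := congrArg (fun g : GL ((Fin m ⊕ Fin m) ⊕ Fin 2) F =>
        (g : Matrix ((Fin m ⊕ Fin m) ⊕ Fin 2) ((Fin m ⊕ Fin m) ⊕ Fin 2) F)) e
      simp only [Units.val_mul] at e3
      rw [hl, Matrix.mul_smul, Matrix.mul_one, Matrix.smul_mul, ← Units.val_mul,
        inv_mul_cancel, Units.val_one] at e3
      exact e3
    refine ⟨((A : GL ((Fin m ⊕ Fin m) ⊕ Fin 2) F₀) :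
        Matrix ((Fin m ⊕ Fin m) ⊕ Fin 2) ((Fin m ⊕ Fin m) ⊕ Fin 2) F₀) (Sum.inr 0) (Sum.inr 0), ?_⟩
    ext i k
    apply j.injective
    have h1 := congrFun (congrFun e2 i) k
    have h2 := congrFun (congrFun e2 (Sum.inr 0)) (Sum.inr 0)
    rw [Matrix.map_apply, Matrix.smul_apply, smul_eq_mul] at h1 h2
    rw [Matrix.one_apply_eq, mul_one] at h2
    rw [h1, Matrix.smul_apply, smul_eq_mul, map_mul, h2, Matrix.one_apply, Matrix.one_apply]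
    split_ifs
    · rw [map_one]
    · rw [map_zero]
  · rintro ⟨l₀, hl₀⟩
    refine ⟨j l₀, ?_⟩
    rw [subHom_coe, Units.val_mul, Units.val_mul]
    have e : ((Matrix.GeneralLinearGroup.map j (A : GL ((Fin m ⊕ Fin m) ⊕ Fin 2) F₀) :
        GL ((Fin m ⊕ Fin m) ⊕ Fin 2) F) :
        Matrix ((Fin m ⊕ Fin m) ⊕ Fin 2) ((Fin m ⊕ Fin m) ⊕ Fin 2) F) =
        j l₀ • (1 : Matrix ((Fin m ⊕ Fin m) ⊕ Fin 2) ((Fin m ⊕ Fin m) ⊕ Fin 2) F) := by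
      change ((A : GL ((Fin m ⊕ Fin m) ⊕ Fin 2) F₀) :
        Matrix ((Fin m ⊕ Fin m) ⊕ Fin 2) ((Fin m ⊕ Fin m) ⊕ Fin 2) F₀).map j = _
      rw [hl₀]
      ext i k
      rw [Matrix.map_apply, Matrix.smul_apply, Matrix.smul_apply, smul_eq_mul, smul_eq_mul,
        map_mul, Matrix.one_apply, Matrix.one_apply]
      split_ifs
      · rw [map_one]
      · rw [map_zero]
    rw [e, Matrix.mul_smul, Matrix.mul_one, Matrix.smul_mul, ← Units.val_mul, mul_inv_cancel,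
      Units.val_one]

/-- class preservation transfers along `subHom` -/
theorem simAut_subHom_mem_inndiag_iff (hm : 3 ≤ m) (j : F₀ →+* F) (a₀ b₀ : F₀)
    (hab₀ : ∀ z₁ z₂ : F₀, z₁ ^ 2 + a₀ * z₁ * z₂ + b₀ * z₂ ^ 2 = 0 → z₁ = 0 ∧ z₂ = 0) (a b : F)
    (hab : ∀ z₁ z₂ : F, z₁ ^ 2 + a * z₁ * z₂ + b * z₂ ^ 2 = 0 → z₁ = 0 ∧ z₂ = 0)
    (M : GL ((Fin m ⊕ Fin m) ⊕ Fin 2) F) (κ : F) (hκ : κ ≠ 0)
    (hM : ∀ w, Cfsg.quadFormMinus m F a b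
      ((M : Matrix ((Fin m ⊕ Fin m) ⊕ Fin 2) ((Fin m ⊕ Fin m) ⊕ Fin 2) F) *ᵥ w) =
        κ * Cfsg.quadFormMinus m F (j a₀) (j b₀) w)
    (A : ↥(Cfsg.Geo.quadSimilarityGroup (Cfsg.quadFormMinus m F₀ a₀ b₀))) :
    simAut (Cfsg.quadFormMinus m F a b) (subHom j a₀ b₀ a b M κ hM A) ∈
        Cfsg.inndiagPOmegaMinus m F a b ↔
      simAut (Cfsg.quadFormMinus m F₀ a₀ b₀) A ∈ Cfsg.inndiagPOmegaMinus m F₀ a₀ b₀ := by
  rw [simAut_mem_inndiag_iff_preserves hm a b hab, simAut_mem_inndiag_iff_preserves hm a₀ b₀ hab₀,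
    subHom_coe]
  obtain ⟨c, hc⟩ := A.2
  exact (preservesMinus_transfer j a₀ b₀ hab₀ a b hab (A : GL ((Fin m ⊕ Fin m) ⊕ Fin 2) F₀)
    (c : F₀) hc M κ hκ hM).symm

/-- **the centraliser of a field automorphism in the inner-diagonal group** -/
theorem nonempty_centralizer_equiv_minus (hm : 3 ≤ m) (j : F₀ →+* F) (a₀ b₀ : F₀)
    (hab₀ : ∀ z₁ z₂ : F₀, z₁ ^ 2 + a₀ * z₁ * z₂ + b₀ * z₂ ^ 2 = 0 → z₁ = 0 ∧ z₂ = 0) (a b : F)
    (hab : ∀ z₁ z₂ : F, z₁ ^ 2 + a * z₁ * z₂ + b * z₂ ^ 2 = 0 → z₁ = 0 ∧ z₂ = 0)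
    (M : GL ((Fin m ⊕ Fin m) ⊕ Fin 2) F) (κ : F) (hκ : κ ≠ 0)
    (hM : ∀ w, Cfsg.quadFormMinus m F a b
      ((M : Matrix ((Fin m ⊕ Fin m) ⊕ Fin 2) ((Fin m ⊕ Fin m) ⊕ Fin 2) F) *ᵥ w) =
        κ * Cfsg.quadFormMinus m F (j a₀) (j b₀) w)
    (σ : RingAut F) {r : ℕ} (hr : 0 < r) (hσ : orderOf σ = r)
    (hj : ∀ c : F, σ c = c ↔ ∃ d, j d = c)
    (g₁ : GL ((Fin m ⊕ Fin m) ⊕ Fin 2) F)
    (hg₁ : (g₁ : Matrix ((Fin m ⊕ Fin m) ⊕ Fin 2) ((Fin m ⊕ Fin m) ⊕ Fin 2) F) *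
      (M : Matrix ((Fin m ⊕ Fin m) ⊕ Fin 2) ((Fin m ⊕ Fin m) ⊕ Fin 2) F).map σ =
      (M : Matrix ((Fin m ⊕ Fin m) ⊕ Fin 2) ((Fin m ⊕ Fin m) ⊕ Fin 2) F))
    (x : MulAut (Cfsg.POmega F (Cfsg.quadFormMinus m F a b)))
    (hp₁ : Cfsg.IsSemisimilarityPair (Cfsg.quadFormMinus m F a b) g₁ σ)
    (hi₁ : Cfsg.IsInducedBySemilinearPOmega (Cfsg.quadFormMinus m F a b) g₁ σ x) :
    Nonempty (↥(Cfsg.inndiagPOmegaMinus m F a b ⊓ Subgroup.centralizer {x}) ≃*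
      ↥(Cfsg.inndiagPOmegaMinus m F₀ a₀ b₀)) := by
  have hj' : ∀ c : F₀, σ (j c) = j c := fun c => (hj (j c)).mpr ⟨c, rfl⟩
  apply nonempty_mulEquiv_of_ker_eq (simAut (Cfsg.quadFormMinus m F₀ a₀ b₀))
    ((simAut (Cfsg.quadFormMinus m F a b)).comp (subHom j a₀ b₀ a b M κ hM))
    (ker_simAut_subHom hm j a₀ b₀ hab₀ a b hab M κ hM)
  · rw [← pgoAut_eq]
    exact inndiag_minus_le_pgoAut a₀ b₀
  · rintro β hβ
    rw [Subgroup.mem_inf] at hβ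
    have h1 := inndiag_minus_le_pgoAut a b hβ.1
    rw [pgoAut_eq] at h1
    obtain ⟨h, rfl⟩ := h1
    obtain ⟨A, hA⟩ := exists_subHom_of_mem_centralizer hm j a₀ b₀ a b hab M κ hκ hM σ hr hσ hj
      g₁ hg₁ x hp₁ hi₁ h hβ.2
    exact ⟨A, hA⟩
  · intro A
    rw [MonoidHom.comp_apply, Subgroup.mem_inf,
      simAut_subHom_mem_inndiag_iff hm j a₀ b₀ hab₀ a b hab M κ hκ hM]
    constructor
    · exact fun h => h.1
    · exact fun h => ⟨h, subHom_mem_centralizer j a₀ b₀ a b M κ hM σ hj' g₁ hg₁ x hp₁ hi₁ A⟩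

end sub

end Cfsg.Agent.Lib.Helper13
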