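import Mathlib
import Cfsg.Prelude.Def_GeometricClasses
import Cfsg.Agent.Lib.Helper99.AschDefs

/-!
# Project ASCH (helper99), module ASCH-[PERF] (helper13)

`N` minimal `H`-normalised with `Z < N ≤ HZ`, not all commutators scalar: `P = ⁅N, N⁆` is perfect, non-scalar,
contained in `H`, `H`-normalised, and every `H`-normalised subgroup of `P` is scalar or `P`.
-/

set_option autoImplicit false

namespace Cfsg.Agent.Lib.Helper13.AschPerf

open scoped commutatorElement Pointwise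

variable {G : Type*} [Group G]

/-- commutators do not see central factors -/
theorem comm_mul_central {Z : Subgroup G} (hZ : ∀ z ∈ Z, ∀ g : G, z * g = g * z) {a b z₁ z₂ : G}
    (hz₁ : z₁ ∈ Z) (hz₂ : z₂ ∈ Z) : ⁅a * z₁, b * z₂⁆ = ⁅a, b⁆ := by
  rw [commutatorElement_def, commutatorElement_def]
  have h1 : z₁ * b = b * z₁ := hZ z₁ hz₁ b
  have h2 : z₂ * a⁻¹ = a⁻¹ * z₂ := hZ z₂ hz₂ a⁻¹
  have h3 : z₁ * z₂ = z₂ * z₁ := hZ z₁ hz₁ z₂
  calc a * z₁ * (b * z₂) * (a * z₁)⁻¹ * (b * z₂)⁻¹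
      = a * (z₁ * b) * (z₂ * z₁⁻¹) * a⁻¹ * z₂⁻¹ * b⁻¹ := by group
    _ = a * (b * z₁) * (z₂ * z₁⁻¹) * a⁻¹ * z₂⁻¹ * b⁻¹ := by rw [h1]
    _ = a * b * (z₁ * z₂) * z₁⁻¹ * a⁻¹ * z₂⁻¹ * b⁻¹ := by group
    _ = a * b * (z₂ * z₁) * z₁⁻¹ * a⁻¹ * z₂⁻¹ * b⁻¹ := by rw [h3]
    _ = a * b * (z₂ * a⁻¹) * z₂⁻¹ * b⁻¹ := by group
    _ = a * b * (a⁻¹ * z₂) * z₂⁻¹ * b⁻¹ := by rw [h2]
    _ = a * b * a⁻¹ * b⁻¹ := by group

/-- `⁅A Z, A Z⁆ ≤ K` as soon as the commutators of elements of `A` lie in `K` (`Z` central) -/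
theorem commutator_sup_central_le {Z : Subgroup G} [Z.Normal]
    (hZ : ∀ z ∈ Z, ∀ g : G, z * g = g * z) (A K : Subgroup G)
    (hA : ∀ a₁ ∈ A, ∀ a₂ ∈ A, ⁅a₁, a₂⁆ ∈ K) : ⁅A ⊔ Z, A ⊔ Z⁆ ≤ K := by
  rw [Subgroup.commutator_le]
  intro x hx y hy
  have hx' : x ∈ (A : Set G) * (Z : Set G) := by rw [← Subgroup.mul_normal]; exact hx
  have hy' : y ∈ (A : Set G) * (Z : Set G) := by rw [← Subgroup.mul_normal]; exact hy
  obtain ⟨a, ha, z₁, hz₁, rfl⟩ := Set.mem_mul.1 hx'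
  obtain ⟨b, hb, z₂, hz₂, rfl⟩ := Set.mem_mul.1 hy'
  rw [comm_mul_central hZ hz₁ hz₂]
  exact hA a ha b hb

/-- `⁅A, A⁆ ≤ A` -/
theorem commutator_self_le (A : Subgroup G) : ⁅A, A⁆ ≤ A := by
  rw [Subgroup.commutator_le]
  intro x hx y hy
  rw [commutatorElement_def]
  exact A.mul_mem (A.mul_mem (A.mul_mem hx hy) (A.inv_mem hx)) (A.inv_mem hy)

end Cfsg.Agent.Lib.Helper13.AschPerf

namespace Cfsg.Agent.Lib.Helper13.AschPerf

open Cfsg Cfsg.Geo Cfsg.Agent.Lib.Helper99.Asch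
open scoped MatrixGroups Matrix Kronecker commutatorElement

variable {ι : Type} [Fintype ι] [DecidableEq ι] {F : Type*} [Field F]

/-- scalar matrices are central -/
theorem scalars_comm_helper13 {z : GL ι F} (hz : z ∈ scalars ι F) (g : GL ι F) : z * g = g * z := by
  rw [mem_scalars_iff] at hz
  obtain ⟨c, hc⟩ := hz
  apply Units.ext
  rw [Units.val_mul, Units.val_mul, hc, Matrix.smul_mul, Matrix.mul_smul, one_mul, mul_one]

theorem Nrm_iff_map_le {H N : Subgroup (GL ι F)} :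
    Nrm H N ↔ ∀ h ∈ H, N.map (MulAut.conj h).toMonoidHom ≤ N := by
  constructor
  · rintro hn h hh _ ⟨x, hx, rfl⟩
    exact hn h hh x hx
  · intro hn h hh x hx
    exact hn h hh ⟨x, hx, rfl⟩

theorem Nrm_sup_helper13 {H A B : Subgroup (GL ι F)} (hA : Nrm H A) (hB : Nrm H B) : Nrm H (A ⊔ B) := by
  rw [Nrm_iff_map_le] at hA hB ⊢
  intro h hh
  rw [Subgroup.map_sup]
  exact sup_le_sup (hA h hh) (hB h hh)

theorem Nrm_commutator_helper13 {H A : Subgroup (GL ι F)} (hA : Nrm H A) : Nrm H ⁅A, A⁆ := by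
  rw [Nrm_iff_map_le] at hA ⊢
  intro h hh
  rw [Subgroup.map_commutator]
  exact Subgroup.commutator_mono (hA h hh) (hA h hh)

theorem Nrm_scalars_helper13 (H : Subgroup (GL ι F)) : Nrm H (scalars ι F) := by
  intro h _ x hx
  exact (scalars_normal (ι := ι) (F := F)).conj_mem x hx h

end Cfsg.Agent.Lib.Helper13.AschPerf

namespace Cfsg.Agent.Lib.Helper99.Asch

open Cfsg Cfsg.Geo Cfsg.Agent.Lib.Helper13.AschPerf
open scoped MatrixGroups Matrix Kronecker commutatorElement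

variable {n : ℕ} {F : Type*} [Field F] [Fintype F]

/-- **ASCH-[PERF]** -/
theorem exists_perfMin (H N : Subgroup (GL (Fin n) F)) (hN : IsMinNrm H N)
    (hnab : ¬ CommScalar N) : ∃ P : Subgroup (GL (Fin n) F), PerfMin H P := by
  have hZ : ∀ z ∈ scalars (Fin n) F, ∀ g : GL (Fin n) F, z * g = g * z :=
    fun z hz g => scalars_comm_helper13 hz g
  have hZn : Nrm H (scalars (Fin n) F) := Nrm_scalars_helper13 H
  -- `P = ⁅N, N⁆`
  have hPN : ⁅N, N⁆ ≤ N := commutator_self_le N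
  have hPnrm : Nrm H ⁅N, N⁆ := Nrm_commutator_helper13 hN.nrm
  have hPH : ⁅N, N⁆ ≤ H := by
    refine (Subgroup.commutator_mono hN.le_sup hN.le_sup).trans ?_
    apply commutator_sup_central_le hZ
    intro a ha b hb
    rw [commutatorElement_def]
    exact H.mul_mem (H.mul_mem (H.mul_mem ha hb) (H.inv_mem ha)) (H.inv_mem hb)
  have hPnot : ¬ ⁅N, N⁆ ≤ scalars (Fin n) F := by
    intro hle
    apply hnab
    intro x hx y hy
    have := hle (Subgroup.commutator_mem_commutator hx hy)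
    rwa [commutatorElement_def] at this
  -- every `H`-normalised `M ≤ N`, not scalar, has `⁅N, N⁆ ≤ ⁅M, M⁆`
  have key : ∀ M : Subgroup (GL (Fin n) F), M ≤ N → Nrm H M → ¬ M ≤ scalars (Fin n) F →
      ⁅N, N⁆ ≤ ⁅M, M⁆ := by
    intro M hMN hM hMnot
    have h1 : M ⊔ scalars (Fin n) F = N := by
      rcases hN.minimal (M ⊔ scalars (Fin n) F) le_sup_right (sup_le hMN hN.scalars_le)
        (Nrm_sup_helper13 hM hZn) with h | h
      · exact absurd (h ▸ le_sup_left) hMnot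
      · exact h
    have h2 := commutator_sup_central_le hZ M ⁅M, M⁆
      (fun a ha b hb => Subgroup.commutator_mem_commutator ha hb)
    rwa [h1] at h2
  refine ⟨⁅N, N⁆, hPH, hPnrm, ?_, hPnot, ?_⟩
  · exact le_antisymm (commutator_self_le _) (key _ hPN hPnrm hPnot)
  · intro M hMP hM
    by_cases hMZ : M ≤ scalars (Fin n) F
    · exact Or.inl hMZ
    · right
      apply le_antisymm hMP
      exact (key M (hMP.trans hPN) hM hMZ).trans (commutator_self_le M)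

end Cfsg.Agent.Lib.Helper99.Asch
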