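import Mathlib
import Cfsg.Prelude.Def_GeometricClasses
import Cfsg.Agent.Lib.Helper99.AschDefs
import Cfsg.Agent.Lib.Helper20.AschU.Basic

/-!
# ASCHU-[ORBIT] (helper13): a reduced commutative subalgebra normalised by an irreducible group is a field or
has a transitive system of minimal orthogonal idempotents
-/

set_option autoImplicit false
set_option linter.unusedSectionVars false

namespace Cfsg.Agent.Lib.Helper13.AschUOrbit

open Cfsg Cfsg.Geo Module
open scoped MatrixGroups Matrix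

variable {n : ℕ} {F : Type*} [Field F]

/-- conjugation of a matrix by an element of `GL` -/
def cj (h : GL (Fin n) F) (x : Matrix (Fin n) (Fin n) F) : Matrix (Fin n) (Fin n) F :=
  (h : Matrix (Fin n) (Fin n) F) * x * ((h⁻¹ : GL (Fin n) F) : Matrix (Fin n) (Fin n) F)

theorem inv_mul_val (h : GL (Fin n) F) :
    ((h⁻¹ : GL (Fin n) F) : Matrix (Fin n) (Fin n) F) * (h : Matrix (Fin n) (Fin n) F) = 1 := by
  rw [← Units.val_mul, inv_mul_cancel, Units.val_one]

theorem mul_inv_val (h : GL (Fin n) F) :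
    (h : Matrix (Fin n) (Fin n) F) * ((h⁻¹ : GL (Fin n) F) : Matrix (Fin n) (Fin n) F) = 1 := by
  rw [← Units.val_mul, mul_inv_cancel, Units.val_one]

theorem cj_mul (h : GL (Fin n) F) (x y : Matrix (Fin n) (Fin n) F) :
    cj h (x * y) = cj h x * cj h y := by
  unfold cj
  calc (h : Matrix (Fin n) (Fin n) F) * (x * y) * ((h⁻¹ : GL (Fin n) F) : Matrix (Fin n) (Fin n) F)
      = (h : Matrix (Fin n) (Fin n) F) * x * 1 * y *
          ((h⁻¹ : GL (Fin n) F) : Matrix (Fin n) (Fin n) F) := by simp only [mul_one, mul_assoc]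
    _ = _ := by rw [← inv_mul_val h]; simp only [mul_assoc]

theorem cj_one (x : Matrix (Fin n) (Fin n) F) : cj (1 : GL (Fin n) F) x = x := by
  unfold cj; simp

theorem cj_cj (g h : GL (Fin n) F) (x : Matrix (Fin n) (Fin n) F) : cj g (cj h x) = cj (g * h) x := by
  unfold cj
  rw [mul_inv_rev, Units.val_mul, Units.val_mul]
  simp only [mul_assoc]

theorem cj_zero (h : GL (Fin n) F) : cj h (0 : Matrix (Fin n) (Fin n) F) = 0 := by
  unfold cj; simp

theorem cj_id (h : GL (Fin n) F) : cj h (1 : Matrix (Fin n) (Fin n) F) = 1 := by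
  unfold cj; rw [mul_one, mul_inv_val]

theorem cj_sum {κ : Type*} (h : GL (Fin n) F) (s : Finset κ) (f : κ → Matrix (Fin n) (Fin n) F) :
    cj h (∑ k ∈ s, f k) = ∑ k ∈ s, cj h (f k) := by
  unfold cj
  rw [Finset.mul_sum, Finset.sum_mul]

theorem cj_inv_cj (h : GL (Fin n) F) (x : Matrix (Fin n) (Fin n) F) : cj h⁻¹ (cj h x) = x := by
  rw [cj_cj, inv_mul_cancel, cj_one]

theorem cj_cj_inv (h : GL (Fin n) F) (x : Matrix (Fin n) (Fin n) F) : cj h (cj h⁻¹ x) = x := by
  rw [cj_cj, mul_inv_cancel, cj_one]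

theorem cj_eq_zero {h : GL (Fin n) F} {x : Matrix (Fin n) (Fin n) F} (hx : cj h x = 0) : x = 0 := by
  rw [← cj_inv_cj h x, hx, cj_zero]

/-- `h * x = cj h x * h` -/
theorem mul_eq_cj_mul (h : GL (Fin n) F) (x : Matrix (Fin n) (Fin n) F) :
    (h : Matrix (Fin n) (Fin n) F) * x = cj h x * (h : Matrix (Fin n) (Fin n) F) := by
  unfold cj
  rw [mul_assoc, inv_mul_val, mul_one]

/-- an idempotent below `ε` of at least the same rank is `ε` -/
theorem eq_of_rank_le {ε A : Matrix (Fin n) (Fin n) F} (hεA : ε * A = A) (hAε : A * ε = A)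
    (hAA : A * A = A) (hrank : ε.rank ≤ A.rank) : A = ε := by
  have hle : LinearMap.range A.mulVecLin ≤ LinearMap.range ε.mulVecLin := by
    rintro _ ⟨v, rfl⟩
    refine ⟨A *ᵥ v, ?_⟩
    rw [Matrix.mulVecLin_apply, Matrix.mulVecLin_apply, Matrix.mulVec_mulVec, hεA]
  have heq : LinearMap.range A.mulVecLin = LinearMap.range ε.mulVecLin :=
    Submodule.eq_of_le_of_finrank_le hle hrank
  have h1 : A * ε = ε := by
    apply Matrix.toLin'.injective
    apply LinearMap.ext
    intro v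
    have hv : ε *ᵥ v ∈ LinearMap.range A.mulVecLin := by
      rw [heq]; exact ⟨v, rfl⟩
    obtain ⟨w, hw⟩ := hv
    rw [Matrix.mulVecLin_apply] at hw
    rw [Matrix.toLin'_apply, Matrix.toLin'_apply, ← Matrix.mulVec_mulVec, ← hw, Matrix.mulVec_mulVec, hAA]
  rw [← hAε, h1]

/-- in a finite monoid some positive power of every element is idempotent -/
theorem exists_pow_idem {G : Type*} [Monoid G] [Finite G] (x : G) :
    ∃ m : ℕ, 0 < m ∧ x ^ m * x ^ m = x ^ m := by
  obtain ⟨a, b, hab, hf⟩ := Finite.exists_ne_map_eq_of_infinite (fun k : ℕ => x ^ (k + 1))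
  replace hf : x ^ (a + 1) = x ^ (b + 1) := hf
  wlog hlt : a < b generalizing a b
  · exact this b a hab.symm hf.symm (lt_of_le_of_ne (not_lt.mp hlt) hab.symm)
  set a' := a + 1 with ha'
  set p := b - a with hp
  have hp1 : 0 < p := by omega
  have hb : b + 1 = a' + p := by omega
  rw [hb] at hf
  have hstep : ∀ k, a' ≤ k → x ^ k = x ^ (k + p) := by
    intro k hk
    obtain ⟨d, rfl⟩ := Nat.exists_eq_add_of_le hk
    calc x ^ (a' + d) = x ^ a' * x ^ d := pow_add x a' d
      _ = x ^ (a' + p) * x ^ d := by rw [← hf]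
      _ = x ^ (a' + d + p) := by
          rw [← pow_add]
          congr 1
          omega
  have hsteps : ∀ j k, a' ≤ k → x ^ k = x ^ (k + j * p) := by
    intro j
    induction j with
    | zero => intro k _; simp
    | succ j ih =>
      intro k hk
      rw [ih k hk, hstep (k + j * p) (by omega)]
      congr 1
      ring
  refine ⟨a' * p, Nat.mul_pos (by omega) hp1, ?_⟩
  rw [← pow_add]
  have hm : a' ≤ a' * p := Nat.le_mul_of_pos_right _ hp1
  exact (hsteps a' (a' * p) hm).symm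

/-- a subalgebra without nonzero square-zero elements has no nonzero nilpotent elements -/
theorem eq_zero_of_pow_eq_zero (K : Subalgebra F (Matrix (Fin n) (Fin n) F))
    (hred : ∀ x ∈ K, x * x = 0 → x = 0) :
    ∀ k : ℕ, ∀ x ∈ K, x ^ k = 0 → x = 0 := by
  intro k
  induction k using Nat.strong_induction_on with
  | _ k ih =>
    intro x hx hk
    rcases Nat.lt_or_ge k 2 with hk2 | hk2
    · interval_cases k
      · -- `1 = 0`
        rw [pow_zero] at hk
        rw [← mul_one x, hk, mul_zero]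
      · rwa [pow_one] at hk
    · set j := (k + 1) / 2 with hj
      have hjk : j < k := by omega
      have h2j : k ≤ j + j := by omega
      have hxj : x ^ j = 0 := by
        apply hred _ (K.pow_mem hx j)
        rw [← pow_add]
        obtain ⟨d, hd⟩ := Nat.exists_eq_add_of_le h2j
        rw [hd, pow_add, hk, zero_mul]
      exact ih j hjk x hx hxj

end Cfsg.Agent.Lib.Helper13.AschUOrbit

namespace Cfsg.Agent.Lib.Helper20.AschU

open Cfsg Cfsg.Geo Cfsg.Agent.Lib.Helper99.Asch Module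
open scoped MatrixGroups Matrix Kronecker
open Cfsg.Agent.Lib.Helper13.AschUOrbit

variable {n : ℕ} {F : Type*} [Field F] [Fintype F] {q : ℕ}

/-- ASCHU-[ORBIT] -/
theorem field_or_idempotents (H : Subgroup (GL (Fin n) F)) (hirr : ActsIrreducibly (matrixSet H))
    (K : Subalgebra F (Matrix (Fin n) (Fin n) F)) (hcomm : ∀ x ∈ K, ∀ y ∈ K, x * y = y * x)
    (hnorm : ∀ h ∈ H, ∀ k ∈ K,
      (h : Matrix (Fin n) (Fin n) F) * k * ((h⁻¹ : GL (Fin n) F) : Matrix (Fin n) (Fin n) F) ∈ K)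
    (hred : ∀ x ∈ K, x * x = 0 → x = 0) :
    (∀ x ∈ K, x ≠ 0 → ∃ y ∈ K, x * y = 1) ∨
    ∃ (t : ℕ) (ε : Fin t → Matrix (Fin n) (Fin n) F), 2 ≤ t ∧ (∀ i, ε i ∈ K) ∧ (∀ i, ε i ≠ 0) ∧
      (∀ i, ε i * ε i = ε i) ∧ (∀ i j, i ≠ j → ε i * ε j = 0) ∧ ∑ i, ε i = 1 ∧
      (∀ h ∈ H, ∃ π : Equiv.Perm (Fin t), ∀ i,
        (h : Matrix (Fin n) (Fin n) F) * ε i * ((h⁻¹ : GL (Fin n) F) : Matrix (Fin n) (Fin n) F) = ε (π i)) ∧
      (∀ i j, ∃ h ∈ H,
        (h : Matrix (Fin n) (Fin n) F) * ε i * ((h⁻¹ : GL (Fin n) F) : Matrix (Fin n) (Fin n) F) = ε j) ∧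
      (∀ x ∈ K, x * x = x → ∀ i, ε i * x = 0 ∨ ε i * x = ε i) := by
  classical
  -- degenerate case `1 = 0`
  by_cases h10 : (1 : Matrix (Fin n) (Fin n) F) = 0
  · left
    intro x _ hx0
    exact absurd (by rw [← mul_one x, h10, mul_zero]) hx0
  have hnormK : ∀ h ∈ H, ∀ k ∈ K, cj h k ∈ K := hnorm
  -- a nonzero idempotent of `K` of minimal rank
  let Idem : Set (Matrix (Fin n) (Fin n) F) := {x | x ∈ K ∧ x * x = x ∧ x ≠ 0}
  have hIdem1 : (1 : Matrix (Fin n) (Fin n) F) ∈ Idem := ⟨K.one_mem, mul_one 1, h10⟩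
  obtain ⟨ε, hεI, hεmin⟩ := WellFounded.has_min
    (measure fun x : Matrix (Fin n) (Fin n) F => x.rank).wf Idem ⟨1, hIdem1⟩
  obtain ⟨hεK, hεε, hε0⟩ := hεI
  -- minimality of `ε`
  have hmin0 : ∀ x ∈ K, x * x = x → ε * x = 0 ∨ ε * x = ε := by
    intro x hxK hxx
    by_cases h0 : ε * x = 0
    · exact Or.inl h0
    right
    have hxε : x * ε = ε * x := hcomm x hxK ε hεK
    have hA : (ε * x) * (ε * x) = ε * x := by
      calc (ε * x) * (ε * x) = ε * (x * ε) * x := by simp only [mul_assoc]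
        _ = ε * (ε * x) * x := by rw [hxε]
        _ = (ε * ε) * (x * x) := by simp only [mul_assoc]
        _ = ε * x := by rw [hεε, hxx]
    have hAI : ε * x ∈ Idem := ⟨K.mul_mem hεK hxK, hA, h0⟩
    have hr : ε.rank ≤ (ε * x).rank := not_lt.mp (hεmin (ε * x) hAI)
    apply eq_of_rank_le _ _ hA hr
    · rw [← mul_assoc, hεε]
    · rw [mul_assoc, hxε, ← mul_assoc, hεε]
  -- the orbit
  let O : Type _ := {x : Matrix (Fin n) (Fin n) F // ∃ h ∈ H, x = cj h ε}
  have hfinO : Finite O := Subtype.finite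
  let instO : Fintype O := Fintype.ofFinite O
  have hOK : ∀ o : O, o.1 ∈ K := by
    rintro ⟨x, h, hh, rfl⟩
    exact hnormK h hh ε hεK
  have hOid : ∀ o : O, o.1 * o.1 = o.1 := by
    rintro ⟨x, h, hh, rfl⟩
    show cj h ε * cj h ε = cj h ε
    rw [← cj_mul, hεε]
  have hO0 : ∀ o : O, o.1 ≠ 0 := by
    rintro ⟨x, h, hh, rfl⟩ h0
    exact hε0 (cj_eq_zero h0)
  have hOmin : ∀ o : O, ∀ x ∈ K, x * x = x → o.1 * x = 0 ∨ o.1 * x = o.1 := by
    rintro ⟨_, h, hh, rfl⟩ x hxK hxx
    show cj h ε * x = 0 ∨ cj h ε * x = cj h ε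
    have hx' : cj h⁻¹ x ∈ K := hnormK h⁻¹ (H.inv_mem hh) x hxK
    have hxx' : cj h⁻¹ x * cj h⁻¹ x = cj h⁻¹ x := by rw [← cj_mul, hxx]
    have key : cj h ε * x = cj h (ε * cj h⁻¹ x) := by rw [cj_mul, cj_cj_inv]
    rcases hmin0 _ hx' hxx' with h0 | h1
    · left; rw [key, h0, cj_zero]
    · right; rw [key, h1]
  have hOorth : ∀ o o' : O, o ≠ o' → o.1 * o'.1 = 0 := by
    intro o o' hne
    by_contra h0
    have h1 : o.1 * o'.1 = o.1 := (hOmin o o'.1 (hOK o') (hOid o')).resolve_left h0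
    have hc : o'.1 * o.1 = o.1 * o'.1 := hcomm _ (hOK o') _ (hOK o)
    have h2 : o'.1 * o.1 = o'.1 :=
      (hOmin o' o.1 (hOK o) (hOid o)).resolve_left (by rw [hc]; exact h0)
    apply hne
    apply Subtype.ext
    rw [← h1, ← hc, h2]
  -- the sum of the orbit
  set E : Matrix (Fin n) (Fin n) F := ∑ o : O, o.1 with hE
  have hEK : E ∈ K := K.sum_mem fun o _ => hOK o
  have hoE : ∀ o : O, o.1 * E = o.1 := by
    intro o
    rw [hE, Finset.mul_sum, Finset.sum_eq_single o]
    · exact hOid o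
    · intro o' _ hne
      exact hOorth o o' (Ne.symm hne)
    · intro h; exact absurd (Finset.mem_univ o) h
  have hEE : E * E = E := by
    conv_lhs => rw [hE, Finset.sum_mul]
    exact Finset.sum_congr rfl fun o _ => hoE o
  -- conjugation permutes the orbit
  have hcjO : ∀ h ∈ H, ∀ o : O, ∃ g ∈ H, cj h o.1 = cj g ε := by
    rintro h hh ⟨_, g, hg, rfl⟩
    exact ⟨h * g, H.mul_mem hh hg, cj_cj h g ε⟩
  let perm : ∀ h : H, Equiv.Perm O := fun h =>
    { toFun := fun o => ⟨cj (h : GL (Fin n) F) o.1, hcjO h h.2 o⟩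
      invFun := fun o => ⟨cj ((h : GL (Fin n) F)⁻¹) o.1, hcjO _ (H.inv_mem h.2) o⟩
      left_inv := fun o => Subtype.ext (cj_inv_cj _ _)
      right_inv := fun o => Subtype.ext (cj_cj_inv _ _) }
  have hEinv : ∀ h ∈ H, cj h E = E := by
    intro h hh
    rw [hE, cj_sum]
    exact Equiv.sum_comp (perm ⟨h, hh⟩) (fun o : O => o.1)
  -- the range of `E` is invariant, hence everything
  have hε_mem : ∃ o : O, o.1 = ε := ⟨⟨ε, 1, H.one_mem, (cj_one ε).symm⟩, rfl⟩
  have hE0 : E ≠ 0 := by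
    obtain ⟨o, ho⟩ := hε_mem
    intro h0
    have := hoE o
    rw [h0, mul_zero] at this
    exact hO0 o this.symm
  have hE1 : E = 1 := by
    have hW := hirr (LinearMap.range (Matrix.toLin' E)) (by
      rintro s ⟨h, hh, rfl⟩ _ ⟨_, ⟨v, rfl⟩, rfl⟩
      refine ⟨Matrix.toLin' (h : Matrix (Fin n) (Fin n) F) v, ?_⟩
      simp only [Matrix.toLin'_apply, Matrix.mulVec_mulVec]
      rw [mul_eq_cj_mul h E, hEinv h hh])
    rcases hW with hbot | htop
    · exfalso
      apply hE0
      apply Matrix.toLin'.injective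
      rw [map_zero]
      exact LinearMap.range_eq_bot.mp hbot
    · apply Matrix.toLin'.injective
      apply LinearMap.ext
      intro v
      have hv : v ∈ LinearMap.range (Matrix.toLin' E) := by rw [htop]; exact Submodule.mem_top
      obtain ⟨w, rfl⟩ := hv
      simp only [Matrix.toLin'_apply, Matrix.mulVec_mulVec, hEE, Matrix.toLin'_one, LinearMap.id_apply]
  -- enumerate the orbit
  set t := Fintype.card O with ht
  let e : O ≃ Fin t := Fintype.equivFin O
  by_cases ht2 : 2 ≤ t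
  · right
    refine ⟨t, fun i => (e.symm i).1, ht2, fun i => hOK _, fun i => hO0 _, fun i => hOid _, ?_, ?_, ?_, ?_,
      fun x hx hxx i => hOmin _ x hx hxx⟩
    · intro i j hij
      apply hOorth
      intro h
      exact hij (e.symm.injective h)
    · rw [← hE1, hE]
      exact Equiv.sum_comp e.symm (fun o : O => o.1)
    · intro h hh
      refine ⟨(e.symm.trans (perm ⟨h, hh⟩)).trans e, fun i => ?_⟩
      simp only [Equiv.trans_apply, Equiv.symm_apply_apply]
      rfl
    · intro i j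
      obtain ⟨g, hg, hgi⟩ := (e.symm i).2
      obtain ⟨g', hg', hgj⟩ := (e.symm j).2
      refine ⟨g' * g⁻¹, H.mul_mem hg' (H.inv_mem hg), ?_⟩
      show cj (g' * g⁻¹) (e.symm i).1 = (e.symm j).1
      rw [hgi, hgj, cj_cj, inv_mul_cancel_right]
  · -- a single idempotent: `K` is a field
    left
    have ht1 : t = 1 := by
      have : 0 < t := by
        rw [ht]
        obtain ⟨o, _⟩ := hε_mem
        exact Fintype.card_pos_iff.mpr ⟨o⟩
      omega
    have hsub : ∀ o o' : O, o = o' := by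
      intro o o'
      have : Fintype.card O ≤ 1 := by rw [← ht, ht1]
      exact Fintype.card_le_one_iff.mp this o o'
    obtain ⟨o, ho⟩ := hε_mem
    have hεone : ε = 1 := by
      have h1 : E = o.1 := by
        rw [hE, Finset.sum_eq_single o]
        · intro o' _ hne; exact absurd (hsub o' o) hne
        · intro h; exact absurd (Finset.mem_univ o) h
      rw [← ho, ← h1, hE1]
    have htriv : ∀ x ∈ K, x * x = x → x = 0 ∨ x = 1 := by
      intro x hx hxx
      have := hmin0 x hx hxx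
      rwa [hεone, one_mul] at this
    intro x hx hx0
    obtain ⟨m, hm, hidem⟩ := exists_pow_idem x
    rcases htriv (x ^ m) (K.pow_mem hx m) hidem with h0 | h1
    · exact absurd (eq_zero_of_pow_eq_zero K hred m x hx h0) hx0
    · refine ⟨x ^ (m - 1), K.pow_mem hx _, ?_⟩
      rw [← pow_succ', Nat.sub_add_cancel hm, h1]

end Cfsg.Agent.Lib.Helper20.AschU
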