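/-
helper13: bridge from `UnitMax` to the Prelude vocabulary (`Cfsg.GU`, `Cfsg.Geo.specialLinear`,
`Cfsg.Geo.subspaceStabilizer`, `Cfsg.Geo.IsMaximalIn`).
-/
import Mathlib
import Cfsg.Agent.Lib.Helper13.UnitMax
import Cfsg.Agent.Lib.Helper13.StabFin
import Cfsg.Prelude.Def_GeometricClasses

set_option autoImplicit false

namespace Cfsg.Agent.Lib.Helper13

open Matrix Module Cfsg.Agent.S0837 Cfsg.Agent.S0781 Cfsg.Agent.S2644 Cfsg.Agent.Lib.Helper37

section Bridge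

variable {F : Type*} [Field F] {n q : ℕ} (σ : F →+* F)

theorem mem_GU_iff_mem_UG (hσ : ∀ x, σ x = x ^ q) (g : GL (Fin n) F) :
    g ∈ Cfsg.GU n F q ↔ g ∈ UG σ n := by
  constructor
  · intro h x y
    have := h x y
    rw [hermForm_eq_hf σ hσ, hermForm_eq_hf σ hσ] at this
    exact this
  · intro h x y
    rw [hermForm_eq_hf σ hσ, hermForm_eq_hf σ hσ]
    exact h x y

theorem mem_specialLinear_iff (g : GL (Fin n) F) :
    g ∈ Cfsg.Geo.specialLinear (Fin n) F ↔ (g : Matrix (Fin n) (Fin n) F).det = 1 := by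
  unfold Cfsg.Geo.specialLinear
  rw [MonoidHom.mem_ker, Units.ext_iff]
  rfl

theorem mem_subspaceStabilizer_iff [Finite F] (W : Submodule F (Fin n → F)) (g : GL (Fin n) F) :
    g ∈ Cfsg.Geo.subspaceStabilizer W ↔ ∀ w ∈ W, (g : Matrix (Fin n) (Fin n) F) *ᵥ w ∈ W := by
  constructor
  · intro h w hw
    exact (h w).mp hw
  · intro h
    exact mem_stabilizing_of_finite (Cfsg.glToMat (Fin n) F) _ (Set.toFinite _) g h

end Bridge

/-- The stabiliser of a non-zero totally isotropic subspace is maximal in `SU_n(q)`, `n ≥ 4`. -/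
theorem isMaximalIn_stab_isotropic {F : Type*} [Field F] [Fintype F] (n q : ℕ)
    (hF : Fintype.card F = q ^ 2) (hn : 4 ≤ n) (W : Submodule F (Fin n → F)) (hW0 : W ≠ ⊥)
    (hW : Cfsg.Geo.IsTotallySingularFor (Cfsg.hermForm n F q) W) :
    Cfsg.Geo.IsMaximalIn (Cfsg.GU n F q ⊓ Cfsg.Geo.specialLinear (Fin n) F)
      (Cfsg.Geo.subspaceStabilizer W ⊓ (Cfsg.GU n F q ⊓ Cfsg.Geo.specialLinear (Fin n) F)) := by
  classical
  obtain ⟨σ, hσ, hσ2⟩ := exists_frob hF
  have hne : σ ≠ RingHom.id F := frob_ne_id σ hF hσ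
  have hWσ : ∀ u ∈ W, ∀ v ∈ W, hf σ u v = 0 := by
    intro u hu v hv
    rw [← hermForm_eq_hf σ hσ]
    exact hW u hu v hv
  have hK : ∀ g : GL (Fin n) F, g ∈ Cfsg.GU n F q ⊓ Cfsg.Geo.specialLinear (Fin n) F ↔
      g ∈ UG σ n ∧ (g : Matrix (Fin n) (Fin n) F).det = 1 := by
    intro g
    rw [Subgroup.mem_inf, mem_GU_iff_mem_UG σ hσ, mem_specialLinear_iff]
  constructor
  · -- proper containment
    apply lt_of_le_of_ne inf_le_right
    intro heq
    obtain ⟨w, hw, hw0⟩ := Submodule.exists_mem_ne_zero_of_ne_bot hW0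
    obtain ⟨u', hP⟩ := exists_HP_of_isotropic σ hne hσ2 w hw0 (hWσ w hw w hw)
    obtain ⟨c, hc0, hc⟩ := exists_trace_zero_ne σ hne hσ2
    have ht : tvGL σ u' c hP.vv ∈ Cfsg.GU n F q ⊓ Cfsg.Geo.specialLinear (Fin n) F := by
      rw [hK]
      refine ⟨TG_le_UG σ hσ2 (tvGL_mem σ u' c hP.vv hc), ?_⟩
      show (tv σ u' c).det = 1
      rw [tv_det, hP.vv, mul_zero, add_zero]
    rw [← heq] at ht
    have h1 := (mem_subspaceStabilizer_iff W _).mp ht.1 w hw
    have h2 : ((tvGL σ u' c hP.vv : GL (Fin n) F) : Matrix (Fin n) (Fin n) F) *ᵥ w =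
        w + (c * hf σ w u') • u' := tv_mulVec σ u' c w
    rw [h2, hP.uv hσ2, mul_one] at h1
    have h3 : c • u' ∈ W := by
      have := W.sub_mem h1 hw
      rwa [add_sub_cancel_left] at this
    have h4 : u' ∈ W := by
      have := W.smul_mem c⁻¹ h3
      rwa [smul_smul, inv_mul_cancel₀ hc0, one_smul] at this
    have h5 := hWσ u' h4 w hw
    rw [hP.vu] at h5
    exact one_ne_zero h5
  · intro M hHM hMK
    by_cases hMH : M = Cfsg.Geo.subspaceStabilizer W ⊓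
        (Cfsg.GU n F q ⊓ Cfsg.Geo.specialLinear (Fin n) F)
    · exact Or.inl hMH
    · right
      have hnot : ¬ M ≤ Cfsg.Geo.subspaceStabilizer W ⊓
          (Cfsg.GU n F q ⊓ Cfsg.Geo.specialLinear (Fin n) F) := fun h => hMH (le_antisymm h hHM)
      obtain ⟨g0, hg0M, hg0⟩ := SetLike.not_le_iff_exists.mp hnot
      have hg0K := hMK hg0M
      have hg0S : g0 ∉ Cfsg.Geo.subspaceStabilizer W := fun h => hg0 ⟨h, hg0K⟩
      rw [mem_subspaceStabilizer_iff] at hg0S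
      push Not at hg0S
      obtain ⟨w1, hw1, hg0w⟩ := hg0S
      have hMU : M ≤ UG σ n := fun g hg => ((hK g).mp (hMK hg)).1
      have hM : ∀ g : GL (Fin n) F, g ∈ UG σ n → g.1.det = 1 → (∀ w ∈ W, g.1 *ᵥ w ∈ W) → g ∈ M := by
        intro g hgU hdet hgW
        apply hHM
        exact ⟨(mem_subspaceStabilizer_iff W g).mpr hgW, (hK g).mpr ⟨hgU, hdet⟩⟩
      have key := su_le_of_stab_lt σ hne hσ2 hn W hWσ M hMU hM g0 hg0M w1 hw1 hg0w
      apply le_antisymm hMK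
      intro g hg
      obtain ⟨hgU, hdet⟩ := (hK g).mp hg
      exact key g hgU hdet

end Cfsg.Agent.Lib.Helper13
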