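import Mathlib
import Cfsg.Prelude.Def_GeometricClasses
import Cfsg.Agent.Lib.Helper99.AschDefs
import Cfsg.Agent.Lib.Helper20.AschU.Basic
import Cfsg.Agent.Lib.Helper13.Herm
import Cfsg.Agent.Lib.Helper13.GUParabolic
import Cfsg.Agent.Lib.Helper13.UnitMaxBridge

/-!
# ASCHU-[U1] (helper13): a reducible subgroup of `GU_n(q)` lies in a member of class 1 or class 2
-/

set_option autoImplicit false

namespace Cfsg.Agent.Lib.Helper13.AschUU1

open Cfsg Cfsg.Geo Module
open scoped MatrixGroups Matrix
open Cfsg.Agent.S0837 Cfsg.Agent.Lib.Helper13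

variable {n : ℕ} {F : Type*} [Field F] [Fintype F] {q : ℕ}
set_option linter.unusedSectionVars false

/-- a group element mapping `W` into itself, together with its inverse, maps `W` onto `W` -/
theorem map_eq_of_invariant (H : Subgroup (GL (Fin n) F)) (W : Submodule F (Fin n → F))
    (hW : ∀ g ∈ H, ∀ w ∈ W, (g : Matrix (Fin n) (Fin n) F) *ᵥ w ∈ W) (g : GL (Fin n) F) (hg : g ∈ H) :
    W.map (Matrix.toLin' (g : Matrix (Fin n) (Fin n) F)) = W := by
  apply le_antisymm
  · rintro _ ⟨w, hw, rfl⟩
    rw [Matrix.toLin'_apply]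
    exact hW g hg w hw
  · intro w hw
    refine ⟨((g⁻¹ : GL (Fin n) F) : Matrix (Fin n) (Fin n) F) *ᵥ w, hW g⁻¹ (H.inv_mem hg) w hw, ?_⟩
    rw [Matrix.toLin'_apply, Matrix.mulVec_mulVec, ← Units.val_mul, mul_inv_cancel, Units.val_one,
      Matrix.one_mulVec]

theorem le_subspaceStabilizer (H : Subgroup (GL (Fin n) F)) (W : Submodule F (Fin n → F))
    (hW : ∀ g ∈ H, ∀ w ∈ W, (g : Matrix (Fin n) (Fin n) F) *ᵥ w ∈ W) :
    H ≤ subspaceStabilizer W := by
  intro g hg
  rw [mem_subspaceStabilizer_iff]
  exact hW g hg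

end Cfsg.Agent.Lib.Helper13.AschUU1

namespace Cfsg.Agent.Lib.Helper20.AschU

open Cfsg Cfsg.Geo Cfsg.Agent.Lib.Helper99.Asch Module
open scoped MatrixGroups Matrix Kronecker
open Cfsg.Agent.S0837 Cfsg.Agent.Lib.Helper13 Cfsg.Agent.Lib.Helper13.AschUU1

variable {n : ℕ} {F : Type*} [Field F] [Fintype F] {q : ℕ}
set_option linter.unusedSectionVars false

/-- ASCHU-[U1]: a reducible subgroup of `GU_n(q)` lies in a member of class 1 or class 2. -/
theorem ugeo_of_not_irreducible (hF : Fintype.card F = q ^ 2) (H : Subgroup (GL (Fin n) F))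
    (hH : H ≤ GU n F q) (h : ¬ ActsIrreducibly (matrixSet H)) : UGeo q H := by
  classical
  obtain ⟨σ, hσ, hσ2⟩ := exists_frob hF
  have hfe : ∀ u v : Fin n → F, hermForm n F q u v = hf σ u v := hermForm_eq_hf σ hσ
  -- an invariant proper nonzero subspace
  have h' : ∃ W : Submodule F (Fin n → F),
      (∀ s ∈ matrixSet H, W.map (Matrix.toLin' s) ≤ W) ∧ W ≠ ⊥ ∧ W ≠ ⊤ := by
    by_contra hcon
    apply h
    intro W hW
    by_contra hne
    apply hcon
    refine ⟨W, hW, fun h0 => hne (Or.inl h0), fun h1 => hne (Or.inr h1)⟩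
  obtain ⟨W, hWinv, hW0, hWtop⟩ := h'
  have hWH : ∀ g ∈ H, ∀ w ∈ W, (g : Matrix (Fin n) (Fin n) F) *ᵥ w ∈ W := by
    intro g hg w hw
    have := hWinv _ ⟨g, hg, rfl⟩ (Submodule.mem_map_of_mem hw)
    rwa [Matrix.toLin'_apply] at this
  have hHU : ∀ g ∈ H, ∀ u v : Fin n → F,
      hf σ ((g : Matrix (Fin n) (Fin n) F) *ᵥ u) ((g : Matrix (Fin n) (Fin n) F) *ᵥ v) = hf σ u v := by
    intro g hg u v
    have := hH hg u v
    rw [hfe, hfe] at this
    exact this
  set Wp : Submodule F (Fin n → F) := perp σ W with hWp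
  have hWpH : ∀ g ∈ H, ∀ u ∈ Wp, (g : Matrix (Fin n) (Fin n) F) *ᵥ u ∈ Wp := by
    intro g hg u hu w hw
    have h1 : w = (g : Matrix (Fin n) (Fin n) F) *ᵥ
        (((g⁻¹ : GL (Fin n) F) : Matrix (Fin n) (Fin n) F) *ᵥ w) := by
      rw [Matrix.mulVec_mulVec, ← Units.val_mul, mul_inv_cancel, Units.val_one, Matrix.one_mulVec]
    rw [h1, hHU g hg]
    exact hu _ (hWH g⁻¹ (H.inv_mem hg) w hw)
  have hdim : finrank F Wp + finrank F W = n := finrank_perp σ hσ2 W
  have hWpos : 0 < finrank F W := by
    rw [Module.finrank_pos_iff_exists_ne_zero]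
    obtain ⟨w, hw, hw0⟩ := Submodule.exists_mem_ne_zero_of_ne_bot hW0
    exact ⟨⟨w, hw⟩, fun h0 => hw0 (congrArg Subtype.val h0)⟩
  have hWlt : finrank F W < n := by
    have h1 : finrank F W < finrank F (Fin n → F) := Submodule.finrank_lt hWtop
    rwa [Module.finrank_fin_fun] at h1
  by_cases hR : W ⊓ Wp = ⊥
  · -- `W` and `Wp` are nondegenerate complements
    have hsup : W ⊔ Wp = ⊤ := by
      apply Submodule.eq_top_of_finrank_eq
      have h1 := Submodule.finrank_sup_add_finrank_inf_eq W Wp
      rw [hR, finrank_bot, add_zero] at h1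
      rw [h1, Module.finrank_fin_fun]
      omega
    have hndW : IsNondegenerateOn (hermForm n F q) W := by
      intro w hw hw0
      have hnot : w ∉ Wp := by
        intro hwp
        apply hw0
        have : w ∈ W ⊓ Wp := ⟨hw, hwp⟩
        rw [hR] at this
        exact (Submodule.mem_bot F).mp this
      have hex : ∃ x ∈ W, hf σ w x ≠ 0 := by
        by_contra hcon
        apply hnot
        intro x hx
        by_contra hne
        exact hcon ⟨x, hx, hne⟩
      obtain ⟨x, hx, hne⟩ := hex
      refine ⟨⟨x, hx, ?_⟩, ⟨x, hx, ?_⟩⟩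
      · rw [hfe, hf_symm σ hσ2]
        intro h0
        apply hne
        have := congrArg σ h0
        rwa [hσ2, map_zero] at this
      · rw [hfe]; exact hne
    have hndWp : IsNondegenerateOn (hermForm n F q) Wp := by
      intro u hu hu0
      -- a coordinate vector pairing nontrivially with `u`
      have hex : ∃ i, u i ≠ 0 := by
        by_contra hcon
        apply hu0
        ext i
        by_contra hne
        exact hcon ⟨i, hne⟩
      obtain ⟨i, hi⟩ := hex
      have hy : (Pi.single i 1 : Fin n → F) ∈ W ⊔ Wp := by rw [hsup]; exact Submodule.mem_top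
      obtain ⟨y₁, hy₁, y₂, hy₂, hy12⟩ := Submodule.mem_sup.mp hy
      have h1 : hf σ u y₂ ≠ 0 := by
        have h2 : hf σ u (Pi.single i 1) = u i := hf_single_right σ u i
        rw [← hy12, hf_add_right, hu y₁ hy₁, zero_add] at h2
        rw [h2]; exact hi
      refine ⟨⟨y₂, hy₂, ?_⟩, ⟨y₂, hy₂, ?_⟩⟩
      · rw [hfe, hf_symm σ hσ2]
        intro h0
        apply h1
        have := congrArg σ h0
        rwa [hσ2, map_zero] at this
      · rw [hfe]; exact h1
    have hWp0 : Wp ≠ ⊥ := by
      intro h0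
      rw [h0, finrank_bot] at hdim
      omega
    by_cases hlt1 : 2 * finrank F W < n
    · -- class 1, nondegenerate `W`
      refine ⟨subspaceStabilizer W ⊓ GU n F q,
        Or.inl (Or.inr (Or.inl ⟨W, hW0, hndW, hlt1, rfl⟩)), ?_⟩
      exact le_inf (le_subspaceStabilizer H W hWH) hH
    by_cases hlt2 : 2 * finrank F Wp < n
    · refine ⟨subspaceStabilizer Wp ⊓ GU n F q,
        Or.inl (Or.inr (Or.inl ⟨Wp, hWp0, hndWp, hlt2, rfl⟩)), ?_⟩
      exact le_inf (le_subspaceStabilizer H Wp hWpH) hH
    -- equal dimensions: class 2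
    have heq : finrank F Wp = finrank F W := by omega
    set D : Fin 2 → Submodule F (Fin n → F) := ![W, Wp] with hD
    have hD0 : D 0 = W := rfl
    have hD1 : D 1 = Wp := rfl
    have hdecomp : IsMDecomposition (finrank F W) D := by
      refine ⟨le_refl 2, hWpos, ?_, ?_, ?_⟩
      · intro i
        fin_cases i
        · exact rfl
        · exact heq
      · rw [iSupIndep_def]
        intro i
        fin_cases i
        · show Disjoint (D 0) (⨆ j, ⨆ (_ : j ≠ 0), D j)
          have : (⨆ j, ⨆ (_ : j ≠ (0 : Fin 2)), D j) = Wp := by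
            apply le_antisymm
            · refine iSup_le fun j => iSup_le fun hj => ?_
              fin_cases j
              · exact absurd rfl hj
              · exact le_refl _
            · exact le_iSup_of_le 1 (le_iSup_of_le (by decide) (le_refl _))
          rw [this, hD0, disjoint_iff, hR]
        · show Disjoint (D 1) (⨆ j, ⨆ (_ : j ≠ 1), D j)
          have : (⨆ j, ⨆ (_ : j ≠ (1 : Fin 2)), D j) = W := by
            apply le_antisymm
            · refine iSup_le fun j => iSup_le fun hj => ?_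
              fin_cases j
              · exact le_refl _
              · exact absurd rfl hj
            · exact le_iSup_of_le 0 (le_iSup_of_le (by decide) (le_refl _))
          rw [this, hD1, disjoint_iff, inf_comm, hR]
      · rw [eq_top_iff, ← hsup]
        exact sup_le (le_iSup D 0) (le_iSup D 1)
    have hnd : IsNondegenerateMDecomposition (hermForm n F q) (finrank F W) D := by
      refine ⟨hdecomp, ?_, ?_⟩
      · intro i
        fin_cases i
        · exact hndW
        · exact hndWp
      · intro i j hij u hu v hv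
        fin_cases i <;> fin_cases j
        · exact absurd rfl hij
        · -- u ∈ W, v ∈ Wp
          rw [hfe, hf_symm σ hσ2]
          have : hf σ v u = 0 := hv u hu
          rw [this, map_zero]
        · rw [hfe]
          exact hu v hv
        · exact absurd rfl hij
    refine ⟨decompositionStabilizer D ⊓ GU n F q,
      Or.inl (Or.inr (Or.inr (Or.inl ⟨2, finrank F W, D, hnd, rfl⟩))), ?_⟩
    refine le_inf ?_ hH
    intro g hg
    refine ⟨1, fun i => ?_⟩
    fin_cases i
    · exact map_eq_of_invariant H W hWH g hg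
    · exact map_eq_of_invariant H Wp hWpH g hg
  · -- the radical is a nonzero totally singular invariant subspace
    set R : Submodule F (Fin n → F) := W ⊓ Wp with hRdef
    have hRH : ∀ g ∈ H, ∀ u ∈ R, (g : Matrix (Fin n) (Fin n) F) *ᵥ u ∈ R :=
      fun g hg u hu => ⟨hWH g hg u hu.1, hWpH g hg u hu.2⟩
    have hts : IsTotallySingularFor (hermForm n F q) R := by
      intro u hu v hv
      rw [hfe]
      exact hu.2 v hv.1
    refine ⟨subspaceStabilizer R ⊓ GU n F q, Or.inl (Or.inl ⟨R, hR, hts, rfl⟩), ?_⟩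
    exact le_inf (le_subspaceStabilizer H R hRH) hH

end Cfsg.Agent.Lib.Helper20.AschU
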