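import Mathlib
import Cfsg.Agent.Lib.Helper37.B2Iso.Defs

/-!
# Project B2ISO (S1083), module [G-ROOT] of helper37's sheet (helper13)

Root elements `TM (eV a) (t • eV b)` in explicit form `1 + t • rA a b + t² • rB a b`.
-/

set_option autoImplicit false
set_option linter.unusedSimpArgs false
set_option linter.unnecessarySeqFocus false

namespace Cfsg.Agent.Lib.Helper13.B2Iso

open Matrix Cfsg.Lie Cfsg.Agent.Lib.Helper37.B2Iso

section root
variable {R : Type*} [CommRing R]

theorem valid_symm (a b : I5) (h : Valid a b) (hb : IsHyp b) : Valid b a := by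
  revert a b
  decide

theorem Bf_eV_eV (a b : I5) (h : Valid a b) : Bf (eV a : I5 → R) (eV b) = 0 := by
  fin_cases a <;> fin_cases b <;>
    first
    | (exfalso; revert h; decide)
    | (simp [Bf, eV, opp, Fintype.sum_sum_type, Pi.single_apply])

set_option maxHeartbeats 4000000 in
theorem TM_eV_eq (a b : I5) (h : Valid a b) (t : R) :
    TM (eV a) (t • (eV b : I5 → R)) = 1 + t • rA a b + t ^ 2 • rB a b := by
  fin_cases a <;> fin_cases b <;>
    first
    | (exfalso; revert h; decide)
    | (ext i j
       fin_cases i <;> fin_cases j <;>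
       (simp [TM, rA, rB, bv, Qr, eV, opp, vecMulVec_apply, Matrix.single_apply, Pi.single_apply,
         Matrix.one_apply, Fintype.sum_sum_type]; try ring))

set_option maxHeartbeats 4000000 in
theorem TM_eV_symm (a b : I5) (h : Valid a b) (hb : IsHyp b) (t : R) :
    TM (eV a) (t • (eV b : I5 → R)) = TM (eV b) ((-t) • (eV a : I5 → R)) := by
  rw [TM_eV_eq a b h, TM_eV_eq b a (valid_symm a b h hb)]
  fin_cases a <;> fin_cases b <;>
    first
    | (exfalso; revert h hb; decide)
    | (ext i j
       fin_cases i <;> fin_cases j <;>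
       (simp [rA, rB, opp, Matrix.single_apply, Matrix.one_apply]))

end root

end Cfsg.Agent.Lib.Helper13.B2Iso
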