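import Mathlib
import Cfsg.Agent.Lib.Helper37.B2Iso.Defs
import Cfsg.Agent.Lib.Helper66.B2IsoGSiegel
import Cfsg.Agent.Lib.Helper13.B2IsoGRoot

/-!
# Project B2ISO (S1083), module [G-MEM] of helper37's sheet (helper13)

Root, Siegel and torus elements as elements of `O₅(F)`.
-/

set_option autoImplicit false

namespace Cfsg.Agent.Lib.Helper13.B2Iso

open Matrix Cfsg.Lie Cfsg.Agent.Lib.Helper37.B2Iso

variable {F : Type*} [Field F]

theorem Qr_eq_quadFormOdd (v : I5 → F) : Qr v = Cfsg.quadFormOdd 2 F v := rfl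

theorem mem_OG_iff (g : GL I5 F) :
    g ∈ OG F ↔ ∀ x : I5 → F, Qr ((g : Matrix I5 I5 F) *ᵥ x) = Qr x := by
  constructor
  · intro h x
    exact h x x
  · intro h x _
    exact h x

theorem OG_ext (g h : ↥(OG F))
    (e : ((g : GL I5 F) : Matrix I5 I5 F) = ((h : GL I5 F) : Matrix I5 I5 F)) : g = h :=
  Subtype.ext (Units.ext e)

theorem Bf_OG (g : ↥(OG F)) (x y : I5 → F) :
    Bf (((g : GL I5 F) : Matrix I5 I5 F) *ᵥ x) (((g : GL I5 F) : Matrix I5 I5 F) *ᵥ y) = Bf x y := by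
  have hg := (mem_OG_iff (g : GL I5 F)).1 g.2
  exact Cfsg.Agent.Lib.Helper66.B2Iso.Bf_of_Qr _ hg x y

theorem exists_TO (u w : I5 → F) (hu : Qr u = 0) (huw : Bf u w = 0) :
    ∃ g : ↥(OG F), ((g : GL I5 F) : Matrix I5 I5 F) = TM u w := by
  have huw' : Bf u (-w) = 0 := by
    have : (-w) = (-1 : F) • w := by simp
    rw [this, Cfsg.Agent.Lib.Helper66.B2Iso.Bf_smul_right, huw, mul_zero]
  have h1 : TM u w * TM u (-w) = 1 := by
    rw [Cfsg.Agent.Lib.Helper66.B2Iso.TM_mul u w (-w) hu huw huw', add_neg_cancel,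
      Cfsg.Agent.Lib.Helper66.B2Iso.TM_zero]
  have h2 : TM u (-w) * TM u w = 1 := by
    rw [Cfsg.Agent.Lib.Helper66.B2Iso.TM_mul u (-w) w hu huw' huw, neg_add_cancel,
      Cfsg.Agent.Lib.Helper66.B2Iso.TM_zero]
  refine ⟨⟨⟨TM u w, TM u (-w), h1, h2⟩, ?_⟩, rfl⟩
  rw [mem_OG_iff]
  intro x
  exact Cfsg.Agent.Lib.Helper66.B2Iso.Qr_TM u w hu huw x

theorem exists_rootO (a b : I5) (h : Valid a b) (t : F) :
    ∃ g : ↥(OG F), ((g : GL I5 F) : Matrix I5 I5 F) = TM (eV a) (t • eV b) := by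
  apply exists_TO
  · exact Cfsg.Agent.Lib.Helper66.B2Iso.Qr_eV a h.1
  · rw [Cfsg.Agent.Lib.Helper66.B2Iso.Bf_smul_right, Bf_eV_eV a b h, mul_zero]

theorem rootO_mem_E0 (a b : I5) (h : Valid a b) (t : F) (g : ↥(OG F))
    (hg : ((g : GL I5 F) : Matrix I5 I5 F) = TM (eV a) (t • eV b)) : g ∈ E0 F :=
  Subgroup.subset_closure ⟨a, b, h, t, hg⟩

theorem hM_mul_hM (a : I5) (μ : F) (hμ : μ ≠ 0) : hM a μ * hM a μ⁻¹ = 1 := by
  unfold hM
  rw [Matrix.diagonal_mul_diagonal, ← Matrix.diagonal_one]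
  congr 1
  funext c
  split_ifs <;> simp [hμ]

theorem hM_mulVec (a : I5) (μ : F) (x : I5 → F) :
    hM a μ *ᵥ x = fun c => (if c = a then μ else if c = opp a then μ⁻¹ else 1) * x c := by
  unfold hM
  funext c
  rw [Matrix.mulVec_diagonal]

theorem Qr_hM (a : I5) (ha : IsHyp a) (μ : F) (hμ : μ ≠ 0) (x : I5 → F) :
    Qr (hM a μ *ᵥ x) = Qr x := by
  rw [hM_mulVec]
  fin_cases a
  · exact absurd rfl ha
  all_goals
    simp [Qr, opp, Fin.sum_univ_two]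
    field_simp

theorem exists_hO (a : I5) (ha : IsHyp a) (μ : F) (hμ : μ ≠ 0) :
    ∃ g : ↥(OG F), ((g : GL I5 F) : Matrix I5 I5 F) = hM a μ := by
  have h1 : hM a μ * hM a μ⁻¹ = 1 := hM_mul_hM a μ hμ
  have h2 : hM a μ⁻¹ * hM a μ = 1 := by
    have := hM_mul_hM a μ⁻¹ (inv_ne_zero hμ)
    rwa [inv_inv] at this
  refine ⟨⟨⟨hM a μ, hM a μ⁻¹, h1, h2⟩, ?_⟩, rfl⟩
  rw [mem_OG_iff]
  intro x
  exact Qr_hM a ha μ hμ x

theorem OG_inv_mulVec (g : ↥(OG F)) (x y : I5 → F)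
    (h : ((g : GL I5 F) : Matrix I5 I5 F) *ᵥ x = y) :
    (((g⁻¹ : ↥(OG F)) : GL I5 F) : Matrix I5 I5 F) *ᵥ y = x := by
  rw [← h, Matrix.mulVec_mulVec]
  have : (((g⁻¹ : ↥(OG F)) : GL I5 F) : Matrix I5 I5 F) * ((g : GL I5 F) : Matrix I5 I5 F) = 1 := by
    have h1 : ((g⁻¹ * g : ↥(OG F)) : GL I5 F) = 1 := by simp
    have h2 := congrArg (fun u : GL I5 F => (u : Matrix I5 I5 F)) h1
    simp
  rw [this, Matrix.one_mulVec]

end Cfsg.Agent.Lib.Helper13.B2Iso
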