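import Mathlib
import Cfsg.Agent.Lib.Helper37.B2Iso.Defs
import Cfsg.Agent.Lib.Helper66.B2IsoGSiegel
import Cfsg.Agent.Lib.Helper13.B2IsoGRoot
import Cfsg.Agent.Lib.Helper13.B2IsoGMem

/-!
# Project B2ISO (S1083), module [G-COMM] of helper37's sheet (helper13)

Torus conjugation of root elements and `E0 ≤ [O₅(F), O₅(F)]` for `|F| > 2`.
-/

set_option autoImplicit false

namespace Cfsg.Agent.Lib.Helper13.B2Iso

open Matrix Cfsg.Lie Cfsg.Agent.Lib.Helper37.B2Iso Cfsg.Agent.Lib.Helper66.B2Iso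
open scoped commutatorElement

variable {F : Type*} [Field F]

theorem hM_mulVec_eV_self (a : I5) (μ : F) : hM a μ *ᵥ (eV a : I5 → F) = μ • eV a := by
  rw [hM_mulVec]
  funext c
  rw [Pi.smul_apply, eV_apply, smul_eq_mul]
  by_cases h : c = a
  · rw [if_pos h, if_pos h]
  · simp [h]

theorem hM_mulVec_eV_other (a b : I5) (hb1 : b ≠ a) (hb2 : b ≠ opp a) (μ t : F) :
    hM a μ *ᵥ (t • (eV b : I5 → F)) = t • eV b := by
  rw [hM_mulVec]
  funext c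
  rw [Pi.smul_apply, eV_apply, smul_eq_mul]
  by_cases h : c = b
  · subst h
    rw [if_neg hb1, if_neg hb2, one_mul]
  · rw [if_neg h, mul_zero, mul_zero]

theorem hM_conj (a b : I5) (h : Valid a b) (μ : F) (hμ : μ ≠ 0) (t : F) :
    hM a μ * TM (eV a) (t • eV b) * hM a μ⁻¹ = TM (eV a) ((μ * t) • eV b) := by
  rw [TM_conj (hM a μ) (hM a μ⁻¹) (fun x => Qr_hM a h.1 μ hμ x) (hM_mul_hM a μ hμ),
    hM_mulVec_eV_self, hM_mulVec_eV_other a b h.2.1 h.2.2, TM_scale, smul_smul]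

theorem coe_mul_OGc (g h : ↥(OG F)) :
    (((g * h : ↥(OG F)) : GL I5 F) : Matrix I5 I5 F)
      = ((g : GL I5 F) : Matrix I5 I5 F) * ((h : GL I5 F) : Matrix I5 I5 F) := rfl

theorem coe_inv_eq (g : ↥(OG F)) (M : Matrix I5 I5 F)
    (hM' : M * ((g : GL I5 F) : Matrix I5 I5 F) = 1) :
    (((g⁻¹ : ↥(OG F)) : GL I5 F) : Matrix I5 I5 F) = M := by
  have h1 : ((g : GL I5 F) : Matrix I5 I5 F) * (((g⁻¹ : ↥(OG F)) : GL I5 F) : Matrix I5 I5 F) = 1 := by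
    have h1 : ((g * g⁻¹ : ↥(OG F)) : GL I5 F) = 1 := by simp
    have h2 := congrArg (fun u : GL I5 F => (u : Matrix I5 I5 F)) h1
    simp
  calc (((g⁻¹ : ↥(OG F)) : GL I5 F) : Matrix I5 I5 F)
      = (M * ((g : GL I5 F) : Matrix I5 I5 F)) * (((g⁻¹ : ↥(OG F)) : GL I5 F) : Matrix I5 I5 F) := by
        rw [hM', one_mul]
    _ = M := by rw [mul_assoc, h1, mul_one]

theorem E0_le_commutator (hF : ∃ a : F, a ≠ 0 ∧ a ≠ 1) : E0 F ≤ commutator ↥(OG F) := by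
  obtain ⟨l, hl0, hl1⟩ := hF
  unfold E0
  rw [Subgroup.closure_le]
  rintro g ⟨a, b, hab, t, hg⟩
  have hl1' : l - 1 ≠ 0 := sub_ne_zero.mpr hl1
  set s : F := t / (l - 1) with hs
  obtain ⟨g₁, hg₁⟩ := exists_hO (F := F) a hab.1 l hl0
  obtain ⟨g₂, hg₂⟩ := exists_rootO (F := F) a b hab s
  have hQ : Qr (eV a : I5 → F) = 0 := Qr_eV a hab.1
  have hB : ∀ c : F, Bf (eV a : I5 → F) (c • eV b) = 0 := fun c => by
    rw [Bf_smul_right, Bf_eV_eV a b hab, mul_zero]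
  have hg₁inv : (((g₁⁻¹ : ↥(OG F)) : GL I5 F) : Matrix I5 I5 F) = hM a l⁻¹ := by
    apply coe_inv_eq
    rw [hg₁]
    have := hM_mul_hM a l⁻¹ (inv_ne_zero hl0)
    rwa [inv_inv] at this
  have hg₂inv : (((g₂⁻¹ : ↥(OG F)) : GL I5 F) : Matrix I5 I5 F) = TM (eV a) ((-s) • eV b) := by
    apply coe_inv_eq
    rw [hg₂, TM_mul _ _ _ hQ (hB _) (hB _), ← add_smul, neg_add_cancel, zero_smul, TM_zero]
  have hcomm : g = ⁅g₁, g₂⁆ := by
    apply OG_ext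
    rw [commutatorElement_def, coe_mul_OGc, coe_mul_OGc, coe_mul_OGc, hg, hg₁, hg₂, hg₁inv, hg₂inv,
      hM_conj a b hab l hl0 s, TM_mul _ _ _ hQ (hB _) (hB _), ← add_smul]
    congr 2
    rw [hs]
    field_simp
    ring
  rw [SetLike.mem_coe, hcomm, commutator_def]
  exact Subgroup.commutator_mem_commutator (Subgroup.mem_top g₁) (Subgroup.mem_top g₂)

end Cfsg.Agent.Lib.Helper13.B2Iso
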