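import Mathlib
import Cfsg.Agent.Lib.Helper37.B2Iso.Defs
import Cfsg.Agent.Lib.Helper66.B2IsoGSiegel
import Cfsg.Agent.Lib.Helper13.B2IsoGRoot
import Cfsg.Agent.Lib.Helper13.B2IsoGMem

/-!
# Project B2ISO (S1083), module [G-SIEGEL-MEM] of helper37's sheet (helper13)

Siegel elements `TM (eV a) w` at a hyperbolic basis vector lie in `E0 F`.
-/

set_option autoImplicit false

namespace Cfsg.Agent.Lib.Helper13.B2Iso

open Matrix Cfsg.Lie Cfsg.Agent.Lib.Helper37.B2Iso Cfsg.Agent.Lib.Helper66.B2Iso

variable {F : Type*} [Field F]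

/-- the partial sums `Σ_{d ∈ T} w_d e_d` -/
def partV (w : I5 → F) (T : Finset I5) : I5 → F := ∑ d ∈ T, w d • (eV d : I5 → F)

theorem partV_univ (w : I5 → F) : partV w Finset.univ = w := by
  unfold partV
  ext b
  rw [Finset.sum_apply, Finset.sum_eq_single b]
  · rw [Pi.smul_apply, eV_apply, if_pos rfl, smul_eq_mul, mul_one]
  · intro d _ hd
    rw [Pi.smul_apply, eV_apply, if_neg (fun e => hd e.symm), smul_zero]
  · intro h
    exact absurd (Finset.mem_univ _) h

theorem opp_eq_zI_iff (d : I5) : opp d = zI ↔ d = zI := by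
  revert d; decide

theorem Bf_eV_smul (a : I5) (ha : IsHyp a) (d : I5) (c : F) (hc : d = opp a → c = 0) :
    Bf (eV a : I5 → F) (c • eV d) = 0 := by
  rw [Bf_smul_right]
  by_cases hd : d = zI
  · subst hd
    rw [Bf_eV_zI, eV_apply, if_neg (fun e => ha e.symm), mul_zero, mul_zero]
  · rw [Bf_eV_right _ d hd, eV_apply]
    by_cases h : opp d = a
    · have : d = opp a := by rw [← h, opp_opp]
      rw [hc this, zero_mul]
    · rw [if_neg h, mul_zero]

theorem Bf_eV_partV (a : I5) (ha : IsHyp a) (w : I5 → F) (hw : w (opp a) = 0) (T : Finset I5) :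
    Bf (eV a : I5 → F) (partV w T) = 0 := by
  unfold partV
  induction T using Finset.induction_on with
  | empty =>
    rw [Finset.sum_empty]
    exact Bf_zero_right _
  | insert d T hd ih =>
    rw [Finset.sum_insert hd, Bf_add_right, ih, add_zero]
    exact Bf_eV_smul a ha d (w d) (fun e => by rw [e]; exact hw)

theorem coe_mul_OG (g h : ↥(OG F)) :
    (((g * h : ↥(OG F)) : GL I5 F) : Matrix I5 I5 F)
      = ((g : GL I5 F) : Matrix I5 I5 F) * ((h : GL I5 F) : Matrix I5 I5 F) := rfl

/-- one coordinate at a time -/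
theorem TM_eV_single_mem (a : I5) (ha : IsHyp a) (d : I5) (c : F)
    (hc1 : d = opp a → c = 0) (g : ↥(OG F))
    (hg : ((g : GL I5 F) : Matrix I5 I5 F) = TM (eV a) (c • eV d)) : g ∈ E0 F := by
  by_cases hc0 : c = 0
  · have : g = 1 := by
      apply OG_ext
      rw [hg, hc0, zero_smul, TM_zero]
      rfl
    rw [this]
    exact Subgroup.one_mem _
  by_cases hda : d = a
  · have : g = 1 := by
      apply OG_ext
      rw [hg, hda, TM_smul_self _ (Qr_eV a ha)]
      rfl
    rw [this]
    exact Subgroup.one_mem _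
  have hdo : d ≠ opp a := fun e => hc0 (hc1 e)
  exact rootO_mem_E0 a d ⟨ha, hda, hdo⟩ c g hg

/-- **[G-SIEGEL-MEM]** Siegel elements at a hyperbolic basis vector lie in `E0`. -/
theorem TM_eV_mem (a : I5) (ha : IsHyp a) (w : I5 → F)
    (haw : Bf (eV a) w = 0) (g : ↥(OG F))
    (hg : ((g : GL I5 F) : Matrix I5 I5 F) = TM (eV a) w) : g ∈ E0 F := by
  have hwa : w (opp a) = 0 := by
    rw [Bf_comm, Bf_eV_right _ a ha] at haw
    exact haw
  have key : ∀ T : Finset I5, ∀ g : ↥(OG F),
      ((g : GL I5 F) : Matrix I5 I5 F) = TM (eV a) (partV w T) → g ∈ E0 F := by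
    intro T
    induction T using Finset.induction_on with
    | empty =>
      intro g hg
      have : g = 1 := by
        apply OG_ext
        rw [hg]
        unfold partV
        rw [Finset.sum_empty, TM_zero]
        rfl
      rw [this]
      exact Subgroup.one_mem _
    | insert d T hd ih =>
      intro g hg
      have hsplit : partV w (insert d T) = w d • (eV d : I5 → F) + partV w T := by
        unfold partV
        rw [Finset.sum_insert hd]
      have hb1 : Bf (eV a : I5 → F) (w d • eV d) = 0 :=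
        Bf_eV_smul a ha d (w d) (fun e => by rw [e]; exact hwa)
      have hb2 : Bf (eV a : I5 → F) (partV w T) = 0 := Bf_eV_partV a ha w hwa T
      obtain ⟨g1, hg1⟩ := exists_TO (eV a : I5 → F) (w d • eV d) (Qr_eV a ha) hb1
      obtain ⟨g2, hg2⟩ := exists_TO (eV a : I5 → F) (partV w T) (Qr_eV a ha) hb2
      have hgg : g = g1 * g2 := by
        apply OG_ext
        rw [coe_mul_OG, hg, hg1, hg2, hsplit, TM_mul _ _ _ (Qr_eV a ha) hb1 hb2]
      rw [hgg]
      refine Subgroup.mul_mem _ ?_ (ih g2 hg2)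
      exact TM_eV_single_mem a ha d (w d) (fun e => by rw [e]; exact hwa) g1 hg1
  apply key Finset.univ g
  rw [partV_univ]
  exact hg

end Cfsg.Agent.Lib.Helper13.B2Iso
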