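import Mathlib
import Cfsg.Agent.Lib.Helper17.BrauerNT.Defs
import Cfsg.Agent.Lib.Helper79.BrauerN.IndLin
import Cfsg.Agent.Lib.Helper79.BrauerN.LinChar
import Cfsg.Agent.Lib.Helper6.BrauerNNGT

set_option autoImplicit false
open Cfsg
open scoped ComplexConjugate

/-!
# S0996 module `[NT-IND]` (helper17's project)

If `⟨1_N^G, l^G⟩ = 0` for all non-trivial linear characters `l` of `N = N_G(P)` trivial on `P`,
then `|N ∩ g N g⁻¹| = q` for all `g ∉ N` (Frobenius reciprocity / Mackey for the trivial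
character).
-/

namespace Cfsg.Agent.Lib.Helper13.BrauerNT

open Cfsg.Agent.Lib.Helper17.BrauerNT Cfsg.Agent.Lib.Helper79.BrauerN Cfsg.Agent.Lib.Helper78

section aux

variable {G : Type*} [Group G]

/-- `{y ∈ N | x⁻¹ y x ∈ N}` as a subgroup of `N`. -/
def conjSub (N : Subgroup G) (x : G) : Subgroup ↥N where
  carrier := {y | x⁻¹ * (y : G) * x ∈ N}
  mul_mem' := by
    intro a b ha hb
    have h : x⁻¹ * ((a * b : ↥N) : G) * x = (x⁻¹ * (a : G) * x) * (x⁻¹ * (b : G) * x) := by
      rw [Subgroup.coe_mul]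
      group
    show x⁻¹ * ((a * b : ↥N) : G) * x ∈ N
    rw [h]
    exact N.mul_mem ha hb
  one_mem' := by
    show x⁻¹ * ((1 : ↥N) : G) * x ∈ N
    simp
  inv_mem' := by
    intro a ha
    have h : x⁻¹ * ((a⁻¹ : ↥N) : G) * x = (x⁻¹ * (a : G) * x)⁻¹ := by
      rw [Subgroup.coe_inv]
      group
    show x⁻¹ * ((a⁻¹ : ↥N) : G) * x ∈ N
    rw [h]
    exact N.inv_mem ha

theorem mem_conjSub (N : Subgroup G) (x : G) (y : ↥N) :
    y ∈ conjSub N x ↔ x⁻¹ * (y : G) * x ∈ N := Iff.rfl

/-- Conjugation `y ↦ x⁻¹ y x` from `conjSub N x` to `N`. -/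
def conjHom (N : Subgroup G) (x : G) : ↥(conjSub N x) →* ↥N where
  toFun y := ⟨x⁻¹ * ((y : ↥N) : G) * x, y.2⟩
  map_one' := by
    apply Subtype.ext
    simp
  map_mul' := by
    intro a b
    apply Subtype.ext
    show x⁻¹ * (((a * b : ↥(conjSub N x)) : ↥N) : G) * x =
      (x⁻¹ * ((a : ↥N) : G) * x) * (x⁻¹ * ((b : ↥N) : G) * x)
    rw [Subgroup.coe_mul, Subgroup.coe_mul]
    group

theorem conjHom_coe (N : Subgroup G) (x : G) (y : ↥(conjSub N x)) :
    ((conjHom N x y : ↥N) : G) = x⁻¹ * ((y : ↥N) : G) * x := rfl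

/-- **Mackey for the trivial character**: if `⟨1_N^G, l^G⟩ = 0` then `l` is non-trivial on every
`N ∩ x⁻¹ N x`. -/
theorem exists_ne_one_of_classInner_eq_zero [Fintype G] (N : Subgroup G) (l : ↥N →* ℂˣ)
    (h0 : classInner (indFun N (linFun (1 : ↥N →* ℂˣ))) (indFun N (linFun l)) = 0) (x : G) :
    ∃ y : ↥(conjSub N x), l (conjHom N x y) ≠ 1 := by
  classical
  have hcf : IsClassFunction G (indFun N (linFun l)) :=
    Cfsg.Agent.Lib.Helper75.isClassFunction_indFun N _
  rw [Cfsg.Agent.Lib.Helper75.frobenius_reciprocity N (linFun 1) hcf] at h0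
  unfold classInner at h0
  have hN : (Nat.card N : ℂ) ≠ 0 := by exact_mod_cast Nat.card_pos.ne'
  have h1 : ∑ y : ↥N, conj (indFun N (linFun l) (y : G)) = 0 := by
    have := (mul_eq_zero.mp h0).resolve_left (inv_ne_zero hN)
    simpa [linFun_one] using this
  have h2 : ∑ y : ↥N, indFun N (linFun l) (y : G) = 0 := by
    rw [← map_sum] at h1
    exact (map_eq_zero (starRingEnd ℂ)).mp h1
  have h3 : ∑ y : ↥N, ∑ x : G, extendByZero N (linFun l) (x⁻¹ * (y : G) * x) = 0 := by
    unfold indFun at h2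
    rw [← Finset.mul_sum] at h2
    exact (mul_eq_zero.mp h2).resolve_left (inv_ne_zero hN)
  rw [Finset.sum_comm] at h3
  -- the inner sums
  have hT : ∀ x : G, ∑ y : ↥N, extendByZero N (linFun l) (x⁻¹ * (y : G) * x) =
      ∑ a : ↥(conjSub N x), ((Units.coeHom ℂ).comp (l.comp (conjHom N x))) a := by
    intro x
    have e1 : ∑ y : ↥N, extendByZero N (linFun l) (x⁻¹ * (y : G) * x) =
        ∑ y ∈ Finset.univ.filter (fun y : ↥N => y ∈ conjSub N x),
          extendByZero N (linFun l) (x⁻¹ * (y : G) * x) := by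
      symm
      apply Finset.sum_filter_of_ne
      intro y _ hy
      by_contra hcon
      exact hy (extendByZero_apply_not_mem N (linFun l) hcon)
    rw [e1, Finset.sum_subtype (Finset.univ.filter (fun y : ↥N => y ∈ conjSub N x))
      (p := fun y => y ∈ conjSub N x) (fun y => by simp)]
    apply Finset.sum_congr rfl
    intro a _
    rw [extendByZero_apply_of_mem N (linFun l) a.2]
    rfl
  have hT' : ∀ x : G, ∑ y : ↥N, extendByZero N (linFun l) (x⁻¹ * (y : G) * x) =
      (((if (Units.coeHom ℂ).comp (l.comp (conjHom N x)) = 1 then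
        Fintype.card ↥(conjSub N x) else 0 : ℕ)) : ℂ) := by
    intro x
    rw [hT x]
    by_cases hf : (Units.coeHom ℂ).comp (l.comp (conjHom N x)) = 1
    · rw [if_pos hf, hf]
      simp
    · rw [if_neg hf, sum_hom_units_eq_zero _ hf]
      simp
  rw [Finset.sum_congr rfl (fun x _ => hT' x), ← Nat.cast_sum] at h3
  have h4 : ∑ x : G, (if (Units.coeHom ℂ).comp (l.comp (conjHom N x)) = 1 then
      Fintype.card ↥(conjSub N x) else 0) = 0 := by exact_mod_cast h3
  have h5 := (Finset.sum_eq_zero_iff.mp h4) x (Finset.mem_univ x)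
  have hf : (Units.coeHom ℂ).comp (l.comp (conjHom N x)) ≠ 1 := by
    intro hf
    rw [if_pos hf] at h5
    exact Fintype.card_ne_zero h5
  by_contra hcon
  push Not at hcon
  apply hf
  ext a
  simp [hcon a]

end aux

theorem nt_card_inf_conj {G : Type*} [Group G] [Fintype G] {p : ℕ} [Fact p.Prime]
    {P : Sylow p G} {q t n : ℕ} (S : NTSetup p P q t n)
    (hH : ∀ l : ↥(Subgroup.normalizer ((P : Subgroup G) : Set G)) →* ℂˣ, l ≠ 1 →
      (∀ k ∈ (P : Subgroup G).subgroupOf (Subgroup.normalizer ((P : Subgroup G) : Set G)),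
        l k = 1) →
      classInner
        (indFun (Subgroup.normalizer ((P : Subgroup G) : Set G))
          (linFun (1 : ↥(Subgroup.normalizer ((P : Subgroup G) : Set G)) →* ℂˣ)))
        (indFun (Subgroup.normalizer ((P : Subgroup G) : Set G)) (linFun l)) = 0) :
    ∀ g : G, g ∉ Subgroup.normalizer ((P : Subgroup G) : Set G) →
      Nat.card ↥(Subgroup.normalizer ((P : Subgroup G) : Set G) ⊓
        (Subgroup.normalizer ((P : Subgroup G) : Set G)).map (MulAut.conj g).toMonoidHom) = q := by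
  classical
  have hp : p.Prime := Fact.out
  set N : Subgroup G := Subgroup.normalizer ((P : Subgroup G) : Set G) with hNdef
  intro g hg
  have hPN : (P : Subgroup G) ≤ N := Subgroup.le_normalizer
  obtain ⟨hcommG, hNGT⟩ :=
    Cfsg.Agent.Lib.Helper6.BrauerNInv.normalizer_sylow_facts p P S.hPcard S.hcent
  set K : Subgroup ↥N := (P : Subgroup G).subgroupOf N with hKdef
  have hKn : K.Normal := by
    rw [hKdef]
    exact Subgroup.normal_in_normalizer
  have hcomm : ∀ a b : ↥N, a * b * a⁻¹ * b⁻¹ ∈ K := by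
    intro a b
    rw [hKdef, Subgroup.mem_subgroupOf]
    exact hcommG a b a.2 b.2
  obtain ⟨Λ, hΛmem, hΛcard, hΛin, hΛout⟩ := linear_chars_of_abelian_quotient_h79 K hcomm
  -- cardinalities
  have hKcard : Nat.card K = p := by
    rw [hKdef, Nat.card_congr (Subgroup.subgroupOfEquivOfLe hPN).toEquiv, S.hPcard]
  have hNcard : Nat.card N = p * q := S.hNcard
  have hKidx : K.index = q := by
    have h1 := K.card_mul_index
    rw [hKcard, hNcard] at h1
    exact Nat.eq_of_mul_eq_mul_left hp.pos h1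
  have hΛfin : Finite Λ := by
    apply Nat.finite_of_card_ne_zero
    rw [hΛcard, hKidx]
    have := S.hq
    omega
  set ΛF : Finset (↥N →* ℂˣ) := (Set.toFinite (Λ : Set (↥N →* ℂˣ))).toFinset with hΛFdef
  have hΛF : ∀ l, l ∈ ΛF ↔ l ∈ Λ := by
    intro l
    rw [hΛFdef, Set.Finite.mem_toFinset]
    rfl
  have hΛFsum : ∀ y : ↥N, ∑ l ∈ ΛF, linFun l y =
      if (y : G) ∈ (P : Subgroup G) then (q : ℂ) else 0 := by
    intro y
    have h1 : ∑ l ∈ ΛF, linFun l y = ∑ᶠ l ∈ (Λ : Set (↥N →* ℂˣ)), ((l y : ℂˣ) : ℂ) := by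
      rw [finsum_mem_eq_finite_toFinset_sum _ (Set.toFinite (Λ : Set (↥N →* ℂˣ)))]
      rfl
    rw [h1]
    by_cases hy : (y : G) ∈ (P : Subgroup G)
    · rw [if_pos hy, hΛin y (Subgroup.mem_subgroupOf.mpr hy), hKidx]
    · rw [if_neg hy, hΛout y (fun h => hy (Subgroup.mem_subgroupOf.mp h))]
  have hone_mem : (1 : ↥N →* ℂˣ) ∈ ΛF := (hΛF 1).mpr Λ.one_mem
  -- the subgroup `H' = N ∩ g N g⁻¹` of `N`
  set H' : Subgroup ↥N := conjSub N g with hH'def
  have hcardH : Nat.card ↥(N ⊓ N.map (MulAut.conj g).toMonoidHom) = Nat.card H' := by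
    have hmap : N ⊓ N.map (MulAut.conj g).toMonoidHom = H'.map N.subtype := by
      ext y
      constructor
      · rintro ⟨hyN, z, hz, hzy⟩
        refine ⟨⟨y, hyN⟩, ?_, rfl⟩
        show g⁻¹ * y * g ∈ N
        have : y = g * z * g⁻¹ := by rw [← hzy]; rfl
        rw [this]
        have h2 : g⁻¹ * (g * z * g⁻¹) * g = z := by group
        rw [h2]
        exact hz
      · rintro ⟨w, hw, rfl⟩
        refine ⟨w.2, g⁻¹ * (w : G) * g, hw, ?_⟩
        show g * (g⁻¹ * (w : G) * g) * g⁻¹ = (w : G)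
        group
    rw [hmap, Subgroup.card_map_of_injective N.subtype_injective]
  rw [hcardH]
  -- non-trivial characters in `Λ` are non-trivial on `H'`
  have hnt : ∀ l ∈ ΛF, l ≠ 1 → ∑ w : H', linFun l (w : ↥N) = 0 := by
    intro l hl hl1
    have h0 := hH l hl1 ((hΛmem l).mp ((hΛF l).mp hl))
    obtain ⟨y, hy⟩ := exists_ne_one_of_classInner_eq_zero N l h0 g⁻¹
    have hf : (Units.coeHom ℂ).comp (l.comp H'.subtype) ≠ 1 := by
      intro hf
      apply hy
      have hmem : conjHom N g⁻¹ y ∈ H' := by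
        show g⁻¹ * ((conjHom N g⁻¹ y : ↥N) : G) * g ∈ N
        rw [conjHom_coe]
        have h2 : g⁻¹ * (g⁻¹⁻¹ * ((y : ↥N) : G) * g⁻¹) * g = ((y : ↥N) : G) := by group
        rw [h2]
        exact (y : ↥N).2
      have := DFunLike.congr_fun hf ⟨conjHom N g⁻¹ y, hmem⟩
      simpa using this
    have := sum_hom_units_eq_zero _ hf
    simpa [linFun] using this
  -- double counting
  have hsum1 : ∑ l ∈ ΛF, ∑ w : H', linFun l (w : ↥N) = (Nat.card H' : ℂ) := by
    rw [Finset.sum_eq_single_of_mem 1 hone_mem (fun l hl hl1 => hnt l hl hl1)]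
    simp [linFun_one, Nat.card_eq_fintype_card]
  have hsum2 : ∑ l ∈ ΛF, ∑ w : H', linFun l (w : ↥N) = (q : ℂ) := by
    rw [Finset.sum_comm]
    rw [Fintype.sum_congr _ _ (fun w : H' => hΛFsum (w : ↥N))]
    rw [Finset.sum_eq_single (1 : H')]
    · rw [if_pos]
      exact (P : Subgroup G).one_mem
    · intro w _ hw1
      rw [if_neg]
      intro hwP
      apply hg
      apply hNGT ((w : ↥N) : G) g hwP
      · intro h
        apply hw1
        apply Subtype.ext
        apply Subtype.ext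
        exact h
      · exact w.2
    · intro h
      exact absurd (Finset.mem_univ _) h
  have : (Nat.card H' : ℂ) = (q : ℂ) := hsum1.symm.trans hsum2
  exact_mod_cast this

end Cfsg.Agent.Lib.Helper13.BrauerNT
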