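import Mathlib
import Cfsg.Agent.Lib.Helper17.BrauerNT.Defs
import Cfsg.Agent.Lib.Helper79.BrauerN.IndLin
import Cfsg.Agent.Lib.Helper78.CharMore
import Cfsg.Agent.Lib.Helper6.BrauerNNGT

set_option autoImplicit false
open Cfsg
open scoped ComplexConjugate

/-!
# S0996 module `[NT-ORTH]` (helper17's project)

`⟨1_N^G, l^G⟩ = 0` for non-trivial linear characters `l` of `N = N_G(P)` trivial on `P`, from an
abstract decomposition hypothesis.
-/

namespace Cfsg.Agent.Lib.Helper13.BrauerNT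

open Cfsg.Agent.Lib.Helper17.BrauerNT Cfsg.Agent.Lib.Helper79.BrauerN Cfsg.Agent.Lib.Helper78

theorem nt_orth {G : Type*} [Group G] [Fintype G] {p : ℕ} [Fact p.Prime] {P : Sylow p G}
    {q t n : ℕ} (S : NTSetup p P q t n) (B : Set (IrrCharacter G))
    (hdecomp : ∀ Φ : G → ℂ, IsCharacter G Φ → Φ 1 = ((1 + n * p : ℕ) : ℂ) →
      (∀ x : G, x ∈ (P : Subgroup G) → x ≠ 1 → Φ x = 1) →
      ∀ triv : IrrCharacter G, (triv : G → ℂ) = (fun _ => 1) →
      (classInner Φ (triv : G → ℂ) = 1 →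
        ∀ ζ : IrrCharacter G, ζ ∈ B → ζ ≠ triv → classInner Φ (ζ : G → ℂ) = 0) ∧
      (classInner Φ (triv : G → ℂ) = 0 →
        ∀ ζ : IrrCharacter G, ζ ∉ B → classInner Φ (ζ : G → ℂ) = 0)) :
    ∀ l : ↥(Subgroup.normalizer ((P : Subgroup G) : Set G)) →* ℂˣ, l ≠ 1 →
      (∀ k ∈ (P : Subgroup G).subgroupOf (Subgroup.normalizer ((P : Subgroup G) : Set G)),
        l k = 1) →
      classInner
        (indFun (Subgroup.normalizer ((P : Subgroup G) : Set G))
          (linFun (1 : ↥(Subgroup.normalizer ((P : Subgroup G) : Set G)) →* ℂˣ)))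
        (indFun (Subgroup.normalizer ((P : Subgroup G) : Set G)) (linFun l)) = 0 := by
  classical
  have hp : p.Prime := Fact.out
  set N : Subgroup G := Subgroup.normalizer ((P : Subgroup G) : Set G) with hNdef
  intro l hl1 hlP
  have hPN : (P : Subgroup G) ≤ N := Subgroup.le_normalizer
  obtain ⟨-, hNGT⟩ := Cfsg.Agent.Lib.Helper6.BrauerNInv.normalizer_sylow_facts p P S.hPcard S.hcent
  have hnorm : ∀ y ∈ N, ∀ x ∈ (P : Subgroup G), y⁻¹ * x * y ∈ (P : Subgroup G) := by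
    intro y hy x hx
    have hy' : y⁻¹ ∈ N := N.inv_mem hy
    have := (Subgroup.mem_normalizer_iff.mp hy' x).mp hx
    simpa using this
  have hNcard : Nat.card N = p * q := S.hNcard
  have hpC : (p : ℂ) ≠ 0 := by exact_mod_cast hp.ne_zero
  have hqC : (q : ℂ) ≠ 0 := by
    have : q ≠ 0 := by have := S.hq; omega
    exact_mod_cast this
  -- the induced characters
  set Φ : (↥N →* ℂˣ) → G → ℂ := fun l => indFun N (linFun l) with hΦdef
  have hΦchar : ∀ l, IsCharacter G (Φ l) := fun l => isCharacter_indFun_linFun N l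
  have hΦ1 : ∀ l, Φ l 1 = ((1 + n * p : ℕ) : ℂ) := by
    intro l
    show indFun N (linFun l) 1 = _
    rw [indFun_linFun_one, S.hGcard, hNcard]
    push_cast
    field_simp
  have hΦP : ∀ l : ↥N →* ℂˣ, (∀ k ∈ (P : Subgroup G).subgroupOf N, l k = 1) →
      ∀ x : G, x ∈ (P : Subgroup G) → x ≠ 1 → Φ l x = 1 := by
    intro l hl x hx hx1
    show indFun N (linFun l) x = 1
    apply indFun_linFun_apply_eq_one N l x (fun y hy => hNGT x y hx hx1 hy) _ (hPN hx)
    intro y hy h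
    exact hl _ (Subgroup.mem_subgroupOf.mpr (hnorm y hy x hx))
  -- the trivial character
  obtain ⟨triv, htriv⟩ : ∃ triv : IrrCharacter G, (triv : G → ℂ) = fun _ => 1 :=
    ⟨⟨linFun (1 : G →* ℂˣ), isIrrCharacter_linFun 1⟩, funext fun g => linFun_one g⟩
  have hΦtriv : ∀ l, classInner (Φ l) (triv : G → ℂ) = if l = 1 then 1 else 0 := by
    intro l
    rw [htriv]
    exact classInner_indFun_linFun_one N l
  have h1P : ∀ k ∈ (P : Subgroup G).subgroupOf N, (1 : ↥N →* ℂˣ) k = 1 := fun k _ => rfl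
  obtain ⟨hd1, -⟩ := hdecomp (Φ 1) (hΦchar 1) (hΦ1 1) (hΦP 1 h1P) triv htriv
  obtain ⟨-, hdl⟩ := hdecomp (Φ l) (hΦchar l) (hΦ1 l) (hΦP l hlP) triv htriv
  have ht1 : classInner (Φ 1) (triv : G → ℂ) = 1 := by rw [hΦtriv 1, if_pos rfl]
  have htl : classInner (Φ l) (triv : G → ℂ) = 0 := by rw [hΦtriv l, if_neg hl1]
  have hd1' := hd1 ht1
  have hdl' := hdl htl
  show classInner (Φ 1) (Φ l) = 0
  rw [classInner_eq_sum_mul_conj (Φ l) (IsCharacter.isClassFunction (hΦchar 1))]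
  apply Finset.sum_eq_zero
  intro ζ _
  by_cases hζt : ζ = triv
  · rw [hζt, htl, map_zero, mul_zero]
  · by_cases hζB : ζ ∈ B
    · rw [hd1' ζ hζB hζt, zero_mul]
    · rw [hdl' ζ hζB, map_zero, mul_zero]

end Cfsg.Agent.Lib.Helper13.BrauerNT
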