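import Mathlib
import Cfsg.Agent.Lib.Helper84.DSQW.Defs
import Cfsg.Agent.Lib.Helper84.FTr.Derived
import Cfsg.Agent.Lib.Helper87.FusionCore
import Cfsg.Agent.Lib.Helper84.Alperin

/-!
S5248 project (helper84), module DSQW-[AGX] (helper13): Alperin-Goldschmidt for sets of elements.
A set `Y` of elements that is stable under `Aut_F(S)` and the `Aut_F(P)`, `P` essential, is stable
under every map of the saturated system.
-/

set_option autoImplicit false

namespace Cfsg.Agent.Lib.Helper13.DSQW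

open Cfsg Cfsg.FusionSystem Cfsg.Agent.Lib.Helper84 Cfsg.Agent.Lib.Helper84.DSQW
  Cfsg.Agent.Lib.Helper84.FTr Cfsg.Agent.Lib.Helper87

variable {Ω : Type*} [Group Ω] {S : Subgroup Ω}

/-- conjugation by `g ∈ S` as an automorphism of `S` -/
noncomputable def conjAutTop (S : Subgroup Ω) (g : Ω) (hg : g ∈ S) : MulAut S :=
  Subgroup.normalizerMonoidHom S ⟨g, Subgroup.le_normalizer hg⟩

theorem conjAutTop_apply (S : Subgroup Ω) (g : Ω) (hg : g ∈ S) (x : S) :
    ((conjAutTop S g hg x : S) : Ω) = g * (x : Ω) * g⁻¹ := rfl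

/-- the subsystem of the maps of `F` that preserve `Y` (in both directions) -/
def stableSub (F : FusionSystem S) (Y : Set Ω)
    (hS : ∀ g ∈ S, ∀ u ∈ S, (u ∈ Y ↔ g * u * g⁻¹ ∈ Y)) : FusionSystem S where
  Hom P := {φ | φ ∈ F.Hom P ∧ ∀ u : P, ((u : Ω) ∈ Y ↔ φ u ∈ Y)}
  le_of_mem := fun h => F.le_of_mem h.1
  injective_of_mem := fun h => F.injective_of_mem h.1
  conj_mem := by
    intro P g hP hg
    refine ⟨F.conj_mem hP hg, fun u => ?_⟩
    exact hS g hg u (hP u.2)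
  comp_mem := by
    intro P Q φ ψ hφ hψ h
    refine ⟨F.comp_mem hφ.1 hψ.1 h, fun u => ?_⟩
    rw [hφ.2 u]
    exact hψ.2 ⟨φ u, h u⟩
  inv_mem := by
    intro P φ hφ
    obtain ⟨ψ, hψ, hinv⟩ := F.inv_mem hφ.1
    refine ⟨ψ, ⟨hψ, ?_⟩, hinv⟩
    rintro ⟨v, ⟨x, rfl⟩⟩
    rw [hinv x]
    exact (hφ.2 x).symm

theorem closed_of_essential (F : FusionSystem S) [Finite S] {p : ℕ} [Fact p.Prime] (hS : IsPGroup p S)
    (hF : F.IsSaturated p) (Y : Set Ω)
    (h : ∀ P : Subgroup Ω, (P = S ∨ F.IsEssential p P) → ∀ α ∈ F.autGroup P, ∀ u : P,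
      ((u : Ω) ∈ Y ↔ ((α u : P) : Ω) ∈ Y)) :
    ∀ (P : Subgroup Ω) (φ : P →* Ω), φ ∈ F.Hom P → ∀ u : P, ((u : Ω) ∈ Y ↔ φ u ∈ Y) := by
  have hconj : ∀ g ∈ S, ∀ u ∈ S, (u ∈ Y ↔ g * u * g⁻¹ ∈ Y) := by
    intro g hg u hu
    have hα : conjAutTop S g hg ∈ F.autGroup S := by
      apply autInducedBy_le_autGroup F le_rfl
      rw [mem_autInducedBy_iff]
      exact ⟨g, hg, fun x => rfl⟩
    have := h S (Or.inl rfl) (conjAutTop S g hg) hα ⟨u, hu⟩
    rwa [conjAutTop_apply] at this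
  set E := stableSub F Y hconj with hE
  have hsub : ∀ P : Subgroup Ω, (P = S ∨ F.IsEssential p P) → F.autGroup P ≤ E.autGroup P := by
    intro P hP α hα
    have hPS : P ≤ S := by
      rcases hP with hP | hP
      · rw [hP]
      · exact hP.1.1
    rw [mem_autGroup_iff E hPS]
    have h1 := (mem_autGroup_iff F hPS).1 hα
    refine ⟨h1, fun u => ?_⟩
    exact h P hP α hα u
  have key := alperin_goldschmidt F E hS hF hsub
  intro P φ hφ u
  exact (key P hφ).2 u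

end Cfsg.Agent.Lib.Helper13.DSQW
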