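import Mathlib
import Cfsg.Agent.Lib.Helper84.DSQW.Defs
import Cfsg.Agent.Lib.Helper84.FTr.Derived
import Cfsg.Agent.Lib.Helper87.FusionCore

/-!
S5248 project (helper84), module DSQW-[CONJAUT] (helper13): `Aut_F` and `Aut_S` of an `S`-conjugate
of `P` are the transports of those of `P`.
-/

set_option autoImplicit false

namespace Cfsg.Agent.Lib.Helper13.DSQW

open Cfsg Cfsg.FusionSystem Cfsg.Agent.Lib.Helper84 Cfsg.Agent.Lib.Helper84.DSQW
  Cfsg.Agent.Lib.Helper84.FTr Cfsg.Agent.Lib.Helper87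

variable {Ω : Type*} [Group Ω] {S : Subgroup Ω}

/-- `P ≃* gPg⁻¹` -/
noncomputable def conjEquiv (P : Subgroup Ω) (g : Ω) :
    P ≃* ↥(P.map (MulAut.conj g).toMonoidHom) :=
  Subgroup.equivMapOfInjective P (MulAut.conj g).toMonoidHom (MulAut.conj g).injective

theorem conjEquiv_apply (P : Subgroup Ω) (g : Ω) (x : P) :
    ((conjEquiv P g x : ↥(P.map (MulAut.conj g).toMonoidHom)) : Ω) = g * (x : Ω) * g⁻¹ := rfl

theorem conjEquiv_symm_apply (P : Subgroup Ω) (g : Ω) (y : ↥(P.map (MulAut.conj g).toMonoidHom)) :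
    (((conjEquiv P g).symm y : P) : Ω) = g⁻¹ * (y : Ω) * g := by
  have h := conjEquiv_apply P g ((conjEquiv P g).symm y)
  rw [MulEquiv.apply_symm_apply] at h
  rw [h]
  group

theorem isIso_conjEquiv (F : FusionSystem S) {P : Subgroup Ω} (hP : P ≤ S) {g : Ω} (hg : g ∈ S) :
    IsIso F (conjEquiv P g) := by
  have h := F.conj_mem (P := P) (g := g) hP hg
  have e : (P.map (MulAut.conj g).toMonoidHom).subtype.comp (conjEquiv P g).toMonoidHom =
      conjHom P g := by
    ext x
    rfl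
  unfold IsIso
  rw [e]
  exact h

theorem map_conj_le {P : Subgroup Ω} (hP : P ≤ S) {g : Ω} (hg : g ∈ S) :
    P.map (MulAut.conj g).toMonoidHom ≤ S := by
  rintro _ ⟨x, hx, rfl⟩
  show g * x * g⁻¹ ∈ S
  exact S.mul_mem (S.mul_mem hg (hP hx)) (S.inv_mem hg)

theorem congr_apply (P : Subgroup Ω) (g : Ω) (α : MulAut P) (x : P) :
    MulAut.congr (conjEquiv P g) α (conjEquiv P g x) = conjEquiv P g (α x) := by
  show conjEquiv P g (α ((conjEquiv P g).symm (conjEquiv P g x))) = _
  rw [MulEquiv.symm_apply_apply]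

theorem exists_autGroup_conj (F : FusionSystem S) {P : Subgroup Ω} (hP : P ≤ S) (g : Ω) (hg : g ∈ S) :
    ∃ e : MulAut P ≃* MulAut ↥(P.map (MulAut.conj g).toMonoidHom),
      (F.autGroup P).map e.toMonoidHom = F.autGroup (P.map (MulAut.conj g).toMonoidHom) ∧
      (autInducedBy S P).map e.toMonoidHom = autInducedBy S (P.map (MulAut.conj g).toMonoidHom) := by
  set c := conjEquiv P g with hc
  have hQ : P.map (MulAut.conj g).toMonoidHom ≤ S := map_conj_le hP hg
  have hcI : IsIso F c := isIso_conjEquiv F hP hg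
  refine ⟨MulAut.congr c, ?_, ?_⟩
  · ext β
    rw [Subgroup.mem_map]
    constructor
    · rintro ⟨α, hα, rfl⟩
      rw [mem_autGroup_iff F hP] at hα
      rw [mem_autGroup_iff F hQ]
      exact (hcI.symm).trans (hα.trans hcI)
    · intro hβ
      rw [mem_autGroup_iff F hQ] at hβ
      refine ⟨(MulAut.congr c).symm β, ?_, ?_⟩
      · rw [mem_autGroup_iff F hP]
        exact hcI.trans (IsIso.trans (e := (β : _ ≃* _)) hβ hcI.symm)
      · exact MulEquiv.apply_symm_apply _ _
  · ext β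
    rw [Subgroup.mem_map]
    constructor
    · rintro ⟨α, hα, rfl⟩
      obtain ⟨h, hh, hα'⟩ := mem_autInducedBy_iff.1 hα
      rw [mem_autInducedBy_iff]
      refine ⟨g * h * g⁻¹, S.mul_mem (S.mul_mem hg hh) (S.inv_mem hg), fun y => ?_⟩
      obtain ⟨x, rfl⟩ := c.surjective y
      show ((MulAut.congr c α (c x) : _) : Ω) = _
      rw [hc, congr_apply, conjEquiv_apply, conjEquiv_apply, hα']
      group
    · intro hβ
      obtain ⟨h, hh, hβ'⟩ := mem_autInducedBy_iff.1 hβ
      refine ⟨(MulAut.congr c).symm β, ?_, MulEquiv.apply_symm_apply _ _⟩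
      rw [mem_autInducedBy_iff]
      refine ⟨g⁻¹ * h * g, S.mul_mem (S.mul_mem (S.inv_mem hg) hh) hg, fun x => ?_⟩
      have e1 : (MulAut.congr c).symm β x = c.symm (β (c x)) := rfl
      rw [e1, hc, conjEquiv_symm_apply, hβ', conjEquiv_apply]
      group

end Cfsg.Agent.Lib.Helper13.DSQW
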