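import Mathlib
import Cfsg.Agent.Lib.Helper84.DSQW.Defs
import Cfsg.Agent.Lib.Helper84.FTr.Derived
import Cfsg.Agent.Lib.Helper87.FusionCore

/-!
S5248 project (helper84), modules DSQW-[TR-CONJ] and DSQW-[TR-REAL] (helper13): transport of
conjugacy of subgroups and of realizability along an isomorphism of fusion systems.
-/

set_option autoImplicit false

namespace Cfsg.Agent.Lib.Helper13.DSQW

universe u

open Cfsg Cfsg.FusionSystem Cfsg.Agent.Lib.Helper84 Cfsg.Agent.Lib.Helper84.DSQW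
  Cfsg.Agent.Lib.Helper84.FTr Cfsg.Agent.Lib.Helper87

section conj

variable {Ω : Type*} [Group Ω] {Ω' : Type*} [Group Ω'] {S : Subgroup Ω} {S' : Subgroup Ω'}

/-- the image along `e` of the range of a map `φ` is the range of the induced map `φ'` -/
theorem im_range_of_inducedAlong (e : S ≃* S') {P : Subgroup Ω} {φ : P →* Ω} {φ' : im e P →* Ω'}
    (hi : InducedAlong (pairHom e) φ φ') : im e φ.range = φ'.range := by
  obtain ⟨hP, hφ, hP', h1⟩ := hi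
  ext y
  rw [mem_im_iff]
  constructor
  · rintro ⟨x, hx, ⟨z, rfl⟩, rfl⟩
    exact ⟨⟨pairHom e ⟨z, hP z.2⟩, hP' z⟩, h1 z⟩
  · rintro ⟨⟨y', hy'⟩, rfl⟩
    obtain ⟨x, hx, hxP, rfl⟩ := (mem_im_iff e P y').1 hy'
    refine ⟨φ ⟨x, hxP⟩, hφ ⟨x, hxP⟩, ⟨⟨x, hxP⟩, rfl⟩, ?_⟩
    exact (h1 ⟨x, hxP⟩).symm

theorem corr_isConj_of_im {e : S ≃* S'} {F : FusionSystem S} {F' : FusionSystem S'} (h : Corr e F F')
    {P Q : Subgroup Ω} (hP : P ≤ S) (hQ : Q ≤ S)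
    (hc : ∃ φ' ∈ F'.Hom (im e P), φ'.range = im e Q) : ∃ φ ∈ F.Hom P, φ.range = Q := by
  obtain ⟨φ', hφ', hr⟩ := hc
  obtain ⟨P₀, φ₀, hφ₀, hP₀, hi₀⟩ := h.exists_of_mem hφ'
  have hP₀S : P₀ ≤ S := (F.le_of_mem hφ₀).1
  have hPP₀ : P₀ = P := im_injective e hP₀S hP hP₀
  subst hPP₀
  refine ⟨φ₀, hφ₀, ?_⟩
  have hrS : φ₀.range ≤ S := by
    rintro _ ⟨x, rfl⟩
    exact (F.le_of_mem hφ₀).2 x
  apply im_injective e hrS hQ
  rw [im_range_of_inducedAlong e hi₀, hr]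

end conj

section real

theorem corr_isRealizable {Ω Ω' : Type u} [Group Ω] [Group Ω'] {S : Subgroup Ω} {S' : Subgroup Ω'}
    {p : ℕ} {e : S ≃* S'} {F : FusionSystem S} {F' : FusionSystem S'} (h : Corr e F F')
    (hr : F'.IsRealizable p) : F.IsRealizable p := by
  obtain ⟨G, hG, hfin, ι', ⟨hinj, hreal⟩, T, hT⟩ := hr
  refine ⟨G, hG, hfin, ι'.comp e.toMonoidHom, ⟨?_, ?_⟩, T, ?_⟩
  · exact hinj.comp e.injective
  · intro P hP φ hφ
    -- the transported map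
    have hi := inducedAlong_trMap e hP φ hφ
    rw [h.mem_iff rfl hi]
    have hmemS' : ∀ y : im e P, trMap e hP φ hφ y ∈ S' := by
      intro y
      obtain ⟨x, hx, hxP, hy⟩ := (mem_im_iff e P y).1 y.2
      have hy' : y = ⟨e ⟨x, hx⟩, apply_mem_im e hx hxP⟩ := Subtype.ext hy.symm
      rw [hy', trMap_apply e hP φ hφ ⟨x, hxP⟩]
      exact (e _).2
    rw [hreal (im e P) (im_le e P) (trMap e hP φ hφ) hmemS']
    constructor
    · rintro ⟨g, hg⟩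
      refine ⟨g, fun x => ?_⟩
      have hx' : (e ⟨x, hP x.2⟩ : Ω') ∈ im e P := apply_mem_im e (hP x.2) x.2
      have := hg ⟨e ⟨x, hP x.2⟩, hx'⟩
      have e1 : (⟨trMap e hP φ hφ ⟨e ⟨x, hP x.2⟩, hx'⟩, hmemS' _⟩ : S') = e ⟨φ x, hφ x⟩ :=
        Subtype.ext (trMap_apply e hP φ hφ x hx')
      rw [e1] at this
      simpa using this
    · rintro ⟨g, hg⟩
      refine ⟨g, fun y => ?_⟩
      obtain ⟨x, hx, hxP, hy⟩ := (mem_im_iff e P y).1 y.2
      have hy' : y = ⟨e ⟨x, hx⟩, apply_mem_im e hx hxP⟩ := Subtype.ext hy.symm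
      subst hy'
      have e1 : (⟨trMap e hP φ hφ ⟨e ⟨x, hx⟩, apply_mem_im e hx hxP⟩, hmemS' _⟩ : S') =
          e ⟨φ ⟨x, hxP⟩, hφ ⟨x, hxP⟩⟩ :=
        Subtype.ext (trMap_apply e hP φ hφ ⟨x, hxP⟩ _)
      rw [e1]
      have := hg ⟨x, hxP⟩
      simpa using this
  · rw [hT]
    ext g
    constructor
    · rintro ⟨s', rfl⟩
      exact ⟨e.symm s', by simp⟩
    · rintro ⟨s, rfl⟩
      exact ⟨e s, rfl⟩

end real

end Cfsg.Agent.Lib.Helper13.DSQW
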