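import Mathlib
import Cfsg.Prelude.Def_GeometricClasses
import Cfsg.Agent.Lib.Helper99.AschDefs
import Cfsg.Agent.Lib.Helper37.Asch.FormKit
import Cfsg.Agent.Lib.Helper37.Asch.FormKit2

/-!
# Shared form kit: forms on a subfield structure (FORMKIT-[RATFORM], helper13)

If an absolutely irreducible group `P` fixes a non-degenerate sesquilinear form `f` and `B P B⁻¹` has all its
entries in the subfield `F₀` (stable under `σ`), then a non-zero multiple of `f` takes values in `F₀` on the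
`F₀`-structure spanned by the columns of `B⁻¹`: `IsFormRationalStructure f F₀ ζ B⁻¹`.

Proof: write the Gram matrix `G'` of `f` in the new basis as `∑ ω_k G_k` over an `F₀`-basis `ω` of `F`, with the
`G_k` over `F₀`.  The invariance equations `yᵀ G' σ(y) = G'` have coefficients in `F₀`, so every `G_k` is invariant;
some `G_k ≠ 0`; invariant Gram matrices are proportional (helper37's `gram_proportional`), so `G_k = c G'`.
-/

set_option autoImplicit false

namespace Cfsg.Agent.Lib.Helper13.FormKit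

open Cfsg Cfsg.Geo Module
open scoped MatrixGroups Matrix
open Cfsg.Agent.Lib.Helper37.Asch

variable {ι : Type} [Fintype ι] [DecidableEq ι] {F : Type*} [Field F]

section comp

variable {F₀ : Subfield F} {κ : Type*} [Fintype κ] (b : Basis κ F₀ F)

/-- the `k`-th coordinate matrix of `M` with respect to the `F₀`-basis `b` of `F`, as a matrix over `F` -/
noncomputable def compMat (k : κ) (M : Matrix ι ι F) : Matrix ι ι F :=
  Matrix.of fun i j => ((b.repr (M i j) k : F₀) : F)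

omit [Fintype ι] [DecidableEq ι] in
theorem compMat_apply (k : κ) (M : Matrix ι ι F) (i j : ι) :
    compMat b k M i j = ((b.repr (M i j) k : F₀) : F) := rfl

omit [Fintype ι] [DecidableEq ι] in
theorem compMat_mem (k : κ) (M : Matrix ι ι F) (i j : ι) : compMat b k M i j ∈ F₀ :=
  (b.repr (M i j) k).2

omit [Fintype ι] [DecidableEq ι] in
theorem exists_compMat_ne_zero {M : Matrix ι ι F} (hM : M ≠ 0) : ∃ k, compMat b k M ≠ 0 := by
  by_contra h
  have h : ∀ k, compMat b k M = 0 := fun k => by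
    by_contra hk
    exact h ⟨k, hk⟩
  apply hM
  ext i j
  have h1 : b.repr (M i j) = 0 := by
    ext k
    have := congrFun (congrFun (h k) i) j
    simp only [compMat_apply, Matrix.zero_apply] at this
    simpa using this
  have := b.repr.map_eq_zero_iff.mp h1
  simpa using this

omit [Fintype ι] [DecidableEq ι] in
/-- coordinates of `y * m * z` for `y, z ∈ F₀` -/
theorem repr_mul_mul (k : κ) (y z m : F) (hy : y ∈ F₀) (hz : z ∈ F₀) :
    ((b.repr (y * m * z) k : F₀) : F) = y * ((b.repr m k : F₀) : F) * z := by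
  have h1 : y * m * z = ((⟨y, hy⟩ * ⟨z, hz⟩ : F₀)) • m := by
    change y * m * z = (y * z) * m
    ring
  rw [h1, map_smul]
  simp only [Finsupp.smul_apply, smul_eq_mul, Subfield.coe_mul]
  ring

/-- coordinate matrices commute with multiplication by matrices over `F₀` -/
theorem compMat_mul_mul (k : κ) (Y Z M : Matrix ι ι F) (hY : ∀ i j, Y i j ∈ F₀)
    (hZ : ∀ i j, Z i j ∈ F₀) : compMat b k (Y * M * Z) = Y * compMat b k M * Z := by
  ext i j
  simp only [compMat_apply, Matrix.mul_apply, Finset.sum_mul]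
  rw [map_sum]
  simp only [Finsupp.coe_finsetSum, Finset.sum_apply, map_sum, AddSubmonoidClass.coe_finsetSum]
  refine Finset.sum_congr rfl fun c _ => ?_
  refine Finset.sum_congr rfl fun a _ => ?_
  exact repr_mul_mul b k (Y i a) (Z c j) (M a c) (hY i a) (hZ c j)

end comp

/-- Matrix core of RATFORM: an invertible `σ`-invariant Gram matrix of a group with scalar commutant and with
entries (of the group and of its `σ`-images) in `F₀` is proportional to a matrix over `F₀`. -/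
theorem exists_smul_gram_mem [Finite F] (σ : F ≃+* F) (F₀ : Subfield F)
    (P : Subgroup (GL ι F))
    (hcomm : ∀ M : Matrix ι ι F, (∀ s ∈ matrixSet P, M * s = s * M) →
      ∃ c : F, M = c • (1 : Matrix ι ι F))
    (hP : ∀ x ∈ P, ∀ i j, (x : Matrix ι ι F) i j ∈ F₀) (hσ : ∀ a ∈ F₀, σ a ∈ F₀)
    (J : Matrix ι ι F) (hJ : IsUnit J)
    (hfix : ∀ x ∈ P, (x : Matrix ι ι F)ᵀ * J * (x : Matrix ι ι F).map σ = J) :
    ∃ c : F, c ≠ 0 ∧ ∀ i j, (c • J) i j ∈ F₀ := by
  classical
  rcases isEmpty_or_nonempty ι with hι | hι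
  · exact ⟨1, one_ne_zero, fun i => (IsEmpty.false i).elim⟩
  let b : Basis (Fin (finrank F₀ F)) F₀ F := Module.finBasis F₀ F
  have hJ0 : J ≠ 0 := by
    intro h0
    rw [h0] at hJ
    obtain ⟨u, hu⟩ := hJ
    have h1 : (u : Matrix ι ι F) * ((u⁻¹ : (Matrix ι ι F)ˣ) : Matrix ι ι F) = 1 := u.mul_inv
    rw [hu, zero_mul] at h1
    have i : ι := Classical.arbitrary ι
    have := congrFun (congrFun h1 i) i
    simp at this
  obtain ⟨k, hk⟩ := exists_compMat_ne_zero b hJ0
  have hfixk : ∀ x ∈ P, (x : Matrix ι ι F)ᵀ * compMat b k J * (x : Matrix ι ι F).map σ =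
      compMat b k J := by
    intro x hx
    have h1 := compMat_mul_mul b k ((x : Matrix ι ι F)ᵀ) ((x : Matrix ι ι F).map σ) J
      (fun i j => hP x hx j i) (fun i j => hσ _ (hP x hx i j))
    rw [← h1, hfix x hx]
  obtain ⟨c, hc⟩ := gram_proportional σ P hcomm J (compMat b k J) hJ hfix hfixk
  refine ⟨c, ?_, fun i j => ?_⟩
  · rintro rfl
    apply hk
    rw [hc, zero_smul]
  · rw [← hc]
    exact compMat_mem b k J i j

/-- **FORMKIT-[RATFORM]**: an absolutely irreducible group `P` fixing the non-degenerate sesquilinear form `f`,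
with `B P B⁻¹` over the `σ`-stable subfield `F₀`: a non-zero multiple of `f` is `F₀`-valued on the `F₀`-structure
spanned by the columns of `B⁻¹`. -/
theorem exists_formRationalStructure [Finite F] {σ : F ≃+* F} {f : (ι → F) → (ι → F) → F}
    (hf : IsSesqForm σ f) (hnd : IsNondegenerateForm f) (P : Subgroup (GL ι F))
    (hP : ActsAbsolutelyIrreducibly (matrixSet P)) (hfix : FixesForm (matrixSet P) f)
    (F₀ : Subfield F) (hσ : ∀ a ∈ F₀, σ a ∈ F₀) (B : GL ι F)
    (hB : ∀ x ∈ P, ∀ i j, ((B * x * B⁻¹ : GL ι F) : Matrix ι ι F) i j ∈ F₀) :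
    ∃ ζ : F, ζ ≠ 0 ∧ IsFormRationalStructure f F₀ ζ B⁻¹ := by
  classical
  set Bi : Matrix ι ι F := ((B⁻¹ : GL ι F) : Matrix ι ι F) with hBi
  set Bm : Matrix ι ι F := (B : Matrix ι ι F) with hBm
  have hBBi : Bm * Bi = 1 := by rw [hBm, hBi, ← Units.val_mul, mul_inv_cancel, Units.val_one]
  have hBiB : Bi * Bm = 1 := by rw [hBm, hBi, ← Units.val_mul, inv_mul_cancel, Units.val_one]
  have hmapone : (1 : Matrix ι ι F).map σ = 1 := by
    ext i j
    by_cases hij : i = j
    · subst hij; simp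
    · simp [hij]
  have hσBBi : Bm.map σ * Bi.map σ = 1 := by rw [← Matrix.map_mul, hBBi, hmapone]
  have hσBiB : Bi.map σ * Bm.map σ = 1 := by rw [← Matrix.map_mul, hBiB, hmapone]
  -- the conjugated group
  let PB : Subgroup (GL ι F) := P.map (MulAut.conj B).toMonoidHom
  have hPB : ∀ y ∈ PB, ∃ x ∈ P, y = B * x * B⁻¹ := by
    rintro y ⟨x, hx, rfl⟩
    exact ⟨x, hx, rfl⟩
  -- Gram matrix in the new basis
  set G : Matrix ι ι F := gram f with hG
  set G' : Matrix ι ι F := Biᵀ * G * Bi.map σ with hG'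
  have hGu : IsUnit G := hf.isUnit_gram hnd
  have hG'u : IsUnit G' := by
    obtain ⟨Gu, hGu'⟩ := hGu
    refine ⟨⟨G', Bm.map σ * ((Gu⁻¹ : (Matrix ι ι F)ˣ) : Matrix ι ι F) * Bmᵀ, ?_, ?_⟩, rfl⟩
    · have hT : Biᵀ * Bmᵀ = 1 := by rw [← Matrix.transpose_mul, hBBi, Matrix.transpose_one]
      calc G' * (Bm.map σ * ((Gu⁻¹ : (Matrix ι ι F)ˣ) : Matrix ι ι F) * Bmᵀ)
          = Biᵀ * G * (Bi.map σ * Bm.map σ) * ((Gu⁻¹ : (Matrix ι ι F)ˣ) : Matrix ι ι F) * Bmᵀ := by
            rw [hG']; simp only [mul_assoc]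
        _ = Biᵀ * ((Gu : Matrix ι ι F) * ((Gu⁻¹ : (Matrix ι ι F)ˣ) : Matrix ι ι F)) * Bmᵀ := by
            rw [hσBiB, mul_one, hGu']; simp only [mul_assoc]
        _ = 1 := by rw [Units.mul_inv, mul_one, hT]
    · have hT : Bmᵀ * Biᵀ = 1 := by rw [← Matrix.transpose_mul, hBiB, Matrix.transpose_one]
      calc Bm.map σ * ((Gu⁻¹ : (Matrix ι ι F)ˣ) : Matrix ι ι F) * Bmᵀ * G'
          = Bm.map σ * ((Gu⁻¹ : (Matrix ι ι F)ˣ) : Matrix ι ι F) * (Bmᵀ * Biᵀ) * G * Bi.map σ := by
            rw [hG']; simp only [mul_assoc]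
        _ = Bm.map σ * (((Gu⁻¹ : (Matrix ι ι F)ˣ) : Matrix ι ι F) * (Gu : Matrix ι ι F)) * Bi.map σ := by
            rw [hT, mul_one, hGu']; simp only [mul_assoc]
        _ = 1 := by rw [Units.inv_mul, mul_one, hσBBi]
  -- invariance of `G'` under `PB`
  have hfixG : ∀ x ∈ P, (x : Matrix ι ι F)ᵀ * G * (x : Matrix ι ι F).map σ = G := fun x hx =>
    hf.gram_of_fixes (fun u v => hfix _ ⟨x, hx, rfl⟩ u v)
  have hfixG' : ∀ y ∈ PB, (y : Matrix ι ι F)ᵀ * G' * (y : Matrix ι ι F).map σ = G' := by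
    intro y hy
    obtain ⟨x, hx, rfl⟩ := hPB y hy
    have hy1 : ((B * x * B⁻¹ : GL ι F) : Matrix ι ι F) = Bm * (x : Matrix ι ι F) * Bi := by
      simp only [Units.val_mul, hBm, hBi]
    have hT : Bmᵀ * Biᵀ = 1 := by rw [← Matrix.transpose_mul, hBiB, Matrix.transpose_one]
    rw [hy1, Matrix.transpose_mul, Matrix.transpose_mul, Matrix.map_mul, Matrix.map_mul, hG']
    calc Biᵀ * ((x : Matrix ι ι F)ᵀ * Bmᵀ) * (Biᵀ * G * Bi.map σ) *
          (Bm.map σ * (x : Matrix ι ι F).map σ * Bi.map σ)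
        = Biᵀ * (x : Matrix ι ι F)ᵀ * (Bmᵀ * Biᵀ) * G * (Bi.map σ * Bm.map σ) *
            (x : Matrix ι ι F).map σ * Bi.map σ := by simp only [mul_assoc]
      _ = Biᵀ * ((x : Matrix ι ι F)ᵀ * G * (x : Matrix ι ι F).map σ) * Bi.map σ := by
          rw [hT, hσBiB, mul_one, mul_one]; simp only [mul_assoc]
      _ = Biᵀ * G * Bi.map σ := by rw [hfixG x hx]
  -- scalar commutant of `PB`
  have hcommPB : ∀ M : Matrix ι ι F, (∀ s ∈ matrixSet PB, M * s = s * M) →
      ∃ c : F, M = c • (1 : Matrix ι ι F) := by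
    intro M hM
    obtain ⟨c, hc⟩ := hP.2 (Bi * M * Bm) (by
      rintro s ⟨x, hx, rfl⟩
      have h1 : M * ((B * x * B⁻¹ : GL ι F) : Matrix ι ι F) =
          ((B * x * B⁻¹ : GL ι F) : Matrix ι ι F) * M := hM _ ⟨B * x * B⁻¹, ⟨x, hx, rfl⟩, rfl⟩
      have hy1 : ((B * x * B⁻¹ : GL ι F) : Matrix ι ι F) = Bm * (x : Matrix ι ι F) * Bi := by
        simp only [Units.val_mul, hBm, hBi]
      rw [hy1] at h1
      calc Bi * M * Bm * (x : Matrix ι ι F)
          = Bi * (M * (Bm * (x : Matrix ι ι F) * Bi)) * Bm := by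
            simp only [mul_assoc]; rw [hBiB, mul_one]
        _ = Bi * (Bm * (x : Matrix ι ι F) * Bi * M) * Bm := by rw [h1]
        _ = (Bi * Bm) * (x : Matrix ι ι F) * (Bi * M * Bm) := by simp only [mul_assoc]
        _ = (x : Matrix ι ι F) * (Bi * M * Bm) := by rw [hBiB, one_mul])
    refine ⟨c, ?_⟩
    calc M = Bm * (Bi * M * Bm) * Bi := by
          simp only [mul_assoc]; rw [hBBi, mul_one, ← mul_assoc, hBBi, one_mul]
      _ = c • (1 : Matrix ι ι F) := by
          rw [hc, Matrix.mul_smul, Matrix.smul_mul, mul_one, hBBi]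
  have hPBent : ∀ y ∈ PB, ∀ i j, (y : Matrix ι ι F) i j ∈ F₀ := by
    intro y hy i j
    obtain ⟨x, hx, rfl⟩ := hPB y hy
    exact hB x hx i j
  obtain ⟨c, hc0, hc⟩ := exists_smul_gram_mem σ F₀ PB hcommPB hPBent hσ G' hG'u hfixG'
  refine ⟨c, hc0, fun u v hu hv => ?_⟩
  have h1 : f (Bi *ᵥ u) (Bi *ᵥ v) = u ⬝ᵥ (G' *ᵥ (fun j => σ (v j))) := by
    rw [hf.apply_mulVec]
  rw [h1]
  have h2 : c * (u ⬝ᵥ (G' *ᵥ (fun j => σ (v j)))) = u ⬝ᵥ ((c • G') *ᵥ (fun j => σ (v j))) := by
    rw [Matrix.smul_mulVec, dotProduct_smul, smul_eq_mul]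
  rw [h2]
  simp only [dotProduct, Matrix.mulVec]
  refine Subfield.sum_mem _ fun i _ => Subfield.mul_mem _ (hu i) ?_
  exact Subfield.sum_mem _ fun j _ => Subfield.mul_mem _ (hc i j) (hσ _ (hv j))

/-- every subfield of a finite field is stable under every automorphism -/
theorem map_mem_subfield_of_finite [Finite F] (σ : F ≃+* F) (F₀ : Subfield F) (a : F) (ha : a ∈ F₀) :
    σ a ∈ F₀ := by
  classical
  haveI := Fintype.ofFinite F
  haveI : Fintype F₀ := Fintype.ofFinite F₀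
  -- `a ^ |F₀| = a`, hence `σ a ^ |F₀| = σ a`; the roots of `X ^ |F₀| - X` in `F` are exactly `F₀`
  set q := Fintype.card F₀ with hq
  have hpow : ∀ x : F, x ∈ F₀ → x ^ q = x := by
    intro x hx
    have := FiniteField.pow_card (⟨x, hx⟩ : F₀)
    have h2 := congrArg (Subtype.val) this
    simpa using h2
  have hσa : σ a ^ q = σ a := by rw [← map_pow, hpow a ha]
  -- root counting
  have hq1 : 1 < q := Fintype.one_lt_card
  let p : Polynomial F := Polynomial.X ^ q - Polynomial.X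
  have hp0 : p ≠ 0 := FiniteField.X_pow_card_sub_X_ne_zero F hq1
  have hdeg : p.natDegree = q := FiniteField.X_pow_card_sub_X_natDegree_eq F hq1
  have hsub : (Finset.univ.image (fun x : F₀ => (x : F))) ⊆ p.roots.toFinset := by
    intro x hx
    obtain ⟨y, -, rfl⟩ := Finset.mem_image.mp hx
    rw [Multiset.mem_toFinset, Polynomial.mem_roots hp0]
    simp [p, hpow y y.2]
  have hcard : (Finset.univ.image (fun x : F₀ => (x : F))).card = q := by
    rw [Finset.card_image_of_injective _ Subtype.val_injective, Finset.card_univ]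
  have hle : p.roots.toFinset.card ≤ q := by
    calc p.roots.toFinset.card ≤ Multiset.card p.roots := Multiset.toFinset_card_le _
      _ ≤ p.natDegree := Polynomial.card_roots' p
      _ = q := hdeg
  have heq : (Finset.univ.image (fun x : F₀ => (x : F))) = p.roots.toFinset :=
    Finset.eq_of_subset_of_card_le hsub (by rw [hcard]; exact hle)
  have hmem : σ a ∈ p.roots.toFinset := by
    rw [Multiset.mem_toFinset, Polynomial.mem_roots hp0]
    simp [p, hσa]
  rw [← heq] at hmem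
  obtain ⟨y, -, hy⟩ := Finset.mem_image.mp hmem
  rw [← hy]
  exact y.2

/-- **FORMKIT-[RATFORM]** for finite fields (no stability hypothesis), bilinear forms. -/
theorem exists_formRationalStructure_bilinear [Finite F] {f : (ι → F) → (ι → F) → F}
    (hf : IsBilinearForm f) (hnd : IsNondegenerateForm f) (P : Subgroup (GL ι F))
    (hP : ActsAbsolutelyIrreducibly (matrixSet P)) (hfix : FixesForm (matrixSet P) f)
    (F₀ : Subfield F) (B : GL ι F)
    (hB : ∀ x ∈ P, ∀ i j, ((B * x * B⁻¹ : GL ι F) : Matrix ι ι F) i j ∈ F₀) :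
    ∃ ζ : F, ζ ≠ 0 ∧ IsFormRationalStructure f F₀ ζ B⁻¹ :=
  exists_formRationalStructure (isSesq_of_bilinear hf) hnd P hP hfix F₀ (fun a ha => ha) B hB

/-- **FORMKIT-[RATFORM]** for finite fields, unitary forms. -/
theorem exists_formRationalStructure_unitary [Finite F] {σ : F ≃+* F} {f : (ι → F) → (ι → F) → F}
    (hf : IsUnitaryForm σ f) (P : Subgroup (GL ι F))
    (hP : ActsAbsolutelyIrreducibly (matrixSet P)) (hfix : FixesForm (matrixSet P) f)
    (F₀ : Subfield F) (B : GL ι F)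
    (hB : ∀ x ∈ P, ∀ i j, ((B * x * B⁻¹ : GL ι F) : Matrix ι ι F) i j ∈ F₀) :
    ∃ ζ : F, ζ ≠ 0 ∧ IsFormRationalStructure f F₀ ζ B⁻¹ :=
  exists_formRationalStructure (isSesq_of_unitary hf) hf.nondegenerate P hP hfix F₀
    (map_mem_subfield_of_finite σ F₀) B hB

end Cfsg.Agent.Lib.Helper13.FormKit
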