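import Mathlib
import Cfsg.Prelude.Def_LieClassical
import Cfsg.Agent.Lib.Helper13.Herm

set_option autoImplicit false

/-!
Basic structure of the general unitary group `Cfsg.GU n F q` (helper13's library): Gram identity,
determinants have norm one, diagonal and permutation elements, the centre consists of scalars.
-/

namespace Cfsg.Agent.Lib.Helper13

open Matrix

section

variable {n : ℕ} {F : Type*} [Field F] {q : ℕ}

theorem mem_GU_iff (g : Matrix.GeneralLinearGroup (Fin n) F) :
    g ∈ Cfsg.GU n F q ↔ ∀ u v : Fin n → F,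
      Cfsg.hermForm n F q ((g : Matrix (Fin n) (Fin n) F) *ᵥ u)
        ((g : Matrix (Fin n) (Fin n) F) *ᵥ v) = Cfsg.hermForm n F q u v :=
  Iff.rfl

/-- The Gram identity for elements of `GU`. -/
theorem GU_gram (hq : q ≠ 0) {g : Matrix.GeneralLinearGroup (Fin n) F} (hg : g ∈ Cfsg.GU n F q)
    (j k : Fin n) :
    ∑ i, (g : Matrix (Fin n) (Fin n) F) i j * ((g : Matrix (Fin n) (Fin n) F) i k) ^ q
      = if j = k then 1 else 0 := by
  have h := (mem_GU_iff g).mp hg (Pi.single j 1) (Pi.single k 1)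
  rw [Matrix.mulVec_single_one, Matrix.mulVec_single_one, hermForm_single_left] at h
  rw [show (∑ i, (g : Matrix (Fin n) (Fin n) F) i j * ((g : Matrix (Fin n) (Fin n) F) i k) ^ q)
    = Cfsg.hermForm n F q ((g : Matrix (Fin n) (Fin n) F).col j)
      ((g : Matrix (Fin n) (Fin n) F).col k) from rfl, h]
  by_cases hjk : j = k
  · subst hjk; simp
  · rw [if_neg hjk, Pi.single_eq_of_ne hjk, zero_pow hq]

end

section

variable {n : ℕ} {F : Type*} [Field F] [Fintype F] {q : ℕ}

/-- Determinants of elements of `GU_n(q)` have norm one. -/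
theorem det_pow_of_mem_GU (hF : Fintype.card F = q ^ 2)
    {g : Matrix.GeneralLinearGroup (Fin n) F} (hg : g ∈ Cfsg.GU n F q) :
    ((g : Matrix (Fin n) (Fin n) F).det) ^ (q + 1) = 1 := by
  obtain ⟨σ, hσ, _⟩ := exists_frob hF
  have hq : q ≠ 0 := by have := two_le_of_card_eq_sq hF; omega
  have hmat : (g : Matrix (Fin n) (Fin n) F)ᵀ * (g : Matrix (Fin n) (Fin n) F).map σ = 1 := by
    ext j k
    rw [Matrix.mul_apply, Matrix.one_apply, ← GU_gram hq hg j k]
    apply Finset.sum_congr rfl
    intro i _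
    rw [Matrix.transpose_apply, Matrix.map_apply, hσ]
  have hdet := congrArg Matrix.det hmat
  rw [Matrix.det_mul, Matrix.det_transpose, Matrix.det_one, ← RingHom.mapMatrix_apply,
    ← RingHom.map_det, hσ] at hdet
  rw [pow_succ', hdet]

end

section

variable {n : ℕ} {F : Type*} [Field F]

/-- Diagonal matrices with unit entries, as a homomorphism into `GL`. -/
noncomputable def diagGL (n : ℕ) (F : Type*) [Field F] :
    (Fin n → Fˣ) →* Matrix.GeneralLinearGroup (Fin n) F :=
  (Units.map (Matrix.diagonalRingHom (Fin n) F).toMonoidHom).comp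
    (MulEquiv.piUnits (ι := Fin n) (M := fun _ => F)).symm.toMonoidHom

theorem diagGL_coe (d : Fin n → Fˣ) :
    ((diagGL n F d : Matrix.GeneralLinearGroup (Fin n) F) : Matrix (Fin n) (Fin n) F)
      = Matrix.diagonal (fun i => (d i : F)) := by
  rfl

theorem det_diagGL (d : Fin n → Fˣ) :
    ((diagGL n F d : Matrix.GeneralLinearGroup (Fin n) F) : Matrix (Fin n) (Fin n) F).det
      = ∏ i, (d i : F) := by
  rw [diagGL_coe, Matrix.det_diagonal]

theorem diagGL_mem_GU {q : ℕ} (d : Fin n → Fˣ) (hd : ∀ i, (d i : F) ^ (q + 1) = 1) :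
    diagGL n F d ∈ Cfsg.GU n F q := by
  rw [mem_GU_iff]
  intro u v
  rw [diagGL_coe]
  unfold Cfsg.hermForm
  apply Finset.sum_congr rfl
  intro i _
  rw [Matrix.mulVec_diagonal, Matrix.mulVec_diagonal, mul_pow]
  have := hd i
  rw [pow_succ'] at this
  calc (d i : F) * u i * ((d i : F) ^ q * v i ^ q) = ((d i : F) * (d i : F) ^ q) * (u i * v i ^ q) := by
        ring
    _ = u i * v i ^ q := by rw [this, one_mul]

/-- Permutation matrices as elements of `GL`. -/
noncomputable def permGL (n : ℕ) (F : Type*) [Field F] (π : Equiv.Perm (Fin n)) :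
    Matrix.GeneralLinearGroup (Fin n) F :=
  Matrix.GeneralLinearGroup.mkOfDetNeZero (π.toPEquiv.toMatrix) (by
    rw [Matrix.det_permutation]
    rcases Int.units_eq_one_or (Equiv.Perm.sign π) with h | h <;> rw [h] <;> simp)

theorem permGL_coe (π : Equiv.Perm (Fin n)) :
    ((permGL n F π : Matrix.GeneralLinearGroup (Fin n) F) : Matrix (Fin n) (Fin n) F)
      = π.toPEquiv.toMatrix := rfl

theorem permGL_mem_GU {q : ℕ} (π : Equiv.Perm (Fin n)) : permGL n F π ∈ Cfsg.GU n F q := by
  rw [mem_GU_iff]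
  intro u v
  rw [permGL_coe, PEquiv.toMatrix_toPEquiv_mulVec, PEquiv.toMatrix_toPEquiv_mulVec]
  unfold Cfsg.hermForm
  exact Equiv.sum_comp π (fun i => u i * v i ^ q)

end

section

variable {n : ℕ} {F : Type*} [Field F] [Fintype F] {q : ℕ}

/-- The group of norm-one elements of `F` (with `|F| = q^2`). -/
def U1 (F : Type*) [Field F] (q : ℕ) : Subgroup Fˣ := (powMonoidHom (q + 1) : Fˣ →* Fˣ).ker

omit [Fintype F] in
theorem mem_U1_iff (x : Fˣ) : x ∈ U1 F q ↔ (x : F) ^ (q + 1) = 1 := by
  unfold U1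
  rw [MonoidHom.mem_ker, powMonoidHom_apply, Units.ext_iff, Units.val_pow_eq_pow_val, Units.val_one]

theorem card_U1 (hF : Fintype.card F = q ^ 2) : Nat.card (U1 F q) = q + 1 := by
  unfold U1
  rw [IsCyclic.card_powMonoidHom_ker, Nat.card_units, Nat.card_eq_fintype_card, hF]
  have hq := two_le_of_card_eq_sq hF
  apply Nat.gcd_eq_right
  refine ⟨q - 1, ?_⟩
  have h1 : q ^ 2 = (q - 1 + 1) ^ 2 := by congr 1; omega
  have h2 : q + 1 = q - 1 + 2 := by omega
  rw [h1, h2]
  generalize q - 1 = t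
  have : (t + 1) ^ 2 - 1 = (t + 2) * t := by
    have : (t + 1) ^ 2 = (t + 2) * t + 1 := by ring
    omega
  exact this

theorem exists_U1_ne_one (hF : Fintype.card F = q ^ 2) :
    ∃ l : Fˣ, (l : F) ^ (q + 1) = 1 ∧ l ≠ 1 := by
  have hcard := card_U1 hF
  have hq := two_le_of_card_eq_sq hF
  have hne : U1 F q ≠ ⊥ := by
    intro h
    rw [h, Subgroup.card_bot] at hcard
    omega
  obtain ⟨l, hl1⟩ := (Subgroup.ne_bot_iff_exists_ne_one).mp hne
  obtain ⟨l, hlU⟩ := l
  refine ⟨l, (mem_U1_iff l).mp hlU, ?_⟩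
  intro h
  apply hl1
  exact Subtype.ext h

/-- Central elements of `GU_n(q)` are scalar matrices of norm one. -/
theorem center_GU_scalar (hF : Fintype.card F = q ^ 2) (hn : 0 < n) (z : ↥(Cfsg.GU n F q))
    (hz : z ∈ Subgroup.center ↥(Cfsg.GU n F q)) :
    ∃ l : Fˣ, (l : F) ^ (q + 1) = 1 ∧
      (z : Matrix.GeneralLinearGroup (Fin n) F) = diagGL n F (fun _ => l) := by
  classical
  have hq : q ≠ 0 := by have := two_le_of_card_eq_sq hF; omega
  obtain ⟨l0, hl0, hl01⟩ := exists_U1_ne_one hF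
  have hcomm : ∀ g : Matrix.GeneralLinearGroup (Fin n) F, g ∈ Cfsg.GU n F q →
      (g : Matrix (Fin n) (Fin n) F) * (z : Matrix.GeneralLinearGroup (Fin n) F).1
        = (z : Matrix.GeneralLinearGroup (Fin n) F).1 * (g : Matrix (Fin n) (Fin n) F) := by
    intro g hg
    have h := (Subgroup.mem_center_iff.mp hz) ⟨g, hg⟩
    have h2 := congrArg (fun x : ↥(Cfsg.GU n F q) =>
      ((x : Matrix.GeneralLinearGroup (Fin n) F) : Matrix (Fin n) (Fin n) F)) h
    exact h2
  obtain ⟨Z, hZ⟩ : ∃ Z : Matrix (Fin n) (Fin n) F,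
      Z = (z : Matrix.GeneralLinearGroup (Fin n) F).1 := ⟨_, rfl⟩
  rw [← hZ] at hcomm
  have hoff : ∀ i j : Fin n, i ≠ j → Z i j = 0 := by
    intro i j hij
    have hmem : diagGL n F (Function.update (fun _ => (1 : Fˣ)) j l0) ∈ Cfsg.GU n F q := by
      apply diagGL_mem_GU
      intro k
      by_cases hk : k = j
      · subst hk; simp [hl0]
      · simp [Function.update_of_ne hk]
    have h := hcomm _ hmem
    rw [diagGL_coe] at h
    have h2 := congrFun (congrFun h i) j
    rw [Matrix.diagonal_mul, Matrix.mul_diagonal] at h2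
    simp only [Function.update_self, Function.update_of_ne hij] at h2
    have h3 : Z i j * ((l0 : F) - 1) = 0 := by
      rw [mul_sub, ← h2]; simp
    rcases mul_eq_zero.mp h3 with h4 | h4
    · exact h4
    · exfalso
      apply hl01
      apply Units.ext
      rw [Units.val_one]
      exact sub_eq_zero.mp h4
  have hdiag : ∀ i j : Fin n, Z i i = Z j j := by
    intro i j
    have h := hcomm _ (permGL_mem_GU (F := F) (q := q) (Equiv.swap i j))
    rw [permGL_coe, PEquiv.toMatrix_toPEquiv_mul, PEquiv.mul_toMatrix_toPEquiv] at h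
    have h2 := congrFun (congrFun h i) j
    simp only [Matrix.submatrix_apply, id, Equiv.symm_swap, Equiv.swap_apply_left,
      Equiv.swap_apply_right] at h2
    exact h2.symm
  set i0 : Fin n := ⟨0, hn⟩ with hi0
  have hl : (Z i0 i0) ^ (q + 1) = 1 := by
    have h := GU_gram hq z.2 i0 i0
    rw [← hZ, if_pos rfl, Finset.sum_eq_single i0] at h
    · rw [pow_succ']; exact h
    · intro i _ hi
      rw [hoff i i0 hi, zero_mul]
    · intro h; exact absurd (Finset.mem_univ i0) h
  have hne : Z i0 i0 ≠ 0 := by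
    intro h0
    rw [h0, zero_pow (Nat.succ_ne_zero q)] at hl
    exact zero_ne_one hl
  refine ⟨Units.mk0 (Z i0 i0) hne, hl, ?_⟩
  apply Units.ext
  rw [diagGL_coe, ← hZ]
  ext i j
  by_cases hij : i = j
  · subst hij
    rw [Matrix.diagonal_apply_eq]
    exact hdiag i i0
  · rw [Matrix.diagonal_apply_ne _ hij]
    exact hoff i j hij

end

section

variable {n : ℕ} {F : Type*} [Field F] {q : ℕ}

/-- Scalar matrices of norm one are central in `GU`. -/
theorem diagGL_const_mem_center (l : Fˣ) (hl : (l : F) ^ (q + 1) = 1) :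
    (⟨diagGL n F (fun _ => l), diagGL_mem_GU _ (fun _ => hl)⟩ : ↥(Cfsg.GU n F q)) ∈
      Subgroup.center ↥(Cfsg.GU n F q) := by
  rw [Subgroup.mem_center_iff]
  intro g
  apply Subtype.ext
  apply Units.ext
  change ((g : Matrix.GeneralLinearGroup (Fin n) F) : Matrix (Fin n) (Fin n) F)
      * ((diagGL n F (fun _ => l) : Matrix.GeneralLinearGroup (Fin n) F) :
        Matrix (Fin n) (Fin n) F)
    = ((diagGL n F (fun _ => l) : Matrix.GeneralLinearGroup (Fin n) F) :
        Matrix (Fin n) (Fin n) F)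
      * ((g : Matrix.GeneralLinearGroup (Fin n) F) : Matrix (Fin n) (Fin n) F)
  rw [diagGL_coe]
  ext i j
  rw [Matrix.mul_diagonal, Matrix.diagonal_mul, mul_comm]

theorem det_diagGL_const (l : Fˣ) :
    ((diagGL n F (fun _ => l) : Matrix.GeneralLinearGroup (Fin n) F) :
      Matrix (Fin n) (Fin n) F).det = (l : F) ^ n := by
  rw [det_diagGL, Finset.prod_const, Finset.card_univ, Fintype.card_fin]

theorem det_diagGL_update (i0 : Fin n) (x : Fˣ) :
    ((diagGL n F (Function.update (fun _ => (1 : Fˣ)) i0 x) :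
      Matrix.GeneralLinearGroup (Fin n) F) : Matrix (Fin n) (Fin n) F).det = (x : F) := by
  rw [det_diagGL, Finset.prod_eq_single i0]
  · rw [Function.update_self]
  · intro i _ hi
    rw [Function.update_of_ne hi, Units.val_one]
  · intro h; exact absurd (Finset.mem_univ i0) h

end

/-- A cyclic group of order `d` is isomorphic to `Multiplicative (ZMod d)`. -/
theorem cyclic_equiv_zmod {G : Type*} [Group G] [hG : IsCyclic G] (d : ℕ) (h : Nat.card G = d) :
    Nonempty (G ≃* Multiplicative (ZMod d)) := by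
  subst h
  exact ⟨(zmodCyclicMulEquiv hG).symm⟩

end Cfsg.Agent.Lib.Helper13
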