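import Mathlib
import Cfsg.Agent.S1160
import Cfsg.Agent.S0044
import Cfsg.Agent.Lib.Helper21.OddTransLinear

/-!
# Odd-order half-transitive linear groups: the Fitting subgroup (towards S0737, Kantor)

`D` a finite group of odd order acting faithfully on an elementary abelian `q`-group `E`, such that
any nonzero `a` can be moved to `b` or to `-b`.  Then `F(D)` is cyclic and semiregular (via the landed
S1160, following `Helper21.OddTransLinear`), and if `D` is solvable, `|D| ≤ |F(D)|^2`.
-/

set_option autoImplicit false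
open scoped commutatorElement
open Cfsg

namespace Cfsg.Agent.Lib.Helper13.Kantor

variable {D E : Type*} [Group D] [AddCommGroup E] [DistribMulAction D E]

/-- the stabilizers of `a` and `-a` coincide -/
theorem stabilizer_neg (P : Subgroup D) (a : E) :
    MulAction.stabilizer ↥P (-a) = MulAction.stabilizer ↥P a := by
  ext x
  simp only [MulAction.mem_stabilizer_iff, smul_neg, neg_inj]

variable [Finite D] [Finite E] [FaithfulSMul D E]

/-- constant stabilizer orders in a normal subgroup under half-transitivity -/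
theorem card_stabilizer_const (hhalf : ∀ a b : E, a ≠ 0 → b ≠ 0 → ∃ d : D, d • a = b ∨ d • a = -b)
    (P : Subgroup D) [P.Normal] (a b : E) (ha : a ≠ 0) (hb : b ≠ 0) :
    Nat.card (MulAction.stabilizer ↥P a) = Nat.card (MulAction.stabilizer ↥P b) := by
  obtain ⟨d, hd | hd⟩ := hhalf a b ha hb
  · rw [← hd]
    exact Cfsg.Agent.Lib.Helper21.OddTransLinear.card_stabilizer_eq_of_normal P a d
  · rw [← stabilizer_neg P b, ← hd]
    exact Cfsg.Agent.Lib.Helper21.OddTransLinear.card_stabilizer_eq_of_normal P a d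

/-- Each `O_p(D)` is cyclic and semiregular on `E ∖ {0}`. -/
theorem pCore_cyclic_semiregular (hodd : Odd (Nat.card D)) {q : ℕ} (hq : q.Prime)
    (hE : ∀ e : E, q • e = 0)
    (hhalf : ∀ a b : E, a ≠ 0 → b ≠ 0 → ∃ d : D, d • a = b ∨ d • a = -b) (p : ℕ)
    [hp : Fact p.Prime] :
    IsCyclic ↥(pCore p D) ∧ ∀ g ∈ pCore p D, g ≠ 1 → ∀ a : E, g • a = a → a = 0 := by
  have hPn : (pCore p D).Normal := Cfsg.Agent.Lib.Helper55.pCore_normal' p
  have hPp : IsPGroup p ↥(pCore p D) := Cfsg.Agent.Lib.Helper55.isPGroup_pCore p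
  by_cases hp2 : p = 2
  · obtain ⟨k, hk⟩ := IsPGroup.iff_card.mp hPp
    have hdvd : Nat.card ↥(pCore p D) ∣ Nat.card D := Subgroup.card_subgroup_dvd_card _
    have hk0 : k = 0 := by
      by_contra hne
      have h2 : 2 ∣ Nat.card ↥(pCore p D) := by
        rw [hk, hp2]; exact dvd_pow_self 2 hne
      have h3 : 2 ∣ Nat.card D := h2.trans hdvd
      rw [← even_iff_two_dvd, ← Nat.not_odd_iff_even] at h3
      exact h3 hodd
    rw [hk0, pow_zero] at hk
    have hbot : pCore p D = ⊥ := Subgroup.card_eq_one.mp hk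
    have hsub : Subsingleton ↥(pCore p D) := by
      rw [hbot]; infer_instance
    refine ⟨inferInstance, ?_⟩
    intro g hg hg1
    rw [hbot, Subgroup.mem_bot] at hg
    exact absurd hg hg1
  · have hconst : ∀ a b : E, a ≠ 0 → b ≠ 0 →
        Nat.card (MulAction.stabilizer ↥(pCore p D) a) =
          Nat.card (MulAction.stabilizer ↥(pCore p D) b) :=
      fun a b ha hb => card_stabilizer_const hhalf (pCore p D) a b ha hb
    obtain ⟨h1, h2⟩ := Cfsg.Agent.S1160.result (P := ↥(pCore p D)) (E := E) hp2 hPp hq hE hconst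
    refine ⟨h1, ?_⟩
    intro g hg hg1 a ha
    refine h2 ⟨g, hg⟩ ?_ a ?_
    · intro h
      exact hg1 (congrArg Subtype.val h)
    · rw [Subgroup.smul_def]; exact ha

/-- `F(D)` is cyclic. -/
theorem fitting_isCyclic (hodd : Odd (Nat.card D)) {q : ℕ} (hq : q.Prime)
    (hE : ∀ e : E, q • e = 0)
    (hhalf : ∀ a b : E, a ≠ 0 → b ≠ 0 → ∃ d : D, d • a = b ∨ d • a = -b) :
    IsCyclic ↥(fittingSubgroup D) := by
  have hnil : Group.IsNilpotent ↥(fittingSubgroup D) :=
    Cfsg.Agent.Lib.Helper1.fittingSubgroup_isNilpotent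
  have hZ : IsZGroup ↥(fittingSubgroup D) := by
    refine ⟨fun p hp P => ?_⟩
    have : Fact p.Prime := ⟨hp⟩
    have hcyc := (pCore_cyclic_semiregular hodd hq hE hhalf p).1
    have hQ : IsPGroup p ↥((P : Subgroup ↥(fittingSubgroup D)).map (fittingSubgroup D).subtype) :=
      P.isPGroup'.map _
    have hle : (P : Subgroup ↥(fittingSubgroup D)).map (fittingSubgroup D).subtype ≤ pCore p D := by
      apply Cfsg.Agent.Lib.Helper24.le_pCore_of_le_fittingSubgroup p _ hQ
      rintro _ ⟨x, -, rfl⟩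
      exact x.2
    let f : ↥(P : Subgroup ↥(fittingSubgroup D)) →* ↥(pCore p D) :=
      { toFun := fun x => ⟨((x : ↥(fittingSubgroup D)) : D), hle ⟨x.1, x.2, rfl⟩⟩
        map_one' := rfl
        map_mul' := fun _ _ => rfl }
    have hf : Function.Injective f := by
      intro x y hxy
      have h := congrArg Subtype.val hxy
      exact Subtype.ext (Subtype.ext h)
    exact isCyclic_of_injective f hf
  infer_instance

/-- `F(D)` is semiregular on `E ∖ {0}`. -/
theorem fitting_semiregular (hodd : Odd (Nat.card D)) {q : ℕ} (hq : q.Prime)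
    (hE : ∀ e : E, q • e = 0)
    (hhalf : ∀ a b : E, a ≠ 0 → b ≠ 0 → ∃ d : D, d • a = b ∨ d • a = -b) :
    ∀ g ∈ fittingSubgroup D, g ≠ 1 → ∀ a : E, g • a = a → a = 0 := by
  intro g hg hg1 a ha
  have hord : orderOf g ≠ 1 := by
    rwa [Ne, orderOf_eq_one_iff]
  obtain ⟨p, hp, hpd⟩ := Nat.exists_prime_and_dvd hord
  have : Fact p.Prime := ⟨hp⟩
  set h := g ^ (orderOf g / p) with hh
  have hhord : orderOf h = p := orderOf_pow_orderOf_div (orderOf_pos g).ne' hpd
  have hh1 : h ≠ 1 := by
    intro h1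
    rw [h1, orderOf_one] at hhord
    exact hp.ne_one hhord.symm
  have hhF : h ∈ fittingSubgroup D := Subgroup.pow_mem _ hg _
  have hha : h • a = a := by
    have : g ∈ MulAction.stabilizer D a := ha
    exact Subgroup.pow_mem _ this _
  have hzp : IsPGroup p ↥(Subgroup.zpowers h) := by
    apply IsPGroup.of_card (n := 1)
    rw [Nat.card_zpowers, hhord, pow_one]
  have hzle : Subgroup.zpowers h ≤ fittingSubgroup D := by
    rw [Subgroup.zpowers_le]; exact hhF
  have hhP : h ∈ pCore p D :=
    Cfsg.Agent.Lib.Helper24.le_pCore_of_le_fittingSubgroup p _ hzp hzle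
      (Subgroup.mem_zpowers h)
  exact (pCore_cyclic_semiregular hodd hq hE hhalf p).2 h hhP hh1 a hha

/-- the automorphism group of a finite cyclic group is no larger than the group -/
theorem card_mulAut_le_of_isCyclic {A : Type*} [Group A] [Finite A] [IsCyclic A] :
    Nat.card (MulAut A) ≤ Nat.card A := by
  have e := IsCyclic.mulAutMulEquiv A
  rw [Nat.card_congr e.toEquiv]
  have hpos : 0 < Nat.card A := Nat.card_pos
  have : NeZero (Nat.card A) := ⟨hpos.ne'⟩
  rw [Nat.card_eq_fintype_card, ZMod.card_units_eq_totient]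
  exact Nat.totient_le _

/-- a finite group whose normal cyclic subgroup `F` is self-centralizing has order at most `|F|^2` -/
theorem card_le_sq_of_cyclic_selfCentralizing {D : Type*} [Group D] [Finite D] (F : Subgroup D)
    [hF : F.Normal] [IsCyclic ↥F] (hC : Subgroup.centralizer (F : Set D) ≤ F) :
    Nat.card D ≤ Nat.card ↥F * Nat.card ↥F := by
  let φ : D →* MulAut ↥F := MulAut.conjNormal
  have hker : φ.ker ≤ F := by
    intro d hd
    apply hC
    rw [Subgroup.mem_centralizer_iff]
    intro y hy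
    have h1 : φ d ⟨y, hy⟩ = ⟨y, hy⟩ := by
      rw [MonoidHom.mem_ker] at hd
      rw [hd]; rfl
    have h2 : ((φ d ⟨y, hy⟩ : ↥F) : D) = d * y * d⁻¹ := MulAut.conjNormal_apply _ _
    have h3 := congrArg Subtype.val h1
    rw [h2] at h3
    simp only at h3
    exact (mul_inv_eq_iff_eq_mul.mp h3).symm
  have h1 : Nat.card D = Nat.card (D ⧸ φ.ker) * Nat.card ↥φ.ker :=
    Subgroup.card_eq_card_quotient_mul_card_subgroup _
  have h2 : Nat.card (D ⧸ φ.ker) = Nat.card ↥φ.range :=
    Nat.card_congr (QuotientGroup.quotientKerEquivRange φ).toEquiv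
  have h3 : Nat.card ↥φ.range ≤ Nat.card (MulAut ↥F) := Subgroup.card_le_card_group _
  have h4 : Nat.card ↥φ.ker ≤ Nat.card ↥F := Subgroup.card_le_of_le hker
  have h5 := card_mulAut_le_of_isCyclic (A := ↥F)
  calc Nat.card D = Nat.card ↥φ.range * Nat.card ↥φ.ker := by rw [h1, h2]
    _ ≤ Nat.card ↥F * Nat.card ↥F := Nat.mul_le_mul (h3.trans h5) h4

end Cfsg.Agent.Lib.Helper13.Kantor
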