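import Mathlib
import Cfsg.Agent.Lib.Helper13.KantorFit

/-!
# Half-transitive odd-order linear groups: a self-centralizing semiregular cyclic normal subgroup
acts irreducibly (towards S0737, Kantor)
-/

set_option autoImplicit false
open Cfsg

namespace Cfsg.Agent.Lib.Helper13.Kantor

variable {D V : Type*} [Group D] [AddCommGroup V] [DistribMulAction D V]

/-- `U` is invariant under the subgroup `A` -/
def InvSub (A : Subgroup D) (U : AddSubgroup V) : Prop := ∀ a ∈ A, ∀ u ∈ U, a • u ∈ U

theorem invSub_top (A : Subgroup D) : InvSub A (⊤ : AddSubgroup V) := fun _ _ _ _ => trivial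

theorem invSub_bot (A : Subgroup D) : InvSub A (⊥ : AddSubgroup V) := by
  intro a _ u hu
  rw [AddSubgroup.mem_bot] at hu ⊢
  rw [hu, smul_zero]

theorem InvSub.inf {A : Subgroup D} {U U' : AddSubgroup V} (h : InvSub A U) (h' : InvSub A U') :
    InvSub A (U ⊓ U') := fun a ha u hu => ⟨h a ha u hu.1, h' a ha u hu.2⟩

/-- the translate `d U` -/
def smulSub (d : D) (U : AddSubgroup V) : AddSubgroup V :=
  U.map (DistribSMul.toAddMonoidHom V d)

theorem mem_smulSub {d : D} {U : AddSubgroup V} {v : V} : v ∈ smulSub d U ↔ ∃ u ∈ U, d • u = v := by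
  unfold smulSub
  rw [AddSubgroup.mem_map]
  rfl

theorem InvSub.smulSub {A : Subgroup D} [hA : A.Normal] {U : AddSubgroup V} (h : InvSub A U)
    (d : D) : InvSub A (smulSub d U) := by
  intro a ha v hv
  obtain ⟨u, hu, rfl⟩ := mem_smulSub.1 hv
  refine mem_smulSub.2 ⟨(d⁻¹ * a * d) • u, h _ ?_ u hu, ?_⟩
  · have := hA.conj_mem a ha d⁻¹
    rwa [inv_inv] at this
  · rw [← mul_smul, ← mul_smul]
    congr 1
    group

theorem card_smulSub [Finite V] (d : D) (U : AddSubgroup V) :
    Nat.card ↥(smulSub d U) = Nat.card ↥U := by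
  symm
  apply Nat.card_congr
  refine Equiv.ofBijective (fun u => ⟨d • (u : V), mem_smulSub.2 ⟨u, u.2, rfl⟩⟩) ⟨?_, ?_⟩
  · intro u u' h
    have := congrArg Subtype.val h
    simp only at this
    exact Subtype.ext (smul_left_cancel d this)
  · rintro ⟨v, hv⟩
    obtain ⟨u, hu, rfl⟩ := mem_smulSub.1 hv
    exact ⟨⟨u, hu⟩, rfl⟩

section free
variable [Finite D] [Finite V]

/-- a semiregular group `A` has order dividing `|U| - 1` for invariant `U` -/
theorem card_dvd_card_sub_one (A : Subgroup D)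
    (hsemi : ∀ g ∈ A, g ≠ 1 → ∀ v : V, g • v = v → v = 0) {U : AddSubgroup V} (hU : InvSub A U) :
    Nat.card ↥A ∣ Nat.card ↥U - 1 := by
  classical
  let X := {u : ↥U // u ≠ 0}
  let act : MulAction ↥A X :=
    { smul := fun a x => ⟨⟨(a : D) • ((x.1 : ↥U) : V), hU a a.2 _ x.1.2⟩, by
        intro h
        apply x.2
        have h' := congrArg Subtype.val h
        simp only [AddSubgroup.coe_zero] at h'
        apply Subtype.ext
        simp only [AddSubgroup.coe_zero]
        exact (smul_eq_zero_iff_eq (a : D)).1 h'⟩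
      one_smul := by
        intro x
        apply Subtype.ext
        apply Subtype.ext
        show ((1 : ↥A) : D) • ((x.1 : ↥U) : V) = _
        rw [Subgroup.coe_one, one_smul]
      mul_smul := by
        intro a b x
        apply Subtype.ext
        apply Subtype.ext
        show ((a * b : ↥A) : D) • ((x.1 : ↥U) : V) = (a : D) • ((b : D) • ((x.1 : ↥U) : V))
        rw [Subgroup.coe_mul, mul_smul] }
  have hfree : ∀ x : X, MulAction.stabilizer ↥A x = ⊥ := by
    intro x
    rw [eq_bot_iff]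
    intro a ha
    rw [Subgroup.mem_bot]
    by_contra hne
    have h1 : a • x = x := ha
    have h2 : (a : D) • ((x.1 : ↥U) : V) = ((x.1 : ↥U) : V) := by
      have := congrArg (fun y : X => ((y.1 : ↥U) : V)) h1
      exact this
    have h3 := hsemi a a.2 (fun h => hne (Subtype.ext h)) _ h2
    exact x.2 (Subtype.ext h3)
  have e := MulAction.selfEquivOrbitsQuotientProd hfree
  have h1 : Nat.card X = Nat.card (Quotient (MulAction.orbitRel ↥A X)) * Nat.card ↥A := by
    rw [Nat.card_congr e, Nat.card_prod]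
  have h2 : Nat.card ↥U = Nat.card X + 1 := by
    rw [← Finite.card_option, Nat.card_congr (Equiv.optionSubtypeNe (0 : ↥U))]
  rw [h2, Nat.add_sub_cancel, h1]
  exact Dvd.intro_left _ rfl

end free

variable {D V : Type*} [Group D] [AddCommGroup V] [DistribMulAction D V]

/-- if `W ⊓ U = ⊥` then `|W| |U| ≤ |V|` -/
theorem card_mul_card_le_of_inf_eq_bot [Finite V] {W U : AddSubgroup V} (h : W ⊓ U = ⊥) :
    Nat.card ↥W * Nat.card ↥U ≤ Nat.card V := by
  rw [← Nat.card_prod]
  apply Nat.card_le_card_of_injective (fun x : ↥W × ↥U => (x.1 : V) + (x.2 : V))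
  rintro ⟨w, u⟩ ⟨w', u'⟩ hx
  simp only at hx
  have h1 : (w : V) - w' = u' - u := by
    rw [sub_eq_sub_iff_add_eq_add]
    rw [hx]; abel
  have h2 : (w : V) - w' ∈ W ⊓ U := by
    refine ⟨W.sub_mem w.2 w'.2, ?_⟩
    rw [h1]
    exact U.sub_mem u'.2 u.2
  rw [h, AddSubgroup.mem_bot, sub_eq_zero] at h2
  have h3 : (u' : V) - u = 0 := by rw [← h1, h2, sub_self]
  rw [sub_eq_zero] at h3
  exact Prod.ext (Subtype.ext h2) (Subtype.ext h3.symm)

/-- under half-transitivity `|V| ≤ 2 |D| + 1` -/
theorem card_le_two_mul_card_add_one [Finite D] [Finite V]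
    (hhalf : ∀ a b : V, a ≠ 0 → b ≠ 0 → ∃ d : D, d • a = b ∨ d • a = -b) {w₀ : V} (hw₀ : w₀ ≠ 0) :
    Nat.card V ≤ 2 * Nat.card D + 1 := by
  let f : Option (D × Fin 2) → V := fun x =>
    match x with
    | none => 0
    | some (d, i) => if i = 0 then d • w₀ else -(d • w₀)
  have hf : Function.Surjective f := by
    intro v
    by_cases hv : v = 0
    · exact ⟨none, hv.symm⟩
    · obtain ⟨d, hd | hd⟩ := hhalf w₀ v hw₀ hv
      · exact ⟨some (d, 0), by simp [f, hd]⟩
      · exact ⟨some (d, 1), by simp [f, hd]⟩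
  have h1 := Nat.card_le_card_of_surjective f hf
  rw [Finite.card_option, Nat.card_prod, Nat.card_eq_fintype_card (α := Fin 2), Fintype.card_fin] at h1
  linarith

/-- **Irreducibility.** A normal semiregular subgroup `A` of odd order with `|D| ≤ |A|^2` acts
irreducibly, when `D` is half-transitive and `|V|` is odd. -/
theorem irreducible_of_half_transitive [Finite D] [Finite V] [Nontrivial V] (A : Subgroup D)
    [hA : A.Normal] (hsemi : ∀ g ∈ A, g ≠ 1 → ∀ v : V, g • v = v → v = 0)
    (hAodd : Odd (Nat.card ↥A)) (hVodd : Odd (Nat.card V))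
    (hD : Nat.card D ≤ Nat.card ↥A * Nat.card ↥A)
    (hhalf : ∀ a b : V, a ≠ 0 → b ≠ 0 → ∃ d : D, d • a = b ∨ d • a = -b) :
    ∀ U : AddSubgroup V, InvSub A U → U = ⊥ ∨ U = ⊤ := by
  classical
  let S : Set (AddSubgroup V) := {U | U ≠ ⊥ ∧ InvSub A U}
  have hS : S.Nonempty := ⟨⊤, top_ne_bot, invSub_top A⟩
  obtain ⟨W, hWS, hmin⟩ := wellFounded_lt.has_min S hS
  have hWtop : W = ⊤ := by
    by_contra hne
    obtain ⟨v, hv⟩ : ∃ v : V, v ∉ W := by
      by_contra hcon
      push Not at hcon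
      exact hne (eq_top_iff.2 fun x _ => hcon x)
    have hv0 : v ≠ 0 := fun h => hv (h ▸ W.zero_mem)
    obtain ⟨w₀, hw₀W, hw₀⟩ : ∃ w₀ ∈ W, w₀ ≠ 0 := by
      by_contra hcon
      push Not at hcon
      exact hWS.1 ((AddSubgroup.eq_bot_iff_forall W).2 hcon)
    obtain ⟨d, hd⟩ := hhalf w₀ v hw₀ hv0
    have hdw : d • w₀ ∉ W := by
      rcases hd with hd | hd
      · rw [hd]; exact hv
      · rw [hd]; intro h; exact hv (by simpa using W.neg_mem h)
    set U := smulSub d W with hUdef
    have hUinv : InvSub A U := hWS.2.smulSub d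
    have hUcard : Nat.card ↥U = Nat.card ↥W := card_smulSub d W
    have hinf : W ⊓ U = ⊥ := by
      by_contra hne'
      have hmem : W ⊓ U ∈ S := ⟨hne', hWS.2.inf hUinv⟩
      have hnlt := hmin _ hmem
      have heq : W ⊓ U = W := eq_of_le_of_not_lt inf_le_left hnlt
      have hle : W ≤ U := by rw [← heq]; exact inf_le_right
      have hUW : W = U := by
        apply AddSubgroup.eq_of_le_of_card_ge hle
        rw [hUcard]
      apply hdw
      rw [hUW]
      exact mem_smulSub.2 ⟨w₀, hw₀W, rfl⟩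
    have h1 := card_mul_card_le_of_inf_eq_bot hinf
    rw [hUcard] at h1
    have h2 := card_le_two_mul_card_add_one hhalf hw₀
    have h3 := card_dvd_card_sub_one A hsemi hWS.2
    have hWodd : Odd (Nat.card ↥W) :=
      Odd.of_dvd_nat hVodd (AddSubgroup.card_addSubgroup_dvd_card W)
    have hW2 : 2 ≤ Nat.card ↥W := by
      have : Nontrivial ↥W := (AddSubgroup.nontrivial_iff_ne_bot W).2 hWS.1
      exact Finite.one_lt_card
    have h4 : 2 * Nat.card ↥A ≤ Nat.card ↥W - 1 := by
      have h2dvd : 2 ∣ Nat.card ↥W - 1 := by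
        obtain ⟨k, hk⟩ := hWodd
        rw [hk]; simp
      have hcop : Nat.Coprime 2 (Nat.card ↥A) := by
        rw [Nat.coprime_comm, Nat.coprime_two_right]
        exact hAodd
      have := hcop.mul_dvd_of_dvd_of_dvd h2dvd h3
      exact Nat.le_of_dvd (by omega) this
    have h5 : 2 * Nat.card ↥A + 1 ≤ Nat.card ↥W := by omega
    nlinarith
  intro U hU
  by_cases hUb : U = ⊥
  · exact Or.inl hUb
  · right
    have hmem : U ∈ S := ⟨hUb, hU⟩
    have hnlt := hmin _ hmem
    rw [hWtop] at hnlt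
    exact eq_of_le_of_not_lt le_top hnlt

end Cfsg.Agent.Lib.Helper13.Kantor
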