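import Mathlib
import Cfsg.Agent.Lib.Helper13.KantorIrr

set_option autoImplicit false
open Cfsg

namespace Cfsg.Agent.Lib.Helper13.Kantor

variable {D V : Type*} [Group D] [AddCommGroup V] [DistribMulAction D V]

/-- the representation as ring-endomorphisms -/
abbrev rho (D V : Type*) [Group D] [AddCommGroup V] [DistribMulAction D V] : D →* AddMonoid.End V :=
  DistribMulAction.toAddMonoidEnd D V

theorem rho_apply (d : D) (v : V) : rho D V d v = d • v := rfl

/-- the centralizer ring of `A` -/
def centRing (A : Subgroup D) : Subring (AddMonoid.End V) :=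
  Subring.centralizer ((rho D V) '' (A : Set D))

theorem mem_centRing {A : Subgroup D} {k : AddMonoid.End V} :
    k ∈ centRing A ↔ ∀ a ∈ A, ∀ v : V, k (a • v) = a • k v := by
  unfold centRing
  rw [Subring.mem_centralizer_iff]
  constructor
  · intro h a ha v
    have := h (rho D V a) ⟨a, ha, rfl⟩
    have h2 := DFunLike.congr_fun this v
    exact h2.symm
  · rintro h _ ⟨a, ha, rfl⟩
    apply AddMonoid.End.ext
    intro v
    exact (h a ha v).symm

theorem rho_mem_centRing {A : Subgroup D} (hAc : ∀ a ∈ A, ∀ b ∈ A, a * b = b * a) {a : D}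
    (ha : a ∈ A) : rho D V a ∈ centRing (V := V) A := by
  rw [mem_centRing]
  intro b hb v
  rw [rho_apply, rho_apply, ← mul_smul, ← mul_smul, hAc a ha b hb]

/-- conjugation by `d` preserves the centralizer ring of a normal subgroup -/
theorem conj_mem_centRing {A : Subgroup D} [hA : A.Normal] (d : D) {k : AddMonoid.End V}
    (hk : k ∈ centRing A) : rho D V d * k * rho D V d⁻¹ ∈ centRing A := by
  rw [mem_centRing] at hk ⊢
  intro a ha v
  show d • k (d⁻¹ • a • v) = a • d • k (d⁻¹ • v)
  have h1 : d⁻¹ • a • v = (d⁻¹ * a * d) • d⁻¹ • v := by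
    rw [← mul_smul, ← mul_smul]; congr 1; group
  have h2 : d⁻¹ * a * d ∈ A := by
    have := hA.conj_mem a ha d⁻¹
    rwa [inv_inv] at this
  rw [h1, hk _ h2, ← mul_smul, ← mul_smul]
  congr 1
  group

section irr
variable (A : Subgroup D) (hirr : ∀ U : AddSubgroup V, InvSub A U → U = ⊥ ∨ U = ⊤)
include hirr

/-- Schur: nonzero elements of the centralizer ring are injective -/
theorem injective_of_mem_centRing {k : AddMonoid.End V} (hk : k ∈ centRing A) (hk0 : k ≠ 0) :
    Function.Injective k := by
  let Kr : AddSubgroup V :=
    { carrier := {v | k v = 0}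
      zero_mem' := map_zero k
      add_mem' := by
        intro x y hx hy
        show k (x + y) = 0
        rw [map_add, show k x = 0 from hx, show k y = 0 from hy, add_zero]
      neg_mem' := by
        intro x hx
        show k (-x) = 0
        rw [map_neg, show k x = 0 from hx, neg_zero] }
  have hinv : InvSub A Kr := by
    intro a ha u hu
    show k (a • u) = 0
    rw [(mem_centRing.1 hk) a ha u, show k u = 0 from hu, smul_zero]
  rcases hirr _ hinv with h | h
  · intro x y hxy
    have : x - y ∈ Kr := by
      show k (x - y) = 0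
      rw [map_sub, hxy, sub_self]
    rw [h, AddSubgroup.mem_bot, sub_eq_zero] at this
    exact this
  · exfalso
    apply hk0
    apply AddMonoid.End.ext
    intro v
    have : v ∈ Kr := by rw [h]; trivial
    exact this

theorem centRing_noZeroDivisors : NoZeroDivisors ↥(centRing (V := V) A) := by
  constructor
  intro x y hxy
  by_contra hcon
  push Not at hcon
  have hx : (x : AddMonoid.End V) ≠ 0 := fun h => hcon.1 (Subtype.ext h)
  have hy : (y : AddMonoid.End V) ≠ 0 := fun h => hcon.2 (Subtype.ext h)
  have hinj := injective_of_mem_centRing A hirr x.2 hx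
  apply hy
  apply AddMonoid.End.ext
  intro v
  have h1 : ((x * y : ↥(centRing (V := V) A)) : AddMonoid.End V) v = 0 := by
    rw [hxy]; rfl
  have h2 : (x : AddMonoid.End V) ((y : AddMonoid.End V) v) = 0 := h1
  have h3 : (x : AddMonoid.End V) ((y : AddMonoid.End V) v) = (x : AddMonoid.End V) 0 := by
    rw [h2, map_zero]
  exact hinj h3

/-- evaluation at a nonzero vector is a bijection from the centralizer ring -/
theorem eval_bijective (hAc : ∀ a ∈ A, ∀ b ∈ A, a * b = b * a) {v₀ : V} (hv₀ : v₀ ≠ 0) :
    Function.Bijective (fun k : ↥(centRing (V := V) A) => (k : AddMonoid.End V) v₀) := by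
  constructor
  · intro k k' h
    simp only at h
    by_contra hne
    have hsub : ((k - k' : ↥(centRing (V := V) A)) : AddMonoid.End V) ≠ 0 := by
      intro h0
      apply hne
      have : k - k' = 0 := Subtype.ext h0
      exact sub_eq_zero.1 this
    have hinj := injective_of_mem_centRing A hirr (k - k').2 hsub
    apply hv₀
    apply hinj
    rw [map_zero]
    show (k : AddMonoid.End V) v₀ - (k' : AddMonoid.End V) v₀ = 0
    rw [h, sub_self]
  · -- the range is an invariant subgroup
    let R : AddSubgroup V :=
      { carrier := Set.range (fun k : ↥(centRing (V := V) A) => (k : AddMonoid.End V) v₀)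
        zero_mem' := ⟨0, by simp⟩
        add_mem' := by
          rintro _ _ ⟨k, rfl⟩ ⟨k', rfl⟩
          exact ⟨k + k', rfl⟩
        neg_mem' := by
          rintro _ ⟨k, rfl⟩
          exact ⟨-k, rfl⟩ }
    have hR : InvSub A R := by
      rintro a ha _ ⟨k, rfl⟩
      exact ⟨⟨rho D V a, rho_mem_centRing hAc ha⟩ * k, rfl⟩
    rcases hirr R hR with h | h
    · exfalso
      apply hv₀
      have : v₀ ∈ R := ⟨1, by simp⟩
      rw [h, AddSubgroup.mem_bot] at this
      exact this
    · intro v
      have : v ∈ R := by rw [h]; trivial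
      exact this

end irr

end Cfsg.Agent.Lib.Helper13.Kantor
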