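import Mathlib
import Cfsg.Agent.Lib.Helper13.KantorField

set_option autoImplicit false
open Cfsg

namespace Cfsg.Agent.Lib.Helper13.Kantor

variable {D V : Type*} [Group D] [AddCommGroup V] [DistribMulAction D V]

/-- conjugation by `d` as a ring automorphism of the centralizer ring -/
def conjRing (A : Subgroup D) [A.Normal] (d : D) : ↥(centRing (V := V) A) ≃+* ↥(centRing (V := V) A) where
  toFun k := ⟨rho D V d * k * rho D V d⁻¹, conj_mem_centRing d k.2⟩
  invFun k := ⟨rho D V d⁻¹ * k * rho D V d, by
    have := conj_mem_centRing (A := A) d⁻¹ k.2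
    rwa [inv_inv] at this⟩
  left_inv k := by
    apply Subtype.ext
    show rho D V d⁻¹ * (rho D V d * k * rho D V d⁻¹) * rho D V d = k
    have h1 : rho D V d⁻¹ * rho D V d = 1 := by rw [← map_mul, inv_mul_cancel, map_one]
    calc rho D V d⁻¹ * (rho D V d * k * rho D V d⁻¹) * rho D V d
        = (rho D V d⁻¹ * rho D V d) * k * (rho D V d⁻¹ * rho D V d) := by noncomm_ring
      _ = k := by rw [h1, one_mul, mul_one]
  right_inv k := by
    apply Subtype.ext
    show rho D V d * (rho D V d⁻¹ * k * rho D V d) * rho D V d⁻¹ = k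
    have h1 : rho D V d * rho D V d⁻¹ = 1 := by rw [← map_mul, mul_inv_cancel, map_one]
    calc rho D V d * (rho D V d⁻¹ * k * rho D V d) * rho D V d⁻¹
        = (rho D V d * rho D V d⁻¹) * k * (rho D V d * rho D V d⁻¹) := by noncomm_ring
      _ = k := by rw [h1, one_mul, mul_one]
  map_mul' k k' := by
    apply Subtype.ext
    show rho D V d * ((k : AddMonoid.End V) * k') * rho D V d⁻¹ =
      (rho D V d * k * rho D V d⁻¹) * (rho D V d * k' * rho D V d⁻¹)
    have h1 : rho D V d⁻¹ * rho D V d = 1 := by rw [← map_mul, inv_mul_cancel, map_one]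
    calc rho D V d * ((k : AddMonoid.End V) * k') * rho D V d⁻¹
        = rho D V d * k * 1 * k' * rho D V d⁻¹ := by noncomm_ring
      _ = (rho D V d * k * rho D V d⁻¹) * (rho D V d * k' * rho D V d⁻¹) := by
          rw [← h1]; noncomm_ring
  map_add' k k' := by
    apply Subtype.ext
    show rho D V d * ((k : AddMonoid.End V) + k') * rho D V d⁻¹ =
      (rho D V d * k * rho D V d⁻¹) + (rho D V d * k' * rho D V d⁻¹)
    noncomm_ring

theorem conjRing_apply (A : Subgroup D) [A.Normal] (d : D) (k : ↥(centRing (V := V) A)) (v : V) :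
    ((conjRing A d k : ↥(centRing (V := V) A)) : AddMonoid.End V) v
      = d • (k : AddMonoid.End V) (d⁻¹ • v) := rfl

/-- **Semilinearity.** If the normal abelian subgroup `A` acts irreducibly then `V` carries a field
structure for which `D` acts semilinearly. -/
theorem semilinear_of_irreducible [Finite V] [Nontrivial V] (A : Subgroup D) [hA : A.Normal]
    (hAc : ∀ a ∈ A, ∀ b ∈ A, a * b = b * a)
    (hirr : ∀ U : AddSubgroup V, InvSub A U → U = ⊥ ∨ U = ⊤) {p f : ℕ} [Fact p.Prime]
    (hcard : Nat.card V = p ^ f) :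
    ∃ e : V ≃+ GaloisField p f, ∀ d : D, ∃ (a : GaloisField p f)
      (σ : GaloisField p f ≃+* GaloisField p f), a ≠ 0 ∧ ∀ v : V, e (d • v) = a * σ (e v) := by
  classical
  obtain ⟨v₀, hv₀⟩ := exists_ne (0 : V)
  have hbij := eval_bijective A hirr hAc hv₀
  -- the evaluation as an additive equivalence
  let evHom : ↥(centRing (V := V) A) →+ V :=
    { toFun := fun k => (k : AddMonoid.End V) v₀
      map_zero' := rfl
      map_add' := fun _ _ => rfl }
  let ev : ↥(centRing (V := V) A) ≃+ V := AddEquiv.ofBijective evHom hbij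
  have hev : ∀ k : ↥(centRing (V := V) A), ev k = (k : AddMonoid.End V) v₀ := fun _ => rfl
  have hfin : Finite ↥(centRing (V := V) A) := Finite.of_injective _ hbij.1
  have hnzd := centRing_noZeroDivisors A hirr
  have hnt : Nontrivial ↥(centRing (V := V) A) := by
    refine ⟨⟨0, 1, ?_⟩⟩
    intro h
    apply hv₀
    have h1 := congrArg (fun k : ↥(centRing (V := V) A) => (k : AddMonoid.End V) v₀) h
    exact h1.symm
  have hdom : IsDomain ↥(centRing (V := V) A) := NoZeroDivisors.to_isDomain _
  have hfield : IsField ↥(centRing (V := V) A) := Finite.isDomain_to_isField _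
  have hf0 : f ≠ 0 := by
    rintro rfl
    rw [pow_zero] at hcard
    have : 1 < Nat.card V := Finite.one_lt_card
    omega
  have hcardK : Nat.card ↥(centRing (V := V) A) = Nat.card (GaloisField p f) := by
    rw [Nat.card_congr ev.toEquiv, hcard, GaloisField.card p f hf0]
  obtain ⟨ψ⟩ : Nonempty (↥(centRing (V := V) A) ≃+* GaloisField p f) := by
    let _ : Field ↥(centRing (V := V) A) := hfield.toField
    let _ : Fintype ↥(centRing (V := V) A) := Fintype.ofFinite _
    let _ : Fintype (GaloisField p f) := Fintype.ofFinite _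
    refine ⟨FiniteField.ringEquivOfCardEq ?_⟩
    rw [← Nat.card_eq_fintype_card, ← Nat.card_eq_fintype_card]
    exact hcardK
  refine ⟨ev.symm.trans ψ.toAddEquiv, ?_⟩
  intro d
  refine ⟨ψ (ev.symm (d • v₀)), ψ.symm.trans ((conjRing A d).trans ψ), ?_, ?_⟩
  · intro h0
    have h1 : ev.symm (d • v₀) = 0 := by
      apply ψ.injective
      rw [h0, map_zero]
    have h2 : d • v₀ = 0 := by
      have := congrArg ev h1
      rwa [AddEquiv.apply_symm_apply, map_zero] at this
    exact hv₀ ((smul_eq_zero_iff_eq d).1 h2)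
  · intro v
    show ψ (ev.symm (d • v)) = ψ (ev.symm (d • v₀)) * ψ (conjRing A d (ψ.symm (ψ (ev.symm v))))
    rw [RingEquiv.symm_apply_apply, mul_comm, ← map_mul]
    congr 1
    apply ev.injective
    rw [AddEquiv.apply_symm_apply, hev]
    symm
    show ((conjRing A d (ev.symm v) : ↥(centRing (V := V) A)) : AddMonoid.End V)
      (((ev.symm (d • v₀) : ↥(centRing (V := V) A)) : AddMonoid.End V) v₀) = d • v
    rw [conjRing_apply, ← hev (ev.symm (d • v₀)), AddEquiv.apply_symm_apply, inv_smul_smul, ← hev,
      AddEquiv.apply_symm_apply]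

end Cfsg.Agent.Lib.Helper13.Kantor
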