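import Mathlib
import Cfsg.Agent.Lib.Helper13.KantorSemi

set_option autoImplicit false
open Cfsg

namespace Cfsg.Agent.Lib.Helper13.Kantor

/-- **Kantor's linear core.**  A solvable group of odd order acting faithfully on an elementary abelian
`p`-group (`p` odd), such that every nonzero vector can be moved to `±` any other, acts semilinearly
for a suitable field structure. -/
theorem half_transitive_semilinear {D V : Type*} [Group D] [Finite D] [AddCommGroup V] [Finite V]
    [Nontrivial V] [DistribMulAction D V] [FaithfulSMul D V] (hodd : Odd (Nat.card D))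
    [Group.IsSolvable D] {p f : ℕ} [hp : Fact p.Prime] (hp2 : p ≠ 2) (hV : ∀ v : V, p • v = 0)
    (hcard : Nat.card V = p ^ f)
    (hhalf : ∀ a b : V, a ≠ 0 → b ≠ 0 → ∃ d : D, d • a = b ∨ d • a = -b) :
    ∃ e : V ≃+ GaloisField p f, ∀ d : D, ∃ (a : GaloisField p f)
      (σ : GaloisField p f ≃+* GaloisField p f), a ≠ 0 ∧ ∀ v : V, e (d • v) = a * σ (e v) := by
  have hAn : (fittingSubgroup D).Normal := Cfsg.Agent.Lib.Helper1.fittingSubgroup_normal
  have hcyc : IsCyclic ↥(fittingSubgroup D) := fitting_isCyclic hodd hp.out hV hhalf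
  have hsemi := fitting_semiregular hodd hp.out hV hhalf
  have hC : Subgroup.centralizer (fittingSubgroup D : Set D) ≤ fittingSubgroup D :=
    Cfsg.Agent.S0044.result
  have hDle := card_le_sq_of_cyclic_selfCentralizing (fittingSubgroup D) hC
  have hAodd : Odd (Nat.card ↥(fittingSubgroup D)) :=
    Odd.of_dvd_nat hodd (Subgroup.card_subgroup_dvd_card _)
  have hVodd : Odd (Nat.card V) := by
    rw [hcard]
    apply Odd.pow
    exact hp.out.odd_of_ne_two hp2
  have hirr := irreducible_of_half_transitive (fittingSubgroup D) hsemi hAodd hVodd hDle hhalf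
  have hAc : ∀ a ∈ fittingSubgroup D, ∀ b ∈ fittingSubgroup D, a * b = b * a := by
    intro a ha b hb
    have hcomm : ∀ x y : ↥(fittingSubgroup D), x * y = y * x := by
      obtain ⟨g, hg⟩ := hcyc.exists_generator
      intro x y
      obtain ⟨m, rfl⟩ := Subgroup.mem_zpowers_iff.1 (hg x)
      obtain ⟨n, rfl⟩ := Subgroup.mem_zpowers_iff.1 (hg y)
      rw [← zpow_add, ← zpow_add, add_comm]
    exact congrArg Subtype.val (hcomm ⟨a, ha⟩ ⟨b, hb⟩)
  exact semilinear_of_irreducible (fittingSubgroup D) hAc hirr hcard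

end Cfsg.Agent.Lib.Helper13.Kantor
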