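import Mathlib
import Cfsg.Agent.S0735
import Cfsg.Agent.S0547
import Cfsg.Agent.S0551
import Cfsg.Agent.Lib.Helper13.KantorLin

set_option autoImplicit false
open Cfsg

/-!
# Kantor's theorem: group-theoretic preliminaries (towards S0737)
-/

namespace Cfsg.Agent.Lib.Helper13.Kantor


/-- a nontrivial 2-homogeneous group that is not 2-transitive has degree at least 3 -/
theorem three_le_card {α : Type*} [Fintype α] [DecidableEq α] (G : Subgroup (Equiv.Perm α))
    (hne : G ≠ ⊥)
    (hn2 : ¬ MulAction.IsMultiplyPretransitive G α 2) : 3 ≤ Fintype.card α := by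
  by_contra hlt
  push Not at hlt
  apply hn2
  rw [MulAction.is_two_pretransitive_iff]
  -- a nontrivial element
  obtain ⟨s, hsG, hs1⟩ : ∃ s ∈ G, s ≠ 1 := by
    by_contra hcon
    push Not at hcon
    exact hne ((Subgroup.eq_bot_iff_forall G).2 hcon)
  obtain ⟨x, hx⟩ : ∃ x, s x ≠ x := by
    by_contra hcon
    push Not at hcon
    exact hs1 (Equiv.ext hcon)
  -- every point is `x` or `s x`
  have hall : ∀ y : α, y = x ∨ y = s x := by
    intro y
    by_contra hcon
    push Not at hcon
    have h3 : ({x, s x, y} : Finset α).card = 3 := by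
      rw [Finset.card_insert_of_notMem, Finset.card_insert_of_notMem, Finset.card_singleton]
      · simp only [Finset.mem_singleton]; exact fun h => hcon.2 h.symm
      · simp only [Finset.mem_insert, Finset.mem_singleton, not_or]
        exact ⟨fun h => hx h.symm, fun h => hcon.1 h.symm⟩
    have := Finset.card_le_univ ({x, s x, y} : Finset α)
    omega
  have hssx : s (s x) = x := by
    rcases hall (s (s x)) with h | h
    · exact h
    · exact absurd (s.injective h) hx
  intro a b c d hab hcd
  rcases hall a with rfl | rfl <;> rcases hall b with rfl | rfl <;> rcases hall c with rfl | rfl <;>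
    rcases hall d with rfl | rfl
  all_goals first
    | exact absurd rfl hab
    | exact absurd rfl hcd
    | exact ⟨1, one_smul _ _, one_smul _ _⟩
    | exact ⟨⟨s, hsG⟩, rfl, hssx⟩
    | exact ⟨⟨s, hsG⟩, hssx, rfl⟩


/-- a minimal normal subgroup that is an abelian `p`-group has exponent `p` -/
theorem pow_eq_one_of_minimal_normal {G : Type*} [Group G] [Finite G] (M : Subgroup G) [hMn : M.Normal]
    (hM : M ≠ ⊥) (hmin : ∀ K : Subgroup G, K.Normal → K ≤ M → K = ⊥ ∨ K = M)
    (hMc : M ≤ Subgroup.centralizer (M : Set G)) {p : ℕ} [hp : Fact p.Prime] (hMp : IsPGroup p M) :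
    ∀ x ∈ M, x ^ p = 1 := by
  let K : Subgroup G :=
    { carrier := {x | x ∈ M ∧ x ^ p = 1}
      one_mem' := ⟨M.one_mem, one_pow p⟩
      mul_mem' := by
        rintro x y ⟨hx, hxp⟩ ⟨hy, hyp⟩
        refine ⟨M.mul_mem hx hy, ?_⟩
        have hcomm : Commute x y := ((Subgroup.mem_centralizer_iff.1 (hMc hy)) x hx)
        rw [hcomm.mul_pow, hxp, hyp, one_mul]
      inv_mem' := by
        rintro x ⟨hx, hxp⟩
        exact ⟨M.inv_mem hx, by rw [inv_pow, hxp, inv_one]⟩ }
  have hKn : K.Normal := by
    constructor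
    rintro x ⟨hx, hxp⟩ g
    refine ⟨hMn.conj_mem x hx g, ?_⟩
    rw [conj_pow, hxp, mul_one, mul_inv_cancel]
  have hKM : K ≤ M := fun x hx => hx.1
  have hKne : K ≠ ⊥ := by
    have hnt : Nontrivial ↥M := (Subgroup.nontrivial_iff_ne_bot M).2 hM
    obtain ⟨k, hk0, hk⟩ := hMp.nontrivial_iff_card.1 hnt
    have hdvd : p ∣ Nat.card ↥M := by rw [hk]; exact dvd_pow_self p (by omega)
    obtain ⟨x, hx⟩ := exists_prime_orderOf_dvd_card' p hdvd
    intro hbot
    have hxK : (x : G) ∈ K := by
      refine ⟨x.2, ?_⟩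
      have := pow_orderOf_eq_one x
      rw [hx] at this
      exact_mod_cast congrArg Subtype.val this
    rw [hbot, Subgroup.mem_bot] at hxK
    have hx1 : x = 1 := Subtype.ext hxK
    rw [hx1, orderOf_one] at hx
    exact hp.out.one_lt.ne hx
  rcases hmin K hKn hKM with h | h
  · exact absurd h hKne
  · intro x hx
    have : x ∈ K := by rw [h]; exact hx
    exact this.2

/-- conjugation action of a subgroup on (the additive version of) a normal subgroup -/
@[reducible] def conjDistribMulAction {G : Type*} [Group G] (M H : Subgroup G) [hM : M.Normal] :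
    DistribMulAction ↥H (Additive ↥M) where
  smul h v := Additive.ofMul ⟨(h : G) * (v.toMul : G) * (h : G)⁻¹, hM.conj_mem _ v.toMul.2 h⟩
  one_smul v := by
    apply Additive.toMul.injective
    apply Subtype.ext
    show ((1 : ↥H) : G) * (v.toMul : G) * ((1 : ↥H) : G)⁻¹ = (v.toMul : G)
    rw [Subgroup.coe_one, one_mul, inv_one, mul_one]
  mul_smul h h' v := by
    apply Additive.toMul.injective
    apply Subtype.ext
    show ((h * h' : ↥H) : G) * (v.toMul : G) * ((h * h' : ↥H) : G)⁻¹ =
      (h : G) * ((h' : G) * (v.toMul : G) * (h' : G)⁻¹) * (h : G)⁻¹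
    rw [Subgroup.coe_mul]; group
  smul_zero h := by
    apply Additive.toMul.injective
    apply Subtype.ext
    show (h : G) * ((1 : ↥M) : G) * (h : G)⁻¹ = ((1 : ↥M) : G)
    rw [Subgroup.coe_one, mul_one, mul_inv_cancel]
  smul_add h v w := by
    apply Additive.toMul.injective
    apply Subtype.ext
    show (h : G) * ((v.toMul * w.toMul : ↥M) : G) * (h : G)⁻¹ =
      ((h : G) * (v.toMul : G) * (h : G)⁻¹) * ((h : G) * (w.toMul : G) * (h : G)⁻¹)
    rw [Subgroup.coe_mul]; group

theorem conjDistribMulAction_smul {G : Type*} [Group G] (M H : Subgroup G) [hM : M.Normal]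
    (h : ↥H) (m : ↥M) :
    (letI := conjDistribMulAction M H; h • (Additive.ofMul m : Additive ↥M)) =
      Additive.ofMul ⟨(h : G) * (m : G) * (h : G)⁻¹, hM.conj_mem _ m.2 h⟩ := rfl

end Cfsg.Agent.Lib.Helper13.Kantor
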