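import Mathlib
import Cfsg.Agent.Lib.Helper13.KantorGrp
import Cfsg.Prelude.Def_Perm

set_option autoImplicit false
open Cfsg

namespace Cfsg.Agent.Lib.Helper13.Kantor

/-- arithmetic: `n` odd with `n.choose 2` odd forces `n ≡ 3 (mod 4)` -/
theorem mod_four_of_odd_choose {n : ℕ} (hn : Odd n) (hc : Odd (n.choose 2)) : n % 4 = 3 := by
  rw [Nat.choose_two_right] at hc
  obtain ⟨k, rfl⟩ := hn
  rcases Nat.even_or_odd k with ⟨j, rfl⟩ | ⟨j, rfl⟩
  · exfalso
    have h1 : (2 * (j + j) + 1) * (2 * (j + j) + 1 - 1) / 2 = (2 * (j + j) + 1) * (2 * j) := by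
      have : (2 * (j + j) + 1) * (2 * (j + j) + 1 - 1) = 2 * ((2 * (j + j) + 1) * (2 * j)) := by
        rw [Nat.add_sub_cancel]; ring
      rw [this, Nat.mul_div_cancel_left _ (by norm_num : 0 < 2)]
    rw [h1] at hc
    have : Even ((2 * (j + j) + 1) * (2 * j)) := Even.mul_left (even_two_mul j) _
    exact (Nat.not_odd_iff_even.2 this) hc
  · omega

universe u

/-- **Kantor's theorem from the Odd Order Theorem.** -/
theorem kantor_of_FT {α : Type u} [Fintype α] [DecidableEq α] (G : Subgroup (Equiv.Perm α))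
    (hne : G ≠ ⊥) (h2 : MulAction.IsPretransitive G (Set.powersetCard α 2))
    (hn2 : ¬ MulAction.IsMultiplyPretransitive G α 2)
    (FT : ∀ (H : Type u) [Group H] [Finite H], Odd (Nat.card H) → Group.IsSolvable H) :
    Odd (Nat.card G) ∧ ∃ (p f : ℕ) (_ : Fact p.Prime), p ≠ 2 ∧ Fintype.card α = p ^ f ∧
      p ^ f % 4 = 3 ∧ ∃ e : α ≃ GaloisField p f,
        (∀ g : G, e.symm.trans (((g : Equiv.Perm α)).trans e) ∈
          Cfsg.semiaffineGroup (GaloisField p f)) ∧
        ∀ b : GaloisField p f, ∃ g : G, ∀ x : α, e ((g : Equiv.Perm α) x) = e x + b := by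
  classical
  have hα3 := three_le_card G hne hn2
  obtain ⟨hev, hprim'⟩ := Cfsg.Agent.S0735.result G h2 hα3
  have hodd : Odd (Nat.card G) := by
    rw [← Nat.not_even_iff_odd]; exact fun h => hn2 (hev h)
  refine ⟨hodd, ?_⟩
  have hprim := hprim' hne
  have hsolv : Group.IsSolvable ↥G := FT ↥G hodd
  have hnt : Nontrivial ↥G := (Subgroup.nontrivial_iff_ne_bot G).2 hne
  have hne' : (⊤ : Subgroup ↥G) ≠ ⊥ := top_ne_bot
  obtain ⟨M, hMn, hMne, -, hmin⟩ := Cfsg.Agent.S0551.exists_minimal_normal (⊤ : Subgroup ↥G) hne'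
  obtain ⟨hMc, p, hp, hMp⟩ := Cfsg.Agent.S0551.minimal_normal_solvable M hMne hmin
  have hpf : Fact p.Prime := ⟨hp⟩
  have htr := Cfsg.Agent.S0547.isPretransitive_of_normal hprim M hMne
  have hstab := Cfsg.Agent.S0547.stabilizer_eq_bot_of_abelian M hMc htr
  have hαpos : 0 < Fintype.card α := by omega
  obtain ⟨a₀⟩ : Nonempty α := Fintype.card_pos_iff.1 hαpos
  -- the orbit map
  have hφinj : Function.Injective (fun m : ↥M => m • a₀) := by
    intro m n hmn
    have h1 : (n⁻¹ * m) • a₀ = a₀ := by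
      rw [mul_smul]
      have hmn' : m • a₀ = n • a₀ := hmn
      rw [hmn', inv_smul_smul]
    have h3 : n⁻¹ * m ∈ MulAction.stabilizer ↥M a₀ := h1
    rw [hstab a₀, Subgroup.mem_bot] at h3
    have : m = n * (n⁻¹ * m) := by group
    rw [this, h3, mul_one]
  have hφsurj : Function.Surjective (fun m : ↥M => m • a₀) := fun x => htr.exists_smul_eq a₀ x
  let θ : ↥M ≃ α := Equiv.ofBijective _ ⟨hφinj, hφsurj⟩
  have hθ : ∀ m : ↥M, θ m = ((m : ↥G) : Equiv.Perm α) a₀ := fun _ => rfl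
  obtain ⟨f, hf⟩ := IsPGroup.iff_card.1 hMp
  have hcardα : Fintype.card α = p ^ f := by
    rw [← hf, ← Nat.card_eq_fintype_card]
    exact (Nat.card_congr θ).symm
  have hpowodd : Odd (p ^ f) := by
    rw [← hf]
    have h1 : Nat.card ↥M ∣ Nat.card ↥G := Subgroup.card_subgroup_dvd_card M
    exact Odd.of_dvd_nat hodd h1
  have hf0 : f ≠ 0 := by
    rintro rfl
    rw [pow_zero] at hf
    exact hMne (Subgroup.card_eq_one.1 hf)
  have hp2 : p ≠ 2 := by
    rintro rfl
    have : Even (2 ^ f) := (Nat.even_pow' hf0).2 even_two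
    exact (Nat.not_odd_iff_even.2 this) hpowodd
  have hmod : p ^ f % 4 = 3 := by
    apply mod_four_of_odd_choose hpowodd
    have h1 : Nat.card (Set.powersetCard α 2) = (p ^ f).choose 2 := by
      rw [Set.powersetCard.card, Nat.card_eq_fintype_card, hcardα]
    rw [← h1]
    obtain ⟨s⟩ : Nonempty (Set.powersetCard α 2) := by
      have : 0 < Nat.card (Set.powersetCard α 2) := by
        rw [h1]; apply Nat.choose_pos
        rw [← hcardα]; omega
      exact (Nat.card_pos_iff.1 this).1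
    have h3 : (MulAction.stabilizer ↥G s).index = Nat.card (Set.powersetCard α 2) :=
      MulAction.index_stabilizer_of_transitive ↥G s
    rw [← h3]
    exact Odd.of_dvd_nat hodd (Subgroup.index_dvd_card _)
  refine ⟨p, f, hpf, hp2, hcardα, hmod, ?_⟩
  -- the linear group
  let D : Subgroup ↥G := MulAction.stabilizer ↥G a₀
  let cg : CommGroup ↥M :=
    { (inferInstance : Group ↥M) with
      mul_comm := fun x y => Subtype.ext ((Subgroup.mem_centralizer_iff.1 (hMc y.2)) x x.2) }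
  let act : DistribMulAction ↥D (Additive ↥M) := conjDistribMulAction M D
  have hact : ∀ (d : ↥D) (m : ↥M), d • (Additive.ofMul m : Additive ↥M) =
      Additive.ofMul ⟨(d : ↥G) * (m : ↥G) * (d : ↥G)⁻¹, hMn.conj_mem _ m.2 d⟩ := fun _ _ => rfl
  -- key formula: `d (m a₀) = (d m d⁻¹) a₀`
  have hkey : ∀ (d : ↥D) (m : ↥M), ((d : ↥G) : Equiv.Perm α) (θ m) =
      θ ((d • (Additive.ofMul m : Additive ↥M)).toMul) := by
    intro d m
    rw [hact, hθ, hθ]
    show ((d : ↥G) : Equiv.Perm α) (((m : ↥G) : Equiv.Perm α) a₀) =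
      (((d : ↥G) * (m : ↥G) * (d : ↥G)⁻¹ : ↥G) : Equiv.Perm α) a₀
    have hd : ((d : ↥G) : Equiv.Perm α) a₀ = a₀ := d.2
    have hd' : (((d : ↥G)⁻¹ : ↥G) : Equiv.Perm α) a₀ = a₀ := by
      rw [Subgroup.coe_inv, Equiv.Perm.inv_eq_iff_eq]; exact hd.symm
    rw [Subgroup.coe_mul, Subgroup.coe_mul, Equiv.Perm.mul_apply, Equiv.Perm.mul_apply, hd']
  have hfaith : FaithfulSMul ↥D (Additive ↥M) := by
    constructor
    intro d d' h
    apply Subtype.ext
    apply Subtype.ext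
    apply Equiv.ext
    intro x
    obtain ⟨m, rfl⟩ := θ.surjective x
    rw [hkey, hkey, h]
  have hDodd : Odd (Nat.card ↥D) := Odd.of_dvd_nat hodd (Subgroup.card_subgroup_dvd_card D)
  have hVnt : Nontrivial (Additive ↥M) := by
    have : Nontrivial ↥M := (Subgroup.nontrivial_iff_ne_bot M).2 hMne
    exact Additive.ofMul.symm.nontrivial
  have hexp := pow_eq_one_of_minimal_normal M hMne hmin hMc hMp
  have hV : ∀ v : Additive ↥M, p • v = 0 := by
    intro v
    apply Additive.toMul.injective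
    apply Subtype.ext
    show ((v.toMul ^ p : ↥M) : ↥G) = 1
    rw [Subgroup.coe_pow]
    exact hexp _ v.toMul.2
  have hcardV : Nat.card (Additive ↥M) = p ^ f := by
    rw [← hf]; exact Nat.card_congr Additive.toMul
  have hhalf : ∀ a b : Additive ↥M, a ≠ 0 → b ≠ 0 → ∃ d : ↥D, d • a = b ∨ d • a = -b := by
    intro a b ha hb
    obtain ⟨m, rfl⟩ := Additive.ofMul.surjective a
    obtain ⟨m', rfl⟩ := Additive.ofMul.surjective b
    have hm : θ m ≠ a₀ := by
      intro h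
      apply ha
      have : θ m = θ 1 := by rw [h, hθ]; simp
      rw [θ.injective this]; rfl
    have hm' : θ m' ≠ a₀ := by
      intro h
      apply hb
      have : θ m' = θ 1 := by rw [h, hθ]; simp
      rw [θ.injective this]; rfl
    obtain ⟨g, hg | hg⟩ := Cfsg.Agent.S0735.pair_smul h2 (Ne.symm hm) (Ne.symm hm')
    · refine ⟨⟨g, hg.1⟩, Or.inl ?_⟩
      apply Additive.toMul.injective
      apply θ.injective
      rw [← hkey]
      exact hg.2
    · have hgD : (m' : ↥G)⁻¹ * g ∈ D := by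
        show ((m' : ↥G)⁻¹ * g) • a₀ = a₀
        rw [mul_smul, hg.1]
        show (m' : ↥G)⁻¹ • ((m' : ↥G) • a₀) = a₀
        rw [inv_smul_smul]
      refine ⟨⟨(m' : ↥G)⁻¹ * g, hgD⟩, Or.inr ?_⟩
      apply Additive.toMul.injective
      apply θ.injective
      rw [← hkey]
      show ((m' : ↥G)⁻¹ * g) • θ m = θ (m'⁻¹)
      rw [mul_smul, hg.2, hθ]
      rfl
  obtain ⟨e, he⟩ := half_transitive_semilinear hDodd hp2 hV hcardV hhalf
  -- the identification of `α` with the field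
  let E : α ≃ GaloisField p f := θ.symm.trans (Additive.ofMul.trans e.toEquiv)
  have hE : ∀ m : ↥M, E (θ m) = e (Additive.ofMul m) := by
    intro m
    show e (Additive.ofMul (θ.symm (θ m))) = _
    rw [Equiv.symm_apply_apply]
  have hEsymm : ∀ y : GaloisField p f, E.symm y = θ ((e.symm y).toMul) := fun _ => rfl
  -- action of `M`
  have hMact : ∀ (m m' : ↥M), ((m : ↥G) : Equiv.Perm α) (θ m') = θ (m * m') := by
    intro m m'
    rw [hθ, hθ, Subgroup.coe_mul, Subgroup.coe_mul, Equiv.Perm.mul_apply]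
  refine ⟨E, ?_, ?_⟩
  · intro g
    -- decompose `g = m₁ d`
    let m₁ : ↥M := θ.symm ((g : Equiv.Perm α) a₀)
    have hm₁ : ((m₁ : ↥G) : Equiv.Perm α) a₀ = (g : Equiv.Perm α) a₀ := by
      rw [← hθ]; exact Equiv.apply_symm_apply θ _
    have hdD : (m₁ : ↥G)⁻¹ * g ∈ D := by
      show ((m₁ : ↥G)⁻¹ * g) • a₀ = a₀
      rw [mul_smul]
      show (m₁ : ↥G)⁻¹ • ((g : Equiv.Perm α) a₀) = a₀
      rw [← hm₁]
      exact inv_smul_smul (m₁ : ↥G) a₀
    obtain ⟨a, σ, ha0, hσ⟩ := he ⟨(m₁ : ↥G)⁻¹ * g, hdD⟩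
    refine ⟨Units.mk0 a ha0, e (Additive.ofMul m₁), σ, ?_⟩
    intro y
    show E ((g : Equiv.Perm α) (E.symm y)) = a * σ y + e (Additive.ofMul m₁)
    rw [hEsymm]
    set m := (e.symm y).toMul with hm
    have h1 : (g : Equiv.Perm α) (θ m) =
        ((m₁ : ↥G) : Equiv.Perm α) ((((m₁ : ↥G)⁻¹ * g : ↥G) : Equiv.Perm α) (θ m)) := by
      rw [← Equiv.Perm.mul_apply, ← Subgroup.coe_mul, mul_inv_cancel_left]
    rw [h1, hkey ⟨(m₁ : ↥G)⁻¹ * g, hdD⟩ m, hMact, hE]
    rw [show Additive.ofMul (m₁ * (((⟨(m₁ : ↥G)⁻¹ * g, hdD⟩ : ↥D) •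
        (Additive.ofMul m : Additive ↥M)).toMul)) = Additive.ofMul m₁ +
        ((⟨(m₁ : ↥G)⁻¹ * g, hdD⟩ : ↥D) • (Additive.ofMul m : Additive ↥M)) from rfl]
    rw [map_add, hσ, add_comm]
    congr 2
    rw [hm]
    show σ (e (e.symm y)) = σ y
    rw [AddEquiv.apply_symm_apply]
  · intro b
    refine ⟨((e.symm b).toMul : ↥G), ?_⟩
    intro x
    obtain ⟨m', rfl⟩ := θ.surjective x
    rw [hMact, hE, hE]
    rw [show Additive.ofMul ((e.symm b).toMul * m') = e.symm b + Additive.ofMul m' from rfl]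
    rw [map_add, AddEquiv.apply_symm_apply, add_comm]

end Cfsg.Agent.Lib.Helper13.Kantor
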