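/-
helper13: the image `PGO(Q)` of the similarity group in `Aut(PΩ(Q))` has the order of the isometry
group `O(Q)` when the multiplier is onto.
-/
import Mathlib
import Cfsg.Agent.Lib.Helper36.AutO.AutCount
import Cfsg.Agent.Lib.Helper36.SimilarityChar
import Cfsg.Agent.Lib.Helper36.PgoPso

set_option autoImplicit false
set_option linter.unusedSectionVars false
set_option linter.unusedVariables false

namespace Cfsg.Agent.Lib.Helper13

open Matrix Module Cfsg.Agent.Lib.Helper36 Cfsg.Agent.Lib.Helper36.AutO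

section PgoCard

variable {ι : Type} [Fintype ι] [DecidableEq ι] {F : Type*} [Field F] [Fintype F]

/-- scalar matrices are similarities -/
theorem scalar_mem_similarity (Q : QuadraticForm F (ι → F)) (u : Fˣ) :
    Matrix.GeneralLinearGroup.scalar ι u ∈ Cfsg.Geo.quadSimilarityGroup (⇑Q) := by
  refine ⟨u * u, fun v => ?_⟩
  have h1 : ((Matrix.GeneralLinearGroup.scalar ι u : GL ι F) : Matrix ι ι F) *ᵥ v = (u : F) • v := by
    rw [Matrix.GeneralLinearGroup.coe_scalar]
    ext i
    simp [Matrix.mulVec, dotProduct, Matrix.scalar_apply, Matrix.diagonal_apply]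
  rw [h1, QuadraticMap.map_smul, Units.val_mul, smul_eq_mul]

/-- the scalar matrices as a homomorphism into the similarity group -/
noncomputable def scalSim (Q : QuadraticForm F (ι → F)) :
    Fˣ →* ↥(Cfsg.Geo.quadSimilarityGroup (⇑Q)) :=
  (Matrix.GeneralLinearGroup.scalar ι).codRestrict _ (scalar_mem_similarity Q)

theorem scalSim_coe (Q : QuadraticForm F (ι → F)) (u : Fˣ) :
    ((scalSim Q u : ↥(Cfsg.Geo.quadSimilarityGroup (⇑Q))) : GL ι F) =
      Matrix.GeneralLinearGroup.scalar ι u := rfl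

theorem scalSim_injective [Nonempty ι] (Q : QuadraticForm F (ι → F)) :
    Function.Injective (scalSim Q) := by
  intro u u' h
  have h1 := congrArg (fun g : ↥(Cfsg.Geo.quadSimilarityGroup (⇑Q)) =>
    ((g : GL ι F) : Matrix ι ι F)) h
  simp only [scalSim_coe, Matrix.GeneralLinearGroup.coe_scalar] at h1
  obtain ⟨i⟩ := ‹Nonempty ι›
  have h2 := congrFun (congrFun h1 i) i
  simp only [Matrix.scalar_apply, Matrix.diagonal_apply_eq] at h2
  exact Units.ext h2

/-- **`|PGO(Q)| = |O(Q)|`** when the multiplier of the similarity group is onto. -/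
theorem card_pgoAut_eq_card_isometryGroup (Q : QuadraticForm F (ι → F))
    (hQ : (QuadraticMap.polarBilin Q).Nondegenerate) (h7 : 7 ≤ Fintype.card ι)
    (v₀ : ι → F) (hv₀ : Q v₀ ≠ 0) (hμ : Function.Surjective (mult Q v₀ hv₀)) :
    Nat.card ↥(Cfsg.pgoAut F (⇑Q)) = Nat.card ↥(Cfsg.isometryGroup F (⇑Q)) := by
  classical
  have hne : Nonempty ι := by
    rw [← Fintype.card_pos_iff]; omega
  -- (1) `|GO| = |Fˣ| |O|`
  have hker1 : (mult Q v₀ hv₀).ker =
      (Cfsg.isometryGroup F (⇑Q)).subgroupOf (Cfsg.Geo.quadSimilarityGroup (⇑Q)) := by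
    ext g
    rw [MonoidHom.mem_ker, Subgroup.mem_subgroupOf, mem_isometryGroup_iff']
    constructor
    · intro h v
      rw [mult_spec Q v₀ hv₀ g v, h, Units.val_one, one_mul]
    · intro h
      apply mult_eq
      intro v
      rw [h v, Units.val_one, one_mul]
  have h1 : Nat.card ↥(Cfsg.Geo.quadSimilarityGroup (⇑Q)) =
      Nat.card Fˣ * Nat.card ↥(Cfsg.isometryGroup F (⇑Q)) := by
    rw [Subgroup.card_eq_card_quotient_mul_card_subgroup (mult Q v₀ hv₀).ker,
      Nat.card_congr (QuotientGroup.quotientKerEquivOfSurjective _ hμ).toEquiv, hker1,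
      Nat.card_congr (Subgroup.subgroupOfEquivOfLe (isometryGroup_le_similarity (⇑Q))).toEquiv]
  -- (2) `|GO| = |PGO| |Fˣ|`
  have hker2 : (simAut (⇑Q)).ker = (scalSim Q).range := by
    ext g
    rw [MonoidHom.mem_ker, MonoidHom.mem_range]
    constructor
    · intro h
      have hi : Cfsg.IsInducedBySemilinearPOmega (⇑Q) (g : GL ι F) (RingEquiv.refl F)
          (1 : MulAut (Cfsg.POmega F (⇑Q))) := (isInduced_iff (⇑Q) g 1).mpr h.symm
      have hp : Cfsg.IsSemisimilarityPair (⇑Q) (g : GL ι F) (RingEquiv.refl F) := by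
        obtain ⟨c, hc⟩ := g.2
        exact ⟨c, fun v => hc v⟩
      obtain ⟨-, l, hl0, hl⟩ := pair_faithful Q hQ h7 (g : GL ι F) (RingEquiv.refl F) hp hi
      refine ⟨Units.mk0 l hl0, ?_⟩
      apply Subtype.ext
      apply Units.ext
      rw [scalSim_coe, Matrix.GeneralLinearGroup.coe_scalar, Units.val_mk0]
      apply Matrix.toLin'.injective
      apply LinearMap.ext
      intro v
      rw [Matrix.toLin'_apply, Matrix.toLin'_apply, hl v]
      ext i
      simp [Matrix.mulVec, dotProduct, Matrix.scalar_apply, Matrix.diagonal_apply]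
    · rintro ⟨u, rfl⟩
      have := simAut_eq_of_scalar_mul (⇑Q) (scalSim Q u) 1 u (by
        rw [scalSim_coe, OneMemClass.coe_one, mul_one])
      rw [this, map_one]
  have h2 : Nat.card ↥(Cfsg.Geo.quadSimilarityGroup (⇑Q)) =
      Nat.card ↥(Cfsg.pgoAut F (⇑Q)) * Nat.card Fˣ := by
    rw [pgoAut_eq, Subgroup.card_eq_card_quotient_mul_card_subgroup (simAut (⇑Q)).ker,
      Nat.card_congr (QuotientGroup.quotientKerEquivRange (simAut (⇑Q))).toEquiv, hker2,
      ← Nat.card_congr (MonoidHom.ofInjective (scalSim_injective Q)).toEquiv]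
  have hpos : 0 < Nat.card Fˣ := Nat.card_pos
  rw [h1, mul_comm] at h2
  exact (Nat.eq_of_mul_eq_mul_right hpos h2).symm

end PgoCard

end Cfsg.Agent.Lib.Helper13
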