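/-
helper13: `|Aut(PΩ⁻_{2m}(q))| = f |O⁻_{2m}(q)|`, and the evaluation in terms of `|PΩ⁻_{2m}(q)|`.
-/
import Mathlib
import Cfsg.Agent.Lib.Helper13.PgoCard
import Cfsg.Agent.Lib.Helper13.MinusSemi
import Cfsg.Agent.Lib.Helper36.MinusElts
import Cfsg.Agent.Lib.Helper36.PgoPsoForms
import Cfsg.Agent.Lib.Helper36.AutO.RingAutCard
import Cfsg.Agent.Lib.Helper44.POmegaOrder
import Cfsg.Agent.S0791

set_option autoImplicit false
set_option linter.unusedSectionVars false
set_option linter.unusedVariables false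

namespace Cfsg.Agent.Lib.Helper13

open Matrix Module Cfsg.Agent.Lib.Helper36 Cfsg.Agent.Lib.Helper36.AutO Cfsg.Agent.Lib.Helper44

section MinusCard

variable {F : Type*} [Field F] [Fintype F]

/-- a vector of norm one for the minus form -/
theorem minusQF_single_inr (m : ℕ) (a b : F) :
    minusQF m F a b (Pi.single (Sum.inr 0) (1 : F)) = 1 := by
  have h := congrFun (minusQF_coe m F a b) (Pi.single (Sum.inr 0) (1 : F))
  rw [h]
  unfold Cfsg.quadFormMinus
  simp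

/-- the multiplier of the similarity group of the minus form is onto -/
theorem mult_minusQF_surjective (m : ℕ) (a b : F)
    (hab : ∀ z₁ z₂ : F, z₁ ^ 2 + a * z₁ * z₂ + b * z₂ ^ 2 = 0 → z₁ = 0 ∧ z₂ = 0)
    (v₀ : (Fin m ⊕ Fin m) ⊕ Fin 2 → F) (hv₀ : minusQF m F a b v₀ ≠ 0) :
    Function.Surjective (mult (minusQF m F a b) v₀ hv₀) := by
  classical
  intro c
  obtain ⟨s, t, hst⟩ : ∃ s t : F, s ^ 2 + a * s * t + b * t ^ 2 = (c : F) := by
    by_cases h2 : (2 : F) = 0
    · have hchar : ringChar F = 2 :=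
        CharP.ringChar_of_prime_eq_zero Nat.prime_two (by exact_mod_cast h2)
      obtain ⟨r, hr⟩ := FiniteField.isSquare_of_char_two hchar (c : F)
      exact ⟨r, 0, by rw [hr]; ring⟩
    · have hodd : Fintype.card F % 2 = 1 := by
        have := (two_eq_zero_iff_even_card (F := F)).not.mp h2
        omega
      exact exists_binary_eq hodd h2 a b hab c
  obtain ⟨g₁, hg₁, -⟩ := exists_similarity_minus_det m a b s t c hst.symm
  have hmem : g₁ ∈ Cfsg.Geo.quadSimilarityGroup (⇑(minusQF m F a b)) := by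
    refine ⟨c, fun v => ?_⟩
    rw [minusQF_coe]
    exact hg₁ v
  refine ⟨⟨g₁, hmem⟩, ?_⟩
  apply mult_eq
  intro v
  have h := congrFun (minusQF_coe m F a b)
  rw [h, h]
  exact hg₁ v

/-- **`|Aut PΩ⁻| = f |O⁻|`** -/
theorem card_aut_minus_eq {p f : ℕ} [Fact p.Prime] (hf : 1 ≤ f) (hF : Fintype.card F = p ^ f)
    (m : ℕ) (hm : 3 ≤ m) (a b : F)
    (hab : ∀ z₁ z₂ : F, z₁ ^ 2 + a * z₁ * z₂ + b * z₂ ^ 2 = 0 → z₁ = 0 ∧ z₂ = 0)
    (htop : Cfsg.gammaPOmega F (Cfsg.quadFormMinus m F a b) = ⊤) :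
    Nat.card (MulAut (Cfsg.POmega F (Cfsg.quadFormMinus m F a b))) =
      f * Nat.card ↥(Cfsg.isometryGroup F (Cfsg.quadFormMinus m F a b)) := by
  classical
  have hchar : CharP F p := charP_of_card_pow hf hF
  have hcard : Fintype.card ((Fin m ⊕ Fin m) ⊕ Fin 2) = 2 * m + 2 := by
    rw [Fintype.card_sum, Fintype.card_sum, Fintype.card_fin, Fintype.card_fin]; ring
  have hQ := minusQF_nondeg_of_aniso m a b hab
  have h7 : 7 ≤ Fintype.card ((Fin m ⊕ Fin m) ⊕ Fin 2) := by rw [hcard]; omega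
  rw [← minusQF_coe] at htop ⊢
  have hv₀ : minusQF m F a b (Pi.single (Sum.inr 0) (1 : F)) ≠ 0 := by
    rw [minusQF_single_inr]; exact one_ne_zero
  have hσ : ∀ σ : F ≃+* F, ∃ g : GL ((Fin m ⊕ Fin m) ⊕ Fin 2) F,
      Cfsg.IsSemisimilarityPair (⇑(minusQF m F a b)) g σ := by
    intro σ
    rw [minusQF_coe]
    exact exists_pair_minus p m a b hab σ
  rw [card_aut_eq_of_surj (minusQF m F a b) hQ h7 htop hσ, card_ringAut_eq hf hF,
    card_pgoAut_eq_card_isometryGroup (minusQF m F a b) hQ h7 _ hv₀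
      (mult_minusQF_surjective m a b hab _ hv₀)]

end MinusCard

end Cfsg.Agent.Lib.Helper13
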