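import Mathlib
import Cfsg.Agent.Lib.Helper13.MinusCent5
import Cfsg.Agent.Lib.Helper43.OSplitAbs
import Cfsg.Agent.S2729

set_option autoImplicit false
set_option linter.unusedSectionVars false
set_option linter.style.haveILetI false

/-!
helper13: the inner-diagonal class of a field automorphism of `PΩ⁻_{2m+2}(F)` of odd prime order is
a single `Inn`-class; the final assembly of the centraliser theorem.
-/

namespace Cfsg.Agent.Lib.Helper13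

open Matrix Module Cfsg.Agent.S0791 Cfsg.Agent.Lib.Helper36 Cfsg.Agent.Lib.Helper36.AutO
  Cfsg.Agent.Lib.Helper44 Cfsg.Agent.Lib.Helper45.PSLField

section abs

theorem zmod2_gen : ∀ z : Multiplicative (ZMod 2), (¬ ∃ w, z = w * w) →
    ∀ y : Multiplicative (ZMod 2), ∃ k : ℕ, y * z ^ k = 1 := by
  have h : ∀ z : Multiplicative (ZMod 2), (¬ ∃ w, z = w * w) →
      ∀ y : Multiplicative (ZMod 2), ∃ k ∈ Finset.range 2, y * z ^ k = 1 := by decide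
  intro z hz y
  obtain ⟨k, -, hk⟩ := h z hz y
  exact ⟨k, hk⟩

theorem zmod4_gen : ∀ z : Multiplicative (ZMod 4), (¬ ∃ w, z = w * w) →
    ∀ y : Multiplicative (ZMod 4), ∃ k : ℕ, y * z ^ k = 1 := by
  have h : ∀ z : Multiplicative (ZMod 4), (¬ ∃ w, z = w * w) →
      ∀ y : Multiplicative (ZMod 4), ∃ k ∈ Finset.range 4, y * z ^ k = 1 := by decide
  intro z hz y
  obtain ⟨k, -, hk⟩ := h z hz y
  exact ⟨k, hk⟩

/-- if `D / N` is cyclic (of order 2 or 4) and `c` is not a square modulo `N`, then `c` generates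
`D` modulo `N` -/
theorem cover_of_cyclic_quot {X : Type*} [Group X] (D N : Subgroup X) {n : ℕ}
    (hgen : ∀ z : Multiplicative (ZMod n), (¬ ∃ w, z = w * w) →
      ∀ y : Multiplicative (ZMod n), ∃ k : ℕ, y * z ^ k = 1)
    (φ : ↥D →* Multiplicative (ZMod n)) (hφs : Function.Surjective φ)
    (hφk : φ.ker = N.subgroupOf D)
    (c : X) (hcD : c ∈ D) (hns : ∀ d ∈ D, ∀ ν ∈ N, c ≠ d * d * ν) (a : X) (ha : a ∈ D) :
    ∃ k : ℕ, a * c ^ k ∈ N := by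
  have hz : ¬ ∃ w, φ ⟨c, hcD⟩ = w * w := by
    rintro ⟨w, hw⟩
    obtain ⟨d, rfl⟩ := hφs w
    have h1 : (d * d)⁻¹ * ⟨c, hcD⟩ ∈ φ.ker := by
      rw [MonoidHom.mem_ker, map_mul, map_inv, map_mul, hw, inv_mul_cancel]
    rw [hφk, Subgroup.mem_subgroupOf] at h1
    apply hns (d : X) d.2 _ h1
    rw [Subgroup.coe_mul, Subgroup.coe_inv, Subgroup.coe_mul, mul_inv_cancel_left]
  obtain ⟨k, hk⟩ := hgen _ hz (φ ⟨a, ha⟩)
  refine ⟨k, ?_⟩
  have h2 : (⟨a, ha⟩ * ⟨c, hcD⟩ ^ k : ↥D) ∈ φ.ker := by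
    rw [MonoidHom.mem_ker, map_mul, map_pow]
    exact hk
  rw [hφk, Subgroup.mem_subgroupOf] at h2
  exact h2

end abs

section nonsq

variable {F : Type*} [Field F] {F₀ : Type*} [Field F₀]

/-- a non-square of the fixed field of an automorphism of odd order stays a non-square -/
theorem not_isSquare_map_of_odd (h2 : (2 : F) ≠ 0) (σ : RingAut F) {r : ℕ} (hr : Odd r)
    (hσ : orderOf σ = r) (j : F₀ →+* F) (hj : ∀ c : F, σ c = c ↔ ∃ d, j d = c)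
    (η : F₀) (hη : ¬ IsSquare η) : ¬ IsSquare (j η) := by
  rintro ⟨s, hs⟩
  have hση : σ (j η) = j η := (hj _).mpr ⟨η, rfl⟩
  have h1 : (σ s - s) * (σ s + s) = 0 := by
    have : σ s * σ s = s * s := by rw [← map_mul, ← hs, hση]
    linear_combination this
  rcases mul_eq_zero.mp h1 with h | h
  · obtain ⟨d, hd⟩ := (hj s).mp (sub_eq_zero.mp h)
    apply hη
    refine ⟨d, j.injective ?_⟩
    rw [hs, map_mul, hd]
  · have hneg : σ s = -s := by linear_combination h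
    have hpow : ∀ k : ℕ, (σ ^ k) s = (-1) ^ k * s := by
      intro k
      induction k with
      | zero => simp
      | succ k ih =>
        rw [pow_succ', RingAut.mul_apply, ih, map_mul, map_pow, map_neg, map_one, hneg, pow_succ]
        ring
    have h3 := hpow r
    rw [← hσ, pow_orderOf_eq_one, hσ, hr.neg_one_pow] at h3
    have h4 : s = 0 := by
      have h5 : (2 : F) * s = 0 := by
        have : (1 : RingAut F) s = s := rfl
        rw [this] at h3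
        linear_combination h3
      rcases mul_eq_zero.mp h5 with h6 | h6
      · exact absurd h6 h2
      · exact h6
    apply hη
    refine ⟨0, j.injective ?_⟩
    rw [hs, h4, mul_zero, mul_zero, map_zero]

end nonsq

section mult

universe u u₀

variable {F : Type u} [Field F] [Fintype F] {F₀ : Type u₀} [Field F₀] [Fintype F₀] {m : ℕ}

/-- the multiplier of `subHom A` -/
theorem subHom_similarity (j : F₀ →+* F) (a₀ b₀ : F₀) (a b : F)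
    (M : GL ((Fin m ⊕ Fin m) ⊕ Fin 2) F) (κ : F)
    (hM : ∀ w, Cfsg.quadFormMinus m F a b
      ((M : Matrix ((Fin m ⊕ Fin m) ⊕ Fin 2) ((Fin m ⊕ Fin m) ⊕ Fin 2) F) *ᵥ w) =
        κ * Cfsg.quadFormMinus m F (j a₀) (j b₀) w)
    (A : ↥(Cfsg.Geo.quadSimilarityGroup (Cfsg.quadFormMinus m F₀ a₀ b₀))) (c : F₀)
    (hc : ∀ v, Cfsg.quadFormMinus m F₀ a₀ b₀
      (((A : GL ((Fin m ⊕ Fin m) ⊕ Fin 2) F₀) :
        Matrix ((Fin m ⊕ Fin m) ⊕ Fin 2) ((Fin m ⊕ Fin m) ⊕ Fin 2) F₀) *ᵥ v) =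
        c * Cfsg.quadFormMinus m F₀ a₀ b₀ v) (v : (Fin m ⊕ Fin m) ⊕ Fin 2 → F) :
    Cfsg.quadFormMinus m F a b
      ((((subHom j a₀ b₀ a b M κ hM A :
        ↥(Cfsg.Geo.quadSimilarityGroup (Cfsg.quadFormMinus m F a b))) :
        GL ((Fin m ⊕ Fin m) ⊕ Fin 2) F) :
        Matrix ((Fin m ⊕ Fin m) ⊕ Fin 2) ((Fin m ⊕ Fin m) ⊕ Fin 2) F) *ᵥ v) =
      j c * Cfsg.quadFormMinus m F a b v := by
  have hAj : ∀ w, Cfsg.quadFormMinus m F (j a₀) (j b₀)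
      (((Matrix.GeneralLinearGroup.map j (A : GL ((Fin m ⊕ Fin m) ⊕ Fin 2) F₀) :
        GL ((Fin m ⊕ Fin m) ⊕ Fin 2) F) :
        Matrix ((Fin m ⊕ Fin m) ⊕ Fin 2) ((Fin m ⊕ Fin m) ⊕ Fin 2) F) *ᵥ w) =
      j c * Cfsg.quadFormMinus m F (j a₀) (j b₀) w := by
    intro w
    exact similarity_extend' j (Cfsg.quadFormMinus m F₀ a₀ b₀) (minusQ m F (j a₀) (j b₀))
      (fun v => quadFormMinus_rvec j m a₀ b₀ v) _ c hc w
  rw [subHom_coe]
  exact similarity_conj (Cfsg.quadFormMinus m F a b) (Cfsg.quadFormMinus m F (j a₀) (j b₀))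
    M κ hM _ (j c) hAj v

/-- the multiplier of a similarity inducing a square modulo `Inn` is a square -/
theorem isSquare_mult_of_sq_mod_Inn (hm : 3 ≤ m) (a b : F)
    (hab : ∀ z₁ z₂ : F, z₁ ^ 2 + a * z₁ * z₂ + b * z₂ ^ 2 = 0 → z₁ = 0 ∧ z₂ = 0)
    (g : ↥(Cfsg.Geo.quadSimilarityGroup (Cfsg.quadFormMinus m F a b))) (μ : F)
    (hg : ∀ v, Cfsg.quadFormMinus m F a b
      (((g : GL ((Fin m ⊕ Fin m) ⊕ Fin 2) F) :
        Matrix ((Fin m ⊕ Fin m) ⊕ Fin 2) ((Fin m ⊕ Fin m) ⊕ Fin 2) F) *ᵥ v) =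
        μ * Cfsg.quadFormMinus m F a b v)
    (d ν : MulAut (Cfsg.POmega F (Cfsg.quadFormMinus m F a b)))
    (hd : d ∈ Cfsg.pgoAut F (Cfsg.quadFormMinus m F a b))
    (hν : ν ∈ Cfsg.Inn (Cfsg.POmega F (Cfsg.quadFormMinus m F a b)))
    (h : simAut (Cfsg.quadFormMinus m F a b) g = d * d * ν) : IsSquare μ := by
  classical
  have h7 : 7 ≤ Fintype.card ((Fin m ⊕ Fin m) ⊕ Fin 2) := by
    rw [card_minus_index]
    omega
  rw [pgoAut_eq] at hd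
  obtain ⟨hd', rfl⟩ := hd
  rw [Inn_eq] at hν
  obtain ⟨ω, hω, rfl⟩ := hν
  rw [SetLike.mem_coe, Subgroup.mem_subgroupOf] at hω
  have hωiso := (mem_isometryGroup_iff' (Cfsg.quadFormMinus m F a b) _).mp
    (OmegaGL_le_isometryGroup _ hω)
  obtain ⟨μd, hμd⟩ := hd'.2
  have h1 : simAut (Cfsg.quadFormMinus m F a b) ((hd' * hd' * ω)⁻¹ * g) = 1 := by
    rw [map_mul, map_inv, map_mul, map_mul, h, inv_mul_cancel]
  obtain ⟨l, hl⟩ := (simAut_eq_one_iff (minusQ m F a b) (minusQ_nondeg_of_aniso m a b hab) h7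
    ((hd' * hd' * ω)⁻¹ * g)).mp h1
  have e : (g : GL ((Fin m ⊕ Fin m) ⊕ Fin 2) F) =
      (hd' : GL ((Fin m ⊕ Fin m) ⊕ Fin 2) F) * (hd' : GL ((Fin m ⊕ Fin m) ⊕ Fin 2) F) *
        (ω : GL ((Fin m ⊕ Fin m) ⊕ Fin 2) F) *
        (((hd' * hd' * ω)⁻¹ * g : ↥(Cfsg.Geo.quadSimilarityGroup (Cfsg.quadFormMinus m F a b))) :
          GL ((Fin m ⊕ Fin m) ⊕ Fin 2) F) := by
    rw [Subgroup.coe_mul, Subgroup.coe_inv, Subgroup.coe_mul, Subgroup.coe_mul,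
      mul_inv_cancel_left]
  have h3 := hg (Pi.single (Sum.inr 0) 1)
  rw [quadFormMinus_single_z, mul_one, e, Units.val_mul, Units.val_mul, Units.val_mul, hl,
    ← Matrix.mulVec_mulVec, ← Matrix.mulVec_mulVec, ← Matrix.mulVec_mulVec, hμd, hμd, hωiso,
    Matrix.smul_mulVec, Matrix.one_mulVec] at h3
  have h4 := QuadraticMap.map_smul (minusQ m F a b) l (Pi.single (Sum.inr 0) 1)
  change Cfsg.quadFormMinus m F a b _ = _ • Cfsg.quadFormMinus m F a b _ at h4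
  rw [h4, quadFormMinus_single_z, smul_eq_mul, mul_one] at h3
  exact ⟨(μd : F) * l, by rw [← h3]; ring⟩

/-- a class-preserving similarity with a prescribed multiplier (odd characteristic) -/
theorem exists_preserving_similarity (a b : F)
    (hab : ∀ z₁ z₂ : F, z₁ ^ 2 + a * z₁ * z₂ + b * z₂ ^ 2 = 0 → z₁ = 0 ∧ z₂ = 0)
    (h2 : (2 : F) ≠ 0) (η : Fˣ) :
    ∃ A : ↥(Cfsg.Geo.quadSimilarityGroup (Cfsg.quadFormMinus m F a b)),
      Cfsg.PreservesSingularClassesMinus m a b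
        ((A : GL ((Fin m ⊕ Fin m) ⊕ Fin 2) F) :
          Matrix ((Fin m ⊕ Fin m) ⊕ Fin 2) ((Fin m ⊕ Fin m) ⊕ Fin 2) F) ∧
      ∀ v, Cfsg.quadFormMinus m F a b
        (((A : GL ((Fin m ⊕ Fin m) ⊕ Fin 2) F) :
          Matrix ((Fin m ⊕ Fin m) ⊕ Fin 2) ((Fin m ⊕ Fin m) ⊕ Fin 2) F) *ᵥ v) =
        (η : F) * Cfsg.quadFormMinus m F a b v := by
  classical
  have hodd : Fintype.card F % 2 = 1 := by
    have := (two_eq_zero_iff_even_card (F := F)).not.mp h2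
    omega
  obtain ⟨s, t, hst⟩ := exists_binary_eq hodd h2 a b hab (η : F)
  obtain ⟨g₁, hg₁, -⟩ := exists_similarity_minus_det m a b s t η hst.symm
  have hv : minusForm m F a b (Pi.single (Sum.inr 0) 1) ≠ 0 := by
    rw [minusForm_coe, quadFormMinus_single_z]
    exact one_ne_zero
  rcases exists_preserving a b hab g₁ (η : F) hg₁ _ hv with hp | hp
  · exact ⟨⟨g₁, ⟨η, hg₁⟩⟩, hp, hg₁⟩
  · have hsim : ∀ v, Cfsg.quadFormMinus m F a b
        (((g₁ * reflGL (minusForm m F a b) _ hv : GL ((Fin m ⊕ Fin m) ⊕ Fin 2) F) :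
          Matrix ((Fin m ⊕ Fin m) ⊕ Fin 2) ((Fin m ⊕ Fin m) ⊕ Fin 2) F) *ᵥ v) =
        (η : F) * Cfsg.quadFormMinus m F a b v := by
      intro v
      rw [Units.val_mul, ← Matrix.mulVec_mulVec, hg₁]
      congr 1
      have h0 := Cfsg.Agent.Lib.Helper13.reflectionMatrix_isometry (minusForm m F a b) _ hv v
      change Cfsg.quadFormMinus m F a b
        (Cfsg.reflectionMatrix (⇑(minusForm m F a b)) _ *ᵥ v) = _
      rw [← minusForm_coe]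
      exact h0
    exact ⟨⟨_, ⟨η, hsim⟩⟩, hp, hsim⟩

/-- in odd characteristic, the inner-diagonal group is covered by `Inn` and the centraliser of
the field automorphism -/
theorem cover_minus_odd (hm : 3 ≤ m) (j : F₀ →+* F) (a₀ b₀ : F₀)
    (hab₀ : ∀ z₁ z₂ : F₀, z₁ ^ 2 + a₀ * z₁ * z₂ + b₀ * z₂ ^ 2 = 0 → z₁ = 0 ∧ z₂ = 0) (a b : F)
    (hab : ∀ z₁ z₂ : F, z₁ ^ 2 + a * z₁ * z₂ + b * z₂ ^ 2 = 0 → z₁ = 0 ∧ z₂ = 0)
    (M : GL ((Fin m ⊕ Fin m) ⊕ Fin 2) F) (κ : F) (hκ : κ ≠ 0)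
    (hM : ∀ w, Cfsg.quadFormMinus m F a b
      ((M : Matrix ((Fin m ⊕ Fin m) ⊕ Fin 2) ((Fin m ⊕ Fin m) ⊕ Fin 2) F) *ᵥ w) =
        κ * Cfsg.quadFormMinus m F (j a₀) (j b₀) w)
    (σ : RingAut F) {r : ℕ} (hrodd : Odd r) (hσ : orderOf σ = r)
    (hj : ∀ c : F, σ c = c ↔ ∃ d, j d = c)
    (g₁ : GL ((Fin m ⊕ Fin m) ⊕ Fin 2) F)
    (hg₁ : (g₁ : Matrix ((Fin m ⊕ Fin m) ⊕ Fin 2) ((Fin m ⊕ Fin m) ⊕ Fin 2) F) *
      (M : Matrix ((Fin m ⊕ Fin m) ⊕ Fin 2) ((Fin m ⊕ Fin m) ⊕ Fin 2) F).map σ =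
      (M : Matrix ((Fin m ⊕ Fin m) ⊕ Fin 2) ((Fin m ⊕ Fin m) ⊕ Fin 2) F))
    (x : MulAut (Cfsg.POmega F (Cfsg.quadFormMinus m F a b)))
    (hp₁ : Cfsg.IsSemisimilarityPair (Cfsg.quadFormMinus m F a b) g₁ σ)
    (hi₁ : Cfsg.IsInducedBySemilinearPOmega (Cfsg.quadFormMinus m F a b) g₁ σ x)
    (h2 : (2 : F) ≠ 0)
    (a' : MulAut (Cfsg.POmega F (Cfsg.quadFormMinus m F a b)))
    (ha' : a' ∈ Cfsg.inndiagPOmegaMinus m F a b) :
    ∃ c ∈ Cfsg.inndiagPOmegaMinus m F a b ⊓ Subgroup.centralizer {x},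
      a' * c ∈ Cfsg.Inn (Cfsg.POmega F (Cfsg.quadFormMinus m F a b)) := by
  classical
  have hj' : ∀ c : F₀, σ (j c) = j c := fun c => (hj (j c)).mpr ⟨c, rfl⟩
  have h2₀ : (2 : F₀) ≠ 0 := by
    intro h
    apply h2
    have := congrArg j h
    rwa [map_ofNat, map_zero] at this
  have hchar₀ : ringChar F₀ ≠ 2 := by
    intro h
    apply h2₀
    have : ((2 : ℕ) : F₀) = 0 := by
      rw [← h]; exact ringChar.Nat.cast_ringChar
    exact_mod_cast this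
  obtain ⟨η₀, hη₀⟩ := FiniteField.exists_nonsquare hchar₀
  have hη₀0 : η₀ ≠ 0 := by
    rintro rfl
    exact hη₀ IsSquare.zero
  obtain ⟨A₁, hA₁p, hA₁s⟩ := exists_preserving_similarity (m := m) a₀ b₀ hab₀ h2₀
    (Units.mk0 η₀ hη₀0)
  rw [Units.val_mk0] at hA₁s
  obtain ⟨c, hc⟩ : ∃ c, c = simAut (Cfsg.quadFormMinus m F a b)
    (subHom j a₀ b₀ a b M κ hM A₁) := ⟨_, rfl⟩
  have hcD : c ∈ Cfsg.inndiagPOmegaMinus m F a b := by
    rw [hc, simAut_subHom_mem_inndiag_iff hm j a₀ b₀ hab₀ a b hab M κ hκ hM,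
      simAut_mem_inndiag_iff_preserves hm a₀ b₀ hab₀]
    exact hA₁p
  have hcC : c ∈ Subgroup.centralizer {x} := by
    rw [hc]
    exact subHom_mem_centralizer j a₀ b₀ a b M κ hM σ hj' g₁ hg₁ x hp₁ hi₁ A₁
  have hns : ∀ d ∈ Cfsg.inndiagPOmegaMinus m F a b,
      ∀ ν ∈ Cfsg.Inn (Cfsg.POmega F (Cfsg.quadFormMinus m F a b)), c ≠ d * d * ν := by
    intro d hd ν hν hcd
    rw [hc] at hcd
    have h1 := isSquare_mult_of_sq_mod_Inn hm a b hab (subHom j a₀ b₀ a b M κ hM A₁) (j η₀)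
      (subHom_similarity j a₀ b₀ a b M κ hM A₁ η₀ hA₁s) d ν (inndiag_minus_le_pgoAut a b hd) hν hcd
    exact not_isSquare_map_of_odd h2 σ hrodd hσ j hj η₀ hη₀ h1
  have hodd : Odd (Fintype.card F) := by
    have := (two_eq_zero_iff_even_card (F := F)).not.mp h2
    rw [Nat.odd_iff]
    omega
  have hmem : ∀ k : ℕ, c ^ k ∈ Cfsg.inndiagPOmegaMinus m F a b ⊓ Subgroup.centralizer {x} :=
    fun k => Subgroup.pow_mem _ (Subgroup.mem_inf.mpr ⟨hcD, hcC⟩) k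
  by_cases hcase : Even m ∧ Fintype.card F % 4 = 3
  · obtain ⟨φ, hφs, hφk⟩ := (Cfsg.Agent.S2729.result hodd hm a b hab).1 hcase
    obtain ⟨k, hk⟩ := cover_of_cyclic_quot _ _ zmod4_gen φ hφs hφk c hcD hns a' ha'
    exact ⟨c ^ k, hmem k, hk⟩
  · obtain ⟨φ, hφs, hφk⟩ := (Cfsg.Agent.S2729.result hodd hm a b hab).2 hcase
    obtain ⟨k, hk⟩ := cover_of_cyclic_quot _ _ zmod2_gen φ hφs hφk c hcD hns a' ha'
    exact ⟨c ^ k, hmem k, hk⟩

end mult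

section main

universe u u₀

variable {F : Type u} [Field F] [Fintype F] {m : ℕ}

/-- **Field automorphisms of prime order of `PΩ⁻_{2m+2}(F)`**: the order is odd and divides `f`,
the centraliser in `Inndiag` is `Inndiag` over the fixed field, and the `Inndiag`-class is a
single `Inn`-class. -/
theorem minus_field_centralizer_main {p f : ℕ} [Fact p.Prime] (hF : Fintype.card F = p ^ f)
    (hm : 3 ≤ m) (a b : F)
    (hab : ∀ z₁ z₂ : F, z₁ ^ 2 + a * z₁ * z₂ + b * z₂ ^ 2 = 0 → z₁ = 0 ∧ z₂ = 0)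
    (x : MulAut (Cfsg.POmega F (Cfsg.quadFormMinus m F a b)))
    (hx : Cfsg.IsFieldAutClassPOmegaMinus m x) {r : ℕ} (hr : r.Prime) (hxr : orderOf x = r)
    (F₀ : Type u₀) [Field F₀] [Fintype F₀] (hF₀ : Fintype.card F₀ = p ^ (f / r)) :
    Odd r ∧ r ∣ f ∧
      (∃ a₀ b₀ : F₀, (∀ z₁ z₂ : F₀, z₁ ^ 2 + a₀ * z₁ * z₂ + b₀ * z₂ ^ 2 = 0 → z₁ = 0 ∧ z₂ = 0) ∧
        Nonempty (↥(Cfsg.inndiagPOmegaMinus m F a b ⊓ Subgroup.centralizer {x}) ≃*
          ↥(Cfsg.inndiagPOmegaMinus m F₀ a₀ b₀))) ∧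
      Cfsg.splitClassCount (Cfsg.inndiagPOmegaMinus m F a b)
        (Cfsg.Inn (Cfsg.POmega F (Cfsg.quadFormMinus m F a b))) x = 1 := by
  classical
  have hQnd := minusQ_nondeg_of_aniso m a b hab
  have h7 : 7 ≤ Fintype.card ((Fin m ⊕ Fin m) ⊕ Fin 2) := by
    rw [card_minus_index]
    omega
  obtain ⟨g, σ, hσ, hp, hi⟩ := exists_pair_of_fieldAutClass hm a b hab x hx
  have hxr' : x ^ r = 1 := by rw [← hxr]; exact pow_orderOf_eq_one x
  -- the order of `σ`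
  have hσord : orderOf (σ : RingAut F) = r := by
    obtain ⟨gr, -, hpr, hir⟩ := pair_pow (Cfsg.quadFormMinus m F a b) g σ x hp hi r
    rw [hxr'] at hir
    obtain ⟨hσr, -⟩ := pair_faithful (minusQ m F a b) hQnd h7 gr _ hpr hir
    have h1 : orderOf (σ : RingAut F) ∣ r := orderOf_dvd_of_pow_eq_one hσr
    rcases (Nat.dvd_prime hr).mp h1 with h | h
    · exfalso
      apply hσ
      exact orderOf_eq_one_iff.mp h
    · exact h
  -- Hilbert 90 and the normal form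
  obtain ⟨u₁, A₁, hA₁⟩ := pair_hilbert90 (minusQ m F a b) hQnd h7 g σ hr.pos hσord x hp hi hxr'
  have hp₁ : Cfsg.IsSemisimilarityPair (Cfsg.quadFormMinus m F a b)
      (Matrix.GeneralLinearGroup.scalar ((Fin m ⊕ Fin m) ⊕ Fin 2) u₁ * g) σ :=
    isSemisimilarityPair_scalar_mul (minusQ m F a b) u₁ g σ hp
  have hi₁ : Cfsg.IsInducedBySemilinearPOmega (Cfsg.quadFormMinus m F a b)
      (Matrix.GeneralLinearGroup.scalar ((Fin m ⊕ Fin m) ⊕ Fin 2) u₁ * g) σ x :=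
    isInduced_scalar_mul _ u₁ g σ x hi
  obtain ⟨M₁, κ₁, α₁, β₁, hκ₁, hM₁, hf₁, han₁⟩ :=
    minus_normal_form a b hab _ σ hr.pos hσord hp₁ A₁ hA₁
  -- the order is odd and divides `f`
  have hrodd : Odd r := by
    rw [← hσord]
    exact odd_orderOf_of_aniso_fixed σ α₁ β₁ han₁
  have hrf : r ∣ f := (card_fixF hF σ hr.pos hσord).1
  -- the subfield
  obtain ⟨j, hj⟩ := exists_embedding_fixF hF σ hr.pos hσord F₀ hF₀
  obtain ⟨a₀, ha₀⟩ := (hj (α₁ : F)).mp ((mem_fixF σ _).mp α₁.2)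
  obtain ⟨b₀, hb₀⟩ := (hj (β₁ : F)).mp ((mem_fixF σ _).mp β₁.2)
  have hab₀ : ∀ z₁ z₂ : F₀, z₁ ^ 2 + a₀ * z₁ * z₂ + b₀ * z₂ ^ 2 = 0 → z₁ = 0 ∧ z₂ = 0 := by
    intro z₁ z₂ hz
    have h1 := congrArg j hz
    rw [map_add, map_add, map_pow, map_mul, map_mul, map_mul, map_pow, ha₀, hb₀, map_zero] at h1
    obtain ⟨e1, e2⟩ := han₁ (j z₁) (j z₂) h1
    exact ⟨j.injective (by rw [e1, map_zero]), j.injective (by rw [e2, map_zero])⟩
  rw [← ha₀, ← hb₀] at hf₁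
  refine ⟨hrodd, hrf, ⟨a₀, b₀, hab₀, ?_⟩, ?_⟩
  · exact nonempty_centralizer_equiv_minus hm j a₀ b₀ hab₀ a b hab M₁ κ₁ hκ₁ hf₁ σ hr.pos hσord hj
      _ hM₁ x hp₁ hi₁
  · apply Cfsg.Agent.Lib.Helper43.splitClassCount_eq_one_of_cover
    intro a' ha'
    by_cases h2 : (2 : F) = 0
    · refine ⟨1, Subgroup.one_mem _, ?_⟩
      rw [mul_one]
      exact inndiag_minus_le_Inn_of_two hm a b hab h2 ha'
    · exact cover_minus_odd hm j a₀ b₀ hab₀ a b hab M₁ κ₁ hκ₁ hf₁ σ hrodd hσord hj _ hM₁ x hp₁ hi₁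
        h2 a' ha'

end main

end Cfsg.Agent.Lib.Helper13
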