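import Mathlib
import Cfsg.Agent.Lib.Helper13.MinusCent6
import Cfsg.Agent.Lib.Helper36.LocalBalance.FieldE

set_option autoImplicit false
set_option linter.unusedSectionVars false
set_option linter.style.haveILetI false

/-!
helper13: local balance for field automorphisms of `PΩ⁻_{2m+2}(F)`, part 1: the subgroup
`E = image of Ω(Q₀)` (the form over the fixed field) inside `Inn ⊓ C(x)`.
-/

namespace Cfsg.Agent.Lib.Helper13

open Matrix Module Cfsg.Agent.S0791 Cfsg.Agent.Lib.Helper36 Cfsg.Agent.Lib.Helper36.AutO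
  Cfsg.Agent.Lib.Helper44 Cfsg.Agent.Lib.Helper45.PSLField Cfsg.Agent.Lib.Helper36.LocalBalance

section sub

universe u u₀

variable {F : Type u} [Field F] [Fintype F] {F₀ : Type u₀} [Field F₀] [Fintype F₀] {m : ℕ}

/-- `subHom` maps isometries to isometries -/
theorem subHom_mem_isometryGroup (j : F₀ →+* F) (a₀ b₀ : F₀) (a b : F)
    (M : GL ((Fin m ⊕ Fin m) ⊕ Fin 2) F) (κ : F)
    (hM : ∀ w, Cfsg.quadFormMinus m F a b
      ((M : Matrix ((Fin m ⊕ Fin m) ⊕ Fin 2) ((Fin m ⊕ Fin m) ⊕ Fin 2) F) *ᵥ w) =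
        κ * Cfsg.quadFormMinus m F (j a₀) (j b₀) w)
    (A : ↥(Cfsg.Geo.quadSimilarityGroup (Cfsg.quadFormMinus m F₀ a₀ b₀)))
    (hA : (A : GL ((Fin m ⊕ Fin m) ⊕ Fin 2) F₀) ∈
      Cfsg.isometryGroup F₀ (Cfsg.quadFormMinus m F₀ a₀ b₀)) :
    ((subHom j a₀ b₀ a b M κ hM A :
      ↥(Cfsg.Geo.quadSimilarityGroup (Cfsg.quadFormMinus m F a b))) :
      GL ((Fin m ⊕ Fin m) ⊕ Fin 2) F) ∈ Cfsg.isometryGroup F (Cfsg.quadFormMinus m F a b) := by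
  rw [mem_isometryGroup_iff']
  intro v
  have h1 := subHom_similarity j a₀ b₀ a b M κ hM A 1
    (fun v => by rw [one_mul]; exact (mem_isometryGroup_iff' _ _).mp hA v) v
  rw [map_one, one_mul] at h1
  exact h1

/-- the restriction of `subHom` to the isometry groups -/
noncomputable def isoSubM (j : F₀ →+* F) (a₀ b₀ : F₀) (a b : F)
    (M : GL ((Fin m ⊕ Fin m) ⊕ Fin 2) F) (κ : F)
    (hM : ∀ w, Cfsg.quadFormMinus m F a b
      ((M : Matrix ((Fin m ⊕ Fin m) ⊕ Fin 2) ((Fin m ⊕ Fin m) ⊕ Fin 2) F) *ᵥ w) =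
        κ * Cfsg.quadFormMinus m F (j a₀) (j b₀) w) :
    ↥(Cfsg.isometryGroup F₀ (Cfsg.quadFormMinus m F₀ a₀ b₀)) →*
      ↥(Cfsg.isometryGroup F (Cfsg.quadFormMinus m F a b)) :=
  MonoidHom.mk' (fun s => ⟨((subHom j a₀ b₀ a b M κ hM
      ⟨(s : GL ((Fin m ⊕ Fin m) ⊕ Fin 2) F₀), isometryGroup_le_similarity _ s.2⟩ :
      ↥(Cfsg.Geo.quadSimilarityGroup (Cfsg.quadFormMinus m F a b))) :
      GL ((Fin m ⊕ Fin m) ⊕ Fin 2) F),
    subHom_mem_isometryGroup j a₀ b₀ a b M κ hM _ s.2⟩)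
    (by
      intro s t
      apply Subtype.ext
      have e : (⟨((s * t : ↥(Cfsg.isometryGroup F₀ (Cfsg.quadFormMinus m F₀ a₀ b₀))) :
          GL ((Fin m ⊕ Fin m) ⊕ Fin 2) F₀), isometryGroup_le_similarity _ (s * t).2⟩ :
          ↥(Cfsg.Geo.quadSimilarityGroup (Cfsg.quadFormMinus m F₀ a₀ b₀))) =
          ⟨(s : GL ((Fin m ⊕ Fin m) ⊕ Fin 2) F₀), isometryGroup_le_similarity _ s.2⟩ *
          ⟨(t : GL ((Fin m ⊕ Fin m) ⊕ Fin 2) F₀), isometryGroup_le_similarity _ t.2⟩ := rfl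
      change ((subHom j a₀ b₀ a b M κ hM _ :
        ↥(Cfsg.Geo.quadSimilarityGroup (Cfsg.quadFormMinus m F a b))) :
        GL ((Fin m ⊕ Fin m) ⊕ Fin 2) F) = _
      rw [e, map_mul]
      rfl)

theorem isoSubM_coe (j : F₀ →+* F) (a₀ b₀ : F₀) (a b : F)
    (M : GL ((Fin m ⊕ Fin m) ⊕ Fin 2) F) (κ : F)
    (hM : ∀ w, Cfsg.quadFormMinus m F a b
      ((M : Matrix ((Fin m ⊕ Fin m) ⊕ Fin 2) ((Fin m ⊕ Fin m) ⊕ Fin 2) F) *ᵥ w) =
        κ * Cfsg.quadFormMinus m F (j a₀) (j b₀) w)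
    (s : ↥(Cfsg.isometryGroup F₀ (Cfsg.quadFormMinus m F₀ a₀ b₀))) :
    ((isoSubM j a₀ b₀ a b M κ hM s : ↥(Cfsg.isometryGroup F (Cfsg.quadFormMinus m F a b))) :
      GL ((Fin m ⊕ Fin m) ⊕ Fin 2) F) =
    ((subHom j a₀ b₀ a b M κ hM
      ⟨(s : GL ((Fin m ⊕ Fin m) ⊕ Fin 2) F₀), isometryGroup_le_similarity _ s.2⟩ :
      ↥(Cfsg.Geo.quadSimilarityGroup (Cfsg.quadFormMinus m F a b))) :
      GL ((Fin m ⊕ Fin m) ⊕ Fin 2) F) := rfl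

/-- `subHom` maps `Ω(Q₀)` into `Ω(Q)` -/
theorem subHom_mem_OmegaGL (j : F₀ →+* F) (a₀ b₀ : F₀) (a b : F)
    (M : GL ((Fin m ⊕ Fin m) ⊕ Fin 2) F) (κ : F)
    (hM : ∀ w, Cfsg.quadFormMinus m F a b
      ((M : Matrix ((Fin m ⊕ Fin m) ⊕ Fin 2) ((Fin m ⊕ Fin m) ⊕ Fin 2) F) *ᵥ w) =
        κ * Cfsg.quadFormMinus m F (j a₀) (j b₀) w)
    (A : ↥(Cfsg.Geo.quadSimilarityGroup (Cfsg.quadFormMinus m F₀ a₀ b₀)))
    (hA : (A : GL ((Fin m ⊕ Fin m) ⊕ Fin 2) F₀) ∈ OmegaGL (Cfsg.quadFormMinus m F₀ a₀ b₀)) :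
    ((subHom j a₀ b₀ a b M κ hM A :
      ↥(Cfsg.Geo.quadSimilarityGroup (Cfsg.quadFormMinus m F a b))) :
      GL ((Fin m ⊕ Fin m) ⊕ Fin 2) F) ∈ OmegaGL (Cfsg.quadFormMinus m F a b) := by
  obtain ⟨s, hs, hsA⟩ := hA
  refine ⟨isoSubM j a₀ b₀ a b M κ hM s, ?_, ?_⟩
  · have h1 : (commutator ↥(Cfsg.isometryGroup F₀ (Cfsg.quadFormMinus m F₀ a₀ b₀))).map
        (isoSubM j a₀ b₀ a b M κ hM) ≤
        commutator ↥(Cfsg.isometryGroup F (Cfsg.quadFormMinus m F a b)) := by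
      rw [commutator_def, commutator_def, Subgroup.map_commutator]
      exact Subgroup.commutator_mono le_top le_top
    exact h1 ⟨s, hs, rfl⟩
  · rw [Subgroup.coe_subtype] at hsA ⊢
    rw [isoSubM_coe]
    congr 2
    apply Subtype.ext
    exact hsA

end sub

end Cfsg.Agent.Lib.Helper13
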