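import Mathlib
import Cfsg.Agent.Lib.Helper36.EichUnip
import Cfsg.Agent.Lib.Helper44.KESimple

set_option autoImplicit false
set_option linter.unusedSectionVars false
set_option linter.unusedVariables false

/-!
helper13: the commutant of `Ω(Q)` (dimension at least 7, finite field, ALL characteristics)
consists of the scalar matrices.
-/

namespace Cfsg.Agent.Lib.Helper13

open Matrix Cfsg.Agent.Lib.Helper36 Cfsg.Agent.Lib.Helper44

section abs

variable {F V : Type*} [Field F] [AddCommGroup V] [Module F V]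

local notation "pol" => QuadraticMap.polar

/-- a linear map commuting with all Eichler transformations `E(p, s)` (`p, s` singular and
orthogonal) fixes every singular point -/
theorem fix_sing_of_commute_lin [Finite F] [FiniteDimensional F V] (Q : QuadraticForm F V)
    (hQ : (QuadraticMap.polarBilin Q).Nondegenerate) (h5 : 5 ≤ Module.finrank F V)
    (X : V →ₗ[F] V)
    (hX : ∀ p s : V, Q p = 0 → Q s = 0 → pol (⇑Q) p s = 0 →
      ∀ z, X (siegelLin Q p s z) = siegelLin Q p s (X z))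
    (v : V) (hv : Q v = 0) : ∃ c : F, X v = c • v := by
  by_cases hv0 : v = 0
  · exact ⟨0, by rw [hv0, map_zero, smul_zero]⟩
  obtain ⟨q, q', hvq, hvq', hQq, hQq', hqq'⟩ :=
    Cfsg.Agent.S0795.exists_hyp_in_perp Q hQ h5 v hv0
  have hq'q : pol (⇑Q) q' q = 1 := by rw [QuadraticMap.polar_comm]; exact hqq'
  have e1 := hX v q hv hQq hvq q'
  rw [siegelLin_apply, siegelLin_apply, hQq, hqq', hvq'] at e1
  have e2 := hX v q' hv hQq' hvq' q
  rw [siegelLin_apply, siegelLin_apply, hQq', hq'q, hvq] at e2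
  simp only [zero_mul, sub_zero, zero_smul, one_smul, map_add] at e1 e2
  have f1 : X v = pol (⇑Q) q (X q') • v - pol (⇑Q) v (X q') • q := by
    have : X q' + X v = X q' + (pol (⇑Q) q (X q') • v - pol (⇑Q) v (X q') • q) := by
      rw [e1]; abel
    exact add_left_cancel this
  have f2 : X v = pol (⇑Q) q' (X q) • v - pol (⇑Q) v (X q) • q' := by
    have : X q + X v = X q + (pol (⇑Q) q' (X q) • v - pol (⇑Q) v (X q) • q') := by
      rw [e2]; abel
    exact add_left_cancel this
  have hq'q' : pol (⇑Q) q' q' = 0 := by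
    rw [QuadraticMap.polar_self, hQq', smul_zero]
  have g2 : pol (⇑Q) (X v) q' = 0 := by
    rw [f2, QuadraticMap.polar_sub_left, QuadraticMap.polar_smul_left,
      QuadraticMap.polar_smul_left, hvq', hq'q']
    simp
  have g1 : pol (⇑Q) (X v) q' = - pol (⇑Q) v (X q') := by
    rw [f1, QuadraticMap.polar_sub_left, QuadraticMap.polar_smul_left,
      QuadraticMap.polar_smul_left, hvq', hqq']
    simp
  have hcoef : pol (⇑Q) v (X q') = 0 := by
    rw [g2] at g1
    exact neg_eq_zero.1 g1.symm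
  refine ⟨pol (⇑Q) q (X q'), ?_⟩
  rw [f1, hcoef, zero_smul, sub_zero]

end abs

section mat

variable {ι : Type} [Fintype ι] [DecidableEq ι] {F : Type*} [Field F]

local notation "pol" => QuadraticMap.polar

/-- the commutant of the unipotent Eichler matrices `1 + N(p, w)` (`p, w` singular, orthogonal)
is scalar (dimension ≥ 5, any characteristic) -/
theorem scalar_of_commutes_eichN [Fintype F] (Q : QuadraticForm F (ι → F))
    (hQ : (QuadraticMap.polarBilin Q).Nondegenerate) (h5 : 5 ≤ Fintype.card ι)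
    (M : Matrix ι ι F)
    (hM : ∀ p w : ι → F, Q p = 0 → Q w = 0 → pol (⇑Q) p w = 0 →
      M * (1 + eichN (⇑Q) p w) = (1 + eichN (⇑Q) p w) * M) :
    ∃ c : F, M = c • (1 : Matrix ι ι F) := by
  have h5' : 5 ≤ Module.finrank F (ι → F) := by
    rw [Module.finrank_fintype_fun_eq_card]
    exact h5
  have hX : ∀ p s : ι → F, Q p = 0 → Q s = 0 → pol (⇑Q) p s = 0 →
      ∀ z, Matrix.toLin' M (siegelLin Q p s z) = siegelLin Q p s (Matrix.toLin' M z) := by
    intro p s hp hs hps z
    have h1 := hM p s hp hs hps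
    have h2 : ∀ y : ι → F, (1 + eichN (⇑Q) p s) *ᵥ y = siegelLin Q p s y := by
      intro y
      have := one_add_smul_eichN_mulVec Q p s hs 1 y
      rwa [one_smul, one_smul] at this
    rw [Matrix.toLin'_apply, Matrix.toLin'_apply, ← h2, ← h2, Matrix.mulVec_mulVec,
      Matrix.mulVec_mulVec, h1]
  obtain ⟨l, hl⟩ := scalar_of_fix_sing Q hQ h5' (Matrix.toLin' M)
    (fun p hp => fix_sing_of_commute_lin Q hQ h5' (Matrix.toLin' M) hX p hp)
  refine ⟨l, ?_⟩
  apply matrix_eq_of_mulVec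
  intro z
  have := hl z
  rw [Matrix.toLin'_apply] at this
  rw [this, Matrix.smul_mulVec, Matrix.one_mulVec]

/-- **the commutant of `Ω(Q)` is scalar** (dimension ≥ 7, any characteristic) -/
theorem scalar_of_commutes_OmegaGL_all [Fintype F] (Q : QuadraticForm F (ι → F))
    (hQ : (QuadraticMap.polarBilin Q).Nondegenerate) (h7 : 7 ≤ Fintype.card ι)
    (M : Matrix ι ι F)
    (hM : ∀ A : GL ι F, A ∈ OmegaGL (⇑Q) → M * (A : Matrix ι ι F) = (A : Matrix ι ι F) * M) :
    ∃ c : F, M = c • (1 : Matrix ι ι F) := by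
  apply scalar_of_commutes_eichN Q hQ (by omega) M
  intro p w hp hw hpw
  obtain ⟨s', hs'⟩ := exists_Omega_unipotent Q hQ h7 p w hp hw hpw 1
  have hmem : ((s' : ↥(Cfsg.isometryGroup F (⇑Q))) : GL ι F) ∈ OmegaGL (⇑Q) :=
    ⟨(s' : ↥(Cfsg.isometryGroup F (⇑Q))), s'.2, rfl⟩
  have h1 := hM _ hmem
  rw [hs', one_smul] at h1
  exact h1

/-- a non-zero nilpotent Eichler matrix exists (dimension ≥ 5) -/
theorem exists_eichN_ne_zero [Fintype F] (Q : QuadraticForm F (ι → F))
    (hQ : (QuadraticMap.polarBilin Q).Nondegenerate) (h5 : 5 ≤ Fintype.card ι) :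
    ∃ p w : ι → F, Q p = 0 ∧ Q w = 0 ∧ pol (⇑Q) p w = 0 ∧ eichN (⇑Q) p w ≠ 0 := by
  have h5' : 5 ≤ Module.finrank F (ι → F) := by
    rw [Module.finrank_fintype_fun_eq_card]
    exact h5
  obtain ⟨p, hp0, hp⟩ := exists_isotropic Q (by omega : 3 ≤ Module.finrank F (ι → F))
  obtain ⟨q, q', hpq, hpq', hQq, hQq', hqq'⟩ :=
    Cfsg.Agent.S0795.exists_hyp_in_perp Q hQ h5' p hp0
  refine ⟨p, q, hp, hQq, hpq, ?_⟩
  intro h0
  have h1 := eichN_mulVec Q p q q'
  rw [h0, Matrix.zero_mulVec, hqq', hpq', one_smul, zero_smul, sub_zero] at h1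
  exact hp0 h1.symm

end mat

end Cfsg.Agent.Lib.Helper13
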