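import Mathlib
import Cfsg.Agent.Lib.Helper13.MinusLB1
import Cfsg.Agent.Lib.Helper13.MinusLB2
import Cfsg.Agent.Lib.Helper44.POmegaSimple

set_option autoImplicit false
set_option linter.unusedSectionVars false
set_option linter.unusedVariables false
set_option linter.style.haveILetI false

/-!
helper13: local balance for field automorphisms of `PΩ⁻_{2m+2}(F)`, part 3: the subgroup
`E = image of Ω(Q₀)`: it consists of inner automorphisms commuting with `x`, is isomorphic to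
`Inn(PΩ(Q₀))`, simple, non-trivial, and normalised by `Inn ⊓ C(x)`.
-/

namespace Cfsg.Agent.Lib.Helper13

open Matrix Module Cfsg.Agent.S0791 Cfsg.Agent.Lib.Helper36 Cfsg.Agent.Lib.Helper36.AutO
  Cfsg.Agent.Lib.Helper44 Cfsg.Agent.Lib.Helper45.PSLField Cfsg.Agent.Lib.Helper36.LocalBalance

section E

universe u u₀

variable {F : Type u} [Field F] [Fintype F] {F₀ : Type u₀} [Field F₀] [Fintype F₀] {m : ℕ}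

local notation "pol" => QuadraticMap.polar

/-- the image of `Ω(Q₀)` (`Q₀` the minus form over the subfield) in `Aut(PΩ(Q))` -/
noncomputable def EMinus (j : F₀ →+* F) (a₀ b₀ : F₀) (a b : F)
    (M : GL ((Fin m ⊕ Fin m) ⊕ Fin 2) F) (κ : F)
    (hM : ∀ w, Cfsg.quadFormMinus m F a b
      ((M : Matrix ((Fin m ⊕ Fin m) ⊕ Fin 2) ((Fin m ⊕ Fin m) ⊕ Fin 2) F) *ᵥ w) =
        κ * Cfsg.quadFormMinus m F (j a₀) (j b₀) w) :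
    Subgroup (MulAut (Cfsg.POmega F (Cfsg.quadFormMinus m F a b))) :=
  (omegaSim (minusQ m F₀ a₀ b₀)).map
    ((simAut (Cfsg.quadFormMinus m F a b)).comp (subHom j a₀ b₀ a b M κ hM))

variable (j : F₀ →+* F) (a₀ b₀ : F₀) (a b : F)
  (M : GL ((Fin m ⊕ Fin m) ⊕ Fin 2) F) (κ : F)
  (hM : ∀ w, Cfsg.quadFormMinus m F a b
    ((M : Matrix ((Fin m ⊕ Fin m) ⊕ Fin 2) ((Fin m ⊕ Fin m) ⊕ Fin 2) F) *ᵥ w) =
      κ * Cfsg.quadFormMinus m F (j a₀) (j b₀) w)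

theorem mem_omegaSim_minus_iff (A : ↥(Cfsg.Geo.quadSimilarityGroup (Cfsg.quadFormMinus m F₀ a₀ b₀))) :
    A ∈ omegaSim (minusQ m F₀ a₀ b₀) ↔
      (A : GL ((Fin m ⊕ Fin m) ⊕ Fin 2) F₀) ∈ OmegaGL (Cfsg.quadFormMinus m F₀ a₀ b₀) :=
  Iff.rfl

theorem EMinus_le_Inn :
    EMinus j a₀ b₀ a b M κ hM ≤ Cfsg.Inn (Cfsg.POmega F (Cfsg.quadFormMinus m F a b)) := by
  rintro _ ⟨A, hA, rfl⟩
  rw [MonoidHom.comp_apply, Inn_eq]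
  refine ⟨subHom j a₀ b₀ a b M κ hM A, ?_, rfl⟩
  rw [SetLike.mem_coe, Subgroup.mem_subgroupOf]
  exact subHom_mem_OmegaGL j a₀ b₀ a b M κ hM A ((mem_omegaSim_minus_iff a₀ b₀ A).mp hA)

theorem EMinus_le_centralizer (σ : RingAut F) (hj : ∀ c : F₀, σ (j c) = j c)
    (g₁ : GL ((Fin m ⊕ Fin m) ⊕ Fin 2) F)
    (hg₁ : (g₁ : Matrix ((Fin m ⊕ Fin m) ⊕ Fin 2) ((Fin m ⊕ Fin m) ⊕ Fin 2) F) *
      (M : Matrix ((Fin m ⊕ Fin m) ⊕ Fin 2) ((Fin m ⊕ Fin m) ⊕ Fin 2) F).map σ =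
      (M : Matrix ((Fin m ⊕ Fin m) ⊕ Fin 2) ((Fin m ⊕ Fin m) ⊕ Fin 2) F))
    (x : MulAut (Cfsg.POmega F (Cfsg.quadFormMinus m F a b)))
    (hp₁ : Cfsg.IsSemisimilarityPair (Cfsg.quadFormMinus m F a b) g₁ σ)
    (hi₁ : Cfsg.IsInducedBySemilinearPOmega (Cfsg.quadFormMinus m F a b) g₁ σ x) :
    EMinus j a₀ b₀ a b M κ hM ≤ Subgroup.centralizer {x} := by
  rintro _ ⟨A, -, rfl⟩
  exact subHom_mem_centralizer j a₀ b₀ a b M κ hM σ hj g₁ hg₁ x hp₁ hi₁ A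

theorem nonempty_EMinus_equiv (hm : 3 ≤ m)
    (hab₀ : ∀ z₁ z₂ : F₀, z₁ ^ 2 + a₀ * z₁ * z₂ + b₀ * z₂ ^ 2 = 0 → z₁ = 0 ∧ z₂ = 0)
    (hab : ∀ z₁ z₂ : F, z₁ ^ 2 + a * z₁ * z₂ + b * z₂ ^ 2 = 0 → z₁ = 0 ∧ z₂ = 0) :
    Nonempty (↥(EMinus j a₀ b₀ a b M κ hM) ≃*
      ↥(Cfsg.Inn (Cfsg.POmega F₀ (Cfsg.quadFormMinus m F₀ a₀ b₀)))) := by
  obtain ⟨e⟩ := nonempty_map_equiv_of_ker_eq
    ((simAut (Cfsg.quadFormMinus m F a b)).comp (subHom j a₀ b₀ a b M κ hM))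
    (simAut (Cfsg.quadFormMinus m F₀ a₀ b₀))
    (ker_simAut_subHom hm j a₀ b₀ hab₀ a b hab M κ hM) (omegaSim (minusQ m F₀ a₀ b₀))
  have h1 : (omegaSim (minusQ m F₀ a₀ b₀)).map (simAut (Cfsg.quadFormMinus m F₀ a₀ b₀)) =
      Cfsg.Inn (Cfsg.POmega F₀ (Cfsg.quadFormMinus m F₀ a₀ b₀)) :=
    (Inn_eq (Cfsg.quadFormMinus m F₀ a₀ b₀)).symm
  exact ⟨e.trans (MulEquiv.subgroupCongr h1)⟩

/-- the unipotent Eichler elements of `Ω(Q₀)` as elements of the similarity group -/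
theorem exists_omegaSim_unipotent (hm : 3 ≤ m)
    (hab₀ : ∀ z₁ z₂ : F₀, z₁ ^ 2 + a₀ * z₁ * z₂ + b₀ * z₂ ^ 2 = 0 → z₁ = 0 ∧ z₂ = 0)
    (p w : (Fin m ⊕ Fin m) ⊕ Fin 2 → F₀) (hp : minusQ m F₀ a₀ b₀ p = 0)
    (hw : minusQ m F₀ a₀ b₀ w = 0) (hpw : pol (⇑(minusQ m F₀ a₀ b₀)) p w = 0) (t : F₀) :
    ∃ A : ↥(Cfsg.Geo.quadSimilarityGroup (Cfsg.quadFormMinus m F₀ a₀ b₀)),
      A ∈ omegaSim (minusQ m F₀ a₀ b₀) ∧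
      ((A : GL ((Fin m ⊕ Fin m) ⊕ Fin 2) F₀) :
        Matrix ((Fin m ⊕ Fin m) ⊕ Fin 2) ((Fin m ⊕ Fin m) ⊕ Fin 2) F₀) =
        1 + t • eichN (Cfsg.quadFormMinus m F₀ a₀ b₀) p w := by
  have h7 : 7 ≤ Fintype.card ((Fin m ⊕ Fin m) ⊕ Fin 2) := by
    rw [card_minus_index]
    omega
  obtain ⟨s, hs⟩ := exists_Omega_unipotent (minusQ m F₀ a₀ b₀)
    (minusQ_nondeg_of_aniso m a₀ b₀ hab₀) h7 p w hp hw hpw t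
  have hmem : (s.1.1 : GL ((Fin m ⊕ Fin m) ⊕ Fin 2) F₀) ∈
      OmegaGL (Cfsg.quadFormMinus m F₀ a₀ b₀) := ⟨s.1, s.2, rfl⟩
  refine ⟨⟨_, isometryGroup_le_similarity _ (OmegaGL_le_isometryGroup _ hmem)⟩, ?_, hs⟩
  rw [mem_omegaSim_minus_iff]
  exact hmem

theorem EMinus_ne_bot (hm : 3 ≤ m)
    (hab₀ : ∀ z₁ z₂ : F₀, z₁ ^ 2 + a₀ * z₁ * z₂ + b₀ * z₂ ^ 2 = 0 → z₁ = 0 ∧ z₂ = 0)
    (hab : ∀ z₁ z₂ : F, z₁ ^ 2 + a * z₁ * z₂ + b * z₂ ^ 2 = 0 → z₁ = 0 ∧ z₂ = 0) :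
    EMinus j a₀ b₀ a b M κ hM ≠ ⊥ := by
  have h7 : 7 ≤ Fintype.card ((Fin m ⊕ Fin m) ⊕ Fin 2) := by
    rw [card_minus_index]
    omega
  have hnd₀ := minusQ_nondeg_of_aniso m a₀ b₀ hab₀
  obtain ⟨p, w, hp, hw, hpw, hN⟩ := exists_eichN_ne_zero (minusQ m F₀ a₀ b₀) hnd₀ (by omega)
  obtain ⟨A, hAmem, hAmat⟩ := exists_omegaSim_unipotent a₀ b₀ hm hab₀ p w hp hw hpw 1
  intro hbot
  have he : ((simAut (Cfsg.quadFormMinus m F a b)).comp (subHom j a₀ b₀ a b M κ hM)) A ∈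
      EMinus j a₀ b₀ a b M κ hM := ⟨A, hAmem, rfl⟩
  rw [hbot, Subgroup.mem_bot, ← MonoidHom.mem_ker,
    ker_simAut_subHom hm j a₀ b₀ hab₀ a b hab M κ hM, MonoidHom.mem_ker] at he
  obtain ⟨c, hc⟩ := (simAut_eq_one_iff (minusQ m F₀ a₀ b₀) hnd₀ h7 A).mp he
  rw [hAmat, one_smul] at hc
  have hNN := eichN_mul_self (minusQ m F₀ a₀ b₀) p w hp hw hpw
  set N₀ := eichN (Cfsg.quadFormMinus m F₀ a₀ b₀) p w with hN₀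
  have h1 : N₀ = (c - 1) • (1 : Matrix ((Fin m ⊕ Fin m) ⊕ Fin 2) ((Fin m ⊕ Fin m) ⊕ Fin 2) F₀) := by
    rw [sub_smul, one_smul, ← hc]
    abel
  have hNN' : N₀ * N₀ = 0 := hNN
  have h3 := congrFun (congrFun hNN' (Sum.inr 0)) (Sum.inr 0)
  rw [h1, Matrix.smul_mul, Matrix.mul_smul, Matrix.one_mul, smul_smul, Matrix.smul_apply,
    Matrix.one_apply_eq, Matrix.zero_apply, smul_eq_mul, mul_one] at h3
  have h4 : c - 1 = 0 := by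
    rcases mul_eq_zero.mp h3 with h | h <;> exact h
  apply hN
  show N₀ = 0
  rw [h1, h4, zero_smul]

theorem EMinus_normalized (hm : 3 ≤ m)
    (hab : ∀ z₁ z₂ : F, z₁ ^ 2 + a * z₁ * z₂ + b * z₂ ^ 2 = 0 → z₁ = 0 ∧ z₂ = 0)
    (hκ : κ ≠ 0) (σ : RingAut F) {r : ℕ} (hr : 0 < r) (hσ : orderOf σ = r)
    (hj : ∀ c : F, σ c = c ↔ ∃ d, j d = c)
    (g₁ : GL ((Fin m ⊕ Fin m) ⊕ Fin 2) F)
    (hg₁ : (g₁ : Matrix ((Fin m ⊕ Fin m) ⊕ Fin 2) ((Fin m ⊕ Fin m) ⊕ Fin 2) F) *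
      (M : Matrix ((Fin m ⊕ Fin m) ⊕ Fin 2) ((Fin m ⊕ Fin m) ⊕ Fin 2) F).map σ =
      (M : Matrix ((Fin m ⊕ Fin m) ⊕ Fin 2) ((Fin m ⊕ Fin m) ⊕ Fin 2) F))
    (x : MulAut (Cfsg.POmega F (Cfsg.quadFormMinus m F a b)))
    (hp₁ : Cfsg.IsSemisimilarityPair (Cfsg.quadFormMinus m F a b) g₁ σ)
    (hi₁ : Cfsg.IsInducedBySemilinearPOmega (Cfsg.quadFormMinus m F a b) g₁ σ x) :
    ∀ β ∈ Cfsg.Inn (Cfsg.POmega F (Cfsg.quadFormMinus m F a b)) ⊓ Subgroup.centralizer {x},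
      ∀ e ∈ EMinus j a₀ b₀ a b M κ hM, β * e * β⁻¹ ∈ EMinus j a₀ b₀ a b M κ hM := by
  intro β hβ e he
  have h1 : β ∈ Cfsg.pgoAut F (Cfsg.quadFormMinus m F a b) := Inn_le_pgoAut' _ hβ.1
  rw [pgoAut_eq] at h1
  obtain ⟨h, rfl⟩ := h1
  obtain ⟨B, hB⟩ := exists_subHom_of_mem_centralizer hm j a₀ b₀ a b hab M κ hκ hM σ hr hσ hj
    g₁ hg₁ x hp₁ hi₁ h hβ.2
  obtain ⟨A, hA, rfl⟩ := he
  refine ⟨B * A * B⁻¹, conj_mem_omegaSim (minusQ m F₀ a₀ b₀) B A hA, ?_⟩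
  rw [map_mul, map_mul, map_inv, MonoidHom.comp_apply, MonoidHom.comp_apply, hB]

end E

end Cfsg.Agent.Lib.Helper13
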