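import Mathlib
import Cfsg.Agent.Lib.Helper13.MinusLB3
import Cfsg.Agent.Lib.Helper36.LocalBalance.PSpCent
import Cfsg.Agent.Lib.Helper36.LocalBalance.Decomp
import Cfsg.Agent.Lib.Helper36.LocalBalance.Galois
import Cfsg.Agent.S2696

set_option autoImplicit false
set_option linter.unusedSectionVars false
set_option linter.unusedVariables false
set_option linter.style.haveILetI false

/-!
helper13: local balance for field automorphisms of `PΩ⁻_{2m+2}(F)`, part 4: the centraliser of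
`E = image of Ω(Q₀)` in `Aut(PΩ(Q))` is contained in `⟨x⟩`.
-/

namespace Cfsg.Agent.Lib.Helper13

open Matrix Module Cfsg.Agent.S0791 Cfsg.Agent.Lib.Helper36 Cfsg.Agent.Lib.Helper36.AutO
  Cfsg.Agent.Lib.Helper44 Cfsg.Agent.Lib.Helper45.PSLField Cfsg.Agent.Lib.Helper36.LocalBalance

section gen

variable {ι : Type} [Fintype ι] [DecidableEq ι] {F : Type*} [Field F] [Fintype F]

/-- an automorphism induced by a pair `(g, τ)` commuting with the automorphism induced by a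
similarity `h`: then `g τ(h) g⁻¹` is a scalar multiple of `h` -/
theorem semicomm_of_comm_simAut (Q : QuadraticForm F (ι → F))
    (hQ : (QuadraticMap.polarBilin Q).Nondegenerate) (h7 : 7 ≤ Fintype.card ι)
    (g : GL ι F) (τ : F ≃+* F) (α : MulAut (Cfsg.POmega F (⇑Q)))
    (hp : Cfsg.IsSemisimilarityPair (⇑Q) g τ)
    (hi : Cfsg.IsInducedBySemilinearPOmega (⇑Q) g τ α)
    (h : ↥(Cfsg.Geo.quadSimilarityGroup (⇑Q)))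
    (hα : α * simAut (⇑Q) h = simAut (⇑Q) h * α) :
    ∃ l : F, ((g * glMap τ (h : GL ι F) * g⁻¹ : GL ι F) : Matrix ι ι F) =
      l • ((h : GL ι F) : Matrix ι ι F) := by
  obtain ⟨c, hc⟩ := hp
  have hc' : ∀ w : ι → F, (⇑Q) ((g : Matrix ι ι F) *ᵥ vmap τ w) = (c : F) * τ ((⇑Q) w) := hc
  obtain ⟨μ, hμ⟩ := h.2
  have hmem : g * glMap τ (h : GL ι F) * g⁻¹ ∈ Cfsg.Geo.quadSimilarityGroup (⇑Q) :=
    ⟨Units.map (τ : F →* F) μ, fun v => conj_similarity (⇑Q) g τ (c : F) hc' (h : GL ι F) (μ : F)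
      hμ v⟩
  have hconj := conj_simAut (⇑Q) g τ ⟨c, hc⟩ α hi h ⟨_, hmem⟩ rfl
  have h1 : simAut (⇑Q) (⟨_, hmem⟩ : ↥(Cfsg.Geo.quadSimilarityGroup (⇑Q))) = simAut (⇑Q) h := by
    rw [← hconj, hα, mul_inv_cancel_right]
  have h2 : simAut (⇑Q) (h⁻¹ * (⟨_, hmem⟩ : ↥(Cfsg.Geo.quadSimilarityGroup (⇑Q)))) = 1 := by
    rw [map_mul, map_inv, h1, inv_mul_cancel]
  obtain ⟨l, hl⟩ := (simAut_eq_one_iff Q hQ h7 _).mp h2
  refine ⟨l, ?_⟩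
  have h3 : ((g * glMap τ (h : GL ι F) * g⁻¹ : GL ι F) : Matrix ι ι F) =
      ((h : GL ι F) : Matrix ι ι F) *
        (((h : GL ι F)⁻¹ * (g * glMap τ (h : GL ι F) * g⁻¹) : GL ι F) : Matrix ι ι F) := by
    rw [← Units.val_mul, mul_inv_cancel_left]
  rw [h3]
  have hl' : (((h : GL ι F)⁻¹ * (g * glMap τ (h : GL ι F) * g⁻¹) : GL ι F) : Matrix ι ι F) =
      l • (1 : Matrix ι ι F) := hl
  rw [hl', Matrix.mul_smul, Matrix.mul_one]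

end gen

section minus

universe u u₀

variable {F : Type u} [Field F] [Fintype F] {F₀ : Type u₀} [Field F₀] [Fintype F₀] {m : ℕ}

local notation "pol" => QuadraticMap.polar

variable (j : F₀ →+* F) (a₀ b₀ : F₀) (a b : F)
  (M : GL ((Fin m ⊕ Fin m) ⊕ Fin 2) F) (κ : F)
  (hM : ∀ w, Cfsg.quadFormMinus m F a b
    ((M : Matrix ((Fin m ⊕ Fin m) ⊕ Fin 2) ((Fin m ⊕ Fin m) ⊕ Fin 2) F) *ᵥ w) =
      κ * Cfsg.quadFormMinus m F (j a₀) (j b₀) w)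

/-- matrix form of commuting with one element of the image of `subHom` -/
theorem semicomm_subHom (hm : 3 ≤ m)
    (hab : ∀ z₁ z₂ : F, z₁ ^ 2 + a * z₁ * z₂ + b * z₂ ^ 2 = 0 → z₁ = 0 ∧ z₂ = 0)
    (g : GL ((Fin m ⊕ Fin m) ⊕ Fin 2) F) (τ : F ≃+* F)
    (α : MulAut (Cfsg.POmega F (Cfsg.quadFormMinus m F a b)))
    (hp : Cfsg.IsSemisimilarityPair (Cfsg.quadFormMinus m F a b) g τ)
    (hi : Cfsg.IsInducedBySemilinearPOmega (Cfsg.quadFormMinus m F a b) g τ α)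
    (A : ↥(Cfsg.Geo.quadSimilarityGroup (Cfsg.quadFormMinus m F₀ a₀ b₀)))
    (hα : α * simAut (Cfsg.quadFormMinus m F a b) (subHom j a₀ b₀ a b M κ hM A) =
      simAut (Cfsg.quadFormMinus m F a b) (subHom j a₀ b₀ a b M κ hM A) * α) :
    ∃ l : F, ((M⁻¹ * g * glMap τ M : GL ((Fin m ⊕ Fin m) ⊕ Fin 2) F) :
        Matrix ((Fin m ⊕ Fin m) ⊕ Fin 2) ((Fin m ⊕ Fin m) ⊕ Fin 2) F) *
        (((A : GL ((Fin m ⊕ Fin m) ⊕ Fin 2) F₀) :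
          Matrix ((Fin m ⊕ Fin m) ⊕ Fin 2) ((Fin m ⊕ Fin m) ⊕ Fin 2) F₀).map j).map τ =
      l • ((((A : GL ((Fin m ⊕ Fin m) ⊕ Fin 2) F₀) :
          Matrix ((Fin m ⊕ Fin m) ⊕ Fin 2) ((Fin m ⊕ Fin m) ⊕ Fin 2) F₀).map j) *
        ((M⁻¹ * g * glMap τ M : GL ((Fin m ⊕ Fin m) ⊕ Fin 2) F) :
        Matrix ((Fin m ⊕ Fin m) ⊕ Fin 2) ((Fin m ⊕ Fin m) ⊕ Fin 2) F)) := by
  have h7 : 7 ≤ Fintype.card ((Fin m ⊕ Fin m) ⊕ Fin 2) := by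
    rw [card_minus_index]
    omega
  obtain ⟨l, hl⟩ := semicomm_of_comm_simAut (minusQ m F a b) (minusQ_nondeg_of_aniso m a b hab) h7
    g τ α hp hi (subHom j a₀ b₀ a b M κ hM A) hα
  refine ⟨l, ?_⟩
  set Aj : GL ((Fin m ⊕ Fin m) ⊕ Fin 2) F :=
    Matrix.GeneralLinearGroup.map j (A : GL ((Fin m ⊕ Fin m) ⊕ Fin 2) F₀) with hAj
  set gt : GL ((Fin m ⊕ Fin m) ⊕ Fin 2) F := M⁻¹ * g * glMap τ M with hgt
  have hS : ((subHom j a₀ b₀ a b M κ hM A :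
      ↥(Cfsg.Geo.quadSimilarityGroup (Cfsg.quadFormMinus m F a b))) :
      GL ((Fin m ⊕ Fin m) ⊕ Fin 2) F) = M * Aj * M⁻¹ := subHom_coe j a₀ b₀ a b M κ hM A
  have hl' : ((g * glMap τ (M * Aj * M⁻¹) * g⁻¹ : GL ((Fin m ⊕ Fin m) ⊕ Fin 2) F) :
      Matrix ((Fin m ⊕ Fin m) ⊕ Fin 2) ((Fin m ⊕ Fin m) ⊕ Fin 2) F) =
      l • ((M * Aj * M⁻¹ : GL ((Fin m ⊕ Fin m) ⊕ Fin 2) F) :
      Matrix ((Fin m ⊕ Fin m) ⊕ Fin 2) ((Fin m ⊕ Fin m) ⊕ Fin 2) F) := by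
    rw [← hS]
    exact hl
  have e1 : g * glMap τ (M * Aj * M⁻¹) * g⁻¹ = M * (gt * glMap τ Aj * gt⁻¹) * M⁻¹ := by
    rw [map_mul, map_mul, map_inv, hgt]
    group
  rw [e1] at hl'
  have e2 : ∀ X : GL ((Fin m ⊕ Fin m) ⊕ Fin 2) F,
      ((M⁻¹ : GL ((Fin m ⊕ Fin m) ⊕ Fin 2) F) :
        Matrix ((Fin m ⊕ Fin m) ⊕ Fin 2) ((Fin m ⊕ Fin m) ⊕ Fin 2) F) *
      ((M * X * M⁻¹ : GL ((Fin m ⊕ Fin m) ⊕ Fin 2) F) :
        Matrix ((Fin m ⊕ Fin m) ⊕ Fin 2) ((Fin m ⊕ Fin m) ⊕ Fin 2) F) *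
      (M : Matrix ((Fin m ⊕ Fin m) ⊕ Fin 2) ((Fin m ⊕ Fin m) ⊕ Fin 2) F) =
      (X : Matrix ((Fin m ⊕ Fin m) ⊕ Fin 2) ((Fin m ⊕ Fin m) ⊕ Fin 2) F) := by
    intro X
    rw [← Units.val_mul, ← Units.val_mul]
    congr 1
    group
  have h4 : ((gt * glMap τ Aj * gt⁻¹ : GL ((Fin m ⊕ Fin m) ⊕ Fin 2) F) :
      Matrix ((Fin m ⊕ Fin m) ⊕ Fin 2) ((Fin m ⊕ Fin m) ⊕ Fin 2) F) =
      l • (Aj : Matrix ((Fin m ⊕ Fin m) ⊕ Fin 2) ((Fin m ⊕ Fin m) ⊕ Fin 2) F) := by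
    rw [← e2 (gt * glMap τ Aj * gt⁻¹), hl', Matrix.mul_smul, Matrix.smul_mul, e2]
  have h5 : ((gt * glMap τ Aj : GL ((Fin m ⊕ Fin m) ⊕ Fin 2) F) :
      Matrix ((Fin m ⊕ Fin m) ⊕ Fin 2) ((Fin m ⊕ Fin m) ⊕ Fin 2) F) =
      ((gt * glMap τ Aj * gt⁻¹ : GL ((Fin m ⊕ Fin m) ⊕ Fin 2) F) :
      Matrix ((Fin m ⊕ Fin m) ⊕ Fin 2) ((Fin m ⊕ Fin m) ⊕ Fin 2) F) *
      (gt : Matrix ((Fin m ⊕ Fin m) ⊕ Fin 2) ((Fin m ⊕ Fin m) ⊕ Fin 2) F) := by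
    rw [← Units.val_mul, inv_mul_cancel_right]
  rw [h4, Units.val_mul, glMap_coe, Matrix.smul_mul] at h5
  exact h5

/-- **matrix form of the centraliser of `E`**: a pair `(g, τ)` inducing an automorphism that
commutes with `E` has `τ` trivial on the subfield and `M⁻¹ g τ(M)` scalar -/
theorem cent_EMinus_matrix (hm : 3 ≤ m)
    (hab₀ : ∀ z₁ z₂ : F₀, z₁ ^ 2 + a₀ * z₁ * z₂ + b₀ * z₂ ^ 2 = 0 → z₁ = 0 ∧ z₂ = 0)
    (hab : ∀ z₁ z₂ : F, z₁ ^ 2 + a * z₁ * z₂ + b * z₂ ^ 2 = 0 → z₁ = 0 ∧ z₂ = 0)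
    (g : GL ((Fin m ⊕ Fin m) ⊕ Fin 2) F) (τ : F ≃+* F)
    (α : MulAut (Cfsg.POmega F (Cfsg.quadFormMinus m F a b)))
    (hp : Cfsg.IsSemisimilarityPair (Cfsg.quadFormMinus m F a b) g τ)
    (hi : Cfsg.IsInducedBySemilinearPOmega (Cfsg.quadFormMinus m F a b) g τ α)
    (hα : ∀ e ∈ EMinus j a₀ b₀ a b M κ hM, α * e = e * α) :
    (∀ t : F₀, τ (j t) = j t) ∧
      ∃ c : F, ((M⁻¹ * g * glMap τ M : GL ((Fin m ⊕ Fin m) ⊕ Fin 2) F) :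
        Matrix ((Fin m ⊕ Fin m) ⊕ Fin 2) ((Fin m ⊕ Fin m) ⊕ Fin 2) F) =
        c • (1 : Matrix ((Fin m ⊕ Fin m) ⊕ Fin 2) ((Fin m ⊕ Fin m) ⊕ Fin 2) F) := by
  have h7 : 7 ≤ Fintype.card ((Fin m ⊕ Fin m) ⊕ Fin 2) := by
    rw [card_minus_index]
    omega
  have hne : Nonempty ((Fin m ⊕ Fin m) ⊕ Fin 2) := ⟨Sum.inr 0⟩
  have hnd₀ := minusQ_nondeg_of_aniso m a₀ b₀ hab₀
  obtain ⟨p₀, w₀, hp₀, hw₀, hpw₀, hN₀⟩ := exists_eichN_ne_zero (minusQ m F₀ a₀ b₀) hnd₀ (by omega)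
  apply cent_matrix j τ (M⁻¹ * g * glMap τ M)
    {X | ∃ (p w : (Fin m ⊕ Fin m) ⊕ Fin 2 → F₀) (t : F₀), minusQ m F₀ a₀ b₀ p = 0 ∧
      minusQ m F₀ a₀ b₀ w = 0 ∧ pol (⇑(minusQ m F₀ a₀ b₀)) p w = 0 ∧
      X = 1 + t • eichN (⇑(minusQ m F₀ a₀ b₀)) p w} ?_
    (eichN (⇑(minusQ m F₀ a₀ b₀)) p₀ w₀) hN₀ (fun t => ⟨p₀, w₀, t, hp₀, hw₀, hpw₀, rfl⟩) ?_
  · rintro X ⟨p, w, t, hp', hw', hpw', rfl⟩
    obtain ⟨A, hAmem, hAmat⟩ := exists_omegaSim_unipotent a₀ b₀ hm hab₀ p w hp' hw' hpw' t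
    obtain ⟨l, hl⟩ := semicomm_subHom j a₀ b₀ a b M κ hM hm hab g τ α hp hi A
      (hα _ ⟨A, hAmem, rfl⟩)
    rw [hAmat] at hl
    set N : Matrix ((Fin m ⊕ Fin m) ⊕ Fin 2) ((Fin m ⊕ Fin m) ⊕ Fin 2) F :=
      (t • eichN (Cfsg.quadFormMinus m F₀ a₀ b₀) p w).map j with hN
    have hT : (1 + t • eichN (Cfsg.quadFormMinus m F₀ a₀ b₀) p w).map j = 1 + N := by
      rw [Matrix.map_add _ (map_add j), Matrix.map_one _ (map_zero j) (map_one j)]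
    have hNN : N * N = 0 := by
      have h0 := eichN_mul_self (minusQ m F₀ a₀ b₀) p w hp' hw' hpw'
      have h0' : eichN (Cfsg.quadFormMinus m F₀ a₀ b₀) p w *
          eichN (Cfsg.quadFormMinus m F₀ a₀ b₀) p w = 0 := h0
      rw [hN, ← Matrix.map_mul, Matrix.smul_mul, Matrix.mul_smul, h0', smul_zero, smul_zero,
        Matrix.map_zero _ (map_zero j)]
    have hTτ : (1 + N).map τ = 1 + N.map τ := by
      rw [Matrix.map_add _ (map_add τ), Matrix.map_one _ (map_zero τ) (map_one τ)]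
    have hNN' : N.map τ * N.map τ = 0 := by
      have : (N * N).map τ = N.map τ * N.map τ := Matrix.map_mul (f := ((τ : F ≃+* F) : F →+* F))
      rw [← this, hNN, Matrix.map_zero _ (map_zero τ)]
    rw [hT, hTτ] at hl
    have hl1 : l = 1 := unip_scalar (M⁻¹ * g * glMap τ M) N (N.map τ) hNN hNN' l hl
    rw [hl1, one_smul] at hl
    show _ * ((1 + t • eichN (Cfsg.quadFormMinus m F₀ a₀ b₀) p w).map j).map τ =
      (1 + t • eichN (Cfsg.quadFormMinus m F₀ a₀ b₀) p w).map j * _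
    rw [hT, hTτ]
    exact hl
  · intro X hX
    apply scalar_of_commutes_eichN (minusQ m F₀ a₀ b₀) hnd₀ (by omega) X
    intro p w hp' hw' hpw'
    have := hX _ ⟨p, w, 1, hp', hw', hpw', rfl⟩
    rwa [one_smul] at this

/-- **the centraliser of `E` in `Aut(PΩ⁻)` is contained in `⟨x⟩`** -/
theorem mem_zpowers_of_comm_EMinus (hm : 3 ≤ m)
    (hab₀ : ∀ z₁ z₂ : F₀, z₁ ^ 2 + a₀ * z₁ * z₂ + b₀ * z₂ ^ 2 = 0 → z₁ = 0 ∧ z₂ = 0)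
    (hab : ∀ z₁ z₂ : F, z₁ ^ 2 + a * z₁ * z₂ + b * z₂ ^ 2 = 0 → z₁ = 0 ∧ z₂ = 0)
    (σ : RingAut F) (hj : ∀ c : F, σ c = c ↔ ∃ d, j d = c)
    (g₁ : GL ((Fin m ⊕ Fin m) ⊕ Fin 2) F)
    (hg₁ : (g₁ : Matrix ((Fin m ⊕ Fin m) ⊕ Fin 2) ((Fin m ⊕ Fin m) ⊕ Fin 2) F) *
      (M : Matrix ((Fin m ⊕ Fin m) ⊕ Fin 2) ((Fin m ⊕ Fin m) ⊕ Fin 2) F).map σ =
      (M : Matrix ((Fin m ⊕ Fin m) ⊕ Fin 2) ((Fin m ⊕ Fin m) ⊕ Fin 2) F))
    (x : MulAut (Cfsg.POmega F (Cfsg.quadFormMinus m F a b)))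
    (hp₁ : Cfsg.IsSemisimilarityPair (Cfsg.quadFormMinus m F a b) g₁ σ)
    (hi₁ : Cfsg.IsInducedBySemilinearPOmega (Cfsg.quadFormMinus m F a b) g₁ σ x)
    (α : MulAut (Cfsg.POmega F (Cfsg.quadFormMinus m F a b)))
    (hα : ∀ e ∈ EMinus j a₀ b₀ a b M κ hM, α * e = e * α) :
    α ∈ Subgroup.zpowers x := by
  have h7 : 7 ≤ Fintype.card ((Fin m ⊕ Fin m) ⊕ Fin 2) := by
    rw [card_minus_index]
    omega
  have hnd := minusQ_nondeg_of_aniso m a b hab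
  have hj' : ∀ c : F₀, σ (j c) = j c := fun c => (hj (j c)).mpr ⟨c, rfl⟩
  have htop := Cfsg.Agent.S2696.result hm a b hab
  have hmem : α ∈ Cfsg.gammaPOmega F (Cfsg.quadFormMinus m F a b) := by
    rw [htop]
    exact Subgroup.mem_top _
  obtain ⟨g, τ, hp, hi⟩ := (mem_gammaPOmega_iff _ α).mp hmem
  obtain ⟨hτ, -⟩ := cent_EMinus_matrix j a₀ b₀ a b M κ hM hm hab₀ hab g τ α hp hi hα
  have hτσ : τ ∈ Subgroup.zpowers σ := by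
    apply mem_zpowers_of_fixes
    intro y hy
    obtain ⟨d, rfl⟩ := (hj y).mp hy
    exact hτ d
  have hfin : Finite (RingAut F) :=
    Finite.of_injective (fun e : RingAut F => (e : F → F)) DFunLike.coe_injective
  obtain ⟨n, hn⟩ : ∃ n : ℕ, σ ^ n = τ :=
    (Submonoid.mem_powers_iff τ σ).mp (mem_powers_iff_mem_zpowers.mpr hτσ)
  obtain ⟨gn, -, hpn, hin⟩ := pair_pow (Cfsg.quadFormMinus m F a b) g₁ σ x hp₁ hi₁ n
  rw [hn] at hpn hin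
  have hpinv := isSemisimilarityPair_inv (Cfsg.quadFormMinus m F a b) gn τ hpn
  have hiinv := isInduced_inv (Cfsg.quadFormMinus m F a b) gn τ (x ^ n) hin
  have hp' := isSemisimilarityPair_mul (Cfsg.quadFormMinus m F a b) g _ τ τ.symm hp hpinv
  have hi' := isInduced_mul (Cfsg.quadFormMinus m F a b) g _ τ τ.symm α (x ^ n)⁻¹ hpinv hi hiinv
  have e2 : τ.symm.trans τ = RingEquiv.refl F := RingEquiv.ext fun y => τ.apply_symm_apply y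
  rw [glMap_glMap_symm, e2] at hp' hi'
  -- the quotient commutes with `E`
  have hα' : ∀ e ∈ EMinus j a₀ b₀ a b M κ hM, (α * (x ^ n)⁻¹) * e = e * (α * (x ^ n)⁻¹) := by
    intro e he
    have hxe : Commute x e := by
      have := EMinus_le_centralizer j a₀ b₀ a b M κ hM σ hj' g₁ hg₁ x hp₁ hi₁ he
      rw [Subgroup.mem_centralizer_iff] at this
      exact this x rfl
    have h1 : Commute (x ^ n)⁻¹ e := (hxe.pow_left n).inv_left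
    have h2 : Commute α e := hα e he
    exact (h2.mul_left h1)
  obtain ⟨-, c', hc'⟩ := cent_EMinus_matrix j a₀ b₀ a b M κ hM hm hab₀ hab (g * gn⁻¹)
    (RingEquiv.refl F) (α * (x ^ n)⁻¹) hp' hi' hα'
  rw [glMap_refl] at hc'
  have hsc : ((g * gn⁻¹ : GL ((Fin m ⊕ Fin m) ⊕ Fin 2) F) :
      Matrix ((Fin m ⊕ Fin m) ⊕ Fin 2) ((Fin m ⊕ Fin m) ⊕ Fin 2) F) =
      c' • (1 : Matrix ((Fin m ⊕ Fin m) ⊕ Fin 2) ((Fin m ⊕ Fin m) ⊕ Fin 2) F) := by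
    have e3 : (g * gn⁻¹ : GL ((Fin m ⊕ Fin m) ⊕ Fin 2) F) =
        M * (M⁻¹ * (g * gn⁻¹) * M) * M⁻¹ := by group
    rw [e3, Units.val_mul, Units.val_mul, hc', Matrix.mul_smul, Matrix.mul_one, Matrix.smul_mul,
      ← Units.val_mul, mul_inv_cancel, Units.val_one]
  have hsim : g * gn⁻¹ ∈ Cfsg.Geo.quadSimilarityGroup (Cfsg.quadFormMinus m F a b) := by
    obtain ⟨c, hc⟩ := hp'
    exact ⟨c, fun v => hc v⟩
  have h1 : α * (x ^ n)⁻¹ = simAut (Cfsg.quadFormMinus m F a b) ⟨_, hsim⟩ :=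
    (isInduced_iff (Cfsg.quadFormMinus m F a b) ⟨_, hsim⟩ _).mp hi'
  have h2 : simAut (Cfsg.quadFormMinus m F a b) ⟨_, hsim⟩ = 1 :=
    (simAut_eq_one_iff (minusQ m F a b) hnd h7 ⟨_, hsim⟩).mpr ⟨c', hsc⟩
  rw [h2] at h1
  have h3 : α = x ^ n := mul_inv_eq_one.mp h1
  rw [h3]
  exact Subgroup.npow_mem_zpowers x n

end minus

end Cfsg.Agent.Lib.Helper13
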