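import Mathlib
import Cfsg.Agent.Lib.Helper13.MinusLB4
import Cfsg.Agent.Lib.Helper36.LocalBalance.Abs
import Cfsg.Agent.S2729

set_option autoImplicit false
set_option linter.unusedSectionVars false
set_option linter.unusedVariables false
set_option linter.style.haveILetI false

/-!
helper13: local balance for field automorphisms of `PΩ⁻_{2m+2}(F)`, part 5: divisibility and the
main theorem `minus_field_main`.
-/

namespace Cfsg.Agent.Lib.Helper13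

open Matrix Module Cfsg.Agent.S0791 Cfsg.Agent.Lib.Helper36 Cfsg.Agent.Lib.Helper36.AutO
  Cfsg.Agent.Lib.Helper44 Cfsg.Agent.Lib.Helper45.PSLField Cfsg.Agent.Lib.Helper36.LocalBalance

section card

universe u u₀

variable {F : Type u} [Field F] [Fintype F] {F₀ : Type u₀} [Field F₀] [Fintype F₀] {m : ℕ}

theorem finite_mulAut_POmega_minus (a b : F) :
    Finite (MulAut (Cfsg.POmega F (Cfsg.quadFormMinus m F a b))) := by
  have : Finite (GL ((Fin m ⊕ Fin m) ⊕ Fin 2) F) :=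
    Finite.of_injective (fun g : GL ((Fin m ⊕ Fin m) ⊕ Fin 2) F =>
      (g : Matrix ((Fin m ⊕ Fin m) ⊕ Fin 2) ((Fin m ⊕ Fin m) ⊕ Fin 2) F)) Units.val_injective
  have : Finite (Cfsg.POmega F (Cfsg.quadFormMinus m F a b)) := inferInstance
  exact Finite.of_injective (fun e : MulAut (Cfsg.POmega F (Cfsg.quadFormMinus m F a b)) =>
    (e : Cfsg.POmega F (Cfsg.quadFormMinus m F a b) → Cfsg.POmega F (Cfsg.quadFormMinus m F a b)))
    DFunLike.coe_injective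

/-- `|Inndiag(PΩ⁻)|` divides `4 |PΩ⁻|` -/
theorem card_inndiag_minus_dvd (hm : 3 ≤ m) (a b : F)
    (hab : ∀ z₁ z₂ : F, z₁ ^ 2 + a * z₁ * z₂ + b * z₂ ^ 2 = 0 → z₁ = 0 ∧ z₂ = 0) :
    Nat.card ↥(Cfsg.inndiagPOmegaMinus m F a b) ∣
      4 * Nat.card ↥(Cfsg.Inn (Cfsg.POmega F (Cfsg.quadFormMinus m F a b))) := by
  have hle := Inn_le_inndiag_minus (m := m) a b hab
  set K : Subgroup ↥(Cfsg.inndiagPOmegaMinus m F a b) :=
    (Cfsg.Inn (Cfsg.POmega F (Cfsg.quadFormMinus m F a b))).subgroupOf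
      (Cfsg.inndiagPOmegaMinus m F a b) with hK
  have hcK : Nat.card ↥K = Nat.card ↥(Cfsg.Inn (Cfsg.POmega F (Cfsg.quadFormMinus m F a b))) :=
    Nat.card_congr (Subgroup.subgroupOfEquivOfLe hle).toEquiv
  have h1 := Subgroup.card_mul_index K
  have hidx : K.index ∣ 4 := by
    by_cases h2 : (2 : F) = 0
    · have : K = ⊤ := by
        rw [hK, Subgroup.subgroupOf_eq_top]
        exact inndiag_minus_le_Inn_of_two hm a b hab h2
      rw [this, Subgroup.index_top]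
      exact one_dvd _
    · have hodd : Odd (Fintype.card F) := by
        have := (two_eq_zero_iff_even_card (F := F)).not.mp h2
        rw [Nat.odd_iff]
        omega
      by_cases hcase : Even m ∧ Fintype.card F % 4 = 3
      · obtain ⟨φ, hφs, hφk⟩ := (Cfsg.Agent.S2729.result hodd hm a b hab).1 hcase
        have : K.index = 4 := by
          rw [hK, ← hφk, Subgroup.index_ker, MonoidHom.range_eq_top.mpr hφs, Subgroup.card_top,
            Nat.card_eq_fintype_card, Fintype.card_multiplicative, ZMod.card]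
        rw [this]
      · obtain ⟨φ, hφs, hφk⟩ := (Cfsg.Agent.S2729.result hodd hm a b hab).2 hcase
        have : K.index = 2 := by
          rw [hK, ← hφk, Subgroup.index_ker, MonoidHom.range_eq_top.mpr hφs, Subgroup.card_top,
            Nat.card_eq_fintype_card, Fintype.card_multiplicative, ZMod.card]
        rw [this]
        exact ⟨2, rfl⟩
  rw [← h1, hcK, mul_comm]
  exact Nat.mul_dvd_mul_right hidx _

variable (j : F₀ →+* F) (a₀ b₀ : F₀) (a b : F)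
  (M : GL ((Fin m ⊕ Fin m) ⊕ Fin 2) F) (κ : F)
  (hM : ∀ w, Cfsg.quadFormMinus m F a b
    ((M : Matrix ((Fin m ⊕ Fin m) ⊕ Fin 2) ((Fin m ⊕ Fin m) ⊕ Fin 2) F) *ᵥ w) =
      κ * Cfsg.quadFormMinus m F (j a₀) (j b₀) w)

/-- the order of the group of inner automorphisms commuting with `x` divides `4 |E|` -/
theorem card_inn_inf_centralizer_dvd_minus (hm : 3 ≤ m)
    (hab₀ : ∀ z₁ z₂ : F₀, z₁ ^ 2 + a₀ * z₁ * z₂ + b₀ * z₂ ^ 2 = 0 → z₁ = 0 ∧ z₂ = 0)
    (hab : ∀ z₁ z₂ : F, z₁ ^ 2 + a * z₁ * z₂ + b * z₂ ^ 2 = 0 → z₁ = 0 ∧ z₂ = 0)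
    (hκ : κ ≠ 0) (σ : RingAut F) {r : ℕ} (hr : 0 < r) (hσ : orderOf σ = r)
    (hj : ∀ c : F, σ c = c ↔ ∃ d, j d = c)
    (g₁ : GL ((Fin m ⊕ Fin m) ⊕ Fin 2) F)
    (hg₁ : (g₁ : Matrix ((Fin m ⊕ Fin m) ⊕ Fin 2) ((Fin m ⊕ Fin m) ⊕ Fin 2) F) *
      (M : Matrix ((Fin m ⊕ Fin m) ⊕ Fin 2) ((Fin m ⊕ Fin m) ⊕ Fin 2) F).map σ =
      (M : Matrix ((Fin m ⊕ Fin m) ⊕ Fin 2) ((Fin m ⊕ Fin m) ⊕ Fin 2) F))
    (x : MulAut (Cfsg.POmega F (Cfsg.quadFormMinus m F a b)))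
    (hp₁ : Cfsg.IsSemisimilarityPair (Cfsg.quadFormMinus m F a b) g₁ σ)
    (hi₁ : Cfsg.IsInducedBySemilinearPOmega (Cfsg.quadFormMinus m F a b) g₁ σ x) :
    Nat.card ↥(Cfsg.Inn (Cfsg.POmega F (Cfsg.quadFormMinus m F a b)) ⊓
        Subgroup.centralizer {x}) ∣
      4 * Nat.card ↥(EMinus j a₀ b₀ a b M κ hM) := by
  have hfin := finite_mulAut_POmega_minus (m := m) a b
  have hle : Cfsg.Inn (Cfsg.POmega F (Cfsg.quadFormMinus m F a b)) ⊓ Subgroup.centralizer {x} ≤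
      Cfsg.inndiagPOmegaMinus m F a b ⊓ Subgroup.centralizer {x} :=
    inf_le_inf_right _ (Inn_le_inndiag_minus a b hab)
  have h1 := Subgroup.card_dvd_of_le hle
  obtain ⟨e1⟩ := nonempty_centralizer_equiv_minus hm j a₀ b₀ hab₀ a b hab M κ hκ hM σ hr hσ hj
    g₁ hg₁ x hp₁ hi₁
  obtain ⟨e2⟩ := nonempty_EMinus_equiv j a₀ b₀ a b M κ hM hm hab₀ hab
  rw [Nat.card_congr e1.toEquiv] at h1
  rw [Nat.card_congr e2.toEquiv]
  exact h1.trans (card_inndiag_minus_dvd hm a₀ b₀ hab₀)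

include hM in
/-- **local balance for a field automorphism in normal form** -/
theorem minus_field_core (hm : 3 ≤ m)
    (hab₀ : ∀ z₁ z₂ : F₀, z₁ ^ 2 + a₀ * z₁ * z₂ + b₀ * z₂ ^ 2 = 0 → z₁ = 0 ∧ z₂ = 0)
    (hab : ∀ z₁ z₂ : F, z₁ ^ 2 + a * z₁ * z₂ + b * z₂ ^ 2 = 0 → z₁ = 0 ∧ z₂ = 0)
    (hκ : κ ≠ 0) (σ : RingAut F) {p : ℕ} [Fact p.Prime] (hσ : orderOf σ = p) (hpodd : Odd p)
    (hj : ∀ c : F, σ c = c ↔ ∃ d, j d = c)
    (g₁ : GL ((Fin m ⊕ Fin m) ⊕ Fin 2) F)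
    (hg₁ : (g₁ : Matrix ((Fin m ⊕ Fin m) ⊕ Fin 2) ((Fin m ⊕ Fin m) ⊕ Fin 2) F) *
      (M : Matrix ((Fin m ⊕ Fin m) ⊕ Fin 2) ((Fin m ⊕ Fin m) ⊕ Fin 2) F).map σ =
      (M : Matrix ((Fin m ⊕ Fin m) ⊕ Fin 2) ((Fin m ⊕ Fin m) ⊕ Fin 2) F))
    (x : MulAut (Cfsg.POmega F (Cfsg.quadFormMinus m F a b)))
    (hp₁ : Cfsg.IsSemisimilarityPair (Cfsg.quadFormMinus m F a b) g₁ σ)
    (hi₁ : Cfsg.IsInducedBySemilinearPOmega (Cfsg.quadFormMinus m F a b) g₁ σ x)
    (hxp : x ^ p = 1)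
    (A : Subgroup (MulAut (Cfsg.POmega F (Cfsg.quadFormMinus m F a b))))
    (hinn : Cfsg.Inn (Cfsg.POmega F (Cfsg.quadFormMinus m F a b)) ≤ A) :
    Cfsg.pPrimeCore p ↥(A ⊓ Subgroup.centralizer {x}) ≠ ⊥ ↔
      Nat.Coprime p (Nat.card ↥(MonoidHom.eqLocus x.toMonoidHom
        (MonoidHom.id (Cfsg.POmega F (Cfsg.quadFormMinus m F a b))))) := by
  have hp : p.Prime := Fact.out
  have h7 : 7 ≤ Fintype.card ((Fin m ⊕ Fin m) ⊕ Fin 2) := by
    rw [card_minus_index]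
    omega
  have hj' : ∀ c : F₀, σ (j c) = j c := fun c => (hj (j c)).mpr ⟨c, rfl⟩
  have hfinA := finite_mulAut_POmega_minus (m := m) a b
  have hfinK : Finite (Cfsg.POmega F (Cfsg.quadFormMinus m F a b)) := by
    have : Finite (GL ((Fin m ⊕ Fin m) ⊕ Fin 2) F) :=
      Finite.of_injective (fun g : GL ((Fin m ⊕ Fin m) ⊕ Fin 2) F =>
        (g : Matrix ((Fin m ⊕ Fin m) ⊕ Fin 2) ((Fin m ⊕ Fin m) ⊕ Fin 2) F)) Units.val_injective
    exact inferInstance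
  have hK : IsSimpleGroup (Cfsg.POmega F (Cfsg.quadFormMinus m F a b)) :=
    POmega_simple (minusQ m F a b) (minusQ_nondeg_of_aniso m a b hab) h7
  have hK₀ : IsSimpleGroup (Cfsg.POmega F₀ (Cfsg.quadFormMinus m F₀ a₀ b₀)) :=
    POmega_simple (minusQ m F₀ a₀ b₀) (minusQ_nondeg_of_aniso m a₀ b₀ hab₀) h7
  set E : Subgroup (MulAut (Cfsg.POmega F (Cfsg.quadFormMinus m F a b))) :=
    EMinus j a₀ b₀ a b M κ hM with hE
  have hE_ne : E ≠ ⊥ := EMinus_ne_bot j a₀ b₀ a b M κ hM hm hab₀ hab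
  have hEI : E ≤ Cfsg.Inn (Cfsg.POmega F (Cfsg.quadFormMinus m F a b)) ⊓
      Subgroup.centralizer {x} :=
    le_inf (EMinus_le_Inn j a₀ b₀ a b M κ hM)
      (EMinus_le_centralizer j a₀ b₀ a b M κ hM σ hj' g₁ hg₁ x hp₁ hi₁)
  have hInn_ne : Cfsg.Inn (Cfsg.POmega F (Cfsg.quadFormMinus m F a b)) ≠ ⊥ := by
    intro h0
    apply hE_ne
    rw [eq_bot_iff, ← h0]
    exact hEI.trans inf_le_left
  have hZ : Subgroup.center (Cfsg.POmega F (Cfsg.quadFormMinus m F a b)) = ⊥ :=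
    center_eq_bot_of_inn_ne_bot hInn_ne
  have hcardfix := card_inn_inf_centralizer hZ x
  constructor
  · intro hcore
    by_contra hnc
    apply hcore
    have hp_dvd : p ∣ Nat.card ↥(Cfsg.Inn (Cfsg.POmega F (Cfsg.quadFormMinus m F a b)) ⊓
        Subgroup.centralizer {x}) := by
      rw [hcardfix]
      by_contra hnd
      exact hnc ((Nat.Prime.coprime_iff_not_dvd hp).mpr hnd)
    have hdvd4 : p ∣ 4 * Nat.card ↥E :=
      hp_dvd.trans (card_inn_inf_centralizer_dvd_minus j a₀ b₀ a b M κ hM hm hab₀ hab hκ σ hp.pos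
        hσ hj g₁ hg₁ x hp₁ hi₁)
    obtain ⟨e⟩ := nonempty_EMinus_equiv j a₀ b₀ a b M κ hM hm hab₀ hab
    have hInn₀_ne : Cfsg.Inn (Cfsg.POmega F₀ (Cfsg.quadFormMinus m F₀ a₀ b₀)) ≠ ⊥ := by
      intro h0
      apply hE_ne
      rw [eq_bot_iff]
      intro y hy
      have h1 : e ⟨y, hy⟩ = 1 := by
        have hle : Cfsg.Inn (Cfsg.POmega F₀ (Cfsg.quadFormMinus m F₀ a₀ b₀)) ≤ ⊥ := le_of_eq h0
        have := hle (e ⟨y, hy⟩).2
        rw [Subgroup.mem_bot] at this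
        exact Subtype.ext this
      have h3 : (⟨y, hy⟩ : ↥E) = 1 := by
        apply e.injective
        rw [h1, map_one]
      rw [Subgroup.mem_bot]
      exact congrArg Subtype.val h3
    have hEp : p ∣ Nat.card ↥E := by
      rcases (Nat.Prime.dvd_mul hp).mp hdvd4 with h | h
      · exfalso
        have h4 : p ∣ 2 * 2 := h
        have h2 : p ∣ 2 := by
          rcases (Nat.Prime.dvd_mul hp).mp h4 with h' | h' <;> exact h'
        have hp2 : p = 2 := (Nat.prime_dvd_prime_iff_eq hp Nat.prime_two).mp h2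
        rw [hp2] at hpodd
        exact absurd hpodd (by decide)
      · exact h
    have hEs : IsSimpleGroup ↥E := by
      have := isSimpleGroup_inn hInn₀_ne
      exact e.isSimpleGroup
    exact core_eq_bot_of_simple A x p hinn hxp E hEI hEs hEp
      (EMinus_normalized j a₀ b₀ a b M κ hM hm hab hκ σ hp.pos hσ hj g₁ hg₁ x hp₁ hi₁)
      (fun α hα => mem_zpowers_of_comm_EMinus j a₀ b₀ a b M κ hM hm hab₀ hab σ hj g₁ hg₁ x hp₁ hi₁
        α hα)
  · intro hcop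
    apply core_ne_bot_of_coprime A x p hinn
    · rw [hcardfix]
      exact hcop.symm
    · intro h0
      apply hE_ne
      rw [eq_bot_iff, ← h0]
      exact hEI

end card

section main

universe u

variable {F : Type u} [Field F] [Fintype F] {m : ℕ}

/-- **Local balance for field automorphisms of prime order of `PΩ⁻_{2m+2}(F)`** (all
characteristics): the `p'`-core of `C_A(x)` is non-trivial iff `p` does not divide the number of
fixed points of `x`. -/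
theorem minus_field_main (hm : 3 ≤ m) (a b : F)
    (hab : ∀ z₁ z₂ : F, z₁ ^ 2 + a * z₁ * z₂ + b * z₂ ^ 2 = 0 → z₁ = 0 ∧ z₂ = 0)
    (A : Subgroup (MulAut (Cfsg.POmega F (Cfsg.quadFormMinus m F a b))))
    (hinn : Cfsg.Inn (Cfsg.POmega F (Cfsg.quadFormMinus m F a b)) ≤ A)
    {p : ℕ} [Fact p.Prime]
    (x : MulAut (Cfsg.POmega F (Cfsg.quadFormMinus m F a b)))
    (hx : Cfsg.IsFieldAutClassPOmegaMinus m x) (hxp : orderOf x = p) :
    Cfsg.pPrimeCore p ↥(A ⊓ Subgroup.centralizer {x}) ≠ ⊥ ↔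
      Nat.Coprime p (Nat.card ↥(MonoidHom.eqLocus x.toMonoidHom
        (MonoidHom.id (Cfsg.POmega F (Cfsg.quadFormMinus m F a b))))) := by
  classical
  have hpr : p.Prime := Fact.out
  have hQnd := minusQ_nondeg_of_aniso m a b hab
  have h7 : 7 ≤ Fintype.card ((Fin m ⊕ Fin m) ⊕ Fin 2) := by
    rw [card_minus_index]
    omega
  obtain ⟨g, σ, hσ, hp, hi⟩ := exists_pair_of_fieldAutClass hm a b hab x hx
  have hxp' : x ^ p = 1 := by rw [← hxp]; exact pow_orderOf_eq_one x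
  -- the order of `σ`
  have hσord : orderOf (σ : RingAut F) = p := by
    obtain ⟨gr, -, hpr', hir⟩ := pair_pow (Cfsg.quadFormMinus m F a b) g σ x hp hi p
    rw [hxp'] at hir
    obtain ⟨hσr, -⟩ := pair_faithful (minusQ m F a b) hQnd h7 gr _ hpr' hir
    have h1 : orderOf (σ : RingAut F) ∣ p := orderOf_dvd_of_pow_eq_one hσr
    rcases (Nat.dvd_prime hpr).mp h1 with h | h
    · exfalso
      apply hσ
      exact orderOf_eq_one_iff.mp h
    · exact h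
  -- Hilbert 90 and the normal form
  obtain ⟨u₁, A₁, hA₁⟩ := pair_hilbert90 (minusQ m F a b) hQnd h7 g σ hpr.pos hσord x hp hi hxp'
  have hp₁ : Cfsg.IsSemisimilarityPair (Cfsg.quadFormMinus m F a b)
      (Matrix.GeneralLinearGroup.scalar ((Fin m ⊕ Fin m) ⊕ Fin 2) u₁ * g) σ :=
    isSemisimilarityPair_scalar_mul (minusQ m F a b) u₁ g σ hp
  have hi₁ : Cfsg.IsInducedBySemilinearPOmega (Cfsg.quadFormMinus m F a b)
      (Matrix.GeneralLinearGroup.scalar ((Fin m ⊕ Fin m) ⊕ Fin 2) u₁ * g) σ x :=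
    isInduced_scalar_mul _ u₁ g σ x hi
  obtain ⟨M₁, κ₁, α₁, β₁, hκ₁, hM₁, hf₁, han₁⟩ :=
    minus_normal_form a b hab _ σ hpr.pos hσord hp₁ A₁ hA₁
  have hpodd : Odd p := by
    rw [← hσord]
    exact odd_orderOf_of_aniso_fixed σ α₁ β₁ han₁
  -- the subfield
  have : Fintype ↥(fixF σ) := Fintype.ofFinite _
  have hj : ∀ c : F, σ c = c ↔ ∃ d : ↥(fixF σ), (fixF σ).subtype d = c := by
    intro c
    constructor
    · intro h
      exact ⟨⟨c, (mem_fixF σ c).mpr h⟩, rfl⟩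
    · rintro ⟨d, rfl⟩
      exact (mem_fixF σ _).mp d.2
  have hab₀ : ∀ z₁ z₂ : ↥(fixF σ), z₁ ^ 2 + α₁ * z₁ * z₂ + β₁ * z₂ ^ 2 = 0 → z₁ = 0 ∧ z₂ = 0 := by
    intro z₁ z₂ hz
    have h1 := congrArg (fixF σ).subtype hz
    rw [map_add, map_add, map_pow, map_mul, map_mul, map_mul, map_pow, map_zero] at h1
    obtain ⟨e1, e2⟩ := han₁ _ _ h1
    exact ⟨(fixF σ).subtype.injective (by rw [e1, map_zero]),
      (fixF σ).subtype.injective (by rw [e2, map_zero])⟩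
  exact minus_field_core (fixF σ).subtype α₁ β₁ a b M₁ κ₁ hf₁ hm hab₀ hab hκ₁ σ hσord hpodd hj
    _ hM₁ x hp₁ hi₁ hxp' A hinn

end main

end Cfsg.Agent.Lib.Helper13
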