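import Mathlib
import Cfsg.Agent.Lib.Helper13.MinusLB5
import Cfsg.Agent.Lib.Helper13.POmegaTransport

set_option autoImplicit false
set_option linter.unusedSectionVars false
set_option linter.unusedVariables false
set_option linter.style.haveILetI false

/-!
helper13: local balance for field automorphisms of `PΩ⁻_{2m+2}(F)`, part 6: an automorphism of
prime order induced by a pair `(g, σ)` with `σ ≠ 1` is a field automorphism in the sense of
`Cfsg.IsFieldAutClassPOmegaMinus` (transport along a similarity), and the final statement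
`minus_field_pair_main` in the form used for S2733.
-/

namespace Cfsg.Agent.Lib.Helper13

open Matrix Module Cfsg.Agent.S0791 Cfsg.Agent.Lib.Helper36 Cfsg.Agent.Lib.Helper36.AutO
  Cfsg.Agent.Lib.Helper44 Cfsg.Agent.Lib.Helper45.PSLField Cfsg.Agent.Lib.Helper36.LocalBalance

section sim

variable {ι : Type} [Fintype ι] [DecidableEq ι] {F : Type*} [Field F]

theorem conj_mem_isometryGroup_sim (f f' : (ι → F) → F) (T : GL ι F) (κ : F)
    (hT : ∀ v, f ((T : Matrix ι ι F) *ᵥ v) = κ * f' v) (s : GL ι F)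
    (hs : s ∈ Cfsg.isometryGroup F f') : T * s * T⁻¹ ∈ Cfsg.isometryGroup F f := by
  rw [mem_isometryGroup_iff'] at hs ⊢
  intro v
  rw [Units.val_mul, Units.val_mul, ← Matrix.mulVec_mulVec, ← Matrix.mulVec_mulVec, hT, hs, ← hT,
    gl_inv_mulVec_mulVec]

theorem transport_inv_sim (f f' : (ι → F) → F) (T : GL ι F) (κ : F) (hκ : κ ≠ 0)
    (hT : ∀ v, f ((T : Matrix ι ι F) *ᵥ v) = κ * f' v) (v : ι → F) :
    f' (((T⁻¹ : GL ι F) : Matrix ι ι F) *ᵥ v) = κ⁻¹ * f v := by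
  have h1 := hT (((T⁻¹ : GL ι F) : Matrix ι ι F) *ᵥ v)
  rw [gl_inv_mulVec_mulVec] at h1
  rw [h1, ← mul_assoc, inv_mul_cancel₀ hκ, one_mul]

/-- conjugation by a similarity `T : (f', κ f') → f` as an isomorphism of isometry groups -/
def isoConjSim (f f' : (ι → F) → F) (T : GL ι F) (κ : F) (hκ : κ ≠ 0)
    (hT : ∀ v, f ((T : Matrix ι ι F) *ᵥ v) = κ * f' v) :
    ↥(Cfsg.isometryGroup F f') ≃* ↥(Cfsg.isometryGroup F f) where
  toFun s := ⟨T * s * T⁻¹, conj_mem_isometryGroup_sim f f' T κ hT s s.2⟩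
  invFun s := ⟨T⁻¹ * s * T, by
    have := conj_mem_isometryGroup_sim f' f T⁻¹ κ⁻¹ (transport_inv_sim f f' T κ hκ hT) s s.2
    rwa [inv_inv] at this⟩
  left_inv s := by
    apply Subtype.ext
    show T⁻¹ * (T * (s : GL ι F) * T⁻¹) * T = s
    group
  right_inv s := by
    apply Subtype.ext
    show T * (T⁻¹ * (s : GL ι F) * T) * T⁻¹ = s
    group
  map_mul' s t := by
    apply Subtype.ext
    show T * ((s : GL ι F) * (t : GL ι F)) * T⁻¹ = T * s * T⁻¹ * (T * t * T⁻¹)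
    group

/-- the induced isomorphism `PΩ(f') ≃* PΩ(f)` -/
noncomputable def pomegaConjSim (f f' : (ι → F) → F) (T : GL ι F) (κ : F) (hκ : κ ≠ 0)
    (hT : ∀ v, f ((T : Matrix ι ι F) *ᵥ v) = κ * f' v) : Cfsg.POmega F f' ≃* Cfsg.POmega F f :=
  commCenterCongr (isoConjSim f f' T κ hκ hT)

theorem pomegaConjSim_mk (f f' : (ι → F) → F) (T : GL ι F) (κ : F) (hκ : κ ≠ 0)
    (hT : ∀ v, f ((T : Matrix ι ι F) *ᵥ v) = κ * f' v) (s : ↥(Cfsg.Omega F f')) :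
    ∃ t : ↥(Cfsg.Omega F f),
      ((t : ↥(Cfsg.isometryGroup F f)) : GL ι F) =
        T * ((s : ↥(Cfsg.isometryGroup F f')) : GL ι F) * T⁻¹ ∧
      pomegaConjSim f f' T κ hκ hT (QuotientGroup.mk s) = QuotientGroup.mk t := by
  refine ⟨commCongr (isoConjSim f f' T κ hκ hT) s, rfl, ?_⟩
  unfold pomegaConjSim
  rw [commCenterCongr_mk]

theorem pomegaConjSim_symm_mk (f f' : (ι → F) → F) (T : GL ι F) (κ : F) (hκ : κ ≠ 0)
    (hT : ∀ v, f ((T : Matrix ι ι F) *ᵥ v) = κ * f' v) (s : ↥(Cfsg.Omega F f)) :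
    ∃ t : ↥(Cfsg.Omega F f'),
      ((t : ↥(Cfsg.isometryGroup F f')) : GL ι F) =
        T⁻¹ * ((s : ↥(Cfsg.isometryGroup F f)) : GL ι F) * T ∧
      (pomegaConjSim f f' T κ hκ hT).symm (QuotientGroup.mk s) = QuotientGroup.mk t := by
  refine ⟨(commCongr (isoConjSim f f' T κ hκ hT)).symm s, rfl, ?_⟩
  unfold pomegaConjSim
  rw [commCenterCongr_symm_mk]

end sim

section cls

universe u

variable {F : Type u} [Field F] [Fintype F] {m : ℕ}

/-- **the normal form gives a field automorphism** -/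
theorem fieldAutClass_of_normal_form (a b α β : F)
    (han : ∀ z₁ z₂ : F, z₁ ^ 2 + α * z₁ * z₂ + β * z₂ ^ 2 = 0 → z₁ = 0 ∧ z₂ = 0)
    (σ : F ≃+* F) (hσ : σ ≠ RingEquiv.refl F) (hα : σ α = α) (hβ : σ β = β)
    (M : GL ((Fin m ⊕ Fin m) ⊕ Fin 2) F) (κ : F) (hκ : κ ≠ 0)
    (hM : ∀ w, Cfsg.quadFormMinus m F a b
      ((M : Matrix ((Fin m ⊕ Fin m) ⊕ Fin 2) ((Fin m ⊕ Fin m) ⊕ Fin 2) F) *ᵥ w) =
        κ * Cfsg.quadFormMinus m F α β w)
    (g₁ : GL ((Fin m ⊕ Fin m) ⊕ Fin 2) F)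
    (hg₁ : (g₁ : Matrix ((Fin m ⊕ Fin m) ⊕ Fin 2) ((Fin m ⊕ Fin m) ⊕ Fin 2) F) *
      (M : Matrix ((Fin m ⊕ Fin m) ⊕ Fin 2) ((Fin m ⊕ Fin m) ⊕ Fin 2) F).map σ =
      (M : Matrix ((Fin m ⊕ Fin m) ⊕ Fin 2) ((Fin m ⊕ Fin m) ⊕ Fin 2) F))
    (x : MulAut (Cfsg.POmega F (Cfsg.quadFormMinus m F a b)))
    (hp₁ : Cfsg.IsSemisimilarityPair (Cfsg.quadFormMinus m F a b) g₁ σ)
    (hi₁ : Cfsg.IsInducedBySemilinearPOmega (Cfsg.quadFormMinus m F a b) g₁ σ x) :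
    Cfsg.IsFieldAutClassPOmegaMinus m x := by
  set P := pomegaConjSim (Cfsg.quadFormMinus m F a b) (Cfsg.quadFormMinus m F α β) M κ hκ hM
    with hP
  refine ⟨α, β, P.symm, σ, han, hσ, hα, hβ, ?_⟩
  intro s s' hs
  show P.symm (x (P (QuotientGroup.mk s))) = QuotientGroup.mk s'
  obtain ⟨t, ht, hPt⟩ := pomegaConjSim_mk (Cfsg.quadFormMinus m F a b)
    (Cfsg.quadFormMinus m F α β) M κ hκ hM s
  obtain ⟨t', ht'⟩ := exists_semiconj_Omega (Cfsg.quadFormMinus m F a b) g₁ σ hp₁ t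
  obtain ⟨u, hu, hPu⟩ := pomegaConjSim_symm_mk (Cfsg.quadFormMinus m F a b)
    (Cfsg.quadFormMinus m F α β) M κ hκ hM t'
  rw [hPt, hi₁ t t' ht', hPu]
  congr 1
  apply Subtype.ext
  apply Subtype.ext
  have hgM : g₁ * glMap σ M = M := by
    apply Units.ext
    rw [Units.val_mul, glMap_coe]
    exact hg₁
  have hg : g₁ = M * (glMap σ M)⁻¹ := eq_mul_inv_of_mul_eq hgM
  have ht'' : ((t' : ↥(Cfsg.isometryGroup F (Cfsg.quadFormMinus m F a b))) :
      GL ((Fin m ⊕ Fin m) ⊕ Fin 2) F) =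
      g₁ * glMap σ ((t : ↥(Cfsg.isometryGroup F (Cfsg.quadFormMinus m F a b))) : GL _ F) *
        g₁⁻¹ := by
    apply Units.ext
    rw [Units.val_mul, Units.val_mul, glMap_coe]
    exact ht'
  have hs'' : ((s' : ↥(Cfsg.isometryGroup F (Cfsg.quadFormMinus m F α β))) :
      GL ((Fin m ⊕ Fin m) ⊕ Fin 2) F) =
      glMap σ ((s : ↥(Cfsg.isometryGroup F (Cfsg.quadFormMinus m F α β))) : GL _ F) := by
    apply Units.ext
    rw [glMap_coe]
    exact hs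
  rw [hu, ht'', ht, hs'', map_mul, map_mul, map_inv, hg]
  group

/-- an automorphism of prime order induced by a pair `(g, σ)`, `σ ≠ 1`, is a field automorphism -/
theorem fieldAutClass_of_pair (hm : 3 ≤ m) (a b : F)
    (hab : ∀ z₁ z₂ : F, z₁ ^ 2 + a * z₁ * z₂ + b * z₂ ^ 2 = 0 → z₁ = 0 ∧ z₂ = 0)
    {p : ℕ} (hpr : p.Prime) (x : MulAut (Cfsg.POmega F (Cfsg.quadFormMinus m F a b)))
    (hord : orderOf x = p)
    (g : GL ((Fin m ⊕ Fin m) ⊕ Fin 2) F) (σ : F ≃+* F) (hσ : σ ≠ RingEquiv.refl F)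
    (hp : Cfsg.IsSemisimilarityPair (Cfsg.quadFormMinus m F a b) g σ)
    (hi : Cfsg.IsInducedBySemilinearPOmega (Cfsg.quadFormMinus m F a b) g σ x) :
    Cfsg.IsFieldAutClassPOmegaMinus m x := by
  classical
  have hQnd := minusQ_nondeg_of_aniso m a b hab
  have h7 : 7 ≤ Fintype.card ((Fin m ⊕ Fin m) ⊕ Fin 2) := by
    rw [card_minus_index]
    omega
  have hxp' : x ^ p = 1 := by rw [← hord]; exact pow_orderOf_eq_one x
  have hσord : orderOf (σ : RingAut F) = p := by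
    obtain ⟨gr, -, hpr', hir⟩ := pair_pow (Cfsg.quadFormMinus m F a b) g σ x hp hi p
    rw [hxp'] at hir
    obtain ⟨hσr, -⟩ := pair_faithful (minusQ m F a b) hQnd h7 gr _ hpr' hir
    have h1 : orderOf (σ : RingAut F) ∣ p := orderOf_dvd_of_pow_eq_one hσr
    rcases (Nat.dvd_prime hpr).mp h1 with h | h
    · exfalso
      apply hσ
      exact orderOf_eq_one_iff.mp h
    · exact h
  obtain ⟨u₁, A₁, hA₁⟩ := pair_hilbert90 (minusQ m F a b) hQnd h7 g σ hpr.pos hσord x hp hi hxp'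
  have hp₁ : Cfsg.IsSemisimilarityPair (Cfsg.quadFormMinus m F a b)
      (Matrix.GeneralLinearGroup.scalar ((Fin m ⊕ Fin m) ⊕ Fin 2) u₁ * g) σ :=
    isSemisimilarityPair_scalar_mul (minusQ m F a b) u₁ g σ hp
  have hi₁ : Cfsg.IsInducedBySemilinearPOmega (Cfsg.quadFormMinus m F a b)
      (Matrix.GeneralLinearGroup.scalar ((Fin m ⊕ Fin m) ⊕ Fin 2) u₁ * g) σ x :=
    isInduced_scalar_mul _ u₁ g σ x hi
  obtain ⟨M₁, κ₁, α₁, β₁, hκ₁, hM₁, hf₁, han₁⟩ :=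
    minus_normal_form a b hab _ σ hpr.pos hσord hp₁ A₁ hA₁
  exact fieldAutClass_of_normal_form a b (α₁ : F) (β₁ : F) han₁ σ hσ
    ((mem_fixF σ _).mp α₁.2) ((mem_fixF σ _).mp β₁.2) M₁ κ₁ hκ₁ hf₁ _ hM₁ x hp₁ hi₁

/-- **MODULE (F) of S2733** (exact form requested by helper37): an automorphism `x` of prime
order `p` of `PΩ⁻_{2m+2}(F)` induced by a semisimilarity pair `(g, σ)` with `σ ≠ 1` is a field
automorphism, and the `p'`-core of `C_A(x)` is non-trivial iff `p` does not divide the number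
of fixed points of `x`. -/
theorem minus_field_pair_main {F : Type*} [Field F] [Fintype F] {m : ℕ} (hm : 3 ≤ m) (a b : F)
    (hab : ∀ z₁ z₂ : F, z₁ ^ 2 + a * z₁ * z₂ + b * z₂ ^ 2 = 0 → z₁ = 0 ∧ z₂ = 0)
    (A : Subgroup (MulAut (Cfsg.POmega F (Cfsg.quadFormMinus m F a b))))
    (hinn : ∀ k : Cfsg.POmega F (Cfsg.quadFormMinus m F a b), MulAut.conj k ∈ A)
    {p : ℕ} [Fact p.Prime] (x : MulAut (Cfsg.POmega F (Cfsg.quadFormMinus m F a b)))
    (hord : orderOf x = p)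
    (g : GL ((Fin m ⊕ Fin m) ⊕ Fin 2) F) (σ : F ≃+* F) (hσ : σ ≠ RingEquiv.refl F)
    (hp : Cfsg.IsSemisimilarityPair (Cfsg.quadFormMinus m F a b) g σ)
    (hi : Cfsg.IsInducedBySemilinearPOmega (Cfsg.quadFormMinus m F a b) g σ x) :
    Cfsg.IsFieldAutClassPOmegaMinus m x ∧
    (Cfsg.pPrimeCore p ↥(A ⊓ Subgroup.centralizer {x}) ≠ ⊥ ↔
      Nat.Coprime p (Nat.card ↥(MonoidHom.eqLocus x.toMonoidHom
        (MonoidHom.id (Cfsg.POmega F (Cfsg.quadFormMinus m F a b)))))) := by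
  have hpr : p.Prime := Fact.out
  have h1 : Cfsg.IsFieldAutClassPOmegaMinus m x :=
    fieldAutClass_of_pair hm a b hab hpr x hord g σ hσ hp hi
  have hinn' : Cfsg.Inn (Cfsg.POmega F (Cfsg.quadFormMinus m F a b)) ≤ A := by
    rintro _ ⟨k, rfl⟩
    exact hinn k
  exact ⟨h1, minus_field_main hm a b hab A hinn' x h1 hord⟩

end cls

end Cfsg.Agent.Lib.Helper13
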