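/-
helper13: an automorphism of `PSU_n(q)` fixing (the images of) all Siegel elements `sieg e u b` of
the unipotent radical `Q_e` and all transvections with centre `f` (`(e, f)` a hyperbolic pair) is the
identity.  This is the last step of the determination of `Aut(PSU_n(q))`.
-/
import Mathlib
import Cfsg.Agent.Lib.Helper13.UnitMax
import Cfsg.Agent.Lib.Helper13.UnitMaxBridge

set_option autoImplicit false

namespace Cfsg.Agent.Lib.Helper13

open Matrix Module Cfsg.Agent.S0837 Cfsg.Agent.S0781 Cfsg.Agent.S2644 Cfsg.Agent.Lib.Helper37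

section Fix

variable {F : Type*} [Field F] {n q : ℕ} (σ : F →+* F)

/-- `SU_n` inside `GL_n`. -/
def suToGL (n : ℕ) (F : Type*) [Field F] (q : ℕ) : ↥(Cfsg.SU n F q) →* GL (Fin n) F :=
  (Matrix.SpecialLinearGroup.toGL).comp (Cfsg.SU n F q).subtype

theorem suToGL_coe (s : ↥(Cfsg.SU n F q)) :
    ((suToGL n F q s : GL (Fin n) F) : Matrix (Fin n) (Fin n) F) = s.1.1 := rfl

theorem suToGL_injective : Function.Injective (suToGL n F q) := by
  intro a b hab
  apply Subtype.ext
  apply Subtype.ext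
  have := congrArg (fun g : GL (Fin n) F => (g : Matrix (Fin n) (Fin n) F)) hab
  exact this

theorem suToGL_mem_UG (hσ : ∀ x, σ x = x ^ q) (s : ↥(Cfsg.SU n F q)) :
    suToGL n F q s ∈ UG σ n := by
  intro x y
  have := s.2 x y
  rw [hermForm_eq_hf σ hσ, hermForm_eq_hf σ hσ] at this
  exact this

/-- an element of `UG` of determinant one, as an element of `SU`. -/
def suOfUG (hσ : ∀ x, σ x = x ^ q) (g : GL (Fin n) F) (hg : g ∈ UG σ n)
    (hdet : (g : Matrix (Fin n) (Fin n) F).det = 1) : ↥(Cfsg.SU n F q) :=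
  ⟨⟨(g : Matrix (Fin n) (Fin n) F), hdet⟩, by
    intro x y
    show Cfsg.hermForm n F q ((g : Matrix (Fin n) (Fin n) F) *ᵥ x)
      ((g : Matrix (Fin n) (Fin n) F) *ᵥ y) = Cfsg.hermForm n F q x y
    rw [hermForm_eq_hf σ hσ, hermForm_eq_hf σ hσ]
    exact hg x y⟩

theorem suToGL_suOfUG (hσ : ∀ x, σ x = x ^ q) (g : GL (Fin n) F) (hg : g ∈ UG σ n)
    (hdet : (g : Matrix (Fin n) (Fin n) F).det = 1) :
    suToGL n F q (suOfUG σ hσ g hg hdet) = g := by
  apply Units.ext
  rfl

variable [Finite F]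

/-- If an automorphism of `PSU_n(q)` fixes the images of the Siegel elements `sieg e u b` and of the
transvections `tv f c`, where `e, f` are isotropic with `h(e, f) = 1`, then it is the identity. -/
theorem psu_aut_eq_one_of_fix (hσ : ∀ x, σ x = x ^ q) (hσne : σ ≠ RingHom.id F)
    (hσ2 : ∀ a, σ (σ a) = a) (hn : 1 ≤ n) (hn3 : n = 3 → ∃ l : F, l ≠ 0 ∧ l * σ l ≠ 1)
    (β : MulAut (Cfsg.PSU n F q)) (e f : Fin n → F) (he : hf σ e e = 0) (hff : hf σ f f = 0)
    (hef : hf σ e f = 1)
    (hQ : ∀ (s : ↥(Cfsg.SU n F q)) (u : Fin n → F) (b : F), hf σ u e = 0 →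
      b + σ b + hf σ u u = 0 → (s.1.1 : Matrix (Fin n) (Fin n) F) = sieg σ e u b →
      β (QuotientGroup.mk s) = QuotientGroup.mk s)
    (hX : ∀ (s : ↥(Cfsg.SU n F q)) (c : F), c + σ c = 0 →
      (s.1.1 : Matrix (Fin n) (Fin n) F) = tv σ f c →
      β (QuotientGroup.mk s) = QuotientGroup.mk s) : β = 1 := by
  classical
  have hfe : hf σ f e = 1 := by rw [hf_symm σ hσ2, hef, map_one]
  -- the subgroup of fixed elements
  let H : Subgroup ↥(Cfsg.SU n F q) :=
    { carrier := {s | β (QuotientGroup.mk s) = QuotientGroup.mk s}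
      one_mem' := by
        show β (QuotientGroup.mk (1 : ↥(Cfsg.SU n F q))) = QuotientGroup.mk 1
        rw [QuotientGroup.mk_one, map_one]
      mul_mem' := by
        intro a b ha hb
        show β (QuotientGroup.mk (a * b)) = QuotientGroup.mk (a * b)
        rw [QuotientGroup.mk_mul, map_mul, ha, hb]
      inv_mem' := by
        intro a ha
        show β (QuotientGroup.mk a⁻¹) = QuotientGroup.mk a⁻¹
        rw [QuotientGroup.mk_inv, map_inv, ha] }
  have hHmem : ∀ s, s ∈ H ↔ β (QuotientGroup.mk s) = QuotientGroup.mk s := fun s => Iff.rfl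
  set M : Subgroup (GL (Fin n) F) := H.map (suToGL n F q) with hM
  have hMU : M ≤ UG σ n := by
    rintro g ⟨s, _, rfl⟩
    exact suToGL_mem_UG σ hσ s
  -- membership in `M`
  have hMmem : ∀ (g : GL (Fin n) F) (hg : g ∈ UG σ n)
      (hdet : (g : Matrix (Fin n) (Fin n) F).det = 1),
      β (QuotientGroup.mk (suOfUG σ hσ g hg hdet)) = QuotientGroup.mk (suOfUG σ hσ g hg hdet) →
      g ∈ M := by
    intro g hg hdet h
    exact ⟨suOfUG σ hσ g hg hdet, h, suToGL_suOfUG σ hσ g hg hdet⟩
  -- Siegel elements are in `M`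
  have hsM : ∀ (u : Fin n → F) (b : F) (hu : hf σ u e = 0) (hb : b + σ b + hf σ u u = 0),
      siegGL σ hσ2 e u b he hu hb ∈ M := by
    intro u b hu hb
    have hU := siegGL_mem_UG σ hσ2 e u b he hu hb
    have hdet : ((siegGL σ hσ2 e u b he hu hb : GL (Fin n) F) :
        Matrix (Fin n) (Fin n) F).det = 1 := sieg_det σ hσ2 e u b he hu
    exact hMmem _ hU hdet (hQ _ u b hu hb rfl)
  -- `f ∈ UX`
  have hfUX : f ∈ UX σ M := by
    refine ⟨hff, fun c hc => ?_⟩
    have hU : tvGL σ f c hff ∈ UG σ n := TG_le_UG σ hσ2 (tvGL_mem σ f c hff hc)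
    have hdet : ((tvGL σ f c hff : GL (Fin n) F) : Matrix (Fin n) (Fin n) F).det = 1 := by
      show (tv σ f c).det = 1
      rw [tv_det, hff, mul_zero, add_zero]
    exact hMmem _ hU hdet (hX _ c hc rfl)
  -- `e ∈ UX`
  have heUX : e ∈ UX σ M := by
    refine ⟨he, fun c hc => ?_⟩
    have h0 : hf σ (0 : Fin n → F) e = 0 := hf_zero_left σ e
    have hb : c + σ c + hf σ (0 : Fin n → F) 0 = 0 := by rw [hf_zero_left, add_zero, hc]
    have h1 := hsM 0 c h0 hb
    have h2 : siegGL σ hσ2 e 0 c he h0 hb = tvGL σ e c he := by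
      apply Units.ext
      rfl
    rwa [h2] at h1
  -- isotropic vectors with `h(y, e) = 1`
  have h1UX : ∀ y : Fin n → F, hf σ y y = 0 → hf σ y e = 1 → y ∈ UX σ M := by
    intro y hy hye
    have hu : hf σ (y - f) e = 0 := by rw [hf_sub_left, hye, hfe, sub_self]
    have hfy : σ (hf σ f y) = hf σ y f := (hf_symm σ hσ2 y f).symm
    have hb : hf σ f y + σ (hf σ f y) + hf σ (y - f) (y - f) = 0 := by
      rw [hfy, hf_sub_left, hf_sub_right, hf_sub_right, hy, hff]
      ring
    have hS := hsM (y - f) (hf σ f y) hu hb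
    have h2 := ux_map σ _ hS (hMU hS) hfUX
    have h3 : (siegGL σ hσ2 e (y - f) (hf σ f y) he hu hb : GL (Fin n) F).1 *ᵥ f = y := by
      show sieg σ e (y - f) (hf σ f y) *ᵥ f = y
      rw [sieg_mulVec, hfe, hf_sub_right, hff, sub_zero, one_smul]
      abel
    rwa [h3] at h2
  -- isotropic vectors not perpendicular to `e`
  have h2UX : ∀ y : Fin n → F, hf σ y y = 0 → hf σ y e ≠ 0 → y ∈ UX σ M := by
    intro y hy hye
    have h1 : hf σ ((hf σ y e)⁻¹ • y) ((hf σ y e)⁻¹ • y) = 0 := by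
      rw [hf_smul_left, hf_smul_right, hy]; ring
    have h2 : hf σ ((hf σ y e)⁻¹ • y) e = 1 := by
      rw [hf_smul_left, inv_mul_cancel₀ hye]
    have h3 := ux_smul σ hσ2 (h1UX _ h1 h2) (hf σ y e)
    rwa [smul_smul, mul_inv_cancel₀ hye, one_smul] at h3
  -- all isotropic vectors
  have hallUX : ∀ z : Fin n → F, hf σ z z = 0 → z ∈ UX σ M := by
    intro z hz
    by_cases hze : hf σ z e = 0
    swap
    · exact h2UX z hz hze
    -- find `y₂` isotropic with `h(y₂, e) ≠ 0` and `h(z, y₂) ≠ 0`, unless `z ∈ F e`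
    by_cases hzf : hf σ z f = 0
    swap
    · -- use `y₂ = f`
      obtain ⟨c₀, hc₀, hc₀'⟩ := exists_trace_zero_ne σ hσne hσ2
      set y₁ : Fin n → F := z + ((-c₀) * hf σ z f) • f with hy₁
      have hy₁e : hf σ y₁ e ≠ 0 := by
        rw [hy₁, hf_add_left, hf_smul_left, hze, hfe, zero_add, mul_one]
        exact mul_ne_zero (neg_ne_zero.mpr hc₀) hzf
      have hnc : -c₀ + σ (-c₀) = 0 := by rw [map_neg]; linear_combination -hc₀'
      have hy₁0 : hf σ y₁ y₁ = 0 := by
        have h1 := hf_tv σ hσ2 f (-c₀) z z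
        rw [tv_mulVec, hnc, hff, hz] at h1
        rw [hy₁, h1]; ring
      have hy₁UX := h2UX y₁ hy₁0 hy₁e
      have h4 := ux_tv σ hMU hy₁UX hfUX c₀ hc₀'
      have h5 : y₁ + (c₀ * hf σ y₁ f) • f = z := by
        have : hf σ y₁ f = hf σ z f := by
          rw [hy₁, hf_add_left, hf_smul_left, hff, mul_zero, add_zero]
        rw [this, hy₁, add_assoc, ← add_smul]
        have : -c₀ * hf σ z f + c₀ * hf σ z f = 0 := by ring
        rw [this, zero_smul, add_zero]
      rwa [h5] at h4
    · -- `h(z, e) = 0 = h(z, f)`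
      by_cases hz0 : z = 0
      · subst hz0
        refine ⟨hz, fun c _ => ?_⟩
        have : tvGL σ (0 : Fin n → F) c hz = 1 := by
          apply Units.ext
          show tv σ (0 : Fin n → F) c = 1
          apply Matrix.toLin'.injective
          apply LinearMap.ext
          intro x
          rw [Matrix.toLin'_apply, tv_mulVec, smul_zero, add_zero, Matrix.toLin'_one,
            LinearMap.id_apply]
        rw [this]
        exact M.one_mem
      -- some `x` with `h(z, x) ≠ 0`
      obtain ⟨i, hi⟩ : ∃ i, z i ≠ 0 := by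
        by_contra hcon
        push Not at hcon
        exact hz0 (funext hcon)
      set x : Fin n → F := Pi.single i 1 with hx
      have hzx : hf σ z x ≠ 0 := by rw [hx, hf_single_right]; exact hi
      set u : Fin n → F := x - hf σ x e • f with hu
      have hue : hf σ u e = 0 := by
        rw [hu, hf_sub_left, hf_smul_left, hfe, mul_one, sub_self]
      have hzu : hf σ z u ≠ 0 := by
        rw [hu, hf_sub_right, hf_smul_right, hzf, mul_zero, sub_zero]
        exact hzx
      obtain ⟨b, hb'⟩ := trace_surj σ hσne hσ2 (-hf σ u u) (by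
        rw [map_neg, ← hf_symm σ hσ2])
      have hb : b + σ b + hf σ u u = 0 := by rw [hb']; ring
      have hS := hsM u b hue hb
      set y₂ : Fin n → F := (siegGL σ hσ2 e u b he hue hb : GL (Fin n) F).1 *ᵥ f with hy₂
      have hy₂eq : y₂ = f + (u + b • e) - hf σ f u • e := by
        rw [hy₂]
        show sieg σ e u b *ᵥ f = _
        rw [sieg_mulVec, hfe, one_smul]
      have hy₂UX : y₂ ∈ UX σ M := ux_map σ _ hS (hMU hS) hfUX
      have hy₂0 : hf σ y₂ y₂ = 0 := hy₂UX.1
      have hez : hf σ e z = 0 := by rw [hf_symm σ hσ2, hze, map_zero]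
      have hzy₂ : hf σ z y₂ = hf σ z u := by
        rw [hy₂eq, hf_sub_right, hf_add_right, hf_add_right, hf_smul_right, hf_smul_right, hzf, hze]
        ring
      obtain ⟨c₀, hc₀, hc₀'⟩ := exists_trace_zero_ne σ hσne hσ2
      set y₁ : Fin n → F := z + ((-c₀) * hf σ z y₂) • y₂ with hy₁
      have hy₂e : hf σ y₂ e = 1 := by
        rw [hy₂eq, hf_sub_left, hf_add_left, hf_add_left, hf_smul_left, hf_smul_left, hfe, hue, he]
        ring
      have hy₁e : hf σ y₁ e ≠ 0 := by
        rw [hy₁, hf_add_left, hf_smul_left, hze, hy₂e, zero_add, mul_one, hzy₂]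
        exact mul_ne_zero (neg_ne_zero.mpr hc₀) hzu
      have hnc : -c₀ + σ (-c₀) = 0 := by rw [map_neg]; linear_combination -hc₀'
      have hy₁0 : hf σ y₁ y₁ = 0 := by
        have h1 := hf_tv σ hσ2 y₂ (-c₀) z z
        rw [tv_mulVec, hnc, hy₂0, hz] at h1
        rw [hy₁, h1]; ring
      have hy₁UX := h2UX y₁ hy₁0 hy₁e
      have h4 := ux_tv σ hMU hy₁UX hy₂UX c₀ hc₀'
      have h5 : y₁ + (c₀ * hf σ y₁ y₂) • y₂ = z := by
        have : hf σ y₁ y₂ = hf σ z y₂ := by
          rw [hy₁, hf_add_left, hf_smul_left, hy₂0, mul_zero, add_zero]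
        rw [this, hy₁, add_assoc, ← add_smul]
        have : -c₀ * hf σ z y₂ + c₀ * hf σ z y₂ = 0 := by ring
        rw [this, zero_smul, add_zero]
      rwa [h5] at h4
  -- hence `TG ≤ M`
  have hTG : TG σ n ≤ M := by
    unfold TG
    rw [Subgroup.closure_le]
    rintro g ⟨z, c, hz, hc, hg⟩
    have h1 := (hallUX z hz).2 c hc
    have h2 : g = tvGL σ z c (hallUX z hz).1 := by
      apply Units.ext
      exact hg
    rw [h2]
    exact h1
  -- conclusion
  apply MulEquiv.ext
  intro x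
  obtain ⟨s, rfl⟩ := QuotientGroup.mk_surjective x
  rw [MulAut.one_apply]
  have h1 : suToGL n F q s ∈ TG σ n :=
    su_gen σ hσne hσ2 n hn hn3 _ (suToGL_mem_UG σ hσ s) s.1.2
  obtain ⟨s', hs', hss'⟩ := hTG h1
  have : s' = s := suToGL_injective hss'
  rw [← this]
  exact hs'

end Fix

end Cfsg.Agent.Lib.Helper13
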