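/-
helper13: basic facts about root elements (unitary transvections, Siegel elements) of `SU_n(q)` and
their images in `PSU_n(q)`, for the determination of `Aut(PSU_n(q))`.
-/
import Mathlib
import Cfsg.Agent.Lib.Helper13.PSUAutFix
import Cfsg.Agent.Lib.Helper5.UnitaryCenter
import Cfsg.Agent.Lib.Helper13.GUParabolic

set_option autoImplicit false

namespace Cfsg.Agent.Lib.Helper13

open Matrix Module Cfsg.Agent.S0837 Cfsg.Agent.S0781 Cfsg.Agent.S2644 Cfsg.Agent.Lib.Helper37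

section Basic

variable {F : Type*} [Field F] {n q : ℕ} (σ : F →+* F)

/-- the unitary transvection `x ↦ x + c h(x,v) v` as an element of `SU`. -/
def suTv (hσ : ∀ x, σ x = x ^ q) (hσ2 : ∀ a, σ (σ a) = a) (v : Fin n → F) (hv : hf σ v v = 0)
    (c : F) (hc : c + σ c = 0) : ↥(Cfsg.SU n F q) :=
  suOfUG σ hσ (tvGL σ v c hv) (TG_le_UG σ hσ2 (tvGL_mem σ v c hv hc)) (by
    show (tv σ v c).det = 1
    rw [tv_det, hv, mul_zero, add_zero])

theorem suTv_coe (hσ : ∀ x, σ x = x ^ q) (hσ2 : ∀ a, σ (σ a) = a) (v : Fin n → F)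
    (hv : hf σ v v = 0) (c : F) (hc : c + σ c = 0) :
    ((suTv σ hσ hσ2 v hv c hc : ↥(Cfsg.SU n F q)).1.1 : Matrix (Fin n) (Fin n) F) = tv σ v c := rfl

/-- the Siegel element `sieg e u b` as an element of `SU`. -/
def suSg (hσ : ∀ x, σ x = x ^ q) (hσ2 : ∀ a, σ (σ a) = a) (e : Fin n → F) (he : hf σ e e = 0)
    (u : Fin n → F) (hu : hf σ u e = 0) (b : F) (hb : b + σ b + hf σ u u = 0) :
    ↥(Cfsg.SU n F q) :=
  suOfUG σ hσ (siegGL σ hσ2 e u b he hu hb) (siegGL_mem_UG σ hσ2 e u b he hu hb)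
    (sieg_det σ hσ2 e u b he hu)

theorem suSg_coe (hσ : ∀ x, σ x = x ^ q) (hσ2 : ∀ a, σ (σ a) = a) (e : Fin n → F)
    (he : hf σ e e = 0) (u : Fin n → F) (hu : hf σ u e = 0) (b : F)
    (hb : b + σ b + hf σ u u = 0) :
    ((suSg σ hσ hσ2 e he u hu b hb : ↥(Cfsg.SU n F q)).1.1 : Matrix (Fin n) (Fin n) F) =
      sieg σ e u b := rfl

theorem su_ext' {s t : ↥(Cfsg.SU n F q)}
    (h : (s.1.1 : Matrix (Fin n) (Fin n) F) = t.1.1) : s = t :=
  Subtype.ext (Subtype.ext h)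

theorem su_preserves (hσ : ∀ x, σ x = x ^ q) (s : ↥(Cfsg.SU n F q)) (x y : Fin n → F) :
    hf σ ((s.1.1 : Matrix (Fin n) (Fin n) F) *ᵥ x) ((s.1.1 : Matrix (Fin n) (Fin n) F) *ᵥ y) =
      hf σ x y :=
  suToGL_mem_UG σ hσ s x y

theorem su_mul_coe (s t : ↥(Cfsg.SU n F q)) :
    ((s * t : ↥(Cfsg.SU n F q)).1.1 : Matrix (Fin n) (Fin n) F) = s.1.1 * t.1.1 := rfl

theorem su_inv_mulVec (s : ↥(Cfsg.SU n F q)) (x : Fin n → F) :
    ((s⁻¹ : ↥(Cfsg.SU n F q)).1.1 : Matrix (Fin n) (Fin n) F) *ᵥ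
      ((s.1.1 : Matrix (Fin n) (Fin n) F) *ᵥ x) = x := by
  rw [mulVec_mulVec, ← su_mul_coe, inv_mul_cancel]
  show (1 : Matrix (Fin n) (Fin n) F) *ᵥ x = x
  rw [one_mulVec]

theorem su_mulVec_inv (s : ↥(Cfsg.SU n F q)) (x : Fin n → F) :
    (s.1.1 : Matrix (Fin n) (Fin n) F) *ᵥ
      (((s⁻¹ : ↥(Cfsg.SU n F q)).1.1 : Matrix (Fin n) (Fin n) F) *ᵥ x) = x := by
  rw [mulVec_mulVec, ← su_mul_coe, mul_inv_cancel]
  show (1 : Matrix (Fin n) (Fin n) F) *ᵥ x = x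
  rw [one_mulVec]

/-- conjugating a transvection by an element of `SU` -/
theorem su_conj_tv (hσ : ∀ x, σ x = x ^ q) (hσ2 : ∀ a, σ (σ a) = a) (s : ↥(Cfsg.SU n F q))
    (v : Fin n → F) (hv : hf σ v v = 0) (c : F) (hc : c + σ c = 0) :
    s * suTv σ hσ hσ2 v hv c hc * s⁻¹ =
      suTv σ hσ hσ2 ((s.1.1 : Matrix (Fin n) (Fin n) F) *ᵥ v)
        (by rw [su_preserves σ hσ, hv]) c hc := by
  apply suToGL_injective
  rw [map_mul, map_mul, map_inv]
  have h := conj_tvGL σ (suToGL n F q s) (suToGL_mem_UG σ hσ s) v c hv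
    (by rw [suToGL_coe, su_preserves σ hσ, hv])
  rw [show suToGL n F q (suTv σ hσ hσ2 v hv c hc) = tvGL σ v c hv from
    suToGL_suOfUG σ hσ _ _ _, h]
  exact (suToGL_suOfUG σ hσ _ _ _).symm

/-- conjugating a Siegel element by an element of `SU` -/
theorem su_conj_sg (hσ : ∀ x, σ x = x ^ q) (hσ2 : ∀ a, σ (σ a) = a) (s : ↥(Cfsg.SU n F q))
    (e : Fin n → F) (he : hf σ e e = 0) (u : Fin n → F) (hu : hf σ u e = 0) (b : F)
    (hb : b + σ b + hf σ u u = 0) :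
    s * suSg σ hσ hσ2 e he u hu b hb * s⁻¹ =
      suSg σ hσ hσ2 ((s.1.1 : Matrix (Fin n) (Fin n) F) *ᵥ e)
        (by rw [su_preserves σ hσ, he])
        ((s.1.1 : Matrix (Fin n) (Fin n) F) *ᵥ u) (by rw [su_preserves σ hσ, hu]) b
        (by rw [su_preserves σ hσ, hb]) := by
  apply su_ext'
  rw [su_mul_coe, su_mul_coe, suSg_coe, suSg_coe,
    sieg_conj σ s.1.1 (su_preserves σ hσ s) e u b, Matrix.mul_assoc, ← su_mul_coe,
    mul_inv_cancel]
  show _ * (1 : Matrix (Fin n) (Fin n) F) = _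
  rw [Matrix.mul_one]

end Basic

section Center

variable {F : Type*} [Field F] [Fintype F] {n q : ℕ}

/-- elements of `SU` with the same image in `PSU` differ by a scalar -/
theorem exists_smul_of_mk_eq (hF : Fintype.card F = q ^ 2) (hn : 1 ≤ n) (s s' : ↥(Cfsg.SU n F q))
    (h : (QuotientGroup.mk s : Cfsg.PSU n F q) = QuotientGroup.mk s') :
    ∃ c : F, (s'.1.1 : Matrix (Fin n) (Fin n) F) = c • s.1.1 := by
  obtain ⟨m, rfl⟩ : ∃ m, n = m + 1 := ⟨n - 1, by omega⟩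
  rw [QuotientGroup.eq] at h
  have h1 := Cfsg.Agent.Lib.Helper5.center_eq_smul_one hF _ h
  refine ⟨((s⁻¹ * s' : ↥(Cfsg.SU (m + 1) F q)).1.1 : Matrix _ _ F) 0 0, ?_⟩
  have h2 : (s'.1.1 : Matrix (Fin (m + 1)) (Fin (m + 1)) F) =
      s.1.1 * ((s⁻¹ * s' : ↥(Cfsg.SU (m + 1) F q)).1.1 : Matrix _ _ F) := by
    rw [← su_mul_coe, mul_inv_cancel_left]
  set c : F := ((s⁻¹ * s' : ↥(Cfsg.SU (m + 1) F q)).1.1 : Matrix _ _ F) 0 0 with hc
  rw [h2]
  conv_lhs => rw [h1]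
  rw [Matrix.mul_smul, Matrix.mul_one]

end Center

section Perp2

variable {F : Type*} [Field F] {n q : ℕ} (σ : F →+* F)

/-- in dimension at least three there is a non-zero vector perpendicular to two given vectors -/
theorem exists_ne_zero_perp_two (hn : 3 ≤ n) (v w : Fin n → F) :
    ∃ x : Fin n → F, x ≠ 0 ∧ hf σ x v = 0 ∧ hf σ x w = 0 := by
  have h1 : LinearMap.ker (hPhi σ ![v, w]) ≠ ⊥ := by
    apply LinearMap.ker_ne_bot_of_finrank_lt
    rw [Module.finrank_fin_fun, Module.finrank_fin_fun]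
    omega
  obtain ⟨x, hx, hx0⟩ := Submodule.exists_mem_ne_zero_of_ne_bot h1
  rw [LinearMap.mem_ker] at hx
  refine ⟨x, hx0, ?_, ?_⟩
  · have := congrFun hx 0
    rwa [hPhi_apply] at this
  · have := congrFun hx 1
    rwa [hPhi_apply] at this

/-- two proportional matrices fixing a common non-zero vector are equal -/
theorem eq_of_smul_of_fix {A B : Matrix (Fin n) (Fin n) F} {c : F} (h : A = c • B)
    (x : Fin n → F) (hx : x ≠ 0) (hA : A *ᵥ x = x) (hB : B *ᵥ x = x) : c = 1 := by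
  have h1 : x = c • x := by
    conv_lhs => rw [← hA, h, Matrix.smul_mulVec, hB]
  by_contra hc
  apply hx
  have h2 : (1 - c) • x = 0 := by rw [sub_smul, one_smul, ← h1, sub_self]
  rcases smul_eq_zero.mp h2 with h3 | h3
  · exact absurd (sub_eq_zero.mp h3).symm hc
  · exact h3

theorem tv_mulVec_of_perp (v : Fin n → F) (c : F) (x : Fin n → F) (hx : hf σ x v = 0) :
    tv σ v c *ᵥ x = x := by
  rw [tv_mulVec, hx, mul_zero, zero_smul, add_zero]

/-- if two transvections are proportional, the scalar is one (dimension at least three) -/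
theorem tv_smul_eq_one (hn : 3 ≤ n) (v w : Fin n → F) (c d μ : F)
    (h : tv σ v c = μ • tv σ w d) : μ = 1 := by
  obtain ⟨x, hx0, hxv, hxw⟩ := exists_ne_zero_perp_two σ hn v w
  exact eq_of_smul_of_fix h x hx0 (tv_mulVec_of_perp σ v c x hxv) (tv_mulVec_of_perp σ w d x hxw)

/-- equal transvections have proportional centres -/
theorem tv_eq_tv_center (hσ2 : ∀ a, σ (σ a) = a) (v w : Fin n → F) (hv : v ≠ 0) (c d : F)
    (hc : c ≠ 0) (h : tv σ v c = tv σ w d) : ∃ l : F, v = l • w := by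
  obtain ⟨y, hy⟩ := exists_hf_ne_zero σ hσ2 v hv
  have h1 := congrArg (fun M : Matrix (Fin n) (Fin n) F => M *ᵥ y) h
  simp only [tv_mulVec] at h1
  have h2 : (c * hf σ y v) • v = (d * hf σ y w) • w := add_left_cancel h1
  refine ⟨(c * hf σ y v)⁻¹ * (d * hf σ y w), ?_⟩
  rw [← smul_smul, ← h2, smul_smul, inv_mul_cancel₀ (mul_ne_zero hc hy), one_smul]

end Perp2

section Norm

variable {F : Type*} [Field F] [Fintype F] {n q : ℕ} (σ : F →+* F)

/-- **(O1)** if `mk s` conjugates the image of `tv v c` to the image of `tv w d`, `c ≠ 0`, then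
`s v` is a multiple of `w`. -/
theorem mulVec_mem_of_conj (hF : Fintype.card F = q ^ 2) (hσ : ∀ x, σ x = x ^ q)
    (hσ2 : ∀ a, σ (σ a) = a) (hn : 3 ≤ n) (s : ↥(Cfsg.SU n F q)) (v w : Fin n → F) (hv0 : v ≠ 0)
    (hv : hf σ v v = 0) (hw : hf σ w w = 0) (c d : F) (hc : c + σ c = 0) (hd : d + σ d = 0)
    (hc0 : c ≠ 0)
    (h : (QuotientGroup.mk s : Cfsg.PSU n F q) * QuotientGroup.mk (suTv σ hσ hσ2 v hv c hc) *
      (QuotientGroup.mk s)⁻¹ = QuotientGroup.mk (suTv σ hσ hσ2 w hw d hd)) :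
    ∃ l : F, (s.1.1 : Matrix (Fin n) (Fin n) F) *ᵥ v = l • w := by
  rw [← QuotientGroup.mk_inv, ← QuotientGroup.mk_mul, ← QuotientGroup.mk_mul,
    su_conj_tv σ hσ hσ2] at h
  obtain ⟨μ, hμ⟩ := exists_smul_of_mk_eq hF (by omega) _ _ h.symm
  rw [suTv_coe, suTv_coe] at hμ
  have hμ1 := tv_smul_eq_one σ hn _ _ _ _ _ hμ
  rw [hμ1, one_smul] at hμ
  have hsv0 : (s.1.1 : Matrix (Fin n) (Fin n) F) *ᵥ v ≠ 0 := by
    intro h0
    apply hv0
    have := su_inv_mulVec s v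
    rw [h0, mulVec_zero] at this
    exact this.symm
  exact tv_eq_tv_center σ hσ2 _ w hsv0 c d hc0 hμ

/-- **(L1)** root elements whose images in `PSU` commute have perpendicular centres. -/
theorem perp_of_commute (hF : Fintype.card F = q ^ 2) (hσ : ∀ x, σ x = x ^ q)
    (hσ2 : ∀ a, σ (σ a) = a) (hn : 3 ≤ n) (v w : Fin n → F) (hv0 : v ≠ 0) (hw0 : w ≠ 0)
    (hv : hf σ v v = 0) (hw : hf σ w w = 0) (c d : F) (hc : c + σ c = 0) (hd : d + σ d = 0)
    (hc0 : c ≠ 0) (hd0 : d ≠ 0)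
    (h : Commute (QuotientGroup.mk (suTv σ hσ hσ2 v hv c hc) : Cfsg.PSU n F q)
      (QuotientGroup.mk (suTv σ hσ hσ2 w hw d hd))) : hf σ v w = 0 := by
  have h1 : (QuotientGroup.mk (suTv σ hσ hσ2 v hv c hc) : Cfsg.PSU n F q) *
      QuotientGroup.mk (suTv σ hσ hσ2 w hw d hd) *
      (QuotientGroup.mk (suTv σ hσ hσ2 v hv c hc))⁻¹ =
      QuotientGroup.mk (suTv σ hσ hσ2 w hw d hd) := by
    rw [h.eq, mul_inv_cancel_right]
  obtain ⟨l, hl⟩ := mulVec_mem_of_conj σ hF hσ hσ2 hn _ w w hw0 hw hw d d hd hd hd0 h1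
  rw [suTv_coe, tv_mulVec] at hl
  by_contra hne
  have hwv : hf σ w v ≠ 0 := by
    intro h0
    apply hne
    rw [hf_symm σ hσ2, h0, map_zero]
  -- `v` is a multiple of `w`
  have h2 : (c * hf σ w v) • v = (l - 1) • w := by
    rw [sub_smul, one_smul, ← hl]; abel
  have h3 : v = ((c * hf σ w v)⁻¹ * (l - 1)) • w := by
    rw [← smul_smul, ← h2, smul_smul, inv_mul_cancel₀ (mul_ne_zero hc0 hwv), one_smul]
  apply hwv
  rw [h3, hf_smul_right, hw, mul_zero]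

/-- root elements with perpendicular centres commute. -/
theorem commute_of_perp (hσ : ∀ x, σ x = x ^ q) (hσ2 : ∀ a, σ (σ a) = a) (v w : Fin n → F)
    (hv : hf σ v v = 0) (hw : hf σ w w = 0) (c d : F) (hc : c + σ c = 0) (hd : d + σ d = 0)
    (hvw : hf σ v w = 0) :
    Commute (suTv σ hσ hσ2 v hv c hc : ↥(Cfsg.SU n F q)) (suTv σ hσ hσ2 w hw d hd) := by
  have hwv : hf σ w v = 0 := by rw [hf_symm σ hσ2, hvw, map_zero]
  apply su_ext'
  rw [su_mul_coe, su_mul_coe, suTv_coe, suTv_coe]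
  apply Matrix.toLin'.injective
  apply LinearMap.ext
  intro x
  rw [Matrix.toLin'_apply, Matrix.toLin'_apply, ← mulVec_mulVec, ← mulVec_mulVec, tv_mulVec,
    tv_mulVec, tv_mulVec, tv_mulVec]
  simp only [hf_add_left, hf_smul_left, hvw, hwv, mul_zero, add_zero]
  abel

end Norm

end Cfsg.Agent.Lib.Helper13
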