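/-
helper13: the order of `Aut(PSU_n(q))` from (i) every automorphism is standard and (ii) the
kernel of the standard parametrisation consists of scalars.
-/
import Mathlib
import Cfsg.Agent.Lib.Helper43.PSUAutRel
import Cfsg.Agent.Lib.Helper43.PSLnAutCard
import Cfsg.Agent.Lib.Helper5.UnitaryCenter
import Cfsg.Agent.Lib.Helper13.Herm

set_option autoImplicit false

namespace Cfsg.Agent.Lib.Helper13

open Matrix Cfsg.Agent.Lib.Helper43 Cfsg.Agent.Lib.Helper5

section

variable {n : ℕ} {F : Type*} [Field F] [Fintype F] {q : ℕ}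

/-- The scalar matrices inside `GU`. -/
def guScalars (n : ℕ) (F : Type*) [Field F] (q : ℕ) : Subgroup ↥(Cfsg.GU n F q) :=
  (Subgroup.center (GL (Fin n) F)).subgroupOf (Cfsg.GU n F q)

theorem mem_guScalars_iff (g : ↥(Cfsg.GU n F q)) :
    g ∈ guScalars n F q ↔ ∃ c : Fˣ, Matrix.GeneralLinearGroup.scalar (Fin n) c = (g : GL (Fin n) F) := by
  unfold guScalars
  rw [Subgroup.mem_subgroupOf, Matrix.GeneralLinearGroup.center_eq_range_scalar, MonoidHom.mem_range]

theorem scalar_mulVec (c : Fˣ) (v : Fin n → F) :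
    ((Matrix.GeneralLinearGroup.scalar (Fin n) c : GL (Fin n) F) : Matrix (Fin n) (Fin n) F) *ᵥ v
      = (c : F) • v := by
  rw [Matrix.GeneralLinearGroup.coe_scalar]
  ext i
  simp [Matrix.scalar_apply, Matrix.mulVec_diagonal]

theorem scalar_mem_GU_iff (hF : Fintype.card F = q ^ 2) (hn : 1 ≤ n) (c : Fˣ) :
    Matrix.GeneralLinearGroup.scalar (Fin n) c ∈ Cfsg.GU n F q ↔ c ^ (q + 1) = 1 := by
  rw [mem_GU_iff']
  constructor
  · intro h
    have h1 := h (Pi.single ⟨0, by omega⟩ 1) (Pi.single ⟨0, by omega⟩ 1)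
    rw [scalar_mulVec, hermForm_smul_left, hermForm_smul_right hF, hermForm_single_left] at h1
    simp only [Pi.single_eq_same, one_pow, mul_one] at h1
    apply Units.ext
    rw [Units.val_pow_eq_pow_val, Units.val_one, pow_succ', h1]
  · intro h u v
    have h1 : (c : F) * (c : F) ^ q = 1 := by
      rw [← pow_succ', ← Units.val_pow_eq_pow_val, h, Units.val_one]
    rw [scalar_mulVec, scalar_mulVec, hermForm_smul_left, hermForm_smul_right hF, ← mul_assoc, h1,
      one_mul]

/-- The scalars of `GU` are the norm-one scalars. -/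
noncomputable def guScalarsEquiv (hF : Fintype.card F = q ^ 2) (hn : 1 ≤ n) :
    (powMonoidHom (q + 1) : Fˣ →* Fˣ).ker ≃ guScalars n F q where
  toFun c := ⟨⟨Matrix.GeneralLinearGroup.scalar (Fin n) c.1,
    (scalar_mem_GU_iff hF hn c.1).mpr (by
      have := c.2
      rwa [MonoidHom.mem_ker, powMonoidHom_apply] at this)⟩,
    (mem_guScalars_iff _).mpr ⟨c.1, rfl⟩⟩
  invFun g := ⟨((mem_guScalars_iff g.1).mp g.2).choose, by
    rw [MonoidHom.mem_ker, powMonoidHom_apply, ← scalar_mem_GU_iff hF hn,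
      ((mem_guScalars_iff g.1).mp g.2).choose_spec]
    exact g.1.2⟩
  left_inv c := by
    apply Subtype.ext
    have h := ((mem_guScalars_iff (⟨⟨Matrix.GeneralLinearGroup.scalar (Fin n) c.1,
      (scalar_mem_GU_iff hF hn c.1).mpr (by
        have := c.2
        rwa [MonoidHom.mem_ker, powMonoidHom_apply] at this)⟩,
      (mem_guScalars_iff _).mpr ⟨c.1, rfl⟩⟩ : guScalars n F q).1).mp
        ((mem_guScalars_iff _).mpr ⟨c.1, rfl⟩)).choose_spec
    have hinj : Function.Injective (Matrix.GeneralLinearGroup.scalar (Fin n) : Fˣ →* GL (Fin n) F) := by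
      intro a b hab
      have h1 := congrArg (fun g : GL (Fin n) F =>
        (g : Matrix (Fin n) (Fin n) F) ⟨0, by omega⟩ ⟨0, by omega⟩) hab
      simp only [Matrix.GeneralLinearGroup.coe_scalar, Matrix.scalar_apply,
        Matrix.diagonal_apply_eq] at h1
      exact Units.ext h1
    exact hinj h
  right_inv g := by
    apply Subtype.ext
    apply Subtype.ext
    exact ((mem_guScalars_iff g.1).mp g.2).choose_spec

theorem card_guScalars (hF : Fintype.card F = q ^ 2) (hn : 1 ≤ n) :
    Nat.card (guScalars n F q) = q + 1 := by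
  rw [← Nat.card_congr (guScalarsEquiv hF hn), card_ker_pow_q_add_one hF]

/-- scalars induce the trivial automorphism -/
theorem psuDiag_eq_one_of_mem_guScalars (g : ↥(Cfsg.GU n F q)) (hg : g ∈ guScalars n F q) :
    (psuDiag g : MulAut (Cfsg.PSU n F q)) = 1 := by
  obtain ⟨c, hc⟩ := (mem_guScalars_iff g).mp hg
  apply MulEquiv.ext
  intro x
  obtain ⟨s, rfl⟩ := QuotientGroup.mk_surjective x
  rw [psuDiag_mk, MulAut.one_apply]
  congr 1
  apply su_ext
  rw [suConj_apply_coe, ← hc, Matrix.GeneralLinearGroup.coe_scalar]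
  have h1 : ((Matrix.GeneralLinearGroup.scalar (Fin n) c)⁻¹ : GL (Fin n) F) =
      Matrix.GeneralLinearGroup.scalar (Fin n) c⁻¹ := by rw [map_inv]
  rw [h1, Matrix.GeneralLinearGroup.coe_scalar]
  have h2 : (Matrix.scalar (Fin n)) (c : F) * s.1.1 = s.1.1 * (Matrix.scalar (Fin n)) (c : F) :=
    (Matrix.scalar_commute (c : F) (fun r => Commute.all (c : F) r) s.1.1).eq
  rw [h2, Matrix.mul_assoc, ← map_mul]
  simp

/-- The order of `Aut(PSU_n(q))`, from the standard decomposition of automorphisms. -/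
theorem card_mulAut_psu_of {p f : ℕ} [Fact p.Prime] (hf : 1 ≤ f) (hq : q = p ^ f)
    (hF : Fintype.card F = q ^ 2) (hn : 1 ≤ n)
    (hall : ∀ β : MulAut (Cfsg.PSU n F q), ∃ (g : ↥(Cfsg.GU n F q)) (σ : RingAut F),
      β = psuDiag g * psuField σ)
    (hker : ∀ (g : ↥(Cfsg.GU n F q)) (σ : RingAut F),
      (psuDiag g : MulAut (Cfsg.PSU n F q)) = psuField σ → σ = 1 ∧ g ∈ guScalars n F q) :
    Nat.card (MulAut (Cfsg.PSU n F q)) =
      Nat.gcd n (q + 1) * (2 * f) * Nat.card (Cfsg.PSU n F q) := by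
  classical
  set D : Subgroup (MulAut (Cfsg.PSU n F q)) :=
    (psuDiag : ↥(Cfsg.GU n F q) →* MulAut (Cfsg.PSU n F q)).range with hD
  set R : Subgroup (MulAut (Cfsg.PSU n F q)) :=
    (psuField : RingAut F →* MulAut (Cfsg.PSU n F q)).range with hR
  -- kernel of psuDiag
  have hkerD : (psuDiag : ↥(Cfsg.GU n F q) →* MulAut (Cfsg.PSU n F q)).ker = guScalars n F q := by
    ext g
    rw [MonoidHom.mem_ker]
    constructor
    · intro h
      have h1 : (psuDiag g : MulAut (Cfsg.PSU n F q)) = psuField 1 := by rw [h, map_one]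
      exact (hker g 1 h1).2
    · exact psuDiag_eq_one_of_mem_guScalars g
  -- psuField injective
  have hinjR : Function.Injective (psuField : RingAut F →* MulAut (Cfsg.PSU n F q)) := by
    rw [injective_iff_map_eq_one]
    intro σ hσ
    have h1 : (psuDiag (1 : ↥(Cfsg.GU n F q)) : MulAut (Cfsg.PSU n F q)) = psuField σ := by
      rw [map_one, hσ]
    exact (hker 1 σ h1).1
  -- complement
  have hcompl : Subgroup.IsComplement' D R := by
    apply Subgroup.isComplement'_of_disjoint_and_mul_eq_univ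
    · rw [Subgroup.disjoint_def]
      rintro x ⟨g, rfl⟩ ⟨σ, hσ⟩
      have := (hker g σ hσ.symm).1
      rw [hσ.symm, this, map_one]
    · rw [Set.eq_univ_iff_forall]
      intro β
      obtain ⟨g, σ, rfl⟩ := hall β
      exact Set.mul_mem_mul ⟨g, rfl⟩ ⟨σ, rfl⟩
  have hcard := hcompl.card_mul_card
  -- |R|
  have hR' : Nat.card R = 2 * f := by
    rw [hR, ← Nat.card_congr (MonoidHom.ofInjective hinjR).toEquiv]
    exact card_ringAut (p := p) (by omega) (by rw [hF, hq, ← pow_mul, mul_comm])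
  -- |D|
  have hD' : Nat.card D * (q + 1) = Nat.card ↥(Cfsg.GU n F q) := by
    rw [hD, ← Nat.card_congr (QuotientGroup.quotientKerEquivRange
      (psuDiag : ↥(Cfsg.GU n F q) →* MulAut (Cfsg.PSU n F q))).toEquiv,
      ← card_guScalars hF hn, ← hkerD]
    exact (Subgroup.card_eq_card_quotient_mul_card_subgroup _).symm
  have h1 := card_SU_mul (n := n) hF hn
  have h2 := Subgroup.card_eq_card_quotient_mul_card_subgroup (Subgroup.center (Cfsg.SU n F q))
  rw [card_center_SU hF hn] at h2
  have hq1 : 0 < q + 1 := by omega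
  have h3 : Nat.card D = Nat.card ↥(Cfsg.SU n F q) := by
    apply Nat.eq_of_mul_eq_mul_right hq1
    rw [hD', ← h1, mul_comm]
  rw [← hcard, hR', h3, h2]
  change Nat.card (Cfsg.PSU n F q) * Nat.gcd n (q + 1) * (2 * f) = _
  ring

end

end Cfsg.Agent.Lib.Helper13
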