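/-
helper13: the unipotent radical `Q_e = {sieg e u b}` of the stabiliser of an isotropic point in the
unitary group: structure lemma, powers, conjugation.
-/
import Mathlib
import Cfsg.Agent.Lib.Helper13.PSUAutBasic

set_option autoImplicit false

namespace Cfsg.Agent.Lib.Helper13

open Matrix Module Cfsg.Agent.S0837 Cfsg.Agent.S0781 Cfsg.Agent.S2644 Cfsg.Agent.Lib.Helper37

section Siegel

variable {F : Type*} [Field F] {n : ℕ} (σ : F →+* F)

theorem sieg_mulVec_center (hσ2 : ∀ a, σ (σ a) = a) (e u : Fin n → F) (b : F) (he : hf σ e e = 0)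
    (hu : hf σ u e = 0) : sieg σ e u b *ᵥ e = e := by
  have hu' : hf σ e u = 0 := by rw [hf_symm σ hσ2, hu, map_zero]
  rw [sieg_mulVec, he, hu', zero_smul, zero_smul, add_zero, sub_zero]

theorem sieg_mulVec_partner (e f u : Fin n → F) (b : F) (hfe : hf σ f e = 1) :
    sieg σ e u b *ᵥ f = f + u + (b - hf σ f u) • e := by
  rw [sieg_mulVec, hfe, one_smul, sub_smul]
  abel

theorem sieg_mulVec_perp (hσ2 : ∀ a, σ (σ a) = a) (e u w : Fin n → F) (b : F)
    (hw : hf σ w e = 0) : sieg σ e u b *ᵥ w = w - hf σ w u • e := by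
  rw [sieg_mulVec, hw, zero_smul, add_zero]

/-- changing the vector of a Siegel element by a multiple of the centre -/
theorem sieg_add_smul_center (hσ2 : ∀ a, σ (σ a) = a) (e u : Fin n → F) (a b : F) :
    sieg σ e (u + a • e) b = sieg σ e u (b + a - σ a) := by
  apply Matrix.toLin'.injective
  apply LinearMap.ext
  intro x
  rw [Matrix.toLin'_apply, Matrix.toLin'_apply, sieg_mulVec, sieg_mulVec, hf_add_right,
    hf_smul_right]
  module

/-- **structure lemma**: an isometry fixing `e` and acting trivially on `e^⊥ / e` is a Siegel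
element. -/
theorem eq_sieg_of_trivial (hσ2 : ∀ a, σ (σ a) = a) {e f : Fin n → F} (h : HP σ e f)
    (A : Matrix (Fin n) (Fin n) F) (hA : ∀ x y, hf σ (A *ᵥ x) (A *ᵥ y) = hf σ x y)
    (hAe : A *ᵥ e = e)
    (hAW : ∀ w, hf σ w e = 0 → hf σ w f = 0 → ∃ a : F, A *ᵥ w = w + a • e) :
    ∃ (u : Fin n → F) (b : F), hf σ u e = 0 ∧ b + σ b + hf σ u u = 0 ∧ A = sieg σ e u b := by
  have hfe : hf σ f e = 1 := h.vu
  have hef : hf σ e f = 1 := h.uv hσ2
  set y := A *ᵥ f with hy
  have hye : hf σ y e = 1 := by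
    have := hA f e
    rw [hAe] at this
    rw [this, hfe]
  have hey : hf σ e y = 1 := by rw [hf_symm σ hσ2, hye, map_one]
  have hyy : hf σ y y = 0 := by rw [hy, hA, h.vv]
  have hu : hf σ (y - f) e = 0 := by rw [hf_sub_left, hye, hfe, sub_self]
  have hfy : σ (hf σ f y) = hf σ y f := (hf_symm σ hσ2 y f).symm
  have hb : hf σ f y + σ (hf σ f y) + hf σ (y - f) (y - f) = 0 := by
    rw [hfy, hf_sub_left, hf_sub_right, hf_sub_right, hyy, h.vv]
    ring
  refine ⟨y - f, hf σ f y, hu, hb, ?_⟩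
  apply Matrix.toLin'.injective
  apply LinearMap.ext
  intro x
  rw [Matrix.toLin'_apply, Matrix.toLin'_apply]
  -- decompose `x`
  rw [pr_eq σ e f x]
  simp only [mulVec_add, mulVec_smul]
  have h1 : sieg σ e (y - f) (hf σ f y) *ᵥ e = e := sieg_mulVec_center σ hσ2 e _ _ h.uu hu
  have h2 : sieg σ e (y - f) (hf σ f y) *ᵥ f = y := by
    rw [sieg_mulVec_partner σ e f _ _ hfe, hf_sub_right, h.vv, sub_zero, sub_self, zero_smul,
      add_zero]
    abel
  have hwe := hf_pr_u σ h x
  have hwf := hf_pr_v σ hσ2 h x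
  set w := pr σ e f x with hw
  have h3 : A *ᵥ w = sieg σ e (y - f) (hf σ f y) *ᵥ w := by
    obtain ⟨a, ha⟩ := hAW w hwe hwf
    rw [sieg_mulVec_perp σ hσ2 e _ w _ hwe, ha, hf_sub_right, hwf, sub_zero]
    have h4 : hf σ (A *ᵥ w) y = 0 := by rw [hy, hA, hwf]
    rw [ha, hf_add_left, hf_smul_left, hey, mul_one] at h4
    have : a = -hf σ w y := by linear_combination h4
    rw [this]
    module
  rw [hAe, h1, h2, h3]

/-- powers of Siegel elements -/
theorem sieg_pow (hσ2 : ∀ a, σ (σ a) = a) (e u : Fin n → F) (b : F) (he : hf σ e e = 0)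
    (hu : hf σ u e = 0) (k : ℕ) : ∃ b' : F, sieg σ e u b ^ k = sieg σ e ((k : F) • u) b' := by
  induction k with
  | zero => exact ⟨0, by rw [pow_zero, Nat.cast_zero, zero_smul, sieg_zero]⟩
  | succ k ih =>
    obtain ⟨b', hb'⟩ := ih
    refine ⟨b' + b - hf σ u ((k : F) • u), ?_⟩
    rw [pow_succ, hb', sieg_mul σ hσ2 e _ u b' b he (by rw [hf_smul_left, hu, mul_zero]) hu]
    congr 1
    push_cast
    module

theorem tv_zero_eq_one (e : Fin n → F) : tv σ e 0 = 1 := by
  apply Matrix.toLin'.injective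
  apply LinearMap.ext
  intro x
  rw [Matrix.toLin'_apply, tv_mulVec, zero_mul, zero_smul, add_zero, Matrix.toLin'_one,
    LinearMap.id_apply]

theorem tv_pow (e : Fin n → F) (c : F) (he : hf σ e e = 0) (k : ℕ) :
    tv σ e c ^ k = tv σ e ((k : F) * c) := by
  induction k with
  | zero =>
    rw [pow_zero, Nat.cast_zero, zero_mul, tv_zero_eq_one]
  | succ k ih =>
    rw [pow_succ, ih]
    apply Matrix.toLin'.injective
    apply LinearMap.ext
    intro x
    rw [Matrix.toLin'_apply, Matrix.toLin'_apply, ← mulVec_mulVec, tv_mulVec, tv_mulVec,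
      tv_mulVec, hf_add_left, hf_smul_left, he]
    push_cast
    module

/-- a Siegel element has order dividing `N²` whenever `N = 0` in `F`. -/
theorem sieg_pow_sq_eq_one (hσ2 : ∀ a, σ (σ a) = a) (e u : Fin n → F) (b : F) (he : hf σ e e = 0)
    (hu : hf σ u e = 0) (N : ℕ) (hN : (N : F) = 0) : sieg σ e u b ^ (N * N) = 1 := by
  obtain ⟨b', hb'⟩ := sieg_pow σ hσ2 e u b he hu N
  rw [pow_mul, hb', hN, zero_smul]
  have h1 : sieg σ e 0 b' = tv σ e b' := rfl
  rw [h1, tv_pow σ e b' he, hN, zero_mul, tv_zero_eq_one]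

end Siegel

end Cfsg.Agent.Lib.Helper13
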