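/-
helper13: endgame for `Aut(PSU_n(q))`: an automorphism which maps every Siegel element
`sieg e w b` (`w ⊥ e, f`) to a Siegel element with the same vector `w`, fixes the root group of `e`
pointwise and the root group of `f` setwise, is the identity.
-/
import Mathlib
import Cfsg.Agent.Lib.Helper13.PSUAutSiegel
import Cfsg.Agent.Lib.Helper5.UnitaryField
import Cfsg.Agent.S0780

set_option autoImplicit false
set_option linter.unusedSectionVars false

namespace Cfsg.Agent.Lib.Helper13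

open Matrix Module Cfsg.Agent.S0837 Cfsg.Agent.S0781 Cfsg.Agent.S2644 Cfsg.Agent.Lib.Helper37

section End

variable {F : Type*} [Field F] [Fintype F] {n q : ℕ} (σ : F →+* F)

theorem su_one_coe : (((1 : ↥(Cfsg.SU n F q)).1.1 : Matrix (Fin n) (Fin n) F)) = 1 := rfl

/-- a root element with non-zero parameter has non-trivial image in `PSU`. -/
theorem mk_tv_ne_one (hF : Fintype.card F = q ^ 2) (hσ2 : ∀ a, σ (σ a) = a) (hn : 3 ≤ n)
    (s : ↥(Cfsg.SU n F q)) (v : Fin n → F) (hv0 : v ≠ 0) (c : F) (hc0 : c ≠ 0)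
    (hs : (s.1.1 : Matrix (Fin n) (Fin n) F) = tv σ v c) :
    (QuotientGroup.mk s : Cfsg.PSU n F q) ≠ 1 := by
  intro h
  rw [← QuotientGroup.mk_one] at h
  obtain ⟨κ, hκ⟩ := exists_smul_of_mk_eq hF (by omega) s 1 h
  rw [su_one_coe, hs] at hκ
  have h2 : tv σ v 0 = κ • tv σ v c := by rw [tv_zero_eq_one]; exact hκ
  have hκ1 := tv_smul_eq_one σ hn _ _ _ _ _ h2
  rw [hκ1, one_smul] at hκ
  obtain ⟨y, hy⟩ := exists_hf_ne_zero σ hσ2 v hv0
  have h3 := congrArg (fun M : Matrix (Fin n) (Fin n) F => M *ᵥ y) hκ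
  simp only [one_mulVec, tv_mulVec] at h3
  have h4 : (c * hf σ y v) • v = 0 := by
    have h5 : y + 0 = y + (c * hf σ y v) • v := by rw [add_zero]; exact h3
    exact (add_left_cancel h5).symm
  rcases smul_eq_zero.mp h4 with h5 | h5
  · exact (mul_ne_zero hc0 hy) h5
  · exact hv0 h5

/-- conjugating a root element (matrix form) -/
theorem su_conj_tv' (hσ : ∀ x, σ x = x ^ q) (hσ2 : ∀ a, σ (σ a) = a) (s t : ↥(Cfsg.SU n F q))
    (v : Fin n → F) (hv : hf σ v v = 0) (c : F) (hc : c + σ c = 0)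
    (ht : (t.1.1 : Matrix (Fin n) (Fin n) F) = tv σ v c) :
    ((s * t * s⁻¹ : ↥(Cfsg.SU n F q)).1.1 : Matrix (Fin n) (Fin n) F) =
      tv σ ((s.1.1 : Matrix (Fin n) (Fin n) F) *ᵥ v) c := by
  have h1 : t = suTv σ hσ hσ2 v hv c hc := su_ext' ht
  rw [h1, su_conj_tv σ hσ hσ2, suTv_coe]

/-- conjugating a Siegel element (matrix form) -/
theorem su_conj_sg' (hσ : ∀ x, σ x = x ^ q) (hσ2 : ∀ a, σ (σ a) = a) (s t : ↥(Cfsg.SU n F q))
    (e : Fin n → F) (he : hf σ e e = 0) (u : Fin n → F) (hu : hf σ u e = 0) (b : F)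
    (hb : b + σ b + hf σ u u = 0)
    (ht : (t.1.1 : Matrix (Fin n) (Fin n) F) = sieg σ e u b) :
    ((s * t * s⁻¹ : ↥(Cfsg.SU n F q)).1.1 : Matrix (Fin n) (Fin n) F) =
      sieg σ ((s.1.1 : Matrix (Fin n) (Fin n) F) *ᵥ e)
        ((s.1.1 : Matrix (Fin n) (Fin n) F) *ᵥ u) b := by
  have h1 : t = suSg σ hσ hσ2 e he u hu b hb := su_ext' ht
  rw [h1, su_conj_sg σ hσ hσ2, suSg_coe]

/-- commuting images of root elements have perpendicular centres (matrix form) -/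
theorem perp_of_commute' (hF : Fintype.card F = q ^ 2) (hσ : ∀ x, σ x = x ^ q)
    (hσ2 : ∀ a, σ (σ a) = a) (hn : 3 ≤ n) (s t : ↥(Cfsg.SU n F q)) (v w : Fin n → F)
    (hv0 : v ≠ 0) (hw0 : w ≠ 0) (hv : hf σ v v = 0) (hw : hf σ w w = 0) (c d : F)
    (hc : c + σ c = 0) (hd : d + σ d = 0) (hc0 : c ≠ 0) (hd0 : d ≠ 0)
    (hs : (s.1.1 : Matrix (Fin n) (Fin n) F) = tv σ v c)
    (ht : (t.1.1 : Matrix (Fin n) (Fin n) F) = tv σ w d)
    (h : Commute (QuotientGroup.mk s : Cfsg.PSU n F q) (QuotientGroup.mk t)) :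
    hf σ v w = 0 := by
  have h1 : s = suTv σ hσ hσ2 v hv c hc := su_ext' hs
  have h2 : t = suTv σ hσ hσ2 w hw d hd := su_ext' ht
  rw [h1, h2] at h
  exact perp_of_commute σ hF hσ hσ2 hn v w hv0 hw0 hv hw c d hc hd hc0 hd0 h

theorem commute_of_perp' (hσ : ∀ x, σ x = x ^ q) (hσ2 : ∀ a, σ (σ a) = a)
    (s t : ↥(Cfsg.SU n F q)) (v w : Fin n → F)
    (hv : hf σ v v = 0) (hw : hf σ w w = 0) (c d : F)
    (hc : c + σ c = 0) (hd : d + σ d = 0)
    (hs : (s.1.1 : Matrix (Fin n) (Fin n) F) = tv σ v c)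
    (ht : (t.1.1 : Matrix (Fin n) (Fin n) F) = tv σ w d) (hvw : hf σ v w = 0) :
    Commute s t := by
  have h1 : s = suTv σ hσ hσ2 v hv c hc := su_ext' hs
  have h2 : t = suTv σ hσ hσ2 w hw d hd := su_ext' ht
  rw [h1, h2]
  exact commute_of_perp σ hσ hσ2 v w hv hw c d hc hd hvw

/-- Siegel elements with vectors perpendicular to the hyperbolic pair are determined by their
images in `PSU`. -/
theorem sieg_inj_of_mk (hF : Fintype.card F = q ^ 2) (hσ2 : ∀ a, σ (σ a) = a) (hn : 1 ≤ n)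
    {e f : Fin n → F} (h : HP σ e f) (s s' : ↥(Cfsg.SU n F q)) (w w' : Fin n → F) (b b' : F)
    (hwe : hf σ w e = 0) (hwf : hf σ w f = 0) (hwe' : hf σ w' e = 0) (hwf' : hf σ w' f = 0)
    (hs : (s.1.1 : Matrix (Fin n) (Fin n) F) = sieg σ e w b)
    (hs' : (s'.1.1 : Matrix (Fin n) (Fin n) F) = sieg σ e w' b')
    (hmk : (QuotientGroup.mk s : Cfsg.PSU n F q) = QuotientGroup.mk s') : w = w' ∧ b = b' := by
  obtain ⟨κ, hκ⟩ := exists_smul_of_mk_eq hF hn s s' hmk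
  rw [hs, hs'] at hκ
  have he0 : e ≠ 0 := by
    intro h0
    have := h.vu
    rw [h0, hf_zero_right] at this
    exact zero_ne_one this
  have hκ1 : κ = 1 :=
    eq_of_smul_of_fix hκ e he0 (sieg_mulVec_center σ hσ2 e w' b' h.uu hwe')
      (sieg_mulVec_center σ hσ2 e w b h.uu hwe)
  rw [hκ1, one_smul] at hκ
  have h1 : sieg σ e w' b' *ᵥ f = sieg σ e w b *ᵥ f := by rw [hκ]
  have hfw : hf σ f w = 0 := by rw [hf_symm σ hσ2, hwf, map_zero]
  have hfw' : hf σ f w' = 0 := by rw [hf_symm σ hσ2, hwf', map_zero]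
  rw [sieg_mulVec_partner σ e f w' b' h.vu, sieg_mulVec_partner σ e f w b h.vu, hfw, hfw',
    sub_zero, sub_zero] at h1
  have h2 : w' + b' • e = w + b • e := by
    have h3 : f + (w' + b' • e) = f + (w + b • e) := by rw [← add_assoc, ← add_assoc]; exact h1
    exact add_left_cancel h3
  have h4 := congrArg (fun x => hf σ x f) h2
  simp only [hf_add_left, hf_smul_left, hwf, hwf', h.uv hσ2, mul_one, zero_add] at h4
  refine ⟨?_, h4.symm⟩
  rw [h4] at h2
  exact (add_right_cancel h2).symm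

theorem su_mulVec_ne_zero (s : ↥(Cfsg.SU n F q)) (v : Fin n → F) (hv : v ≠ 0) :
    (s.1.1 : Matrix (Fin n) (Fin n) F) *ᵥ v ≠ 0 := by
  intro h0
  apply hv
  have := su_inv_mulVec s v
  rw [h0, mulVec_zero] at this
  exact this.symm

theorem HP.ne_zero_left {e f : Fin n → F} (h : HP σ e f) : e ≠ 0 := by
  intro h0
  have := h.vu
  rw [h0, hf_zero_right] at this
  exact zero_ne_one this

theorem HP.ne_zero_right {e f : Fin n → F} (h : HP σ e f) : f ≠ 0 := by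
  intro h0
  have := h.vu
  rw [h0, hf_zero_left] at this
  exact zero_ne_one this

/-- an automorphism mapping the root group of `f` into itself preserves perpendicularity of the
points `s f`. -/
theorem perp_of_aut (hF : Fintype.card F = q ^ 2) (hσ : ∀ x, σ x = x ^ q)
    (hσne : σ ≠ RingHom.id F) (hσ2 : ∀ a, σ (σ a) = a) (hn : 3 ≤ n)
    (γ : MulAut (Cfsg.PSU n F q)) {f : Fin n → F} (hff : hf σ f f = 0) (hf0 : f ≠ 0)
    (hc : ∀ (s : ↥(Cfsg.SU n F q)) (c : F), c + σ c = 0 →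
      (s.1.1 : Matrix (Fin n) (Fin n) F) = tv σ f c →
      ∃ (s' : ↥(Cfsg.SU n F q)) (c' : F), c' + σ c' = 0 ∧
        (s'.1.1 : Matrix (Fin n) (Fin n) F) = tv σ f c' ∧
        γ (QuotientGroup.mk s) = QuotientGroup.mk s')
    (s₁ s₂ s₁' s₂' : ↥(Cfsg.SU n F q)) (h1 : γ (QuotientGroup.mk s₁) = QuotientGroup.mk s₁')
    (h2 : γ (QuotientGroup.mk s₂) = QuotientGroup.mk s₂')
    (hperp : hf σ ((s₁.1.1 : Matrix (Fin n) (Fin n) F) *ᵥ f)
      ((s₂.1.1 : Matrix (Fin n) (Fin n) F) *ᵥ f) = 0) :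
    hf σ ((s₁'.1.1 : Matrix (Fin n) (Fin n) F) *ᵥ f)
      ((s₂'.1.1 : Matrix (Fin n) (Fin n) F) *ᵥ f) = 0 := by
  obtain ⟨ε, hε0, hε⟩ := exists_trace_zero_ne σ hσne hσ2
  set t := suTv σ hσ hσ2 f hff ε hε with ht
  obtain ⟨t', ε', hε', ht', hγt⟩ := hc t ε hε (suTv_coe σ hσ hσ2 f hff ε hε)
  have hε'0 : ε' ≠ 0 := by
    intro h0
    have h3 : t' = 1 := by
      apply su_ext'
      rw [ht', h0, tv_zero_eq_one]
      rfl
    rw [h3, QuotientGroup.mk_one] at hγt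
    have h4 : (QuotientGroup.mk t : Cfsg.PSU n F q) = 1 := by
      have := congrArg γ.symm hγt
      rwa [map_one, MulEquiv.symm_apply_apply] at this
    exact mk_tv_ne_one σ hF hσ2 hn t f hf0 ε hε0 (suTv_coe σ hσ hσ2 f hff ε hε) h4
  have hx₁ := su_conj_tv' σ hσ hσ2 s₁ t f hff ε hε (suTv_coe σ hσ hσ2 f hff ε hε)
  have hx₂ := su_conj_tv' σ hσ hσ2 s₂ t f hff ε hε (suTv_coe σ hσ hσ2 f hff ε hε)
  have hy₁ := su_conj_tv' σ hσ hσ2 s₁' t' f hff ε' hε' ht'
  have hy₂ := su_conj_tv' σ hσ hσ2 s₂' t' f hff ε' hε' ht'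
  have hcomm : Commute (s₁ * t * s₁⁻¹) (s₂ * t * s₂⁻¹) :=
    commute_of_perp' σ hσ hσ2 _ _ _ _ (by rw [su_preserves σ hσ, hff])
      (by rw [su_preserves σ hσ, hff]) ε ε hε hε hx₁ hx₂ hperp
  have hcomm' : Commute (QuotientGroup.mk (s₁' * t' * s₁'⁻¹) : Cfsg.PSU n F q)
      (QuotientGroup.mk (s₂' * t' * s₂'⁻¹)) := by
    have h5 : ∀ (a a' : ↥(Cfsg.SU n F q)), γ (QuotientGroup.mk a) = QuotientGroup.mk a' →
        γ (QuotientGroup.mk (a * t * a⁻¹)) = QuotientGroup.mk (a' * t' * a'⁻¹) := by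
      intro a a' haa
      rw [QuotientGroup.mk_mul, QuotientGroup.mk_mul, QuotientGroup.mk_inv, map_mul, map_mul,
        map_inv, haa, hγt, QuotientGroup.mk_mul, QuotientGroup.mk_mul, QuotientGroup.mk_inv]
    rw [← h5 s₁ s₁' h1, ← h5 s₂ s₂' h2]
    have h6 : Commute (QuotientGroup.mk (s₁ * t * s₁⁻¹) : Cfsg.PSU n F q)
        (QuotientGroup.mk (s₂ * t * s₂⁻¹)) := by
      unfold Commute SemiconjBy
      rw [← QuotientGroup.mk_mul, ← QuotientGroup.mk_mul, hcomm.eq]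
    exact h6.map γ
  exact perp_of_commute' σ hF hσ hσ2 hn _ _ _ _ (su_mulVec_ne_zero s₁' f hf0)
    (su_mulVec_ne_zero s₂' f hf0) (by rw [su_preserves σ hσ, hff])
    (by rw [su_preserves σ hσ, hff]) ε' ε' hε' hε' hε'0 hε'0 hy₁ hy₂ hcomm'

/-- the form on the points `sieg e w b f` opposite to `e`. -/
theorem hf_sieg_partner (hσ2 : ∀ a, σ (σ a) = a) {e f : Fin n → F} (h : HP σ e f)
    (w₁ w₂ : Fin n → F) (b₁ b₂ : F) (h1e : hf σ w₁ e = 0) (h1f : hf σ w₁ f = 0)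
    (h2e : hf σ w₂ e = 0) (h2f : hf σ w₂ f = 0) :
    hf σ (sieg σ e w₁ b₁ *ᵥ f) (sieg σ e w₂ b₂ *ᵥ f) = hf σ w₁ w₂ + b₁ + σ b₂ := by
  have hfw₁ : hf σ f w₁ = 0 := by rw [hf_symm σ hσ2, h1f, map_zero]
  have hfw₂ : hf σ f w₂ = 0 := by rw [hf_symm σ hσ2, h2f, map_zero]
  have hew₂ : hf σ e w₂ = 0 := by rw [hf_symm σ hσ2, h2e, map_zero]
  rw [sieg_mulVec_partner σ e f w₁ b₁ h.vu, sieg_mulVec_partner σ e f w₂ b₂ h.vu, hfw₁, hfw₂,
    sub_zero, sub_zero]
  simp only [hf_add_left, hf_add_right, hf_smul_left, hf_smul_right, h.uu, h.vv, h.vu, h.uv hσ2,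
    hfw₂, hew₂, h1e, h1f]
  ring

/-- scaling an isotropic vector not perpendicular to `w` so that the trace of `h(w, y)` is the
norm of `w`. -/
theorem exists_iso_trace_of_ne (hσne : σ ≠ RingHom.id F) (hσ2 : ∀ a, σ (σ a) = a)
    (e f w y₀ : Fin n → F) (hy₀e : hf σ y₀ e = 0) (hy₀f : hf σ y₀ f = 0) (hy₀ : hf σ y₀ y₀ = 0)
    (hne : hf σ w y₀ ≠ 0) :
    ∃ y : Fin n → F, hf σ y e = 0 ∧ hf σ y f = 0 ∧ hf σ y y = 0 ∧
      hf σ w y + σ (hf σ w y) = hf σ w w := by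
  obtain ⟨b₀, hb₀⟩ := trace_surj σ hσne hσ2 (hf σ w w) (hf_self_fixed σ hσ2 w)
  refine ⟨σ (b₀ / hf σ w y₀) • y₀, ?_, ?_, ?_, ?_⟩
  · rw [hf_smul_left, hy₀e, mul_zero]
  · rw [hf_smul_left, hy₀f, mul_zero]
  · rw [hf_smul_left, hf_smul_right, hy₀, mul_zero, mul_zero]
  · rw [hf_smul_right, hσ2, div_mul_cancel₀ _ hne, hb₀]

/-- in dimension at least four, every `w ⊥ e, f` admits an isotropic `y ⊥ e, f` with
`Tr h(w, y) = h(w, w)`. -/
theorem exists_iso_trace (hσne : σ ≠ RingHom.id F) (hσ2 : ∀ a, σ (σ a) = a) (hn : 4 ≤ n)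
    {e f : Fin n → F} (h : HP σ e f) (w : Fin n → F) (hwe : hf σ w e = 0) (hwf : hf σ w f = 0) :
    ∃ y : Fin n → F, hf σ y e = 0 ∧ hf σ y f = 0 ∧ hf σ y y = 0 ∧
      hf σ w y + σ (hf σ w y) = hf σ w w := by
  by_cases hww : hf σ w w = 0
  · exact ⟨0, hf_zero_left σ e, hf_zero_left σ f, hf_zero_left σ 0, by
      rw [hf_zero_right, map_zero, add_zero, hww]⟩
  obtain ⟨y₀, hy₀0, hy₀e, hy₀f, hy₀⟩ := exists_isotropic_perp σ hσne hσ2 hn h
  by_cases h0 : hf σ w y₀ = 0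
  swap
  · exact exists_iso_trace_of_ne σ hσne hσ2 e f w y₀ hy₀e hy₀f hy₀ h0
  -- a partner of `y₀` inside `W`
  obtain ⟨x', hx'⟩ := exists_hf_ne_zero σ hσ2 y₀ hy₀0
  have hx : hf σ (pr σ e f x') y₀ ≠ 0 := by
    rw [hf_pr_left σ hσ2 x' y₀ hy₀e hy₀f]
    exact hx'
  obtain ⟨a, b, hP⟩ := exists_partner σ hσne hσ2 y₀ (pr σ e f x') hy₀ hx
  set y₁ := a • pr σ e f x' + b • y₀ with hy₁
  have hy₁e : hf σ y₁ e = 0 := by
    rw [hy₁, hf_add_left, hf_smul_left, hf_smul_left, hf_pr_u σ h, hy₀e, mul_zero, mul_zero,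
      add_zero]
  have hy₁f : hf σ y₁ f = 0 := by
    rw [hy₁, hf_add_left, hf_smul_left, hf_smul_left, hf_pr_v σ hσ2 h, hy₀f, mul_zero, mul_zero,
      add_zero]
  by_cases h1 : hf σ w y₁ = 0
  swap
  · exact exists_iso_trace_of_ne σ hσne hσ2 e f w y₁ hy₁e hy₁f hP.vv h1
  -- `w ⊥ y₀, y₁`: use `w + α y₀ + y₁`
  obtain ⟨α, hα⟩ := trace_surj σ hσne hσ2 (-(hf σ w w)) (by
    rw [map_neg, hf_self_fixed σ hσ2])
  have hy₀w : hf σ y₀ w = 0 := by rw [hf_symm σ hσ2, h0, map_zero]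
  have hy₁w : hf σ y₁ w = 0 := by rw [hf_symm σ hσ2, h1, map_zero]
  refine exists_iso_trace_of_ne σ hσne hσ2 e f w (w + α • y₀ + y₁) ?_ ?_ ?_ ?_
  · rw [hf_add_left, hf_add_left, hf_smul_left, hwe, hy₀e, hy₁e, mul_zero, add_zero, add_zero]
  · rw [hf_add_left, hf_add_left, hf_smul_left, hwf, hy₀f, hy₁f, mul_zero, add_zero, add_zero]
  · simp only [hf_add_left, hf_add_right, hf_smul_left, hf_smul_right, h0, h1, hy₀w, hy₁w, hy₀,
      hP.vv, hP.vu, hP.uv hσ2]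
    linear_combination hα
  · rw [hf_add_right, hf_add_right, hf_smul_right, h0, h1, mul_zero, add_zero, add_zero]
    exact hww

/-- `γ` maps Siegel elements with vector `w ⊥ e, f` to Siegel elements with the same vector. -/
def SiegStable (γ : MulAut (Cfsg.PSU n F q)) (e f : Fin n → F) : Prop :=
  ∀ (s : ↥(Cfsg.SU n F q)) (w : Fin n → F) (b : F), hf σ w e = 0 → hf σ w f = 0 →
    b + σ b + hf σ w w = 0 → (s.1.1 : Matrix (Fin n) (Fin n) F) = sieg σ e w b →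
    ∃ (s' : ↥(Cfsg.SU n F q)) (b' : F), b' + σ b' + hf σ w w = 0 ∧
      (s'.1.1 : Matrix (Fin n) (Fin n) F) = sieg σ e w b' ∧
      γ (QuotientGroup.mk s) = QuotientGroup.mk s'

/-- `γ` fixes the images of the root elements with centre `e`. -/
def RootFix (γ : MulAut (Cfsg.PSU n F q)) (e : Fin n → F) : Prop :=
  ∀ (s : ↥(Cfsg.SU n F q)) (c : F), c + σ c = 0 →
    (s.1.1 : Matrix (Fin n) (Fin n) F) = tv σ e c → γ (QuotientGroup.mk s) = QuotientGroup.mk s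

/-- `γ` maps the root group with centre `f` into itself. -/
def RootStable (γ : MulAut (Cfsg.PSU n F q)) (f : Fin n → F) : Prop :=
  ∀ (s : ↥(Cfsg.SU n F q)) (c : F), c + σ c = 0 →
    (s.1.1 : Matrix (Fin n) (Fin n) F) = tv σ f c →
    ∃ (s' : ↥(Cfsg.SU n F q)) (c' : F), c' + σ c' = 0 ∧
      (s'.1.1 : Matrix (Fin n) (Fin n) F) = tv σ f c' ∧
      γ (QuotientGroup.mk s) = QuotientGroup.mk s'

/-- Siegel elements with isotropic vector are fixed. -/
theorem fix_siegel_iso (hF : Fintype.card F = q ^ 2) (hσ : ∀ x, σ x = x ^ q)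
    (hσne : σ ≠ RingHom.id F) (hσ2 : ∀ a, σ (σ a) = a) (hn : 3 ≤ n)
    (γ : MulAut (Cfsg.PSU n F q)) {e f : Fin n → F} (h : HP σ e f)
    (hS : SiegStable σ γ e f) (hE : RootFix σ γ e) (hR : RootStable σ γ f)
    (s : ↥(Cfsg.SU n F q)) (y : Fin n → F) (b : F) (hye : hf σ y e = 0) (hyf : hf σ y f = 0)
    (hyy : hf σ y y = 0) (hb : b + σ b = 0)
    (hs : (s.1.1 : Matrix (Fin n) (Fin n) F) = sieg σ e y b) :
    γ (QuotientGroup.mk s) = QuotientGroup.mk s := by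
  obtain ⟨s', b', hb', hs', hγ⟩ := hS s y b hye hyf (by rw [hyy, add_zero, hb]) hs
  set t := suTv σ hσ hσ2 e h.uu b hb with ht
  have htc : (t.1.1 : Matrix (Fin n) (Fin n) F) = sieg σ e 0 b := rfl
  have hγt := hE t b hb rfl
  have h0e : hf σ (0 : Fin n → F) e = 0 := hf_zero_left σ e
  have h0f : hf σ (0 : Fin n → F) f = 0 := hf_zero_left σ f
  have hperp : hf σ ((s.1.1 : Matrix (Fin n) (Fin n) F) *ᵥ f)
      ((t.1.1 : Matrix (Fin n) (Fin n) F) *ᵥ f) = 0 := by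
    rw [hs, htc, hf_sieg_partner σ hσ2 h y 0 b b hye hyf h0e h0f, hf_zero_right, zero_add, hb]
  have h1 := perp_of_aut σ hF hσ hσne hσ2 hn γ h.vv (HP.ne_zero_right σ h) hR s t s' t hγ hγt hperp
  rw [hs', htc, hf_sieg_partner σ hσ2 h y 0 b' b hye hyf h0e h0f, hf_zero_right, zero_add] at h1
  have hbb : b' = b := by linear_combination h1 - hb
  have : s' = s := by
    apply su_ext'
    rw [hs', hs, hbb]
  rw [hγ, this]

/-- in dimension at least four all Siegel elements are fixed. -/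
theorem fix_siegel_four (hF : Fintype.card F = q ^ 2) (hσ : ∀ x, σ x = x ^ q)
    (hσne : σ ≠ RingHom.id F) (hσ2 : ∀ a, σ (σ a) = a) (hn : 4 ≤ n)
    (γ : MulAut (Cfsg.PSU n F q)) {e f : Fin n → F} (h : HP σ e f)
    (hS : SiegStable σ γ e f) (hE : RootFix σ γ e) (hR : RootStable σ γ f)
    (s : ↥(Cfsg.SU n F q)) (w : Fin n → F) (b : F) (hwe : hf σ w e = 0) (hwf : hf σ w f = 0)
    (hb : b + σ b + hf σ w w = 0)
    (hs : (s.1.1 : Matrix (Fin n) (Fin n) F) = sieg σ e w b) :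
    γ (QuotientGroup.mk s) = QuotientGroup.mk s := by
  obtain ⟨s', b', hb', hs', hγ⟩ := hS s w b hwe hwf hb hs
  obtain ⟨y, hye, hyf, hyy, hy⟩ := exists_iso_trace σ hσne hσ2 hn h w hwe hwf
  have hyw : hf σ y w = σ (hf σ w y) := hf_symm σ hσ2 y w
  have hby : (-σ b - hf σ y w) + σ (-σ b - hf σ y w) = 0 := by
    rw [map_sub, map_neg, hσ2, hyw, hσ2]
    linear_combination -hb - hy
  set t := suSg σ hσ hσ2 e h.uu y hye (-σ b - hf σ y w) (by rw [hyy, add_zero, hby]) with ht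
  have htc : (t.1.1 : Matrix (Fin n) (Fin n) F) = sieg σ e y (-σ b - hf σ y w) := rfl
  have hγt := fix_siegel_iso σ hF hσ hσne hσ2 (by omega) γ h hS hE hR t y _ hye hyf hyy hby htc
  have hσby : σ (-σ b - hf σ y w) = -b - hf σ w y := by
    rw [map_sub, map_neg, hσ2, hyw, hσ2]
  have hperp : hf σ ((s.1.1 : Matrix (Fin n) (Fin n) F) *ᵥ f)
      ((t.1.1 : Matrix (Fin n) (Fin n) F) *ᵥ f) = 0 := by
    rw [hs, htc, hf_sieg_partner σ hσ2 h w y _ _ hwe hwf hye hyf, hσby]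
    ring
  have h1 := perp_of_aut σ hF hσ hσne hσ2 (by omega) γ h.vv (HP.ne_zero_right σ h) hR s t s' t hγ
    hγt hperp
  rw [hs', htc, hf_sieg_partner σ hσ2 h w y _ _ hwe hwf hye hyf, hσby] at h1
  have hbb : b' = b := by linear_combination h1
  have : s' = s := by
    apply su_ext'
    rw [hs', hs, hbb]
  rw [hγ, this]

theorem map_conj_mk (γ : MulAut (Cfsg.PSU n F q)) (a a' t t' : ↥(Cfsg.SU n F q))
    (ha : γ (QuotientGroup.mk a) = QuotientGroup.mk a')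
    (ht : γ (QuotientGroup.mk t) = QuotientGroup.mk t') :
    γ (QuotientGroup.mk (a * t * a⁻¹)) = QuotientGroup.mk (a' * t' * a'⁻¹) := by
  rw [QuotientGroup.mk_mul, QuotientGroup.mk_mul, QuotientGroup.mk_inv, map_mul, map_mul,
    map_inv, ha, ht, QuotientGroup.mk_mul, QuotientGroup.mk_mul, QuotientGroup.mk_inv]

/-- an automorphism fixing the root group of `e` pointwise and the root group of `f` setwise fixes
the root group of `f` pointwise. -/
theorem rootFix_partner (hF : Fintype.card F = q ^ 2) (hσ : ∀ x, σ x = x ^ q)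
    (hσne : σ ≠ RingHom.id F) (hσ2 : ∀ a, σ (σ a) = a) (hn : 3 ≤ n)
    (γ : MulAut (Cfsg.PSU n F q)) {e f : Fin n → F} (h : HP σ e f)
    (hE : RootFix σ γ e) (hR : RootStable σ γ f) : RootFix σ γ f := by
  intro s c hc hs
  by_cases hc0 : c = 0
  · have : s = 1 := by
      apply su_ext'
      rw [hs, hc0, tv_zero_eq_one]
      rfl
    rw [this, QuotientGroup.mk_one, map_one]
  obtain ⟨s', c', hc', hs', hγ⟩ := hR s c hc hs
  obtain ⟨ε, hε0, hε⟩ := exists_trace_zero_ne σ hσne hσ2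
  -- the root element `tv e ε` and its conjugate by `s`
  set te := suTv σ hσ hσ2 e h.uu ε hε with hte
  have hγte := hE te ε hε rfl
  have hx := su_conj_tv' σ hσ hσ2 s te e h.uu ε hε rfl
  have hx' := su_conj_tv' σ hσ hσ2 s' te e h.uu ε hε rfl
  have hse : (s.1.1 : Matrix (Fin n) (Fin n) F) *ᵥ e = e + c • f := by
    rw [hs, tv_mulVec, h.uv hσ2, mul_one]
  have hse' : (s'.1.1 : Matrix (Fin n) (Fin n) F) *ᵥ e = e + c' • f := by
    rw [hs', tv_mulVec, h.uv hσ2, mul_one]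
  rw [hse] at hx
  rw [hse'] at hx'
  -- the same element as a conjugate of a root element with centre `f`
  have hcinv : c⁻¹ + σ c⁻¹ = 0 := by
    have h1 : σ c = -c := by linear_combination hc
    rw [map_inv₀, h1]
    field_simp
    ring
  have hNc : ε * (c * σ c) + σ (ε * (c * σ c)) = 0 := by
    rw [map_mul, map_mul, hσ2]
    linear_combination (c * σ c) * hε
  set r := suTv σ hσ hσ2 e h.uu c⁻¹ hcinv with hr
  set tf := suTv σ hσ hσ2 f h.vv (ε * (c * σ c)) hNc with htf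
  have hγr := hE r c⁻¹ hcinv rfl
  obtain ⟨tf', d', hd', htf', hγtf⟩ := hR tf _ hNc rfl
  have hz := su_conj_tv' σ hσ hσ2 r tf f h.vv _ hNc rfl
  have hz' := su_conj_tv' σ hσ hσ2 r tf' f h.vv d' hd' htf'
  have hrf : (r.1.1 : Matrix (Fin n) (Fin n) F) *ᵥ f = f + c⁻¹ • e := by
    show tv σ e c⁻¹ *ᵥ f = _
    rw [tv_mulVec, h.vu, mul_one]
  rw [hrf] at hz hz'
  have hxz : s * te * s⁻¹ = r * tf * r⁻¹ := by
    apply su_ext'
    rw [hx, hz]
    have h2 : e + c • f = c • (f + c⁻¹ • e) := by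
      rw [smul_add, smul_smul, mul_inv_cancel₀ hc0, one_smul, add_comm]
    rw [h2, tv_smul_center]
  have h3 : γ (QuotientGroup.mk (s * te * s⁻¹)) = QuotientGroup.mk (s' * te * s'⁻¹) :=
    map_conj_mk γ s s' te te hγ hγte
  have h4 : γ (QuotientGroup.mk (r * tf * r⁻¹)) = QuotientGroup.mk (r * tf' * r⁻¹) :=
    map_conj_mk γ r r tf tf' hγr hγtf
  rw [hxz, h4] at h3
  obtain ⟨κ, hκ⟩ := exists_smul_of_mk_eq hF (by omega) _ _ h3
  rw [hx', hz'] at hκ
  have hκ1 := tv_smul_eq_one σ hn _ _ _ _ _ hκ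
  rw [hκ1, one_smul] at hκ
  have hv0 : e + c' • f ≠ 0 := by
    intro h0
    have := congrArg (fun x => hf σ x f) h0
    simp only [hf_add_left, hf_smul_left, h.uv hσ2, h.vv, mul_zero, add_zero, hf_zero_left] at this
    exact one_ne_zero this
  obtain ⟨l, hl⟩ := tv_eq_tv_center σ hσ2 _ _ hv0 ε d' hε0 hκ
  have h5 := congrArg (fun x => hf σ x f) hl
  have h6 := congrArg (fun x => hf σ x e) hl
  simp only [hf_add_left, hf_smul_left, h.uv hσ2, h.vv, h.uu, h.vu, mul_zero, add_zero, mul_one,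
    zero_add] at h5 h6
  -- h5 : 1 = l * c⁻¹, h6 : c' = l
  have h7 : c' = c := by
    rw [h6]
    have : l * c⁻¹ * c = 1 * c := by rw [← h5]
    rw [mul_assoc, inv_mul_cancel₀ hc0, mul_one, one_mul] at this
    exact this
  have : s' = s := by
    apply su_ext'
    rw [hs', hs, h7]
  rw [hγ, this]

/-- an isometry of determinant one, as an element of `SU`. -/
def suOfMat (hσ : ∀ x, σ x = x ^ q) (M : Matrix (Fin n) (Fin n) F)
    (hM : ∀ x y, hf σ (M *ᵥ x) (M *ᵥ y) = hf σ x y) (hdet : M.det = 1) : ↥(Cfsg.SU n F q) :=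
  ⟨⟨M, hdet⟩, by
    intro x y
    show Cfsg.hermForm n F q (M *ᵥ x) (M *ᵥ y) = Cfsg.hermForm n F q x y
    rw [hermForm_eq_hf σ hσ, hermForm_eq_hf σ hσ]
    exact hM x y⟩

theorem suOfMat_coe (hσ : ∀ x, σ x = x ^ q) (M : Matrix (Fin n) (Fin n) F)
    (hM : ∀ x y, hf σ (M *ᵥ x) (M *ᵥ y) = hf σ x y) (hdet : M.det = 1) :
    ((suOfMat σ hσ M hM hdet : ↥(Cfsg.SU n F q)).1.1 : Matrix (Fin n) (Fin n) F) = M := rfl

/-- the torus matrix `c • hypDil e f a a`. -/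
def torMat (e f : Fin n → F) (a c : F) : Matrix (Fin n) (Fin n) F := c • hypDil σ e f a a

theorem torMat_mulVec {e f : Fin n → F} (h : HP σ e f) (a c : F) (x : Fin n → F) :
    torMat σ e f a c *ᵥ x =
      c • (x + ((a - 1) * hf σ x e) • f + ((a - 1) * hf σ x f) • e) := by
  unfold torMat
  rw [Matrix.smul_mulVec, hypDil_mulVec σ h]

theorem torMat_hf (hσ2 : ∀ a, σ (σ a) = a) {e f : Fin n → F} (h : HP σ e f) (a c : F)
    (ha : a * σ a = 1) (hc : c * σ c = 1) (x y : Fin n → F) :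
    hf σ (torMat σ e f a c *ᵥ x) (torMat σ e f a c *ᵥ y) = hf σ x y := by
  unfold torMat
  rw [Matrix.smul_mulVec, Matrix.smul_mulVec, hf_smul_left, hf_smul_right,
    hypDil_hf σ hσ2 h a a (by rw [mul_comm]; exact ha), ← mul_assoc, hc, one_mul]

theorem torMat_det (hσ2 : ∀ a, σ (σ a) = a) {e f : Fin n → F} (h : HP σ e f) (a c : F)
    (hac : c ^ n * a ^ 2 = 1) : (torMat σ e f a c).det = 1 := by
  unfold torMat
  rw [Matrix.det_smul, hypDil_det σ hσ2 h, Fintype.card_fin, ← hac]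
  ring

theorem torMat_e (hσ2 : ∀ a, σ (σ a) = a) {e f : Fin n → F} (h : HP σ e f) (a c : F) :
    torMat σ e f a c *ᵥ e = (c * a) • e := by
  rw [torMat_mulVec σ h, h.uu, h.uv hσ2]
  module

theorem torMat_f {e f : Fin n → F} (h : HP σ e f) (a c : F) :
    torMat σ e f a c *ᵥ f = (c * a) • f := by
  rw [torMat_mulVec σ h, h.vv, h.vu]
  module

theorem torMat_perp {e f : Fin n → F} (h : HP σ e f) (a c : F) (w : Fin n → F)
    (hwe : hf σ w e = 0) (hwf : hf σ w f = 0) : torMat σ e f a c *ᵥ w = c • w := by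
  rw [torMat_mulVec σ h, hwe, hwf]
  module

theorem suSg_inv (hσ : ∀ x, σ x = x ^ q) (hσ2 : ∀ a, σ (σ a) = a) (s : ↥(Cfsg.SU n F q))
    (e : Fin n → F) (he : hf σ e e = 0) (u : Fin n → F) (hu : hf σ u e = 0) (b : F)
    (hb : b + σ b + hf σ u u = 0) (hs : (s.1.1 : Matrix (Fin n) (Fin n) F) = sieg σ e u b) :
    ((s⁻¹ : ↥(Cfsg.SU n F q)).1.1 : Matrix (Fin n) (Fin n) F) = sieg σ e (-u) (σ b) := by
  have hu' : hf σ (-u) e = 0 := by rw [hf_neg_left, hu, neg_zero]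
  have hb' : σ b + σ (σ b) + hf σ (-u) (-u) = 0 := by
    have : hf σ (-u) (-u) = hf σ u u := by
      rw [hf_neg_left, hf_symm σ hσ2, hf_neg_left, map_neg, ← hf_symm σ hσ2, neg_neg]
    rw [hσ2, this]
    linear_combination hb
  have h1 : s * suSg σ hσ hσ2 e he (-u) hu' (σ b) hb' = 1 := by
    apply su_ext'
    rw [su_mul_coe, hs, suSg_coe, sieg_mul_inv σ hσ2 e u b he hu hb]
    rfl
  rw [inv_eq_of_mul_eq_one_right h1, suSg_coe]

/-- **torus argument**: if some torus element `c • hypDil e f a a` (`N a = N c = 1`, `a ≠ 1`) has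
determinant one, then all Siegel elements are fixed. -/
theorem fix_siegel_torus (hF : Fintype.card F = q ^ 2) (hσ : ∀ x, σ x = x ^ q)
    (hσne : σ ≠ RingHom.id F) (hσ2 : ∀ a, σ (σ a) = a) (hn : 3 ≤ n)
    (γ : MulAut (Cfsg.PSU n F q)) {e f : Fin n → F} (h : HP σ e f)
    (hS : SiegStable σ γ e f) (hE : RootFix σ γ e) (hR : RootStable σ γ f)
    (a c : F) (ha : a * σ a = 1) (hc : c * σ c = 1) (hac : c ^ n * a ^ 2 = 1) (ha1 : a ≠ 1)
    (s : ↥(Cfsg.SU n F q)) (w : Fin n → F) (b : F) (hwe : hf σ w e = 0) (hwf : hf σ w f = 0)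
    (hb : b + σ b + hf σ w w = 0)
    (hs : (s.1.1 : Matrix (Fin n) (Fin n) F) = sieg σ e w b) :
    γ (QuotientGroup.mk s) = QuotientGroup.mk s := by
  classical
  have hRf := rootFix_partner σ hF hσ hσne hσ2 hn γ h hE hR
  obtain ⟨ε, hε0, hε⟩ := exists_trace_zero_ne σ hσne hσ2
  have he0 := HP.ne_zero_left σ h
  have hf0 := HP.ne_zero_right σ h
  -- the torus element
  set g := suOfMat σ hσ (torMat σ e f a c) (torMat_hf σ hσ2 h a c ha hc)
    (torMat_det σ hσ2 h a c hac) with hg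
  have hgc : (g.1.1 : Matrix (Fin n) (Fin n) F) = torMat σ e f a c := rfl
  obtain ⟨g', hg'⟩ := QuotientGroup.mk_surjective (γ (QuotientGroup.mk g))
  have hca : (c * a) * σ (c * a) = 1 := by
    rw [map_mul]
    linear_combination (c * σ c) * ha + hc
  have hσa : σ a * a = 1 := by rw [mul_comm]; exact ha
  have hσc : σ c * c = 1 := by rw [mul_comm]; exact hc
  set te := suTv σ hσ hσ2 e h.uu ε hε with hte
  set tf := suTv σ hσ hσ2 f h.vv ε hε with htf
  have hγte := hE te ε hε rfl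
  have hγtf := hRf tf ε hε rfl
  have h1 : g * te * g⁻¹ = te := by
    apply su_ext'
    rw [su_conj_tv' σ hσ hσ2 g te e h.uu ε hε rfl, hgc, torMat_e σ hσ2 h, tv_smul_center, hca,
      mul_one]
    rfl
  have h1f : g * tf * g⁻¹ = tf := by
    apply su_ext'
    rw [su_conj_tv' σ hσ hσ2 g tf f h.vv ε hε rfl, hgc, torMat_f σ h, tv_smul_center, hca,
      mul_one]
    rfl
  have h2 : (QuotientGroup.mk g' : Cfsg.PSU n F q) * QuotientGroup.mk te *
      (QuotientGroup.mk g')⁻¹ = QuotientGroup.mk te := by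
    have := map_conj_mk γ g g' te te hg'.symm hγte
    rw [h1, hγte] at this
    rw [← QuotientGroup.mk_inv, ← QuotientGroup.mk_mul, ← QuotientGroup.mk_mul]
    exact this.symm
  have h2f : (QuotientGroup.mk g' : Cfsg.PSU n F q) * QuotientGroup.mk tf *
      (QuotientGroup.mk g')⁻¹ = QuotientGroup.mk tf := by
    have := map_conj_mk γ g g' tf tf hg'.symm hγtf
    rw [h1f, hγtf] at this
    rw [← QuotientGroup.mk_inv, ← QuotientGroup.mk_mul, ← QuotientGroup.mk_mul]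
    exact this.symm
  obtain ⟨a', ha'⟩ := mulVec_mem_of_conj σ hF hσ hσ2 hn g' e e he0 h.uu h.uu ε ε hε hε hε0 h2
  obtain ⟨a'', ha''⟩ := mulVec_mem_of_conj σ hF hσ hσ2 hn g' f f hf0 h.vv h.vv ε ε hε hε hε0 h2f
  have ha'0 : a' ≠ 0 := by
    intro h0
    apply su_mulVec_ne_zero g' e he0
    rw [ha', h0, zero_smul]
  have ha''0 : a'' ≠ 0 := by
    intro h0
    apply su_mulVec_ne_zero g' f hf0
    rw [ha'', h0, zero_smul]
  have hperp : ∀ x : Fin n → F, hf σ x e = 0 → hf σ x f = 0 →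
      hf σ ((g'.1.1 : Matrix (Fin n) (Fin n) F) *ᵥ x) e = 0 ∧
      hf σ ((g'.1.1 : Matrix (Fin n) (Fin n) F) *ᵥ x) f = 0 := by
    intro x hxe hxf
    have h3 := su_preserves σ hσ g' x e
    have h4 := su_preserves σ hσ g' x f
    rw [ha', hf_smul_right, hxe] at h3
    rw [ha'', hf_smul_right, hxf] at h4
    constructor
    · rcases mul_eq_zero.mp h3 with h5 | h5
      · exact absurd ((map_eq_zero σ).mp h5) ha'0
      · exact h5
    · rcases mul_eq_zero.mp h4 with h5 | h5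
      · exact absurd ((map_eq_zero σ).mp h5) ha''0
      · exact h5
  -- the key computation
  have key : ∀ (s s' : ↥(Cfsg.SU n F q)) (w : Fin n → F) (b b' : F), hf σ w e = 0 →
      hf σ w f = 0 → b + σ b + hf σ w w = 0 → b' + σ b' + hf σ w w = 0 →
      (s.1.1 : Matrix (Fin n) (Fin n) F) = sieg σ e w b →
      (s'.1.1 : Matrix (Fin n) (Fin n) F) = sieg σ e w b' →
      γ (QuotientGroup.mk s) = QuotientGroup.mk s' →
      ((g * s * g⁻¹ : ↥(Cfsg.SU n F q)).1.1 : Matrix (Fin n) (Fin n) F) = sieg σ e (σ a • w) b ∧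
      ∃ s'' : ↥(Cfsg.SU n F q),
        (s''.1.1 : Matrix (Fin n) (Fin n) F) = sieg σ e (σ a • w) (a' * σ a' * b') ∧
        γ (QuotientGroup.mk (g * s * g⁻¹)) = QuotientGroup.mk s'' := by
    intro s s' w b b' hwe hwf hb hb' hs hs' hγ
    have hx : ((g * s * g⁻¹ : ↥(Cfsg.SU n F q)).1.1 : Matrix (Fin n) (Fin n) F) =
        sieg σ e (σ a • w) b := by
      rw [su_conj_sg' σ hσ hσ2 g s e h.uu w hwe b hb hs, hgc, torMat_e σ hσ2 h,
        torMat_perp σ h a c w hwe hwf, sieg_smul_center σ hσ2, hca, one_mul, smul_smul, map_mul,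
        mul_assoc, mul_comm (σ a) c, ← mul_assoc, hσc, one_mul]
    refine ⟨hx, ?_⟩
    have hx' : ((g' * s' * g'⁻¹ : ↥(Cfsg.SU n F q)).1.1 : Matrix (Fin n) (Fin n) F) =
        sieg σ e (σ a' • ((g'.1.1 : Matrix (Fin n) (Fin n) F) *ᵥ w)) (a' * σ a' * b') := by
      rw [su_conj_sg' σ hσ hσ2 g' s' e h.uu w hwe b' hb' hs', ha', sieg_smul_center σ hσ2]
    have hγx := map_conj_mk γ g g' s s' hg'.symm hγ
    have hkwe : hf σ (σ a • w) e = 0 := by rw [hf_smul_left, hwe, mul_zero]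
    have hkwf : hf σ (σ a • w) f = 0 := by rw [hf_smul_left, hwf, mul_zero]
    have hbk : b + σ b + hf σ (σ a • w) (σ a • w) = 0 := by
      rw [hf_smul_left, hf_smul_right, hσ2, ← mul_assoc, hσa, one_mul]
      exact hb
    obtain ⟨x'', b'', hb'', hx'', hγx''⟩ := hS (g * s * g⁻¹) (σ a • w) b hkwe hkwf hbk hx
    have hgw := hperp w hwe hwf
    have h5 := sieg_inj_of_mk σ hF hσ2 (by omega) h (g' * s' * g'⁻¹) x''
      (σ a' • ((g'.1.1 : Matrix (Fin n) (Fin n) F) *ᵥ w)) (σ a • w) (a' * σ a' * b') b''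
      (by rw [hf_smul_left, hgw.1, mul_zero]) (by rw [hf_smul_left, hgw.2, mul_zero]) hkwe hkwf
      hx' hx'' (by rw [← hγx, hγx''])
    refine ⟨x'', ?_, hγx''⟩
    rw [hx'', h5.2]
  -- the norm of `a'` is one
  have hNa' : a' * σ a' = 1 := by
    have hε' : ε + σ ε + hf σ (0 : Fin n → F) 0 = 0 := by rw [hf_zero_left, add_zero, hε]
    obtain ⟨-, x'', hx'', hγx''⟩ := key te te 0 ε ε (hf_zero_left σ e) (hf_zero_left σ f) hε' hε'
      rfl rfl hγte
    rw [h1, hγte] at hγx''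
    have h5 := sieg_inj_of_mk σ hF hσ2 (by omega) h te x'' 0 (σ a • 0) ε (a' * σ a' * ε)
      (hf_zero_left σ e) (hf_zero_left σ f) (by rw [smul_zero, hf_zero_left])
      (by rw [smul_zero, hf_zero_left]) rfl hx'' hγx''
    have h6 : (a' * σ a' - 1) * ε = 0 := by linear_combination -h5.2
    rcases mul_eq_zero.mp h6 with h7 | h7
    · linear_combination h7
    · exact absurd h7 hε0
  -- the final assembly
  set k := σ a with hk
  have hk1 : 1 - k ≠ 0 := by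
    intro h0
    apply ha1
    have h3 : σ a = 1 := by rw [← hk]; linear_combination -h0
    have := congrArg σ h3
    rwa [hσ2, map_one] at this
  set w₀ := (1 - k)⁻¹ • w with hw₀
  have hw₀e : hf σ w₀ e = 0 := by rw [hw₀, hf_smul_left, hwe, mul_zero]
  have hw₀f : hf σ w₀ f = 0 := by rw [hw₀, hf_smul_left, hwf, mul_zero]
  have hww₀ : w = (1 - k) • w₀ := by
    rw [hw₀, smul_smul, mul_inv_cancel₀ hk1, one_smul]
  obtain ⟨b₁, hb₁⟩ := trace_surj σ hσne hσ2 (-(hf σ w₀ w₀)) (by rw [map_neg, hf_self_fixed σ hσ2])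
  have hb₁' : b₁ + σ b₁ + hf σ w₀ w₀ = 0 := by rw [hb₁]; ring
  set sw := suSg σ hσ hσ2 e h.uu w₀ hw₀e b₁ hb₁' with hsw
  obtain ⟨sw', b₁', hb₁'', hsw', hγsw⟩ := hS sw w₀ b₁ hw₀e hw₀f hb₁' rfl
  obtain ⟨hsk, x'', hx'', hγx''⟩ := key sw sw' w₀ b₁ b₁' hw₀e hw₀f hb₁' hb₁'' rfl hsw' hγsw
  rw [hNa', one_mul] at hx''
  set sk := g * sw * g⁻¹ with hsk'
  have hkw₀e : hf σ (k • w₀) e = 0 := by rw [hf_smul_left, hw₀e, mul_zero]
  -- the shift
  have hz : (b₁' - b₁) + σ (b₁' - b₁) = 0 := by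
    rw [map_sub]
    linear_combination hb₁'' - hb₁'
  set tz := suTv σ hσ hσ2 e h.uu (b₁' - b₁) hz with htz
  have htzc : (tz.1.1 : Matrix (Fin n) (Fin n) F) = sieg σ e 0 (b₁' - b₁) := rfl
  have h0e : hf σ (0 : Fin n → F) e = 0 := hf_zero_left σ e
  have hsw'eq : sw' = sw * tz := by
    apply su_ext'
    rw [su_mul_coe, hsw', htzc]
    show _ = sieg σ e w₀ b₁ * _
    rw [sieg_mul σ hσ2 e w₀ 0 b₁ (b₁' - b₁) h.uu hw₀e h0e, add_zero, hf_zero_left]
    congr 1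
    ring
  have hx''eq : x'' = sk * tz := by
    apply su_ext'
    rw [su_mul_coe, hx'', htzc, hsk, sieg_mul σ hσ2 e (k • w₀) 0 b₁ (b₁' - b₁) h.uu hkw₀e h0e,
      add_zero, hf_zero_left]
    congr 1
    ring
  -- the element `T`
  set T := sk * sw⁻¹ * s with hT
  have hswinv := suSg_inv σ hσ hσ2 sw e h.uu w₀ hw₀e b₁ hb₁' rfl
  obtain ⟨c₀, hc₀⟩ : ∃ c₀ : F, (T.1.1 : Matrix (Fin n) (Fin n) F) = tv σ e c₀ := by
    have hnw₀e : hf σ (-w₀) e = 0 := by rw [hf_neg_left, hw₀e, neg_zero]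
    have h3 : hf σ (k • w₀ + -w₀) e = 0 := by rw [hf_add_left, hkw₀e, hnw₀e, add_zero]
    have h4 : k • w₀ + -w₀ + w = 0 := by
      rw [hww₀]
      module
    rw [hT, su_mul_coe, su_mul_coe, hsk, hswinv, hs,
      sieg_mul σ hσ2 e (k • w₀) (-w₀) _ _ h.uu hkw₀e hnw₀e,
      sieg_mul σ hσ2 e (k • w₀ + -w₀) w _ _ h.uu h3 hwe, h4]
    exact ⟨_, rfl⟩
  have hc₀' : c₀ + σ c₀ = 0 := by
    have h3 := su_preserves σ hσ T f f
    rw [hc₀, tv_mulVec, h.vu, mul_one] at h3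
    simp only [hf_add_left, hf_add_right, hf_smul_left, hf_smul_right, h.uu, h.vv, h.vu,
      h.uv hσ2] at h3
    linear_combination h3
  have hγT := hE T c₀ hc₀' hc₀
  have hsT : s = sw * sk⁻¹ * T := by
    rw [hT]
    group
  have h7 : (QuotientGroup.mk s : Cfsg.PSU n F q) =
      QuotientGroup.mk sw * (QuotientGroup.mk sk)⁻¹ * QuotientGroup.mk T := by
    conv_lhs => rw [hsT]
    rw [QuotientGroup.mk_mul, QuotientGroup.mk_mul, QuotientGroup.mk_inv]
  rw [h7, map_mul, map_mul, map_inv, hγsw, hγx'', hγT, hsw'eq, hx''eq]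
  rw [← QuotientGroup.mk_inv, ← QuotientGroup.mk_inv, ← QuotientGroup.mk_mul,
    ← QuotientGroup.mk_mul, ← QuotientGroup.mk_mul, ← QuotientGroup.mk_mul]
  congr 1
  group

/-- for `q ≥ 3` there is an element of norm one whose cube is not one. -/
theorem exists_norm_one_cube_ne (hF : Fintype.card F = q ^ 2) (hσ : ∀ x, σ x = x ^ q)
    (hq : 3 ≤ q) : ∃ t : F, t * σ t = 1 ∧ t ^ 3 ≠ 1 := by
  classical
  by_contra hcon
  push Not at hcon
  have hle : (powMonoidHom (q + 1) : Fˣ →* Fˣ).ker ≤ (powMonoidHom 3 : Fˣ →* Fˣ).ker := by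
    intro u hu
    rw [MonoidHom.mem_ker, powMonoidHom_apply] at hu ⊢
    have h1 : (u : F) * σ u = 1 := by
      rw [hσ, ← pow_succ']
      have := congrArg Units.val hu
      rwa [Units.val_pow_eq_pow_val, Units.val_one] at this
    have h2 := hcon u h1
    apply Units.ext
    rw [Units.val_pow_eq_pow_val, Units.val_one]
    exact h2
  have h3 : Nat.card (powMonoidHom 3 : Fˣ →* Fˣ).ker ≤ 3 := by
    rw [IsCyclic.card_powMonoidHom_ker]
    exact Nat.le_of_dvd (by norm_num) (Nat.gcd_dvd_right _ _)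
  have h4 := Nat.card_le_card_of_injective (Subgroup.inclusion hle)
    (Subgroup.inclusion_injective hle)
  rw [Cfsg.Agent.Lib.Helper5.card_ker_pow_q_add_one hF] at h4
  omega

/-- **endgame**: an automorphism of `PSU_n(q)` mapping each Siegel element `sieg e w b`
(`w ⊥ e, f`) to a Siegel element with the same vector, fixing the root group of `e` pointwise and
the root group of `f` setwise, is the identity. -/
theorem psu_aut_eq_one_of_siegStable (hF : Fintype.card F = q ^ 2) (hσ : ∀ x, σ x = x ^ q)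
    (hσ2 : ∀ a, σ (σ a) = a) (hn : 3 ≤ n) (h32 : ¬ (n = 3 ∧ q = 2))
    (γ : MulAut (Cfsg.PSU n F q)) {e f : Fin n → F} (h : HP σ e f)
    (hS : SiegStable σ γ e f) (hE : RootFix σ γ e) (hR : RootStable σ γ f) : γ = 1 := by
  classical
  have hσne := frob_ne_id σ hF hσ
  have hq2 : 2 ≤ q := Cfsg.Agent.Lib.Helper13.two_le_of_card_eq_sq hF
  have hq3 : n = 3 → 3 ≤ q := by
    intro h3
    by_contra hlt
    exact h32 ⟨h3, by omega⟩
  have hcond : n = 3 → ∃ l : F, l ≠ 0 ∧ l * σ l ≠ 1 := fun h3 =>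
    Cfsg.Agent.S0780.exists_norm_ne_one hF (hq3 h3) σ hσ
  -- all Siegel elements with vector in `⟨e, f⟩^⊥` are fixed
  have hW : ∀ (s : ↥(Cfsg.SU n F q)) (w : Fin n → F) (b : F), hf σ w e = 0 → hf σ w f = 0 →
      b + σ b + hf σ w w = 0 → (s.1.1 : Matrix (Fin n) (Fin n) F) = sieg σ e w b →
      γ (QuotientGroup.mk s) = QuotientGroup.mk s := by
    intro s w b hwe hwf hb hs
    rcases Nat.lt_or_ge n 4 with h4 | h4
    · have h3 : n = 3 := by omega
      obtain ⟨t, ht, ht3⟩ := exists_norm_one_cube_ne σ hF hσ (hq3 h3)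
      have ht0 : t ≠ 0 := left_ne_zero_of_mul_eq_one ht
      have hσt : σ t = t⁻¹ := eq_inv_of_mul_eq_one_right ht
      refine fix_siegel_torus σ hF hσ hσne hσ2 hn γ h hS hE hR (t ^ 3) (t⁻¹ ^ 2) ?_ ?_ ?_ ht3
        s w b hwe hwf hb hs
      · rw [map_pow, hσt]
        field_simp
      · rw [map_pow, map_inv₀, hσt]
        field_simp
      · rw [h3]
        field_simp
    · exact fix_siegel_four σ hF hσ hσne hσ2 h4 γ h hS hE hR s w b hwe hwf hb hs
  have hRf := rootFix_partner σ hF hσ hσne hσ2 hn γ h hE hR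
  apply psu_aut_eq_one_of_fix σ hσ hσne hσ2 (by omega) hcond γ e f h.uu h.vv (h.uv hσ2)
  · intro s u b hue hb hs
    -- reduce to the part of `u` in `⟨e, f⟩^⊥`
    set α := hf σ u f with hα
    set w := u - α • e with hw
    have hwe : hf σ w e = 0 := by rw [hw, hf_sub_left, hf_smul_left, hue, h.uu, mul_zero, sub_zero]
    have hwf : hf σ w f = 0 := by
      rw [hw, hf_sub_left, hf_smul_left, h.uv hσ2, mul_one, hα, sub_self]
    have hu : u = w + α • e := by rw [hw]; abel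
    have hew : hf σ e w = 0 := by rw [hf_symm σ hσ2, hwe, map_zero]
    have huu : hf σ u u = hf σ w w := by
      rw [hu]
      simp only [hf_add_left, hf_add_right, hf_smul_left, hf_smul_right, h.uu, hwe, hew]
      ring
    have hs' : (s.1.1 : Matrix (Fin n) (Fin n) F) = sieg σ e w (b + α - σ α) := by
      rw [hs, hu, sieg_add_smul_center σ hσ2]
    refine hW s w (b + α - σ α) hwe hwf ?_ hs'
    rw [map_sub, map_add, hσ2, ← huu]
    linear_combination hb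
  · intro s c hc hs
    exact hRf s c hc hs

end End

end Cfsg.Agent.Lib.Helper13
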