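/-
helper13: field lemmas for the automorphism group of `PSU_n(q)`:
an additive map of a field which is multiplicative against a set of scalars generating the field
is a ring homomorphism; subfields with more than `q` elements of the field with `q ^ 2` elements
are everything.
-/
import Mathlib

set_option autoImplicit false

namespace Cfsg.Agent.Lib.Helper13

section FieldLemma

variable {F : Type*} [Field F]

/-- the set of scalars against which an additive map is multiplicative is a subfield -/
def mulSubfield (α : F →+ F) (h1 : α 1 = 1) : Subfield F where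
  carrier := {s | ∀ x, α (s * x) = α s * α x}
  mul_mem' := by
    intro a b ha hb x
    rw [mul_assoc, ha, hb, ha b, mul_assoc]
  one_mem' := by
    intro x
    rw [one_mul, h1, one_mul]
  add_mem' := by
    intro a b ha hb x
    rw [add_mul, map_add, ha, hb, map_add, add_mul]
  zero_mem' := by
    intro x
    rw [zero_mul, map_zero, zero_mul]
  neg_mem' := by
    intro a ha x
    rw [neg_mul, map_neg, ha, map_neg, neg_mul]
  inv_mem' := by
    intro a ha x
    by_cases ha0 : a = 0
    · subst ha0
      rw [inv_zero, zero_mul, map_zero, zero_mul]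
    · have h2 : α a * α a⁻¹ = 1 := by rw [← ha, mul_inv_cancel₀ ha0, h1]
      have h3 : α a ≠ 0 := left_ne_zero_of_mul_eq_one h2
      have h4 : α a⁻¹ = (α a)⁻¹ := eq_inv_of_mul_eq_one_right h2
      have h5 : α a * α (a⁻¹ * x) = α x := by
        rw [← ha, mul_inv_cancel_left₀ ha0]
      rw [h4, ← h5, inv_mul_cancel_left₀ h3]

theorem mem_mulSubfield (α : F →+ F) (h1 : α 1 = 1) (s : F) :
    s ∈ mulSubfield α h1 ↔ ∀ x, α (s * x) = α s * α x := Iff.rfl

/-- an additive map with `α 1 = 1`, multiplicative against a set `S` generating the field,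
is a ring homomorphism. -/
theorem exists_ringHom_of_mul (α : F →+ F) (h1 : α 1 = 1) (S : Set F)
    (hS : Subfield.closure S = ⊤) (hmul : ∀ s ∈ S, ∀ x, α (s * x) = α s * α x) :
    ∃ τ : F →+* F, ∀ x, τ x = α x := by
  have h2 : mulSubfield α h1 = ⊤ := by
    rw [eq_top_iff, ← hS, Subfield.closure_le]
    intro s hs
    exact hmul s hs
  have h3 : ∀ s x, α (s * x) = α s * α x := by
    intro s
    have : s ∈ mulSubfield α h1 := by rw [h2]; trivial
    exact this
  exact ⟨{ toFun := α, map_one' := h1, map_mul' := h3, map_zero' := map_zero α,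
           map_add' := map_add α }, fun _ => rfl⟩

/-- variant: the map is `θ`-homogeneous against `S`. -/
theorem exists_ringHom_of_homog (α : F →+ F) (h1 : α 1 = 1) (S : Set F)
    (hS : Subfield.closure S = ⊤) (θ : F → F) (hmul : ∀ s ∈ S, ∀ x, α (s * x) = θ s * α x) :
    ∃ τ : F →+* F, ∀ x, τ x = α x := by
  apply exists_ringHom_of_mul α h1 S hS
  intro s hs x
  have h2 := hmul s hs 1
  rw [mul_one, h1, mul_one] at h2
  rw [hmul s hs x, h2]

end FieldLemma

section Span

variable {F : Type*} [Field F] [Fintype F]

/-- In the field with `q ^ 2` elements a subfield with more than `q` elements is everything. -/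
theorem subfield_eq_top_of_card {q : ℕ} (hF : Fintype.card F = q ^ 2) (K : Subfield F)
    (hK : q < Nat.card K) : K = ⊤ := by
  classical
  have h1 : Fintype.card F = Fintype.card K ^ Module.finrank K F := Module.card_eq_pow_finrank
  rw [Nat.card_eq_fintype_card] at hK
  have hd : Module.finrank K F = 1 := by
    by_contra hd
    have hpos : 0 < Module.finrank K F := Module.finrank_pos
    have h2 : 2 ≤ Module.finrank K F := by omega
    have h3 : Fintype.card K ^ 2 ≤ Fintype.card K ^ Module.finrank K F :=
      Nat.pow_le_pow_right Fintype.card_pos h2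
    have h4 : q ^ 2 < Fintype.card K ^ 2 := Nat.pow_lt_pow_left hK (by norm_num)
    omega
  rw [eq_top_iff]
  intro x _
  have h5 : (⊥ : Subalgebra K F) = ⊤ := Subalgebra.bot_eq_top_of_finrank_eq_one hd
  have h6 : x ∈ (⊥ : Subalgebra K F) := by rw [h5]; trivial
  obtain ⟨k, hk⟩ := Algebra.mem_bot.mp h6
  rw [← hk]
  exact k.2

/-- a set of more than `q - 1` non-zero elements... : if `S` has at least `q` elements then the
subfield it generates is everything. -/
theorem closure_eq_top_of_card {q : ℕ} (hF : Fintype.card F = q ^ 2) (S : Finset F)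
    (hS : q ≤ S.card) (h0 : (0 : F) ∉ S) : Subfield.closure (S : Set F) = ⊤ := by
  classical
  apply subfield_eq_top_of_card hF
  have h1 : insert (0 : F) S ⊆ (Finset.univ.filter fun x => x ∈ Subfield.closure (S : Set F)) := by
    intro x hx
    rw [Finset.mem_filter]
    refine ⟨Finset.mem_univ _, ?_⟩
    rcases Finset.mem_insert.mp hx with rfl | hx
    · exact zero_mem _
    · exact Subfield.subset_closure hx
  have h2 := Finset.card_le_card h1
  rw [Finset.card_insert_of_notMem h0] at h2
  have h3 : Nat.card (Subfield.closure (S : Set F)) =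
      (Finset.univ.filter fun x => x ∈ Subfield.closure (S : Set F)).card := by
    rw [Nat.card_eq_fintype_card, Fintype.card_subtype]
  omega

end Span

end Cfsg.Agent.Lib.Helper13
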