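import Mathlib
import Cfsg.Prelude.Def_ClassicalGeometry
import Cfsg.Agent.Lib.Helper13.Stab

set_option autoImplicit false

/-!
Maximal parabolic subgroups of `GL_n(F)`: stabilisers of coordinate subspaces (helper13's library).
-/

namespace Cfsg.Agent.Lib.Helper13

open Matrix

variable {F : Type*} [Field F] {n : ℕ}

/-- The coordinate subspace spanned by the first `k` basis vectors, as a set. -/
def coordSet (n k : ℕ) (F : Type*) [Zero F] : Set (Fin n → F) :=
  {v : Fin n → F | ∀ i : Fin n, k ≤ (i : ℕ) → v i = 0}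

theorem mem_coordSet_iff (k : ℕ) (v : Fin n → F) :
    v ∈ coordSet n k F ↔ ∀ i : Fin n, k ≤ (i : ℕ) → v i = 0 := Iff.rfl

theorem single_mem_coordSet {k : ℕ} {j : Fin n} (hj : (j : ℕ) < k) (c : F) :
    (Pi.single j c : Fin n → F) ∈ coordSet n k F := by
  intro i hi
  have hij : i ≠ j := by
    intro h
    rw [h] at hi
    omega
  rw [Pi.single_eq_of_ne hij]

theorem mulVec_mem_coordSet_iff (M : Matrix (Fin n) (Fin n) F) (k : ℕ) :
    (∀ v ∈ coordSet n k F, M *ᵥ v ∈ coordSet n k F) ↔
      ∀ i j : Fin n, k ≤ (i : ℕ) → (j : ℕ) < k → M i j = 0 := by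
  constructor
  · intro h i j hi hj
    have h1 := h _ (single_mem_coordSet (F := F) hj 1) i hi
    rw [Matrix.mulVec_single_one] at h1
    exact h1
  · intro h v hv i hi
    rw [Matrix.mulVec, dotProduct]
    apply Finset.sum_eq_zero
    intro j _
    by_cases hj : (j : ℕ) < k
    · rw [h i j hi hj, zero_mul]
    · rw [hv j (not_lt.mp hj), mul_zero]

/-- Matrix description of the stabiliser of a coordinate subspace. -/
theorem mem_parabolic_iff (g : Matrix.GeneralLinearGroup (Fin n) F) (k : ℕ) :
    g ∈ Cfsg.stabilizing (Cfsg.glToMat (Fin n) F) (coordSet n k F) ↔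
      (∀ i j : Fin n, k ≤ (i : ℕ) → (j : ℕ) < k → (g : Matrix (Fin n) (Fin n) F) i j = 0) ∧
      (∀ i j : Fin n, k ≤ (i : ℕ) → (j : ℕ) < k →
        ((g⁻¹ : Matrix.GeneralLinearGroup (Fin n) F) : Matrix (Fin n) (Fin n) F) i j = 0) := by
  rw [mem_stabilizing_iff', ← mulVec_mem_coordSet_iff, ← mulVec_mem_coordSet_iff]
  rfl

/-- The anti-involution `M ↦ (Mᵀ)` conjugated by the order-reversing permutation. -/
def revT (M : Matrix (Fin n) (Fin n) F) : Matrix (Fin n) (Fin n) F :=
  (Mᵀ).submatrix Fin.rev Fin.rev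

omit [Field F] in
theorem revT_apply (M : Matrix (Fin n) (Fin n) F) (i j : Fin n) :
    revT M i j = M (Fin.rev j) (Fin.rev i) := rfl

theorem revT_mul (M N : Matrix (Fin n) (Fin n) F) : revT (M * N) = revT N * revT M := by
  unfold revT
  rw [Matrix.transpose_mul]
  have := Matrix.submatrix_mul_equiv (Nᵀ) (Mᵀ) (Fin.rev : Fin n → Fin n) (Fin.revPerm : Fin n ≃ Fin n)
    (Fin.rev : Fin n → Fin n)
  exact this.symm

theorem revT_one : revT (1 : Matrix (Fin n) (Fin n) F) = 1 := by
  unfold revT
  rw [Matrix.transpose_one]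
  exact Matrix.submatrix_one_equiv (Fin.revPerm : Fin n ≃ Fin n)

omit [Field F] in
theorem revT_revT (M : Matrix (Fin n) (Fin n) F) : revT (revT M) = M := by
  ext i j
  rw [revT_apply, revT_apply, Fin.rev_rev, Fin.rev_rev]

/-- The automorphism `g ↦ revT g⁻¹` of `GL_n(F)`. -/
def revTGL (n : ℕ) (F : Type*) [Field F] :
    Matrix.GeneralLinearGroup (Fin n) F →* Matrix.GeneralLinearGroup (Fin n) F :=
  MonoidHom.mk' (fun g => ⟨revT ((g⁻¹ : Matrix.GeneralLinearGroup (Fin n) F) :
      Matrix (Fin n) (Fin n) F), revT (g : Matrix (Fin n) (Fin n) F), by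
        rw [← revT_mul, ← Units.val_mul, mul_inv_cancel, Units.val_one, revT_one], by
        rw [← revT_mul, ← Units.val_mul, inv_mul_cancel, Units.val_one, revT_one]⟩) (by
    intro g h
    apply Units.ext
    change revT (((g * h)⁻¹ : Matrix.GeneralLinearGroup (Fin n) F) : Matrix (Fin n) (Fin n) F)
      = revT ((g⁻¹ : Matrix.GeneralLinearGroup (Fin n) F) : Matrix (Fin n) (Fin n) F)
        * revT ((h⁻¹ : Matrix.GeneralLinearGroup (Fin n) F) : Matrix (Fin n) (Fin n) F)
    rw [← revT_mul, ← Units.val_mul, _root_.mul_inv_rev])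

theorem revTGL_coe (g : Matrix.GeneralLinearGroup (Fin n) F) :
    ((revTGL n F g : Matrix.GeneralLinearGroup (Fin n) F) : Matrix (Fin n) (Fin n) F)
      = revT ((g⁻¹ : Matrix.GeneralLinearGroup (Fin n) F) : Matrix (Fin n) (Fin n) F) := rfl

theorem revTGL_inv_coe (g : Matrix.GeneralLinearGroup (Fin n) F) :
    (((revTGL n F g)⁻¹ : Matrix.GeneralLinearGroup (Fin n) F) : Matrix (Fin n) (Fin n) F)
      = revT (g : Matrix (Fin n) (Fin n) F) := rfl

theorem revTGL_revTGL (g : Matrix.GeneralLinearGroup (Fin n) F) :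
    revTGL n F (revTGL n F g) = g := by
  apply Units.ext
  rw [revTGL_coe, revTGL_inv_coe, revT_revT]

theorem revTGL_injective : Function.Injective (revTGL n F) := by
  intro g h hgh
  rw [← revTGL_revTGL g, hgh, revTGL_revTGL]

/-- `revTGL` maps the stabiliser of the first `k` coordinates into that of the first `n - k`. -/
theorem revTGL_mem_parabolic {k : ℕ} (hk : k ≤ n) {g : Matrix.GeneralLinearGroup (Fin n) F}
    (hg : g ∈ Cfsg.stabilizing (Cfsg.glToMat (Fin n) F) (coordSet n k F)) :
    revTGL n F g ∈ Cfsg.stabilizing (Cfsg.glToMat (Fin n) F) (coordSet n (n - k) F) := by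
  rw [mem_parabolic_iff] at hg ⊢
  obtain ⟨h1, h2⟩ := hg
  have key : ∀ M : Matrix (Fin n) (Fin n) F,
      (∀ i j : Fin n, k ≤ (i : ℕ) → (j : ℕ) < k → M i j = 0) →
      ∀ i j : Fin n, n - k ≤ (i : ℕ) → (j : ℕ) < n - k → revT M i j = 0 := by
    intro M hM i j hi hj
    rw [revT_apply]
    apply hM
    · rw [Fin.val_rev]; omega
    · rw [Fin.val_rev]; omega
  refine ⟨?_, ?_⟩
  · rw [revTGL_coe]; exact key _ h2
  · rw [revTGL_inv_coe]; exact key _ h1

theorem map_revTGL_parabolic {k : ℕ} (hk : k ≤ n) :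
    (Cfsg.stabilizing (Cfsg.glToMat (Fin n) F) (coordSet n k F)).map (revTGL n F)
      = Cfsg.stabilizing (Cfsg.glToMat (Fin n) F) (coordSet n (n - k) F) := by
  ext h
  constructor
  · rintro ⟨g, hg, rfl⟩
    exact revTGL_mem_parabolic hk hg
  · intro hh
    refine ⟨revTGL n F h, ?_, revTGL_revTGL h⟩
    have := revTGL_mem_parabolic (Nat.sub_le n k) hh
    rwa [Nat.sub_sub_self hk] at this

/-- The stabilisers of the coordinate subspaces of dimensions `k` and `n - k` are isomorphic. -/
theorem parabolic_equiv {k : ℕ} (hk : k ≤ n) :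
    Nonempty (↥(Cfsg.stabilizing (Cfsg.glToMat (Fin n) F) (coordSet n k F)) ≃*
      ↥(Cfsg.stabilizing (Cfsg.glToMat (Fin n) F) (coordSet n (n - k) F))) := by
  have e1 := (Cfsg.stabilizing (Cfsg.glToMat (Fin n) F) (coordSet n k F)).equivMapOfInjective
    (revTGL n F) revTGL_injective
  have e2 := MulEquiv.subgroupCongr (map_revTGL_parabolic (F := F) hk)
  exact ⟨e1.trans e2⟩

/-- The coordinate subspace as a submodule. -/
def coordSub (n k : ℕ) (F : Type*) [Field F] : Submodule F (Fin n → F) where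
  carrier := coordSet n k F
  add_mem' := by
    intro a b ha hb i hi
    rw [Pi.add_apply, ha i hi, hb i hi, add_zero]
  zero_mem' := by
    intro i _
    rfl
  smul_mem' := by
    intro c a ha i hi
    rw [Pi.smul_apply, ha i hi, smul_zero]

theorem coe_coordSub (k : ℕ) : ((coordSub n k F : Submodule F (Fin n → F)) : Set (Fin n → F))
    = coordSet n k F := rfl

theorem mem_coordSub_iff (k : ℕ) (v : Fin n → F) :
    v ∈ coordSub n k F ↔ ∀ i : Fin n, k ≤ (i : ℕ) → v i = 0 := Iff.rfl

/-- Coordinates on the coordinate subspace. -/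
def coordEquiv {k : ℕ} (hk : k ≤ n) : ↥(coordSub n k F) ≃ₗ[F] (Fin k → F) where
  toFun v := fun i => v.1 (Fin.castLE hk i)
  invFun w := ⟨fun i => if h : (i : ℕ) < k then w ⟨i, h⟩ else 0, by
    intro i hi
    have : ¬ (i : ℕ) < k := not_lt.mpr hi
    simp [this]⟩
  map_add' := by
    intro v w
    rfl
  map_smul' := by
    intro c v
    rfl
  left_inv := by
    intro v
    apply Subtype.ext
    funext i
    by_cases h : (i : ℕ) < k
    · simp only [h, dite_true]
      rfl
    · simp only [h, dite_false]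
      exact (v.2 i (not_lt.mp h)).symm
  right_inv := by
    intro w
    funext i
    simp

theorem finrank_coordSub {k : ℕ} (hk : k ≤ n) : Module.finrank F (coordSub n k F) = k := by
  rw [LinearEquiv.finrank_eq (coordEquiv (F := F) hk), Module.finrank_fin_fun]

/-- The elementary matrix `1 + c E_ij` as an element of `GL`. -/
def transvGL (i j : Fin n) (hij : i ≠ j) (c : F) : Matrix.GeneralLinearGroup (Fin n) F :=
  ⟨Matrix.transvection i j c, Matrix.transvection i j (-c), by
    rw [Matrix.transvection_mul_transvection_same i j hij, add_neg_cancel,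
      Matrix.transvection_zero], by
    rw [Matrix.transvection_mul_transvection_same i j hij, neg_add_cancel,
      Matrix.transvection_zero]⟩

theorem transvGL_coe (i j : Fin n) (hij : i ≠ j) (c : F) :
    ((transvGL i j hij c : Matrix.GeneralLinearGroup (Fin n) F) : Matrix (Fin n) (Fin n) F)
      = Matrix.transvection i j c := rfl

theorem transvGL_inv_coe (i j : Fin n) (hij : i ≠ j) (c : F) :
    (((transvGL i j hij c)⁻¹ : Matrix.GeneralLinearGroup (Fin n) F) :
      Matrix (Fin n) (Fin n) F) = Matrix.transvection i j (-c) := rfl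

theorem transvection_mulVec (i j : Fin n) (c : F) (v : Fin n → F) :
    Matrix.transvection i j c *ᵥ v = v + (c * v j) • Pi.single i (1 : F) := by
  unfold Matrix.transvection
  rw [Matrix.add_mulVec, Matrix.one_mulVec, Matrix.single_mulVec_eq]

theorem transvGL_mem_parabolic {k : ℕ} (i j : Fin n) (hij : i ≠ j)
    (h : (i : ℕ) < k ∨ k ≤ (j : ℕ)) (c : F) :
    transvGL i j hij c ∈ Cfsg.stabilizing (Cfsg.glToMat (Fin n) F) (coordSet n k F) := by
  rw [mem_parabolic_iff, transvGL_coe, transvGL_inv_coe]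
  have key : ∀ d : F, ∀ a b : Fin n, k ≤ (a : ℕ) → (b : ℕ) < k →
      Matrix.transvection i j d a b = 0 := by
    intro d a b ha hb
    unfold Matrix.transvection
    have hab : a ≠ b := by
      intro hab; rw [hab] at ha; omega
    rw [Matrix.add_apply, Matrix.one_apply_ne hab, zero_add]
    apply Matrix.single_apply_of_ne
    rintro ⟨rfl, rfl⟩
    omega
  exact ⟨key c, key (-c)⟩

/-- The invariant subspaces of a maximal parabolic subgroup. -/
theorem parabolic_invariant_subspace {k : ℕ} (U : Submodule F (Fin n → F))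
    (hU : ∀ g ∈ Cfsg.stabilizing (Cfsg.glToMat (Fin n) F) (coordSet n k F),
      ∀ u ∈ U, (g : Matrix (Fin n) (Fin n) F) *ᵥ u ∈ U) :
    U = ⊥ ∨ U = coordSub n k F ∨ U = ⊤ := by
  classical
  -- consequences of invariance under elementary matrices
  have hstep : ∀ u ∈ U, ∀ i j : Fin n, i ≠ j → ((i : ℕ) < k ∨ k ≤ (j : ℕ)) → u j ≠ 0 →
      (Pi.single i 1 : Fin n → F) ∈ U := by
    intro u hu i j hij hallow huj
    have h1 := hU _ (transvGL_mem_parabolic i j hij hallow 1) u hu
    rw [transvGL_coe, transvection_mulVec, one_mul] at h1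
    have h2 : u j • (Pi.single i 1 : Fin n → F) ∈ U := by
      have := U.sub_mem h1 hu
      rwa [add_sub_cancel_left] at this
    have h3 := U.smul_mem (u j)⁻¹ h2
    rwa [smul_smul, inv_mul_cancel₀ huj, one_smul] at h3
  have hsum : ∀ v : Fin n → F, v = ∑ i, v i • (Pi.single i 1 : Fin n → F) := by
    intro v
    conv_lhs => rw [← Finset.univ_sum_single v]
    apply Finset.sum_congr rfl
    intro i _
    rw [← Pi.single_smul, smul_eq_mul, mul_one]
  by_cases hA : ∃ u ∈ U, ∃ j : Fin n, k ≤ (j : ℕ) ∧ u j ≠ 0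
  · -- U = ⊤
    right; right
    obtain ⟨u, hu, j, hjk, huj⟩ := hA
    have hi : ∀ i : Fin n, i ≠ j → (Pi.single i 1 : Fin n → F) ∈ U :=
      fun i hij => hstep u hu i j hij (Or.inr hjk) huj
    have hj : (Pi.single j 1 : Fin n → F) ∈ U := by
      have h1 : u j • (Pi.single j 1 : Fin n → F)
          = u - ∑ i ∈ Finset.univ.erase j, u i • (Pi.single i 1 : Fin n → F) := by
        rw [eq_sub_iff_add_eq]
        exact (Finset.add_sum_erase Finset.univ (fun i => u i • (Pi.single i 1 : Fin n → F))
          (Finset.mem_univ j)).trans (hsum u).symm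
      have h2 : u j • (Pi.single j 1 : Fin n → F) ∈ U := by
        rw [h1]
        apply U.sub_mem hu
        apply U.sum_mem
        intro i hi'
        exact U.smul_mem _ (hi i (Finset.ne_of_mem_erase hi'))
      have h3 := U.smul_mem (u j)⁻¹ h2
      rwa [smul_smul, inv_mul_cancel₀ huj, one_smul] at h3
    rw [eq_top_iff]
    intro v _
    rw [hsum v]
    apply U.sum_mem
    intro i _
    apply U.smul_mem
    by_cases hij : i = j
    · rw [hij]; exact hj
    · exact hi i hij
  · push Not at hA
    by_cases hbot : U = ⊥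
    · left; exact hbot
    · right; left
      obtain ⟨u, hu, hu0⟩ := (Submodule.ne_bot_iff U).mp hbot
      obtain ⟨j, huj⟩ : ∃ j, u j ≠ 0 := by
        by_contra hcon
        push Not at hcon
        exact hu0 (funext hcon)
      have hjk : (j : ℕ) < k := by
        by_contra hjk
        exact huj (hA u hu j (not_lt.mp hjk))
      have hi : ∀ i : Fin n, i ≠ j → (i : ℕ) < k → (Pi.single i 1 : Fin n → F) ∈ U :=
        fun i hij hik => hstep u hu i j hij (Or.inl hik) huj
      have hj : (Pi.single j 1 : Fin n → F) ∈ U := by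
        have h1 : u j • (Pi.single j 1 : Fin n → F)
            = u - ∑ i ∈ Finset.univ.erase j, u i • (Pi.single i 1 : Fin n → F) := by
          rw [eq_sub_iff_add_eq]
          exact (Finset.add_sum_erase Finset.univ (fun i => u i • (Pi.single i 1 : Fin n → F))
            (Finset.mem_univ j)).trans (hsum u).symm
        have h2 : u j • (Pi.single j 1 : Fin n → F) ∈ U := by
          rw [h1]
          apply U.sub_mem hu
          apply U.sum_mem
          intro i hi'
          by_cases hik : (i : ℕ) < k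
          · exact U.smul_mem _ (hi i (Finset.ne_of_mem_erase hi') hik)
          · rw [hA u hu i (not_lt.mp hik), zero_smul]
            exact U.zero_mem
        have h3 := U.smul_mem (u j)⁻¹ h2
        rwa [smul_smul, inv_mul_cancel₀ huj, one_smul] at h3
      apply le_antisymm
      · intro v hv i hik
        exact hA v hv i hik
      · intro v hv
        rw [hsum v]
        apply U.sum_mem
        intro i _
        by_cases hik : (i : ℕ) < k
        · apply U.smul_mem
          by_cases hij : i = j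
          · rw [hij]; exact hj
          · exact hi i hij hik
        · rw [(mem_coordSub_iff k v).mp hv i (not_lt.mp hik), zero_smul]
          exact U.zero_mem

theorem GL_mulVec_injective (g : Matrix.GeneralLinearGroup (Fin n) F) :
    Function.Injective (fun v : Fin n → F => (g : Matrix (Fin n) (Fin n) F) *ᵥ v) := by
  intro v w hvw
  have h := congrArg (fun x => ((g⁻¹ : Matrix.GeneralLinearGroup (Fin n) F) :
    Matrix (Fin n) (Fin n) F) *ᵥ x) hvw
  simp only [Matrix.mulVec_mulVec, ← Units.val_mul, inv_mul_cancel, Units.val_one,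
    Matrix.one_mulVec] at h
  exact h

/-- The stabilisers of the coordinate subspaces of dimensions `k` and `n - k` are not conjugate in
`GL_n(F)` unless `2 k = n`. -/
theorem parabolic_not_conj {k : ℕ} (hk0 : 0 < k) (hkn : k < n) (h2 : 2 * k ≠ n)
    (g : Matrix.GeneralLinearGroup (Fin n) F) :
    (Cfsg.stabilizing (Cfsg.glToMat (Fin n) F) (coordSet n k F)).map (MulAut.conj g).toMonoidHom
      ≠ Cfsg.stabilizing (Cfsg.glToMat (Fin n) F) (coordSet n (n - k) F) := by
  intro heq
  have hinj : Function.Injective (Matrix.toLin' (g : Matrix (Fin n) (Fin n) F)) := by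
    intro v w hvw
    apply GL_mulVec_injective g
    simpa [Matrix.toLin'_apply] using hvw
  obtain ⟨U, hUdef⟩ : ∃ U : Submodule F (Fin n → F),
      U = (coordSub n k F).map (Matrix.toLin' (g : Matrix (Fin n) (Fin n) F)) := ⟨_, rfl⟩
  have hUmem : ∀ u, u ∈ U ↔ ∃ w ∈ coordSub n k F, (g : Matrix (Fin n) (Fin n) F) *ᵥ w = u := by
    intro u
    rw [hUdef, Submodule.mem_map]
    simp only [Matrix.toLin'_apply]
  have hUinv : ∀ h ∈ Cfsg.stabilizing (Cfsg.glToMat (Fin n) F) (coordSet n (n - k) F),
      ∀ u ∈ U, (h : Matrix (Fin n) (Fin n) F) *ᵥ u ∈ U := by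
    intro h hh u hu
    rw [← heq] at hh
    obtain ⟨p, hp, rfl⟩ := hh
    obtain ⟨w, hw, rfl⟩ := (hUmem u).mp hu
    rw [hUmem]
    refine ⟨(p : Matrix (Fin n) (Fin n) F) *ᵥ w, (hp w).mp hw, ?_⟩
    change _ = ((g * p * g⁻¹ : Matrix.GeneralLinearGroup (Fin n) F) :
      Matrix (Fin n) (Fin n) F) *ᵥ _
    rw [Matrix.mulVec_mulVec, Matrix.mulVec_mulVec, ← Units.val_mul, ← Units.val_mul]
    congr 2
    group
  rcases parabolic_invariant_subspace U hUinv with hU | hU | hU
  · -- U = ⊥
    have hw : (Pi.single ⟨0, by omega⟩ 1 : Fin n → F) ∈ coordSub n k F :=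
      single_mem_coordSet (F := F) (j := ⟨0, by omega⟩) hk0 1
    have h1 : (g : Matrix (Fin n) (Fin n) F) *ᵥ (Pi.single ⟨0, by omega⟩ 1 : Fin n → F) ∈ U :=
      (hUmem _).mpr ⟨_, hw, rfl⟩
    rw [hU, Submodule.mem_bot] at h1
    have h2' : (Pi.single ⟨0, by omega⟩ 1 : Fin n → F) = 0 := by
      apply GL_mulVec_injective g
      simp only [h1, Matrix.mulVec_zero]
    have := congrFun h2' ⟨0, by omega⟩
    simp at this
  · -- U = coordSub n (n - k)
    have h1 : Module.finrank F U = k := by
      rw [hUdef, ← (Submodule.equivMapOfInjective _ hinj (coordSub n k F)).finrank_eq,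
        finrank_coordSub hkn.le]
    rw [hU, finrank_coordSub (Nat.sub_le n k)] at h1
    omega
  · -- U = ⊤
    have h1 : (g : Matrix (Fin n) (Fin n) F) *ᵥ (Pi.single ⟨n - 1, by omega⟩ 1 : Fin n → F) ∈ U := by
      rw [hU]; exact Submodule.mem_top
    obtain ⟨w, hw, hgw⟩ := (hUmem _).mp h1
    have h3 := GL_mulVec_injective g hgw
    rw [h3] at hw
    have := hw ⟨n - 1, by omega⟩ (by simp; omega)
    simp at this

end Cfsg.Agent.Lib.Helper13
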