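import Mathlib
import Cfsg.Agent.Lib.Helper13.SOIndexTwo

set_option autoImplicit false
set_option linter.unusedSimpArgs false
set_option linter.unnecessarySeqFocus false

/-!
The subgroup of the isometry group generated by the reflections whose vectors have norms in a
fixed square class (finite field of odd characteristic) (helper13's library).
-/

namespace Cfsg.Agent.Lib.Helper13

variable {F V : Type*} [Field F] [AddCommGroup V] [Module F V]

local notation "pol" => QuadraticMap.polar

theorem Q_plane (Q : QuadraticForm F V) (u v : V) (α β : F) :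
    Q (α • u + β • v) = α ^ 2 * Q u + α * β * pol (⇑Q) u v + β ^ 2 * Q v := by
  rw [Q_add', QuadraticMap.map_smul, QuadraticMap.map_smul, QuadraticMap.polar_smul_left,
    QuadraticMap.polar_smul_right]
  simp only [smul_eq_mul]
  ring

/-- The product of three reflections along vectors of a plane is a reflection. -/
theorem three_refl (Q : QuadraticForm F V) (u v : V) (α β : F) (hu : Q u ≠ 0) (hv : Q v ≠ 0)
    (ha : Q (α • u + β • v) ≠ 0) (z : V) :
    reflLin Q u (reflLin Q v (reflLin Q (α • u + β • v) z))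
      = reflLin Q ((α * pol (⇑Q) u v + β * Q v) • u - (α * Q u) • v) z := by
  have hQb : Q ((α * pol (⇑Q) u v + β * Q v) • u - (α * Q u) • v)
      = Q u * Q v * (α ^ 2 * Q u + α * β * pol (⇑Q) u v + β ^ 2 * Q v) := by
    rw [sub_eq_add_neg, ← neg_smul, Q_plane]
    ring
  rw [Q_plane] at ha
  simp only [reflLin_apply, hQb, Q_plane]
  simp only [QuadraticMap.polar_sub_left, QuadraticMap.polar_sub_right,
    QuadraticMap.polar_add_left, QuadraticMap.polar_add_right,
    QuadraticMap.polar_smul_left, QuadraticMap.polar_smul_right, polar_self', smul_eq_mul,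
    QuadraticMap.polar_comm (⇑Q) v u]
  clear hQb
  generalize pol (⇑Q) u v = p at *
  generalize pol (⇑Q) u z = s at *
  generalize pol (⇑Q) v z = t at *
  generalize Q u = A at *
  generalize Q v = B at *
  obtain ⟨D, hD⟩ : ∃ D, D = α ^ 2 * A + α * β * p + β ^ 2 * B := ⟨_, rfl⟩
  rw [← hD] at ha ⊢
  match_scalars <;> field_simp <;> (rw [hD]; ring)

/-- A binary form with non-zero discriminant over a finite field of odd characteristic is
universal. -/
theorem exists_plane_rep [Finite F] (Q : QuadraticForm F V) (h2 : (2 : F) ≠ 0) (u v : V)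
    (hu : Q u ≠ 0) (hdisc : pol (⇑Q) u v ^ 2 - 4 * Q u * Q v ≠ 0) (c₀ : F) (hc₀ : c₀ ≠ 0) :
    ∃ α β : F, Q (α • u + β • v) = c₀ := by
  have h4 : (4 : F) ≠ 0 := by
    have : (4 : F) = 2 * 2 := by norm_num
    rw [this]
    exact mul_ne_zero h2 h2
  obtain ⟨x, y, hxy⟩ := exists_sq_add_sq_eq_one h2 (Q u / c₀)
    (-(pol (⇑Q) u v ^ 2 - 4 * Q u * Q v) / (4 * Q u * c₀))
    (div_ne_zero hu hc₀)
    (div_ne_zero (neg_ne_zero.mpr hdisc) (mul_ne_zero (mul_ne_zero h4 hu) hc₀))
  refine ⟨x - y * pol (⇑Q) u v / (2 * Q u), y, ?_⟩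
  rw [Q_plane]
  generalize pol (⇑Q) u v = p at *
  generalize Q u = A at *
  generalize Q v = B at *
  field_simp at hxy
  field_simp
  linear_combination hxy

/-- A hyperbolic partner of a singular vector inside the orthogonal complement of `u`. -/
theorem exists_partner (Q : QuadraticForm F V)
    (hQ : (QuadraticMap.polarBilin Q).Nondegenerate) (h2 : (2 : F) ≠ 0) (u z : V)
    (hu : Q u ≠ 0) (hz0 : z ≠ 0) (hz : Q z = 0) (huz : pol (⇑Q) u z = 0) :
    ∃ z' : V, Q z' = 0 ∧ pol (⇑Q) z z' = 1 ∧ pol (⇑Q) u z' = 0 := by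
  have hex : ∃ y₀ : V, pol (⇑Q) z y₀ ≠ 0 := by
    by_contra hcon
    push Not at hcon
    apply hz0
    apply hQ.1
    intro w
    rw [polarBilin_app]
    exact hcon w
  obtain ⟨y₀', hy₀'⟩ := hex
  obtain ⟨y₀, hy₀⟩ : ∃ y₀ : V, pol (⇑Q) z y₀ = 1 := by
    refine ⟨(pol (⇑Q) z y₀')⁻¹ • y₀', ?_⟩
    rw [QuadraticMap.polar_smul_right, smul_eq_mul, inv_mul_cancel₀ hy₀']
  obtain ⟨y₁, hy₁⟩ : ∃ y₁ : V, y₁ = y₀ - (pol (⇑Q) y₀ u / (2 * Q u)) • u := ⟨_, rfl⟩
  have hzy₁ : pol (⇑Q) z y₁ = 1 := by
    rw [hy₁, QuadraticMap.polar_sub_right, QuadraticMap.polar_smul_right, hy₀,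
      QuadraticMap.polar_comm (⇑Q) z u, huz, smul_zero, sub_zero]
  have huy₁ : pol (⇑Q) u y₁ = 0 := by
    rw [hy₁, QuadraticMap.polar_sub_right, QuadraticMap.polar_smul_right, polar_self',
      QuadraticMap.polar_comm (⇑Q) y₀ u, smul_eq_mul]
    field_simp
    ring
  have hzz : pol (⇑Q) z z = 0 := by rw [polar_self', hz, mul_zero]
  refine ⟨y₁ - Q y₁ • z, ?_, ?_, ?_⟩
  · rw [Q_sub, QuadraticMap.map_smul, hz, QuadraticMap.polar_smul_right,
      QuadraticMap.polar_comm (⇑Q) y₁ z, hzy₁]
    simp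
  · rw [QuadraticMap.polar_sub_right, QuadraticMap.polar_smul_right, hzy₁, hzz, smul_zero,
      sub_zero]
  · rw [QuadraticMap.polar_sub_right, QuadraticMap.polar_smul_right, huy₁, huz, smul_zero,
      sub_zero]

/-- In a field with more than three elements one can avoid three given elements. -/
theorem exists_avoid_three {K : Type*} [Fintype K] (h : 3 < Fintype.card K) (a b c : K) :
    ∃ x : K, x ≠ a ∧ x ≠ b ∧ x ≠ c := by
  classical
  by_contra hcon
  push Not at hcon
  have h1 : (Finset.univ : Finset K) ⊆ {a, b, c} := by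
    intro x _
    by_cases hxa : x = a
    · simp [hxa]
    · by_cases hxb : x = b
      · simp [hxb]
      · simp [hcon x hxa hxb]
  have h3 := Finset.card_le_card h1
  have h4 : ({a, b, c} : Finset K).card ≤ 3 := Finset.card_le_three
  rw [Finset.card_univ] at h3
  omega

/-- The orthogonal complement of `u`, a hyperbolic pair `z, z'` (all mutually orthogonal as
stated) represents every non-zero scalar, in dimension at least five. -/
theorem exists_compl_rep [Finite F] [FiniteDimensional F V] (Q : QuadraticForm F V)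
    (hQ : (QuadraticMap.polarBilin Q).Nondegenerate) (h2 : (2 : F) ≠ 0) (u z z' : V)
    (hu : Q u ≠ 0) (hz : Q z = 0) (hz' : Q z' = 0) (hzz' : pol (⇑Q) z z' = 1)
    (huz : pol (⇑Q) u z = 0) (huz' : pol (⇑Q) u z' = 0) (hdim : 5 ≤ Module.finrank F V)
    (c₀ : F) (hc₀ : c₀ ≠ 0) :
    ∃ w : V, Q w = c₀ ∧ pol (⇑Q) u w = 0 ∧ pol (⇑Q) z w = 0 ∧ pol (⇑Q) z' w = 0 := by
  have h2c : (2 * c₀) ≠ 0 := mul_ne_zero h2 hc₀
  -- the map to `F³`
  obtain ⟨φ, hφ⟩ : ∃ φ : V →ₗ[F] (Fin 3 → F), ∀ x, φ x =
      ![pol (⇑Q) u x, pol (⇑Q) z x, pol (⇑Q) z' x] := by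
    refine ⟨LinearMap.pi ![QuadraticMap.polarBilin Q u, QuadraticMap.polarBilin Q z,
      QuadraticMap.polarBilin Q z'], ?_⟩
    intro x
    ext i
    fin_cases i <;> simp [polarBilin_app]
  have hmem : ∀ x, x ∈ LinearMap.ker φ ↔
      pol (⇑Q) u x = 0 ∧ pol (⇑Q) z x = 0 ∧ pol (⇑Q) z' x = 0 := by
    intro x
    rw [LinearMap.mem_ker, hφ]
    constructor
    · intro h
      have h0 := congrFun h 0
      have h1 := congrFun h 1
      have h2' := congrFun h 2
      simp at h0 h1 h2'
      exact ⟨h0, h1, h2'⟩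
    · rintro ⟨h0, h1, h2'⟩
      rw [h0, h1, h2']
      ext i
      fin_cases i <;> simp
  have hfr : 2 ≤ Module.finrank F (LinearMap.ker φ) := by
    have h1 := LinearMap.finrank_range_add_finrank_ker φ
    have h3 : Module.finrank F (LinearMap.range φ) ≤ 3 := by
      have := Submodule.finrank_le (LinearMap.range φ)
      rw [Module.finrank_fin_fun] at this
      exact this
    omega
  have hS : LinearMap.BilinForm.IsSymm
      ((2 * c₀)⁻¹ • QuadraticMap.polarBilin Q : LinearMap.BilinForm F V) := by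
    rw [LinearMap.BilinForm.isSymm_def]
    intro x y
    simp only [LinearMap.smul_apply, polarBilin_app]
    rw [QuadraticMap.polar_comm]
  have hzz : pol (⇑Q) z z = 0 := by rw [polar_self', hz, mul_zero]
  have hz'z' : pol (⇑Q) z' z' = 0 := by rw [polar_self', hz', mul_zero]
  obtain ⟨w, hwW, hw⟩ := exists_norm_one hS h2 (LinearMap.ker φ) hfr (by
    intro w hwW hw
    rw [hmem] at hwW
    obtain ⟨hw0, hw1, hw2⟩ := hwW
    apply hQ.1
    intro x
    rw [polarBilin_app]
    obtain ⟨x', hx'⟩ : ∃ x' : V, x' = x - (pol (⇑Q) u x / (2 * Q u)) • u - pol (⇑Q) z' x • z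
        - pol (⇑Q) z x • z' := ⟨_, rfl⟩
    have hx'mem : x' ∈ LinearMap.ker φ := by
      rw [hmem, hx']
      simp only [QuadraticMap.polar_sub_right, QuadraticMap.polar_smul_right, polar_self',
        smul_eq_mul, huz, huz', hzz, hz'z', hzz', QuadraticMap.polar_comm (⇑Q) z u,
        QuadraticMap.polar_comm (⇑Q) z' u, QuadraticMap.polar_comm (⇑Q) z' z, mul_zero,
        sub_zero, mul_one]
      refine ⟨?_, ?_, ?_⟩
      · field_simp
        ring
      · ring
      · ring
    have h1 := hw x' hx'mem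
    simp only [LinearMap.smul_apply, smul_eq_mul, polarBilin_app] at h1
    have h3 : pol (⇑Q) w x' = 0 := by
      rcases mul_eq_zero.mp h1 with h | h
      · exact absurd h (inv_ne_zero h2c)
      · exact h
    have h4 : x = x' + (pol (⇑Q) u x / (2 * Q u)) • u + pol (⇑Q) z' x • z + pol (⇑Q) z x • z' := by
      rw [hx']; abel
    rw [h4]
    simp only [QuadraticMap.polar_add_right, QuadraticMap.polar_smul_right, h3,
      QuadraticMap.polar_comm (⇑Q) w u, QuadraticMap.polar_comm (⇑Q) w z,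
      QuadraticMap.polar_comm (⇑Q) w z', hw0, hw1, hw2, smul_zero, add_zero])
  rw [hmem] at hwW
  refine ⟨w, ?_, hwW⟩
  simp only [LinearMap.smul_apply, polarBilin_app, polar_self', smul_eq_mul] at hw
  field_simp at hw
  exact hw

section Finite

variable [Fintype F] [DecidableEq F]

/-- Reflections along vectors whose norm has quadratic character `ε`. -/
def reflClass (Q : QuadraticForm F V) (ε : ℤ) : Set (V ≃ₗ[F] V) :=
  {T | ∃ v : V, Q v ≠ 0 ∧ quadraticChar F (Q v) = ε ∧ ∀ z, T z = reflLin Q v z}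

/-- The group generated by the reflections of a given class. -/
def classGroup (Q : QuadraticForm F V) (ε : ℤ) : Subgroup (V ≃ₗ[F] V) :=
  Subgroup.closure (reflClass Q ε)

theorem reflClass_subset_reflSet (Q : QuadraticForm F V) (ε : ℤ) : reflClass Q ε ⊆ reflSet Q := by
  rintro T ⟨v, hv, -, hT⟩
  exact ⟨v, hv, hT⟩

/-- Case A: a product of two reflections of the same class along vectors spanning a
non-degenerate plane lies in every class group. -/
theorem pair_mem_classGroup_of_disc [FiniteDimensional F V] (Q : QuadraticForm F V)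
    (hQ : (QuadraticMap.polarBilin Q).Nondegenerate) (h2 : (2 : F) ≠ 0) (c₀ : F) (hc₀ : c₀ ≠ 0)
    (u v : V) (hu : Q u ≠ 0) (hv : Q v ≠ 0)
    (hχ : quadraticChar F (Q u) = quadraticChar F (Q v))
    (hdisc : pol (⇑Q) u v ^ 2 - 4 * Q u * Q v ≠ 0) (Tu Tv : V ≃ₗ[F] V)
    (hTu : ∀ z, Tu z = reflLin Q u z) (hTv : ∀ z, Tv z = reflLin Q v z) :
    Tu * Tv ∈ classGroup Q (quadraticChar F c₀) := by
  obtain ⟨α, β, hab⟩ := exists_plane_rep Q h2 u v hu hdisc c₀ hc₀
  have ha : Q (α • u + β • v) ≠ 0 := by rw [hab]; exact hc₀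
  have hQb : Q ((α * pol (⇑Q) u v + β * Q v) • u - (α * Q u) • v) = Q u * Q v * c₀ := by
    rw [← hab, Q_plane, sub_eq_add_neg, ← neg_smul, Q_plane]
    ring
  have hb : Q ((α * pol (⇑Q) u v + β * Q v) • u - (α * Q u) • v) ≠ 0 := by
    rw [hQb]
    exact mul_ne_zero (mul_ne_zero hu hv) hc₀
  obtain ⟨Ta, hTa⟩ := exists_equiv_of_isom Q hQ (reflLin Q (α • u + β • v))
    (reflLin_isom Q _ ha)
  obtain ⟨Tb, hTb⟩ := exists_equiv_of_isom Q hQ
    (reflLin Q ((α * pol (⇑Q) u v + β * Q v) • u - (α * Q u) • v)) (reflLin_isom Q _ hb)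
  have hTaC : Ta ∈ reflClass Q (quadraticChar F c₀) := ⟨_, ha, by rw [hab], hTa⟩
  have hTbC : Tb ∈ reflClass Q (quadraticChar F c₀) := by
    refine ⟨_, hb, ?_, hTb⟩
    rw [hQb, map_mul, map_mul, hχ]
    have := quadraticChar_sq_one hv
    rw [pow_two] at this
    rw [this, one_mul]
  have h3 : Tu * Tv * Ta = Tb := by
    apply LinearEquiv.ext
    intro z
    change Tu (Tv (Ta z)) = Tb z
    rw [hTu, hTv, hTa, hTb, three_refl Q u v α β hu hv ha]
  have hTaa : Ta * Ta = 1 := refl_mul_self Q (reflClass_subset_reflSet Q _ hTaC)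
  have h4 : Tu * Tv = Tb * Ta := by
    rw [← h3, mul_assoc (Tu * Tv), hTaa, mul_one]
  rw [h4]
  exact Subgroup.mul_mem _ (Subgroup.subset_closure hTbC) (Subgroup.subset_closure hTaC)

omit [Fintype F] [DecidableEq F] in
/-- Reflections along proportional vectors coincide. -/
theorem reflLin_smul (Q : QuadraticForm F V) (u : V) (l : F) (hl : l ≠ 0) (z : V) :
    reflLin Q (l • u) z = reflLin Q u z := by
  rw [reflLin_apply, reflLin_apply, QuadraticMap.map_smul, QuadraticMap.polar_smul_left,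
    smul_smul]
  congr 2
  by_cases hu : Q u = 0
  · simp [hu]
  · simp only [smul_eq_mul]
    field_simp

/-- A product of two reflections of the same class lies in every class group (even dimension,
excluding dimension four over the field with three elements). -/
theorem pair_mem_classGroup [FiniteDimensional F V] (Q : QuadraticForm F V)
    (hQ : (QuadraticMap.polarBilin Q).Nondegenerate) (h2 : (2 : F) ≠ 0)
    (heven : Even (Module.finrank F V))
    (hsmall : ¬ (Module.finrank F V = 4 ∧ Fintype.card F = 3)) (c₀ : F) (hc₀ : c₀ ≠ 0)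
    (u v : V) (hu : Q u ≠ 0) (hv : Q v ≠ 0)
    (hχ : quadraticChar F (Q u) = quadraticChar F (Q v)) (Tu Tv : V ≃ₗ[F] V)
    (hTu : ∀ z, Tu z = reflLin Q u z) (hTv : ∀ z, Tv z = reflLin Q v z) :
    Tu * Tv ∈ classGroup Q (quadraticChar F c₀) := by
  by_cases hdisc : pol (⇑Q) u v ^ 2 - 4 * Q u * Q v = 0
  swap
  · exact pair_mem_classGroup_of_disc Q hQ h2 c₀ hc₀ u v hu hv hχ hdisc Tu Tv hTu hTv
  have h4 : (4 : F) ≠ 0 := by
    have : (4 : F) = 2 * 2 := by norm_num
    rw [this]
    exact mul_ne_zero h2 h2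
  obtain ⟨l, hl⟩ : ∃ l : F, l = pol (⇑Q) u v / (2 * Q u) := ⟨_, rfl⟩
  obtain ⟨z, hzdef⟩ : ∃ z : V, z = v - l • u := ⟨_, rfl⟩
  have hv_eq : v = l • u + z := by rw [hzdef]; abel
  have huz : pol (⇑Q) u z = 0 := by
    rw [hzdef, QuadraticMap.polar_sub_right, QuadraticMap.polar_smul_right, polar_self', hl,
      smul_eq_mul]
    field_simp
    ring
  have hz : Q z = 0 := by
    rw [hzdef, Q_sub, QuadraticMap.map_smul, QuadraticMap.polar_smul_right, smul_eq_mul,
      smul_eq_mul, QuadraticMap.polar_comm (⇑Q) v u, hl]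
    field_simp
    linear_combination (-1 : F) * hdisc
  have hQv : Q v = l ^ 2 * Q u := by
    rw [hv_eq, Q_add', QuadraticMap.map_smul, hz, QuadraticMap.polar_smul_left, huz]
    simp only [smul_eq_mul, mul_zero, add_zero]
    ring
  have hl0 : l ≠ 0 := by
    rintro rfl
    apply hv
    rw [hQv]
    ring
  have hTuTu : Tu * Tu = 1 := refl_mul_self Q ⟨u, hu, hTu⟩
  by_cases hz0 : z = 0
  · -- parallel vectors
    have : Tv = Tu := by
      apply LinearEquiv.ext
      intro x
      rw [hTv, hTu, hv_eq, hz0, add_zero, reflLin_smul Q u l hl0]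
    rw [this, hTuTu]
    exact Subgroup.one_mem _
  -- the degenerate case: an intermediate vector `w`
  obtain ⟨z', hz', hzz', huz'⟩ := exists_partner Q hQ h2 u z hu hz0 hz huz
  have hzz : pol (⇑Q) z z = 0 := by rw [polar_self', hz, mul_zero]
  have hz'z' : pol (⇑Q) z' z' = 0 := by rw [polar_self', hz', mul_zero]
  have hkey : ∃ w : V, Q w = Q u ∧ pol (⇑Q) u w = 0 ∧
      pol (⇑Q) w v ^ 2 - 4 * Q w * Q v ≠ 0 := by
    by_cases hq : Fintype.card F = 3
    · -- the field with three elements: dimension at least six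
      have hli : LinearIndependent F ![u, z, z'] := by
        rw [Fintype.linearIndependent_iff]
        intro g hg
        rw [Fin.sum_univ_three] at hg
        simp only [Matrix.cons_val_zero, Matrix.cons_val_one, Matrix.cons_val_two,
          Matrix.head_cons, Matrix.tail_cons] at hg
        have e0 := congrArg (fun x => pol (⇑Q) u x) hg
        have e1 := congrArg (fun x => pol (⇑Q) z' x) hg
        have e2 := congrArg (fun x => pol (⇑Q) z x) hg
        simp only [QuadraticMap.polar_add_right, QuadraticMap.polar_smul_right, polar_self',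
          huz, huz', hzz, hz'z', hzz', QuadraticMap.polar_comm (⇑Q) z u,
          QuadraticMap.polar_comm (⇑Q) z' u, QuadraticMap.polar_comm (⇑Q) z' z, smul_eq_mul,
          mul_zero, add_zero, zero_add, mul_one, QuadraticMap.polar_zero_right] at e0 e1 e2
        have hg0 : g 0 = 0 := by
          rcases mul_eq_zero.mp e0 with h | h
          · exact h
          · exfalso
            rcases mul_eq_zero.mp h with h' | h'
            · exact h2 h'
            · exact hu h'
        intro i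
        fin_cases i
        · exact hg0
        · exact e1
        · exact e2
      have h3 := hli.fintype_card_le_finrank
      rw [Fintype.card_fin] at h3
      have hdim : 5 ≤ Module.finrank F V := by
        rcases heven with ⟨k, hk⟩
        have : Module.finrank F V ≠ 4 := fun h => hsmall ⟨h, hq⟩
        omega
      obtain ⟨w, hw, huw, hzw, hz'w⟩ := exists_compl_rep Q hQ h2 u z z' hu hz hz' hzz' huz huz'
        hdim (Q u) hu
      refine ⟨w, hw, huw, ?_⟩
      have hwv : pol (⇑Q) w v = 0 := by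
        rw [hv_eq, QuadraticMap.polar_add_right, QuadraticMap.polar_smul_right,
          QuadraticMap.polar_comm (⇑Q) w u, huw, QuadraticMap.polar_comm (⇑Q) w z, hzw,
          smul_zero, add_zero]
      rw [hwv, hw]
      intro h
      have : (4 : F) * Q u * Q v = 0 := by linear_combination (-1 : F) * h
      exact (mul_ne_zero (mul_ne_zero h4 hu) hv) this
    · -- more than three elements
      have hcard : 3 < Fintype.card F := by
        have hchar : ringChar F ≠ 2 := by
          intro h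
          apply h2
          have : ((2 : ℕ) : F) = 0 := by
            rw [← h]; exact ringChar.Nat.cast_ringChar
          exact_mod_cast this
        have hodd : Fintype.card F % 2 = 1 := FiniteField.odd_card_of_char_ne_two hchar
        have h1 : 1 < Fintype.card F := Fintype.one_lt_card
        omega
      obtain ⟨y, hy0, hy1, hy2⟩ := exists_avoid_three hcard (0 : F) (2 * l * Q u) (-(2 * l * Q u))
      refine ⟨(Q u / y) • z + y • z', ?_, ?_, ?_⟩
      · rw [Q_plane, hz, hz', hzz']
        field_simp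
        ring
      · rw [QuadraticMap.polar_add_right, QuadraticMap.polar_smul_right,
          QuadraticMap.polar_smul_right, huz, huz', smul_zero, smul_zero, add_zero]
      · have hwv : pol (⇑Q) ((Q u / y) • z + y • z') v = y := by
          rw [hv_eq]
          simp only [QuadraticMap.polar_add_right, QuadraticMap.polar_add_left,
            QuadraticMap.polar_smul_right, QuadraticMap.polar_smul_left, huz, huz', hzz, hzz',
            QuadraticMap.polar_comm (⇑Q) z u, QuadraticMap.polar_comm (⇑Q) z' u,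
            QuadraticMap.polar_comm (⇑Q) z' z, smul_eq_mul, mul_zero, add_zero, zero_add,
            mul_one]
        have hQw : Q ((Q u / y) • z + y • z') = Q u := by
          rw [Q_plane, hz, hz', hzz']
          field_simp
          ring
        rw [hwv, hQw, hQv]
        intro h
        have h5 : (y - 2 * l * Q u) * (y + 2 * l * Q u) = 0 := by linear_combination h
        rcases mul_eq_zero.mp h5 with h6 | h6
        · exact hy1 (sub_eq_zero.mp h6)
        · exact hy2 (by linear_combination h6)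
  obtain ⟨w, hQw, huw, hwv⟩ := hkey
  have hw : Q w ≠ 0 := by rw [hQw]; exact hu
  obtain ⟨Tw, hTw⟩ := exists_equiv_of_isom Q hQ (reflLin Q w) (reflLin_isom Q w hw)
  have hTwTw : Tw * Tw = 1 := refl_mul_self Q ⟨w, hw, hTw⟩
  have h1 : Tu * Tw ∈ classGroup Q (quadraticChar F c₀) := by
    apply pair_mem_classGroup_of_disc Q hQ h2 c₀ hc₀ u w hu hw (by rw [hQw]) ?_ Tu Tw hTu hTw
    rw [huw, hQw]
    intro h
    have : (4 : F) * Q u * Q u = 0 := by linear_combination (-1 : F) * h
    exact (mul_ne_zero (mul_ne_zero h4 hu) hu) this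
  have h3 : Tw * Tv ∈ classGroup Q (quadraticChar F c₀) :=
    pair_mem_classGroup_of_disc Q hQ h2 c₀ hc₀ w v hw hv (by rw [hQw, hχ]) hwv Tw Tv hTw hTv
  have h5 : Tu * Tv = (Tu * Tw) * (Tw * Tv) := by
    rw [mul_assoc, ← mul_assoc Tw, hTwTw, one_mul]
  rw [h5]
  exact Subgroup.mul_mem _ h1 h3

/-- The class group is normalised by the isometry group. -/
theorem conj_mem_classGroup (Q : QuadraticForm F V) (ε : ℤ) {h : V ≃ₗ[F] V}
    (hh : h ∈ isoGroup Q) {x : V ≃ₗ[F] V} (hx : x ∈ classGroup Q ε) :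
    h * x * h⁻¹ ∈ classGroup Q ε := by
  have hpolh : ∀ z w, pol (⇑Q) (h z) (h w) = pol (⇑Q) z w := by
    intro z w
    unfold QuadraticMap.polar
    rw [← map_add, hh, hh, hh]
  unfold classGroup at hx
  induction hx using Subgroup.closure_induction with
  | mem T hT =>
    obtain ⟨v, hv, hχ, hTv⟩ := hT
    apply Subgroup.subset_closure
    refine ⟨h v, by rw [hh]; exact hv, by rw [hh]; exact hχ, ?_⟩
    intro z
    change h (T (h⁻¹ z)) = _
    have hz : h (h⁻¹ z) = z := h.apply_symm_apply z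
    rw [hTv, reflLin_apply, reflLin_apply, map_sub, map_smul, hz, hh, ← hpolh v (h⁻¹ z), hz]
  | one =>
    rw [mul_one, mul_inv_cancel]
    exact Subgroup.one_mem _
  | mul a b _ _ iha ihb =>
    have : h * (a * b) * h⁻¹ = (h * a * h⁻¹) * (h * b * h⁻¹) := by group
    rw [this]
    exact Subgroup.mul_mem _ iha ihb
  | inv a _ iha =>
    have : h * a⁻¹ * h⁻¹ = (h * a * h⁻¹)⁻¹ := by group
    rw [this]
    exact Subgroup.inv_mem _ iha

/-- Every isometry lies in the class group or differs from it by a fixed reflection of the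
other class. -/
theorem mem_classGroup_or [FiniteDimensional F V] (Q : QuadraticForm F V)
    (hQ : (QuadraticMap.polarBilin Q).Nondegenerate) (h2 : (2 : F) ≠ 0)
    (heven : Even (Module.finrank F V))
    (hsmall : ¬ (Module.finrank F V = 4 ∧ Fintype.card F = 3)) (c₀ : F) (hc₀ : c₀ ≠ 0)
    (v₀ : V) (hv₀ : Q v₀ ≠ 0) (hχ₀ : quadraticChar F (Q v₀) = -quadraticChar F c₀)
    (T₀ : V ≃ₗ[F] V) (hT₀ : ∀ z, T₀ z = reflLin Q v₀ z) {g : V ≃ₗ[F] V}
    (hg : g ∈ reflGroup Q) :
    g ∈ classGroup Q (quadraticChar F c₀) ∨ g * T₀ ∈ classGroup Q (quadraticChar F c₀) := by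
  have hT₀set : T₀ ∈ reflSet Q := ⟨v₀, hv₀, hT₀⟩
  have hTT := refl_mul_self Q hT₀set
  have hT₀inv := refl_inv Q hT₀set
  have hT₀mem : T₀ ∈ isoGroup Q := reflGroup_le_isoGroup Q (Subgroup.subset_closure hT₀set)
  have hconj : ∀ x ∈ classGroup Q (quadraticChar F c₀),
      T₀ * x * T₀ ∈ classGroup Q (quadraticChar F c₀) := by
    intro x hx
    have := conj_mem_classGroup Q _ hT₀mem hx
    rw [hT₀inv] at this
    exact this
  unfold reflGroup at hg
  induction hg using Subgroup.closure_induction with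
  | mem T hT =>
    obtain ⟨v, hv, hTv⟩ := hT
    have hcases : quadraticChar F (Q v) = quadraticChar F c₀ ∨
        quadraticChar F (Q v) = -quadraticChar F c₀ := by
      rcases quadraticChar_dichotomy hv with h | h <;>
        rcases quadraticChar_dichotomy hc₀ with h' | h' <;> rw [h, h'] <;> simp
    rcases hcases with h | h
    · left
      exact Subgroup.subset_closure ⟨v, hv, h, hTv⟩
    · right
      exact pair_mem_classGroup Q hQ h2 heven hsmall c₀ hc₀ v v₀ hv hv₀ (by rw [h, hχ₀]) T T₀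
        hTv hT₀
  | one =>
    left
    exact Subgroup.one_mem _
  | mul a b _ _ iha ihb =>
    rcases iha with ha | ha <;> rcases ihb with hb | hb
    · left
      exact Subgroup.mul_mem _ ha hb
    · right
      rw [mul_assoc]
      exact Subgroup.mul_mem _ ha hb
    · right
      have : a * b * T₀ = (a * T₀) * (T₀ * b * T₀) := by
        calc a * b * T₀ = a * 1 * b * T₀ := by group
          _ = a * (T₀ * T₀) * b * T₀ := by rw [hTT]
          _ = (a * T₀) * (T₀ * b * T₀) := by group
      rw [this]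
      exact Subgroup.mul_mem _ ha (hconj _ hb)
    · left
      have : a * b = (a * T₀) * (T₀ * (b * T₀) * T₀) := by
        calc a * b = a * 1 * b * 1 := by group
          _ = a * (T₀ * T₀) * b * (T₀ * T₀) := by rw [hTT]
          _ = (a * T₀) * (T₀ * (b * T₀) * T₀) := by group
      rw [this]
      exact Subgroup.mul_mem _ ha (hconj _ hb)
  | inv a _ iha =>
    rcases iha with ha | ha
    · left
      exact Subgroup.inv_mem _ ha
    · right
      have : a⁻¹ * T₀ = T₀ * (a * T₀)⁻¹ * T₀ := by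
        rw [mul_inv_rev, hT₀inv]
        calc a⁻¹ * T₀ = 1 * a⁻¹ * T₀ := by group
          _ = (T₀ * T₀) * a⁻¹ * T₀ := by rw [hTT]
          _ = T₀ * (T₀ * a⁻¹) * T₀ := by group
      rw [this]
      exact hconj _ (Subgroup.inv_mem _ ha)

/-- Membership in the closure of a subset of a subgroup, computed inside the subgroup. -/
theorem mem_closure_subtype_iff {H : Type*} [Group H] (K : Subgroup H) (S : Set H)
    (hS : S ⊆ K) (x : ↥K) :
    x ∈ Subgroup.closure {y : ↥K | (y : H) ∈ S} ↔ (x : H) ∈ Subgroup.closure S := by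
  have h1 : (Subgroup.closure {y : ↥K | (y : H) ∈ S}).map K.subtype = Subgroup.closure S := by
    rw [MonoidHom.map_closure]
    congr 1
    ext z
    constructor
    · rintro ⟨y, hy, rfl⟩
      exact hy
    · intro hz
      exact ⟨⟨z, hS hz⟩, hz, rfl⟩
  rw [← h1]
  exact (Subgroup.mem_map_iff_mem (f := K.subtype) (Subgroup.subtype_injective K)).symm

/-- Elements of the class group have type `(0, 1)` or `(1, ε)`. -/
theorem type_of_mem_classGroup [FiniteDimensional F V] (Q : QuadraticForm F V)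
    (hQ : (QuadraticMap.polarBilin Q).Nondegenerate)
    (hF : (∀ a b : F, ∃ x : F, x ≠ a ∧ x ≠ b) ∨ Module.finrank F V ≠ 4) (ε : ℤ)
    (hε : ε * ε = 1) {g : V ≃ₗ[F] V} (hg : g ∈ classGroup Q ε) :
    g ∈ isoGroup Q ∧ ((par g = 0 ∧ spin Q g = 1) ∨ (par g = 1 ∧ spin Q g = ε)) := by
  unfold classGroup at hg
  induction hg using Subgroup.closure_induction with
  | mem T hT =>
    obtain ⟨v, hv, hχ, hTv⟩ := hT
    have hTset : T ∈ reflSet Q := ⟨v, hv, hTv⟩
    refine ⟨reflGroup_le_isoGroup Q (Subgroup.subset_closure hTset), Or.inr ⟨?_, ?_⟩⟩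
    · exact par_refl Q hQ T hTset
    · rw [spin_refl Q hQ v hv T hTv, hχ]
  | one =>
    exact ⟨Subgroup.one_mem _, Or.inl ⟨par_one, spin_one Q⟩⟩
  | mul a b _ _ iha ihb =>
    obtain ⟨ha, ha'⟩ := iha
    obtain ⟨hb, hb'⟩ := ihb
    refine ⟨Subgroup.mul_mem _ ha hb, ?_⟩
    rw [par_mul Q hQ a (isoGroup_le_reflGroup Q hQ hF ha) b hb, spin_mul' Q hQ hF ha hb]
    rcases ha' with ⟨h1, h2⟩ | ⟨h1, h2⟩ <;> rcases hb' with ⟨h3, h4⟩ | ⟨h3, h4⟩ <;>
      rw [h1, h2, h3, h4]
    · left; exact ⟨by decide, by ring⟩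
    · right; exact ⟨by decide, by ring⟩
    · right; exact ⟨by decide, by ring⟩
    · left; exact ⟨by decide, hε⟩
  | inv a _ iha =>
    obtain ⟨ha, ha'⟩ := iha
    have hai := Subgroup.inv_mem _ ha
    refine ⟨hai, ?_⟩
    have hp := par_mul Q hQ a (isoGroup_le_reflGroup Q hQ hF ha) a⁻¹ hai
    have hs := spin_mul' Q hQ hF ha hai
    rw [mul_inv_cancel, par_one] at hp
    rw [mul_inv_cancel, spin_one] at hs
    rcases ha' with ⟨h1, h2⟩ | ⟨h1, h2⟩
    · left
      rw [h1, zero_add] at hp
      rw [h2, one_mul] at hs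
      exact ⟨hp.symm, hs.symm⟩
    · right
      rw [h1] at hp
      rw [h2] at hs
      refine ⟨?_, ?_⟩
      · have : ∀ t : ZMod 2, 0 = 1 + t → t = 1 := by decide
        exact this _ hp
      · calc spin Q a⁻¹ = (ε * ε) * spin Q a⁻¹ := by rw [hε, one_mul]
          _ = ε * (ε * spin Q a⁻¹) := by ring
          _ = ε := by rw [← hs, mul_one]

/-- The subgroup generated by the reflections of a fixed class has index two. -/
theorem index_closure_reflClass [FiniteDimensional F V] (Q : QuadraticForm F V)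
    (hQ : (QuadraticMap.polarBilin Q).Nondegenerate) (h2 : (2 : F) ≠ 0)
    (hdim : 2 ≤ Module.finrank F V) (heven : Even (Module.finrank F V))
    (hsmall : ¬ (Module.finrank F V = 4 ∧ Fintype.card F = 3)) (c₀ : F) (hc₀ : c₀ ≠ 0) :
    (Subgroup.closure {x : ↥(isoGroup Q) |
      (x : V ≃ₗ[F] V) ∈ reflClass Q (quadraticChar F c₀)}).index = 2 := by
  classical
  have hF : (∀ a b : F, ∃ x : F, x ≠ a ∧ x ≠ b) ∨ Module.finrank F V ≠ 4 :=
    Or.inl (exists_ne_ne_of_two_ne_zero h2)
  obtain ⟨ε, hεdef⟩ : ∃ ε : ℤ, ε = quadraticChar F c₀ := ⟨_, rfl⟩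
  have hε : ε = 1 ∨ ε = -1 := by
    rw [hεdef]; exact quadraticChar_dichotomy hc₀
  have hεε : ε * ε = 1 := by
    rcases hε with h | h <;> rw [h] <;> norm_num
  -- a vector of the other class
  have hchar : ringChar F ≠ 2 := by
    intro h
    apply h2
    have : ((2 : ℕ) : F) = 0 := by
      rw [← h]; exact ringChar.Nat.cast_ringChar
    exact_mod_cast this
  obtain ⟨η, hη⟩ := FiniteField.exists_nonsquare hchar
  have hη0 : η ≠ 0 := by
    rintro rfl
    exact hη (IsSquare.zero)
  have hχη : quadraticChar F η = -1 := quadraticChar_neg_one_iff_not_isSquare.mpr hη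
  obtain ⟨v₀, hv₀⟩ := exists_Q_eq Q hQ h2 hdim (c₀ * η) (mul_ne_zero hc₀ hη0)
  have hv₀0 : Q v₀ ≠ 0 := by rw [hv₀]; exact mul_ne_zero hc₀ hη0
  have hχ₀ : quadraticChar F (Q v₀) = -quadraticChar F c₀ := by
    rw [hv₀, map_mul, hχη]; ring
  obtain ⟨T₀, hT₀⟩ := exists_equiv_of_isom Q hQ (reflLin Q v₀) (reflLin_isom Q v₀ hv₀0)
  have hT₀set : T₀ ∈ reflSet Q := ⟨v₀, hv₀0, hT₀⟩
  have hT₀mem : T₀ ∈ isoGroup Q := reflGroup_le_isoGroup Q (Subgroup.subset_closure hT₀set)
  have hsubset : reflClass Q (quadraticChar F c₀) ⊆ (isoGroup Q : Set (V ≃ₗ[F] V)) := by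
    intro T hT
    exact reflGroup_le_isoGroup Q (Subgroup.subset_closure (reflClass_subset_reflSet Q _ hT))
  -- the characterisation of the class group
  have hchar' : ∀ g ∈ isoGroup Q, (g ∈ classGroup Q ε ↔
      ((par g = 0 ∧ spin Q g = 1) ∨ (par g = 1 ∧ spin Q g = ε))) := by
    intro g hg
    constructor
    · intro h
      exact (type_of_mem_classGroup Q hQ hF ε hεε h).2
    · intro htype
      rw [hεdef]
      rcases mem_classGroup_or Q hQ h2 heven hsmall c₀ hc₀ v₀ hv₀0 hχ₀ T₀ hT₀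
        (isoGroup_le_reflGroup Q hQ hF hg) with h | h
      · exact h
      · exfalso
        rw [← hεdef] at h
        have h3 := (type_of_mem_classGroup Q hQ hF ε hεε h).2
        rw [par_mul Q hQ g (isoGroup_le_reflGroup Q hQ hF hg) T₀ hT₀mem,
          spin_mul' Q hQ hF hg hT₀mem, par_refl Q hQ T₀ hT₀set,
          spin_refl Q hQ v₀ hv₀0 T₀ hT₀, hχ₀, ← hεdef] at h3
        have hz2 : ∀ t : ZMod 2, ¬ (t = 0 ∧ t + 1 = 0) ∧ ¬ (t = 1 ∧ t + 1 = 1) := by decide
        rcases htype with ⟨h4, h5⟩ | ⟨h4, h5⟩ <;> rcases h3 with ⟨h6, h7⟩ | ⟨h6, h7⟩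
        · exact (hz2 _).1 ⟨h4, h6⟩
        · rw [h5] at h7
          rcases hε with h | h <;> rw [h] at h7 <;> norm_num at h7
        · rw [h5] at h7
          have : ε * -ε = -1 := by rw [mul_neg, hεε]
          rw [this] at h7
          norm_num at h7
        · exact (hz2 _).2 ⟨h4, h6⟩
  rw [Subgroup.index_eq_two_iff]
  refine ⟨⟨T₀, hT₀mem⟩, ?_⟩
  intro b
  rw [mem_closure_subtype_iff (isoGroup Q) _ hsubset, mem_closure_subtype_iff (isoGroup Q) _ hsubset]
  change Xor ((b : V ≃ₗ[F] V) * T₀ ∈ classGroup Q (quadraticChar F c₀))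
    ((b : V ≃ₗ[F] V) ∈ classGroup Q (quadraticChar F c₀))
  rw [← hεdef, hchar' _ b.2, hchar' _ (Subgroup.mul_mem _ b.2 hT₀mem),
    par_mul Q hQ b.1 (isoGroup_le_reflGroup Q hQ hF b.2) T₀ hT₀mem,
    spin_mul' Q hQ hF b.2 hT₀mem, par_refl Q hQ T₀ hT₀set,
    spin_refl Q hQ v₀ hv₀0 T₀ hT₀, hχ₀, ← hεdef]
  have hpar : par (b : V ≃ₗ[F] V) = 0 ∨ par (b : V ≃ₗ[F] V) = 1 := by
    have : ∀ t : ZMod 2, t = 0 ∨ t = 1 := by decide
    exact this _
  have hspin := spin_eq_one_or Q hQ hF b.2
  have h01 : (0 : ZMod 2) + 1 = 1 := by decide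
  have h11 : (1 : ZMod 2) + 1 = 0 := by decide
  have h10 : (1 : ZMod 2) ≠ 0 := by decide
  rcases hpar with hp | hp <;> rcases hspin with hs | hs <;> rcases hε with he | he <;>
    rw [hp, hs, he] <;> simp [Xor, h01, h11, h10]

end Finite

end Cfsg.Agent.Lib.Helper13
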