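import Mathlib

set_option autoImplicit false

/-!
# S4707 module `[CENT]` (helper92's project)

In a finite simple group whose Sylow `p`-subgroups have order `p` and normalizers of order `2p`,
elements of order `p` are self-centralizing: `C_G(x) = ⟨x⟩`.
-/

namespace Cfsg.Agent.Lib.Helper13.S4707

open Subgroup

/-- The normalizers of any two Sylow `p`-subgroups have the same order. -/
theorem card_normalizer_sylow_eq {G : Type*} [Group G] [Finite G] {p : ℕ} [Fact p.Prime]
    (P Q : Sylow p G) :
    Nat.card (normalizer ((Q : Subgroup G) : Set G)) =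
      Nat.card (normalizer ((P : Subgroup G) : Set G)) := by
  have h1 : Nat.card (Sylow p G) = (normalizer ((P : Subgroup G) : Set G)).index :=
    Sylow.card_eq_index_normalizer P
  have h2 : Nat.card (Sylow p G) = (normalizer ((Q : Subgroup G) : Set G)).index :=
    Sylow.card_eq_index_normalizer Q
  have h3 := Subgroup.card_mul_index (normalizer ((P : Subgroup G) : Set G))
  have h4 := Subgroup.card_mul_index (normalizer ((Q : Subgroup G) : Set G))
  rw [← h1] at h3
  rw [← h2] at h4
  have hpos : 0 < Nat.card (Sylow p G) := Nat.card_pos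
  exact Nat.eq_of_mul_eq_mul_right hpos (h4.trans h3.symm)

theorem centralizer_order_p {G : Type*} [Group G] [Finite G] [IsSimpleGroup G] {p : ℕ}
    [Fact p.Prime] (hp : 2 < p) (P : Sylow p G) (hP : Nat.card (P : Subgroup G) = p)
    (hN : Nat.card (Subgroup.normalizer ((P : Subgroup G) : Set G)) = 2 * p)
    (x : G) (hx : orderOf x = p) (y : G) (hxy : Commute x y) : y ∈ Subgroup.zpowers x := by
  have hpp : p.Prime := Fact.out
  have hZcard : Nat.card (zpowers x) = p := by rw [Nat.card_zpowers, hx]
  have hZp : IsPGroup p (zpowers x) := IsPGroup.of_card (n := 1) (by rw [hZcard, pow_one])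
  obtain ⟨Q, hZQ⟩ := hZp.exists_le_sylow
  have hQcard : Nat.card (Q : Subgroup G) = p :=
    (Nat.card_congr (Sylow.equiv Q P).toEquiv).trans hP
  have hZeq : zpowers x = (Q : Subgroup G) :=
    Subgroup.eq_of_le_of_card_ge hZQ (by rw [hQcard, hZcard])
  have hNQ : Nat.card (normalizer ((Q : Subgroup G) : Set G)) = 2 * p := by
    rw [card_normalizer_sylow_eq P Q, hN]
  have hCN : centralizer ((Q : Subgroup G) : Set G) ≤ normalizer ((Q : Subgroup G) : Set G) :=
    Subgroup.centralizer_le_normalizer _
  have hZC : zpowers x ≤ centralizer ((Q : Subgroup G) : Set G) := by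
    rw [← hZeq, Subgroup.zpowers_le]
    intro h hh
    obtain ⟨k, rfl⟩ := Subgroup.mem_zpowers_iff.mp hh
    exact (Commute.zpow_self x k)
  have hyC : y ∈ centralizer ((Q : Subgroup G) : Set G) := by
    rw [← hZeq]
    intro h hh
    obtain ⟨k, rfl⟩ := Subgroup.mem_zpowers_iff.mp hh
    exact (hxy.zpow_left k)
  have hd1 : p ∣ Nat.card (centralizer ((Q : Subgroup G) : Set G)) := by
    have h := Subgroup.card_dvd_of_le hZC
    rwa [hZcard] at h
  have hd2 : Nat.card (centralizer ((Q : Subgroup G) : Set G)) ∣ 2 * p := by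
    have h := Subgroup.card_dvd_of_le hCN
    rwa [hNQ] at h
  obtain ⟨t, ht⟩ := hd1
  have hppos : 0 < p := hpp.pos
  have ht2 : t ∣ 2 := by
    rw [ht, mul_comm p t] at hd2
    exact Nat.dvd_of_mul_dvd_mul_right hppos hd2
  have ht12 : t = 1 ∨ t = 2 := (Nat.dvd_prime Nat.prime_two).mp ht2
  rcases ht12 with rfl | rfl
  · -- `C(Q) = ⟨x⟩`
    have hCeq : zpowers x = centralizer ((Q : Subgroup G) : Set G) :=
      Subgroup.eq_of_le_of_card_ge hZC (by rw [ht, hZcard, mul_one])
    rw [hCeq]
    exact hyC
  · -- `C(Q) = N(Q)`: Burnside's transfer theorem contradicts simplicity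
    exfalso
    have hCeqN : centralizer ((Q : Subgroup G) : Set G) = normalizer ((Q : Subgroup G) : Set G) :=
      Subgroup.eq_of_le_of_card_ge hCN (by rw [ht, hNQ, mul_comm])
    have hNC : normalizer ((Q : Subgroup G) : Set G) ≤ centralizer ((Q : Subgroup G) : Set G) :=
      hCeqN.ge
    have hcompl := MonoidHom.ker_transferSylow_isComplement' Q hNC
    have hcard := hcompl.card_mul_card
    rw [hQcard] at hcard
    have hGpos : 0 < Nat.card G := Nat.card_pos
    rcases (MonoidHom.normal_ker (MonoidHom.transferSylow Q hNC)).eq_bot_or_eq_top with hK | hK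
    · rw [hK, Subgroup.card_bot, one_mul] at hcard
      have hle : Nat.card (normalizer ((Q : Subgroup G) : Set G)) ≤ Nat.card G :=
        Subgroup.card_le_card_group _
      rw [hNQ, ← hcard] at hle
      omega
    · rw [hK, Subgroup.card_top] at hcard
      have : p = 1 := by
        have h1 : Nat.card G * p = Nat.card G * 1 := by rw [hcard, mul_one]
        exact Nat.eq_of_mul_eq_mul_left hGpos h1
      exact hpp.one_lt.ne' this

end Cfsg.Agent.Lib.Helper13.S4707
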