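import Mathlib
import Cfsg.Agent.Lib.Helper13.S4707Cent

set_option autoImplicit false

/-!
# S4707 module `[SIMPLE]` (helper92's project)

A primitive permutation group of degree `2p` (`p > 2` prime) whose Sylow `p`-normalizer has order
`2p` is simple, with Sylow `p`-subgroups of order `p`.
-/

namespace Cfsg.Agent.Lib.Helper13.S4707

open Subgroup

/-- Membership in a normal Hall subgroup is detected by a power. -/
theorem mem_iff_pow_card_eq_one {H : Type*} [Group H] [Finite H] (K : Subgroup H) [K.Normal]
    (hcop : (Nat.card K).Coprime K.index) (h : H) : h ∈ K ↔ h ^ Nat.card K = 1 := by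
  constructor
  · intro hh
    have h1 : (⟨h, hh⟩ : K) ^ Nat.card K = 1 := pow_card_eq_one'
    have h2 : ((⟨h, hh⟩ : K) : H) ^ Nat.card K = 1 := by
      rw [← Subgroup.coe_pow, h1, Subgroup.coe_one]
    exact h2
  · intro hpow
    rw [← QuotientGroup.eq_one_iff]
    have h1 : ((h : H ⧸ K)) ^ Nat.card K = 1 := by
      rw [← QuotientGroup.mk_pow, hpow]
      rfl
    have h2 : ((h : H ⧸ K)) ^ K.index = 1 := by
      rw [Subgroup.index_eq_card]
      exact pow_card_eq_one'
    have h3 : orderOf (h : H ⧸ K) ∣ 1 := by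
      have := Nat.dvd_gcd (orderOf_dvd_of_pow_eq_one h1) (orderOf_dvd_of_pow_eq_one h2)
      rwa [Nat.Coprime.gcd_eq_one hcop] at this
    exact orderOf_eq_one_iff.mp (Nat.dvd_one.mp h3)

/-- A normal subgroup of order divisible by `p` contains every Sylow `p`-subgroup of order `p`. -/
theorem sylow_le_normal {G : Type*} [Group G] [Finite G] {p : ℕ} [Fact p.Prime] (P : Sylow p G)
    (hP : Nat.card (P : Subgroup G) = p) (N : Subgroup G) [hNn : N.Normal]
    (hpN : p ∣ Nat.card N) : (P : Subgroup G) ≤ N := by
  obtain ⟨x, hx⟩ := exists_prime_orderOf_dvd_card' p hpN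
  have hx' : orderOf (x : G) = p := by rw [Subgroup.orderOf_coe, hx]
  have hZcard : Nat.card (zpowers (x : G)) = p := by rw [Nat.card_zpowers, hx']
  have hZp : IsPGroup p (zpowers (x : G)) := IsPGroup.of_card (n := 1) (by rw [hZcard, pow_one])
  obtain ⟨Q, hZQ⟩ := hZp.exists_le_sylow
  have hQcard : Nat.card (Q : Subgroup G) = p :=
    (Nat.card_congr (Sylow.equiv Q P).toEquiv).trans hP
  have hZeq : zpowers (x : G) = (Q : Subgroup G) :=
    Subgroup.eq_of_le_of_card_ge hZQ (by rw [hQcard, hZcard])
  have hQN : (Q : Subgroup G) ≤ N := by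
    rw [← hZeq, Subgroup.zpowers_le]
    exact x.2
  obtain ⟨g, hg⟩ := MulAction.exists_smul_eq G Q P
  intro h hh
  have h1 : h ∈ ((g • Q : Sylow p G) : Subgroup G) := by rw [hg]; exact hh
  rw [Sylow.coe_subgroup_smul, Subgroup.mem_pointwise_smul_iff_inv_smul_mem] at h1
  have h2 : g⁻¹ * h * g ∈ N := by
    apply hQN
    simpa [MulAut.smul_def] using h1
  have h3 := hNn.conj_mem _ h2 g
  simpa [mul_assoc] using h3

/-- The abstract core of `[SIMPLE]`: if every non-trivial normal subgroup has order divisible by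
`2p`, the Sylow `p`-subgroups have order `p` and their normalizers order `2p`, then every
non-trivial normal subgroup is the whole group. -/
theorem eq_top_of_normal {G : Type*} [Group G] [Finite G] {p : ℕ} [Fact p.Prime]
    (P : Sylow p G) (hP : Nat.card (P : Subgroup G) = p)
    (hN : Nat.card (Subgroup.normalizer ((P : Subgroup G) : Set G)) = 2 * p)
    (hT : ∀ M : Subgroup G, M.Normal → M ≠ ⊥ → 2 * p ∣ Nat.card M)
    (N : Subgroup G) [hNn : N.Normal] (hN0 : N ≠ ⊥) : N = ⊤ := by
  have hpp : p.Prime := Fact.out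
  have hppos : 0 < p := hpp.pos
  have h2pN : 2 * p ∣ Nat.card N := hT N hNn hN0
  have hpN : p ∣ Nat.card N := (Dvd.intro_left 2 rfl).trans h2pN
  have hPN : (P : Subgroup G) ≤ N := sylow_le_normal P hP N hpN
  have hfrat : normalizer ((P : Subgroup G) : Set G) ⊔ N = ⊤ :=
    Sylow.normalizer_sup_eq_top' P hPN
  -- `D = N_N(P)`
  have hPD : (P : Subgroup G) ≤ normalizer ((P : Subgroup G) : Set G) ⊓ N :=
    le_inf Subgroup.le_normalizer hPN
  have hd1 : p ∣ Nat.card ↥(normalizer ((P : Subgroup G) : Set G) ⊓ N) := by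
    have h := Subgroup.card_dvd_of_le hPD
    rwa [hP] at h
  have hd2 : Nat.card ↥(normalizer ((P : Subgroup G) : Set G) ⊓ N) ∣ 2 * p := by
    have h := Subgroup.card_dvd_of_le
      (inf_le_left : normalizer ((P : Subgroup G) : Set G) ⊓ N ≤ normalizer ((P : Subgroup G) : Set G))
    rwa [hN] at h
  obtain ⟨t, ht⟩ := hd1
  have ht2 : t ∣ 2 := by
    rw [ht, mul_comm p t] at hd2
    exact Nat.dvd_of_mul_dvd_mul_right hppos hd2
  have ht12 : t = 1 ∨ t = 2 := (Nat.dvd_prime Nat.prime_two).mp ht2
  rcases ht12 with rfl | rfl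
  · -- `N_N(P) = P`: Burnside's transfer theorem inside `N`
    exfalso
    have hDeq : (P : Subgroup G) = normalizer ((P : Subgroup G) : Set G) ⊓ N :=
      Subgroup.eq_of_le_of_card_ge hPD (by rw [ht, hP, mul_one])
    set P' : Sylow p N := P.subtype hPN with hP'
    have hP'coe : (P' : Subgroup N) = (P : Subgroup G).subgroupOf N := rfl
    have hP'card : Nat.card (P' : Subgroup N) = p :=
      (Nat.card_congr (Subgroup.subgroupOfEquivOfLe hPN).toEquiv).trans hP
    -- `P'` is commutative
    have hcomm : ∀ a ∈ (P' : Subgroup N), ∀ b ∈ (P' : Subgroup N), a * b = b * a := by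
      have hcyc : IsCyclic (P' : Subgroup N) := isCyclic_of_prime_card hP'card
      let cg : CommGroup (P' : Subgroup N) := IsCyclic.commGroup
      intro a ha b hb
      have := mul_comm (⟨a, ha⟩ : (P' : Subgroup N)) ⟨b, hb⟩
      exact congrArg (fun z : (P' : Subgroup N) => (z : N)) this
    have hNC : normalizer ((P' : Subgroup N) : Set N) ≤ centralizer ((P' : Subgroup N) : Set N) := by
      intro n hn
      have hnP : (n : G) ∈ normalizer ((P : Subgroup G) : Set G) := by
        rw [Subgroup.mem_normalizer_iff] at hn ⊢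
        intro h
        constructor
        · intro hh
          have := (hn ⟨h, hPN hh⟩).mp (by rw [hP'coe, Subgroup.mem_subgroupOf]; exact hh)
          rw [hP'coe, Subgroup.mem_subgroupOf] at this
          exact this
        · intro hh
          have hhN : h ∈ N := by
            have h1 : (n : G)⁻¹ * ((n : G) * h * (n : G)⁻¹) * (n : G) ∈ N :=
              N.mul_mem (N.mul_mem (N.inv_mem n.2) (hPN hh)) n.2
            simpa [mul_assoc] using h1
          have := (hn ⟨h, hhN⟩).mpr (by rw [hP'coe, Subgroup.mem_subgroupOf]; exact hh)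
          rw [hP'coe, Subgroup.mem_subgroupOf] at this
          exact this
      have hnP' : n ∈ (P' : Subgroup N) := by
        rw [hP'coe, Subgroup.mem_subgroupOf, hDeq]
        exact ⟨hnP, n.2⟩
      intro b hb
      exact hcomm b hb n hnP'
    have hcompl := MonoidHom.ker_transferSylow_isComplement' P' hNC
    have hnd := MonoidHom.not_dvd_card_ker_transferSylow P' hNC
    set K' : Subgroup N := (MonoidHom.transferSylow P' hNC).ker with hK'
    have hK'n : K'.Normal := MonoidHom.normal_ker _
    have hcard := hcompl.card_mul_card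
    rw [hP'card] at hcard
    have hidx : K'.index = p := by
      have h1 := Subgroup.card_mul_index K'
      rw [← hcard] at h1
      have hK'pos : 0 < Nat.card K' := Nat.card_pos
      exact Nat.eq_of_mul_eq_mul_left hK'pos h1
    have hcop : (Nat.card K').Coprime K'.index := by
      rw [hidx]
      exact (Nat.Coprime.symm ((Nat.Prime.coprime_iff_not_dvd hpp).mpr hnd))
    -- the image of `K'` in `G` is normal
    have hMn : (K'.map N.subtype).Normal := by
      constructor
      rintro k ⟨k', hk', rfl⟩ g
      refine ⟨⟨g * (k' : G) * g⁻¹, hNn.conj_mem _ k'.2 g⟩, ?_, rfl⟩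
      change k' ∈ K' at hk'
      change _ ∈ K'
      rw [mem_iff_pow_card_eq_one K' hcop] at hk' ⊢
      apply Subtype.ext
      have h1 := congrArg (fun z : N => (z : G)) hk'
      simp only [Subgroup.coe_pow, Subgroup.coe_one] at h1 ⊢
      rw [conj_pow, h1, mul_one, mul_inv_cancel]
    have hMcard : Nat.card (K'.map N.subtype) = Nat.card K' :=
      Subgroup.card_map_of_injective N.subtype_injective
    by_cases hM0 : K'.map N.subtype = ⊥
    · have hK'0 : K' = ⊥ := (Subgroup.map_eq_bot_iff_of_injective K' N.subtype_injective).mp hM0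
      rw [hK'0, Subgroup.card_bot, one_mul] at hcard
      rw [← hcard] at h2pN
      have := Nat.le_of_dvd hppos h2pN
      omega
    · have h := hT _ hMn hM0
      rw [hMcard] at h
      exact hnd ((Dvd.intro_left 2 rfl).trans h)
  · -- `N_N(P) = N_G(P)`, so `N_G(P) ≤ N`
    have hDeq : normalizer ((P : Subgroup G) : Set G) ⊓ N = normalizer ((P : Subgroup G) : Set G) :=
      Subgroup.eq_of_le_of_card_ge inf_le_left (by rw [ht, hN, mul_comm])
    have hle : normalizer ((P : Subgroup G) : Set G) ≤ N := by
      rw [← hDeq]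
      exact inf_le_right
    rw [← hfrat]
    exact (sup_eq_right.mpr hle).symm

/-- In a primitive permutation group, the order of a non-trivial normal subgroup is divisible by
the degree. -/
theorem card_dvd_card_of_normal {α : Type*} [Fintype α] [Nonempty α]
    (G : Subgroup (Equiv.Perm α)) (hprim : MulAction.IsPreprimitive G α) (M : Subgroup G)
    (hMn : M.Normal) (hM0 : M ≠ ⊥) : Fintype.card α ∣ Nat.card M := by
  have hfix : MulAction.fixedPoints M α ≠ Set.univ := by
    intro hfix
    apply hM0
    rw [eq_bot_iff]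
    intro m hm
    rw [Subgroup.mem_bot]
    apply Subtype.ext
    apply Equiv.ext
    intro a
    have ha : a ∈ MulAction.fixedPoints M α := by rw [hfix]; exact Set.mem_univ a
    exact ha ⟨m, hm⟩
  have htr : MulAction.IsPretransitive M α :=
    MulAction.IsQuasiPreprimitive.isPretransitive_of_normal hfix
  obtain ⟨a⟩ : Nonempty α := inferInstance
  have h1 : (MulAction.stabilizer M a).index = Nat.card α :=
    MulAction.index_stabilizer_of_transitive M a
  rw [← Nat.card_eq_fintype_card, ← h1]
  exact Subgroup.index_dvd_card _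

theorem simple_of_sylow {α : Type*} [Fintype α] [DecidableEq α] {p : ℕ} [Fact p.Prime]
    (hp : 2 < p) (hα : Fintype.card α = 2 * p) (G : Subgroup (Equiv.Perm α))
    (hprim : MulAction.IsPreprimitive G α) (P : Sylow p G)
    (hN : Nat.card (Subgroup.normalizer ((P : Subgroup G) : Set G)) = 2 * p) :
    IsSimpleGroup G ∧ Nat.card (P : Subgroup G) = p := by
  have hpp : p.Prime := Fact.out
  have hppos : 0 < p := hpp.pos
  have hne : Nonempty α := by
    rw [← Fintype.card_pos_iff, hα]
    omega
  have hT : ∀ M : Subgroup G, M.Normal → M ≠ ⊥ → 2 * p ∣ Nat.card M := by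
    intro M hMn hM0
    rw [← hα]
    exact card_dvd_card_of_normal G hprim M hMn hM0
  have hGnt : Nontrivial G := by
    by_contra hcon
    rw [not_nontrivial_iff_subsingleton] at hcon
    have h1 : Nat.card (Subgroup.normalizer ((P : Subgroup G) : Set G)) ≤ 1 :=
      Finite.card_le_one_iff_subsingleton.mpr inferInstance
    rw [hN] at h1
    omega
  have htop0 : (⊤ : Subgroup G) ≠ ⊥ := top_ne_bot
  have h2pG : 2 * p ∣ Nat.card G := by
    have := hT ⊤ inferInstance htop0
    rwa [Subgroup.card_top] at this
  -- `|P| = p`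
  have hPcard : Nat.card (P : Subgroup G) = p := by
    have hpG : p ∣ Nat.card G := (Dvd.intro_left 2 rfl).trans h2pG
    have hpP : p ∣ Nat.card (P : Subgroup G) := P.dvd_card_of_dvd_card hpG
    have hPN : Nat.card (P : Subgroup G) ∣ 2 * p := by
      have h := Subgroup.card_dvd_of_le (Subgroup.le_normalizer (H := (P : Subgroup G)))
      rwa [hN] at h
    obtain ⟨t, ht⟩ := hpP
    have ht2 : t ∣ 2 := by
      rw [ht, mul_comm p t] at hPN
      exact Nat.dvd_of_mul_dvd_mul_right hppos hPN
    have ht12 : t = 1 ∨ t = 2 := (Nat.dvd_prime Nat.prime_two).mp ht2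
    rcases ht12 with rfl | rfl
    · rw [ht, mul_one]
    · exfalso
      obtain ⟨k, hk⟩ := IsPGroup.iff_card.mp P.2
      have h2 : 2 ∣ p ^ k := by
        rw [← hk, ht]
        exact Dvd.intro_left p rfl
      have h3 : 2 ∣ p := Nat.Prime.dvd_of_dvd_pow Nat.prime_two h2
      have h4 := (Nat.prime_dvd_prime_iff_eq Nat.prime_two hpp).mp h3
      omega
  refine ⟨⟨fun N hNn => ?_⟩, hPcard⟩
  by_cases hN0 : N = ⊥
  · exact Or.inl hN0
  · exact Or.inr (eq_top_of_normal P hPcard hN hT N hN0)

end Cfsg.Agent.Lib.Helper13.S4707
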