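import Mathlib

/-!
# Transitivity of `SL_n(F)` on linearly independent pairs (`n ≥ 3`)
-/

set_option autoImplicit false

namespace Cfsg.Agent.Lib.Helper13

open Module

section LinAlg

variable {F : Type*} [Field F] {V : Type*} [AddCommGroup V] [Module F V] [FiniteDimensional F V]

omit [FiniteDimensional F V] in
theorem sumExtend_inl' {ι : Type*} {v : ι → V} (hv : LinearIndependent F v) (i : ι) :
    Basis.sumExtend hv (Sum.inl i) = v i := by
  unfold Basis.sumExtend
  simp only [Basis.reindex_apply, Basis.coe_extend]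
  rfl

/-- Two linearly independent families with the same index type are related by a linear
automorphism. -/
theorem exists_linearEquiv_of_linearIndependent {ι : Type*} [Finite ι] (v v' : ι → V)
    (hv : LinearIndependent F v) (hv' : LinearIndependent F v') :
    ∃ φ : V ≃ₗ[F] V, ∀ i, φ (v i) = v' i := by
  classical
  let b := Basis.sumExtend hv
  let b' := Basis.sumExtend hv'
  have hfin : Finite (ι ⊕ ↑(Basis.sumExtendIndex hv)) :=
    Module.Finite.finite_basis b
  have hfin' : Finite (ι ⊕ ↑(Basis.sumExtendIndex hv')) :=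
    Module.Finite.finite_basis b'
  have hS : Finite ↑(Basis.sumExtendIndex hv) :=
    Finite.of_injective (Sum.inr : _ → ι ⊕ _) Sum.inr_injective
  have hS' : Finite ↑(Basis.sumExtendIndex hv') :=
    Finite.of_injective (Sum.inr : _ → ι ⊕ _) Sum.inr_injective
  have h1 := Module.finrank_eq_nat_card_basis b
  have h2 := Module.finrank_eq_nat_card_basis b'
  rw [Nat.card_sum] at h1 h2
  have hcard : Nat.card ↑(Basis.sumExtendIndex hv) =
      Nat.card ↑(Basis.sumExtendIndex hv') := by omega
  obtain ⟨e₀⟩ := Finite.card_eq.mp hcard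
  refine ⟨b.equiv b' (Equiv.sumCongr (Equiv.refl ι) e₀), fun i => ?_⟩
  have hb : b (Sum.inl i) = v i := sumExtend_inl' hv i
  have hb' : b' (Sum.inl i) = v' i := sumExtend_inl' hv' i
  rw [← hb, Basis.equiv_apply, ← hb']
  rfl

/-- A linear automorphism of determinant one moving one independent pair to another, in dimension
at least three. -/
theorem exists_det_one_map_pair (h3 : 3 ≤ finrank F V) {x y x' y' : V}
    (h : LinearIndependent F ![x, y]) (h' : LinearIndependent F ![x', y']) :
    ∃ L : V →ₗ[F] V, LinearMap.det L = 1 ∧ L x = x' ∧ L y = y' := by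
  classical
  obtain ⟨φ, hφ⟩ := exists_linearEquiv_of_linearIndependent ![x, y] ![x', y'] h h'
  have hφx : φ x = x' := hφ 0
  have hφy : φ y = y' := hφ 1
  set d : F := LinearMap.det (φ : V →ₗ[F] V) with hd
  have hd0 : d ≠ 0 := by
    have := LinearEquiv.isUnit_det' φ
    exact this.ne_zero
  -- a vector outside the span of x', y'
  have hlt : Submodule.span F (Set.range ![x', y']) < ⊤ := by
    rw [lt_top_iff_ne_top]
    intro htop
    have h1 : finrank F (Submodule.span F (Set.range ![x', y'])) = 2 := by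
      rw [finrank_span_eq_card h']
      simp
    rw [htop, finrank_top] at h1
    omega
  obtain ⟨w, -, hw⟩ := SetLike.exists_of_lt hlt
  obtain ⟨f, hfw, hf⟩ := Submodule.exists_dual_map_eq_bot_of_notMem hw inferInstance
  have hf0 : ∀ z ∈ Submodule.span F (Set.range ![x', y']), f z = 0 := by
    intro z hz
    have : f z ∈ (Submodule.span F (Set.range ![x', y'])).map f := ⟨z, hz, rfl⟩
    rw [hf] at this
    exact (Submodule.mem_bot F).mp this
  have hfx : f x' = 0 := hf0 _ (Submodule.subset_span ⟨0, rfl⟩)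
  have hfy : f y' = 0 := hf0 _ (Submodule.subset_span ⟨1, rfl⟩)
  refine ⟨LinearMap.transvection (((d⁻¹ - 1) * (f w)⁻¹) • f) w ∘ₗ (φ : V →ₗ[F] V), ?_, ?_, ?_⟩
  · rw [LinearMap.det_comp, LinearMap.transvection.det, ← hd, LinearMap.smul_apply, smul_eq_mul]
    field_simp
    ring
  · rw [LinearMap.comp_apply, LinearEquiv.coe_coe, hφx, LinearMap.transvection.apply,
      LinearMap.smul_apply, hfx, smul_zero, zero_smul, add_zero]
  · rw [LinearMap.comp_apply, LinearEquiv.coe_coe, hφy, LinearMap.transvection.apply,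
      LinearMap.smul_apply, hfy, smul_zero, zero_smul, add_zero]

end LinAlg

section SL

variable {F : Type*} [Field F] {n : ℕ}

/-- `SL_n(F)`, `n ≥ 3`, is transitive on linearly independent pairs. -/
theorem exists_SL_map_pair (hn : 3 ≤ n) {x y x' y' : Fin n → F}
    (h : LinearIndependent F ![x, y]) (h' : LinearIndependent F ![x', y']) :
    ∃ g : Matrix.SpecialLinearGroup (Fin n) F, g.1.mulVec x = x' ∧ g.1.mulVec y = y' := by
  have h3 : 3 ≤ finrank F (Fin n → F) := by simpa using hn
  obtain ⟨L, hL, hx, hy⟩ := exists_det_one_map_pair h3 h h'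
  refine ⟨⟨LinearMap.toMatrix' L, by rw [LinearMap.det_toMatrix', hL]⟩, ?_, ?_⟩
  · show (LinearMap.toMatrix' L).mulVec x = x'
    rw [LinearMap.toMatrix'_mulVec, hx]
  · show (LinearMap.toMatrix' L).mulVec y = y'
    rw [LinearMap.toMatrix'_mulVec, hy]

/-- Every non-zero vector has an independent partner in dimension at least two. -/
theorem exists_independent_partner (hn : 2 ≤ n) {y : Fin n → F} (hy : y ≠ 0) :
    ∃ x : Fin n → F, LinearIndependent F ![x, y] := by
  have hlt : Submodule.span F {y} < ⊤ := by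
    rw [lt_top_iff_ne_top]
    intro htop
    have h1 : finrank F (Submodule.span F {y}) = 1 := finrank_span_singleton hy
    rw [htop, finrank_top] at h1
    simp at h1
    omega
  obtain ⟨x, -, hx⟩ := SetLike.exists_of_lt hlt
  refine ⟨x, ?_⟩
  rw [LinearIndependent.pair_iff]
  intro s t hst
  by_cases hs : s = 0
  · subst hs
    rw [zero_smul, zero_add] at hst
    exact ⟨rfl, (smul_eq_zero.mp hst).resolve_right hy⟩
  · exfalso
    apply hx
    rw [Submodule.mem_span_singleton]
    refine ⟨-(s⁻¹ * t), ?_⟩
    have : x = -(s⁻¹ • (t • y)) := by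
      have h1 : s • x = -(t • y) := eq_neg_of_add_eq_zero_left hst
      calc x = s⁻¹ • (s • x) := by rw [smul_smul, inv_mul_cancel₀ hs, one_smul]
        _ = -(s⁻¹ • (t • y)) := by rw [h1, smul_neg]
    rw [this, neg_smul, mul_smul]

/-- `SL_n(F)`, `n ≥ 3`, is transitive on non-zero vectors. -/
theorem exists_SL_map_vec (hn : 3 ≤ n) {y y' : Fin n → F} (hy : y ≠ 0) (hy' : y' ≠ 0) :
    ∃ g : Matrix.SpecialLinearGroup (Fin n) F, g.1.mulVec y = y' := by
  obtain ⟨x, hx⟩ := exists_independent_partner (by omega) hy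
  obtain ⟨x', hx'⟩ := exists_independent_partner (by omega) hy'
  obtain ⟨g, -, hg⟩ := exists_SL_map_pair hn hx hx'
  exact ⟨g, hg⟩

end SL

end Cfsg.Agent.Lib.Helper13
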