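import Mathlib
import Cfsg.Prelude.Def_Perm
import Cfsg.Prelude.Def_Characters
import Cfsg.Agent.Lib.Helper13.SLTrans
import Cfsg.Agent.Lib.Helper12.PermRepSym
import Cfsg.Agent.Lib.Helper3.PermChar
import Cfsg.Agent.Lib.Helper3.IrrBasis
import Cfsg.Agent.Lib.Helper78.CharMore

/-!
# The permutation character of `SL_n(F)` on the non-zero vectors
-/

set_option autoImplicit false

namespace Cfsg.Agent.Lib.Helper13

open Module Cfsg.Agent.Lib.Helper12 Cfsg.Agent.Lib.Helper3
open scoped ComplexConjugate

section general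

variable {G : Type*} [Group G] [Fintype G]

/-- A multiplicity-free class function of norm `m + 1` containing the principal character once
is the principal character plus `m` distinct irreducible characters. -/
theorem exists_decomp_of_multfree (π : G → ℂ) (hπ : Cfsg.IsClassFunction G π)
    (hmf : ∀ χ, Cfsg.IsIrrCharacter G χ →
      Cfsg.classInner π χ = 0 ∨ Cfsg.classInner π χ = 1)
    (m : ℕ) (hnorm : Cfsg.classInner π π = ((m + 1 : ℕ) : ℂ))
    (h1 : Cfsg.classInner π (fun _ => (1 : ℂ)) = 1) :
    ∃ χ : Fin m → (G → ℂ), (∀ i, Cfsg.IsIrrCharacter G (χ i)) ∧ Function.Injective χ ∧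
      ∀ g, π g = 1 + ∑ i, χ i g := by
  classical
  have : Fintype (Cfsg.IrrCharacter G) := Fintype.ofFinite _
  have hexp := classFunction_expansion π hπ
  set T : Finset (Cfsg.IrrCharacter G) :=
    Finset.univ.filter (fun χ => Cfsg.classInner π (χ : G → ℂ) = 1) with hT
  have hπT : π = ∑ χ ∈ T, (χ : G → ℂ) := by
    rw [hT, Finset.sum_filter]
    conv_lhs => rw [hexp]
    refine Finset.sum_congr rfl fun χ _ => ?_
    rcases hmf χ.1 χ.2 with h | h
    · rw [h, zero_smul, if_neg]
      exact zero_ne_one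
    · rw [h, one_smul, if_pos rfl]
  have hnormT : Cfsg.classInner π π = (T.card : ℂ) := by
    conv_lhs => rw [hπT]
    rw [← hπT, hπT, classInner_sum_left]
    rw [← hπT]
    have : ∀ χ ∈ T, Cfsg.classInner (χ : G → ℂ) π = 1 := by
      intro χ hχ
      rw [classInner_conj_symm]
      have h := (Finset.mem_filter.mp hχ).2
      rw [h, map_one]
    rw [Finset.sum_congr rfl this]
    simp
  have hcard : T.card = m + 1 := by
    have := hnormT.symm.trans hnorm
    exact_mod_cast this
  set one : Cfsg.IrrCharacter G := ⟨fun _ => 1, Cfsg.Agent.Lib.Helper78.isIrrCharacter_one⟩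
    with hone
  have honeT : one ∈ T := by
    rw [hT, Finset.mem_filter]
    exact ⟨Finset.mem_univ _, h1⟩
  have hcard' : (T.erase one).card = m := by
    rw [Finset.card_erase_of_mem honeT, hcard]
    rfl
  let e : Fin m ≃ ↥(T.erase one) := ((T.erase one).equivFinOfCardEq hcard').symm
  refine ⟨fun i => ((e i).1 : G → ℂ), fun i => (e i).1.2, ?_, ?_⟩
  · intro i j hij
    apply e.injective
    apply Subtype.ext
    apply Subtype.ext
    exact hij
  · intro g
    have h2 : π g = ∑ χ ∈ T, (χ : G → ℂ) g := by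
      conv_lhs => rw [hπT]
      rw [Finset.sum_apply]
    rw [h2, ← Finset.add_sum_erase T _ honeT]
    congr 1
    rw [← Finset.sum_coe_sort (T.erase one)]
    exact (Equiv.sum_comp e (fun χ : ↥(T.erase one) => ((χ.1 : Cfsg.IrrCharacter G) : G → ℂ) g)).symm

end general

section action

variable {F : Type*} [Field F] {n : ℕ}

/-- The non-zero vectors of `F^n`. -/
abbrev NZVec (n : ℕ) (F : Type*) [Field F] := {v : Fin n → F // v ≠ 0}

theorem sl_mulVec_ne_zero (g : Matrix.SpecialLinearGroup (Fin n) F) {v : Fin n → F} (hv : v ≠ 0) :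
    g.1.mulVec v ≠ 0 := by
  intro h
  apply hv
  have h1 : (g⁻¹).1.mulVec (g.1.mulVec v) = v := by
    rw [Matrix.mulVec_mulVec, ← Matrix.SpecialLinearGroup.coe_mul, inv_mul_cancel,
      Matrix.SpecialLinearGroup.coe_one, Matrix.one_mulVec]
  rw [← h1, h, Matrix.mulVec_zero]

instance slNZVecAction : MulAction (Matrix.SpecialLinearGroup (Fin n) F) (NZVec n F) where
  smul g v := ⟨g.1.mulVec v.1, sl_mulVec_ne_zero g v.2⟩
  one_smul v := Subtype.ext (by
    show (1 : Matrix.SpecialLinearGroup (Fin n) F).1.mulVec v.1 = v.1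
    rw [Matrix.SpecialLinearGroup.coe_one, Matrix.one_mulVec])
  mul_smul g h v := Subtype.ext (by
    show (g * h).1.mulVec v.1 = g.1.mulVec (h.1.mulVec v.1)
    rw [Matrix.SpecialLinearGroup.coe_mul, Matrix.mulVec_mulVec])

theorem sl_smul_coe (g : Matrix.SpecialLinearGroup (Fin n) F) (v : NZVec n F) :
    (g • v).1 = g.1.mulVec v.1 := rfl

/-- Scalar multiplication by a unit on non-zero vectors. -/
def unitSmul (c : Fˣ) (v : NZVec n F) : NZVec n F :=
  ⟨(c : F) • v.1, smul_ne_zero c.ne_zero v.2⟩

theorem unitSmul_coe (c : Fˣ) (v : NZVec n F) : (unitSmul c v).1 = (c : F) • v.1 := rfl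

theorem unitSmul_mul (c d : Fˣ) (v : NZVec n F) :
    unitSmul (c * d) v = unitSmul c (unitSmul d v) :=
  Subtype.ext (by rw [unitSmul_coe, unitSmul_coe, unitSmul_coe, Units.val_mul, mul_smul])

theorem unitSmul_one (v : NZVec n F) : unitSmul 1 v = v :=
  Subtype.ext (by rw [unitSmul_coe, Units.val_one, one_smul])

theorem unitSmul_inv_eq_iff (c : Fˣ) (x y : NZVec n F) :
    unitSmul c⁻¹ x = y ↔ x = unitSmul c y := by
  constructor
  · rintro rfl
    rw [← unitSmul_mul, mul_inv_cancel, unitSmul_one]
  · rintro rfl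
    rw [← unitSmul_mul, inv_mul_cancel, unitSmul_one]

theorem unitSmul_injective_left (y : NZVec n F) : Function.Injective (fun c : Fˣ => unitSmul c y) := by
  intro c d h
  have h1 : (c : F) • y.1 = (d : F) • y.1 := congrArg Subtype.val h
  have h2 : ((c : F) - (d : F)) • y.1 = 0 := by rw [sub_smul, h1, sub_self]
  have h3 := (smul_eq_zero.mp h2).resolve_right y.2
  exact Units.ext (sub_eq_zero.mp h3)

theorem sl_smul_unitSmul (g : Matrix.SpecialLinearGroup (Fin n) F) (c : Fˣ) (v : NZVec n F) :
    g • unitSmul c v = unitSmul c (g • v) :=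
  Subtype.ext (by
    rw [sl_smul_coe, unitSmul_coe, unitSmul_coe, sl_smul_coe, Matrix.mulVec_smul])

/-- Two non-zero vectors are proportional or linearly independent. -/
theorem pair_cases (x y : NZVec n F) :
    (∃ c : Fˣ, x = unitSmul c y) ∨ LinearIndependent F ![x.1, y.1] := by
  by_cases h : LinearIndependent F ![x.1, y.1]
  · exact Or.inr h
  left
  rw [LinearIndependent.pair_iff] at h
  push Not at h
  obtain ⟨s, t, hst, hne⟩ := h
  have hs : s ≠ 0 := by
    intro hs
    subst hs
    rw [zero_smul, zero_add] at hst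
    have ht := (smul_eq_zero.mp hst).resolve_right y.2
    exact hne rfl ht
  have ht : t ≠ 0 := by
    intro ht
    subst ht
    rw [zero_smul, add_zero] at hst
    exact hs ((smul_eq_zero.mp hst).resolve_right x.2)
  have hc : -(s⁻¹ * t) ≠ 0 := neg_ne_zero.mpr (mul_ne_zero (inv_ne_zero hs) ht)
  refine ⟨Units.mk0 _ hc, Subtype.ext ?_⟩
  rw [unitSmul_coe, Units.val_mk0]
  have h1 : s • x.1 = -(t • y.1) := eq_neg_of_add_eq_zero_left hst
  calc x.1 = s⁻¹ • (s • x.1) := by rw [smul_smul, inv_mul_cancel₀ hs, one_smul]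
    _ = (-(s⁻¹ * t)) • y.1 := by rw [h1, smul_neg, neg_smul, mul_smul]

theorem not_li_unitSmul (c : Fˣ) (y : NZVec n F) :
    ¬ LinearIndependent F ![(unitSmul c y).1, y.1] := by
  rw [LinearIndependent.pair_iff]
  push Not
  refine ⟨1, -(c : F), ?_, fun h => absurd h one_ne_zero⟩
  rw [unitSmul_coe, one_smul, neg_smul, add_neg_cancel]

theorem exists_smul_eq (hn : 3 ≤ n) (y y' : NZVec n F) :
    ∃ g : Matrix.SpecialLinearGroup (Fin n) F, g • y = y' := by
  obtain ⟨g, hg⟩ := exists_SL_map_vec hn y.2 y'.2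
  exact ⟨g, Subtype.ext hg⟩

theorem exists_smul_pair (hn : 3 ≤ n) {x y x' y' : NZVec n F}
    (h : LinearIndependent F ![x.1, y.1]) (h' : LinearIndependent F ![x'.1, y'.1]) :
    ∃ g : Matrix.SpecialLinearGroup (Fin n) F, g • x = x' ∧ g • y = y' := by
  obtain ⟨g, hg1, hg2⟩ := exists_SL_map_pair hn h h'
  exact ⟨g, Subtype.ext hg1, Subtype.ext hg2⟩

theorem exists_base_pair (hn : 3 ≤ n) :
    ∃ e e' : NZVec n F, LinearIndependent F ![e'.1, e.1] := by
  have h0 : (Pi.single (⟨0, by omega⟩ : Fin n) (1 : F) : Fin n → F) ≠ 0 := by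
    intro h
    have := congrFun h ⟨0, by omega⟩
    simp at this
  obtain ⟨x, hx⟩ := exists_independent_partner (F := F) (n := n) (by omega) h0
  have hx0 : x ≠ 0 := by
    have := hx.ne_zero 0
    simpa using this
  exact ⟨⟨_, h0⟩, ⟨x, hx0⟩, hx⟩

end action

section commutant

variable {F : Type*} [Field F] [Fintype F] [DecidableEq F] {n : ℕ}

/-- The operator induced by scalar multiplication. -/
noncomputable def Aop (c : Fˣ) : (NZVec n F → ℂ) →ₗ[ℂ] (NZVec n F → ℂ) :=
  LinearMap.funLeft ℂ ℂ (unitSmul c⁻¹)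

theorem Aop_apply (c : Fˣ) (u : NZVec n F → ℂ) (x : NZVec n F) :
    Aop c u x = u (unitSmul c⁻¹ x) := rfl

/-- The all-ones operator. -/
noncomputable def Jop : (NZVec n F → ℂ) →ₗ[ℂ] (NZVec n F → ℂ) where
  toFun u := fun _ => ∑ y, u y
  map_add' u v := by
    funext x
    simp only [Pi.add_apply, Finset.sum_add_distrib]
  map_smul' a u := by
    funext x
    simp only [Pi.smul_apply, smul_eq_mul, RingHom.id_apply, Finset.mul_sum]

theorem Jop_apply (u : NZVec n F → ℂ) (x : NZVec n F) : Jop u x = ∑ y, u y := rfl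

theorem Aop_single (c : Fˣ) (x y : NZVec n F) :
    Aop c (Pi.single y 1) x = if x = unitSmul c y then 1 else 0 := by
  rw [Aop_apply, Pi.single_apply]
  simp only [unitSmul_inv_eq_iff]

theorem Jop_single (x y : NZVec n F) : Jop (Pi.single y (1 : ℂ)) x = 1 := by
  rw [Jop_apply, Finset.sum_pi_single']
  simp

theorem Aop_comm (c d : Fˣ) : Commute (Aop (n := n) (F := F) c) (Aop d) := by
  show Aop c * Aop d = Aop d * Aop c
  apply LinearMap.ext
  intro u
  funext x
  rw [Module.End.mul_apply, Module.End.mul_apply, Aop_apply, Aop_apply, Aop_apply, Aop_apply,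
    ← unitSmul_mul, ← unitSmul_mul, mul_comm]

theorem sum_comp_unitSmul (c : Fˣ) (u : NZVec n F → ℂ) :
    ∑ y, u (unitSmul c y) = ∑ y, u y := by
  let e : NZVec n F ≃ NZVec n F :=
    { toFun := unitSmul c
      invFun := unitSmul c⁻¹
      left_inv := fun y => by rw [← unitSmul_mul, inv_mul_cancel, unitSmul_one]
      right_inv := fun y => by rw [← unitSmul_mul, mul_inv_cancel, unitSmul_one] }
  exact Equiv.sum_comp e u

theorem Aop_Jop_comm (c : Fˣ) : Commute (Aop (n := n) (F := F) c) Jop := by
  show Aop c * Jop = Jop * Aop c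
  apply LinearMap.ext
  intro u
  funext x
  rw [Module.End.mul_apply, Module.End.mul_apply, Aop_apply, Jop_apply, Jop_apply]
  simp only [Aop_apply]
  rw [sum_comp_unitSmul]

theorem span_comm (α α' : Fˣ → ℂ) (β β' : ℂ) :
    Commute (∑ c, α c • Aop (n := n) (F := F) c + β • Jop) (∑ c, α' c • Aop c + β' • Jop) := by
  refine Commute.add_left (Commute.add_right ?_ ?_) (Commute.add_right ?_ ?_)
  · exact Commute.sum_left _ _ _ fun c _ => Commute.sum_right _ _ _ fun d _ =>
      Commute.smul_left (Commute.smul_right (Aop_comm c d) _) _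
  · exact Commute.sum_left _ _ _ fun c _ =>
      Commute.smul_left (Commute.smul_right (Aop_Jop_comm c) _) _
  · exact Commute.sum_right _ _ _ fun c _ =>
      Commute.smul_left (Commute.smul_right (Aop_Jop_comm c).symm _) _
  · exact Commute.smul_left (Commute.smul_right (Commute.refl _) _) _

/-- An endomorphism of the permutation module commuting with `SL_n(F)`, `n ≥ 3`, is a
combination of the scalar operators and the all-ones operator. -/
theorem exists_decomp_comm (hn : 3 ≤ n) (S : (NZVec n F → ℂ) →ₗ[ℂ] (NZVec n F → ℂ))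
    (hS : ∀ (g : Matrix.SpecialLinearGroup (Fin n) F) (v : NZVec n F → ℂ),
      S (Cfsg.permRep ℂ (Matrix.SpecialLinearGroup (Fin n) F) (NZVec n F) g v) =
        Cfsg.permRep ℂ (Matrix.SpecialLinearGroup (Fin n) F) (NZVec n F) g (S v)) :
    ∃ (α : Fˣ → ℂ) (β : ℂ), S = ∑ c, α c • Aop c + β • Jop := by
  obtain ⟨e, e', hee'⟩ := exists_base_pair (F := F) hn
  refine ⟨fun c => S (Pi.single e 1) (unitSmul c e) - S (Pi.single e 1) e', S (Pi.single e 1) e', ?_⟩
  apply ext_single
  intro x y
  rw [LinearMap.add_apply, LinearMap.sum_apply, Pi.add_apply, Finset.sum_apply]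
  simp only [LinearMap.smul_apply, Pi.smul_apply, Aop_single, Jop_single, smul_eq_mul, mul_one]
  rcases pair_cases x y with ⟨c₀, rfl⟩ | hli
  · rw [Finset.sum_eq_single c₀]
    · rw [if_pos rfl, mul_one, sub_add_cancel]
      obtain ⟨g, hg⟩ := exists_smul_eq hn y e
      have := matrix_invariant S hS g (unitSmul c₀ y) y
      rw [hg, sl_smul_unitSmul, hg] at this
      exact this.symm
    · intro c _ hc
      rw [if_neg, mul_zero]
      intro h
      exact hc (unitSmul_injective_left y h).symm
    · intro h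
      exact absurd (Finset.mem_univ _) h
  · rw [Finset.sum_eq_zero, zero_add]
    · obtain ⟨g, hg1, hg2⟩ := exists_smul_pair hn hli hee'
      have := matrix_invariant S hS g x y
      rw [hg1, hg2] at this
      exact this.symm
    · intro c _
      rw [if_neg, mul_zero]
      rintro rfl
      exact not_li_unitSmul c y hli

/-- The commutant of the permutation module of `SL_n(F)` on non-zero vectors is commutative. -/
theorem commutant_comm (hn : 3 ≤ n) (S T : (NZVec n F → ℂ) →ₗ[ℂ] (NZVec n F → ℂ))
    (hS : ∀ (g : Matrix.SpecialLinearGroup (Fin n) F) (v : NZVec n F → ℂ),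
      S (Cfsg.permRep ℂ (Matrix.SpecialLinearGroup (Fin n) F) (NZVec n F) g v) =
        Cfsg.permRep ℂ (Matrix.SpecialLinearGroup (Fin n) F) (NZVec n F) g (S v))
    (hT : ∀ (g : Matrix.SpecialLinearGroup (Fin n) F) (v : NZVec n F → ℂ),
      T (Cfsg.permRep ℂ (Matrix.SpecialLinearGroup (Fin n) F) (NZVec n F) g v) =
        Cfsg.permRep ℂ (Matrix.SpecialLinearGroup (Fin n) F) (NZVec n F) g (T v)) :
    S ∘ₗ T = T ∘ₗ S := by
  obtain ⟨α, β, rfl⟩ := exists_decomp_comm hn S hS
  obtain ⟨α', β', rfl⟩ := exists_decomp_comm hn T hT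
  exact span_comm α α' β β'

end commutant

section orbits

variable {F : Type*} [Field F] [Fintype F] [DecidableEq F] {n : ℕ}

open MulAction

theorem card_orbits_pairs (hn : 3 ≤ n) :
    Nat.card (orbitRel.Quotient (Matrix.SpecialLinearGroup (Fin n) F)
      (NZVec n F × NZVec n F)) = Fintype.card F := by
  obtain ⟨e, e', hee'⟩ := exists_base_pair (F := F) hn
  have hrel : ∀ p q : NZVec n F × NZVec n F,
      (Quotient.mk'' p : orbitRel.Quotient (Matrix.SpecialLinearGroup (Fin n) F)
        (NZVec n F × NZVec n F)) = Quotient.mk'' q ↔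
      ∃ g : Matrix.SpecialLinearGroup (Fin n) F, g • q = p := by
    intro p q
    rw [Quotient.eq'']
    show p ∈ orbit _ q ↔ _
    rfl
  let f : Option Fˣ → orbitRel.Quotient (Matrix.SpecialLinearGroup (Fin n) F)
      (NZVec n F × NZVec n F) := fun o =>
    match o with
    | none => Quotient.mk'' (e', e)
    | some c => Quotient.mk'' (unitSmul c e, e)
  have hf : Function.Bijective f := by
    constructor
    · intro o o' h
      match o, o' with
      | none, none => rfl
      | none, some c =>
        exfalso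
        obtain ⟨g, hg⟩ := (hrel _ _).mp h
        have h1 : g • unitSmul c e = e' := congrArg Prod.fst hg
        have h2 : g • e = e := congrArg Prod.snd hg
        rw [sl_smul_unitSmul, h2] at h1
        rw [← h1] at hee'
        exact not_li_unitSmul c e hee'
      | some c, none =>
        exfalso
        obtain ⟨g, hg⟩ := (hrel _ _).mp h.symm
        have h1 : g • unitSmul c e = e' := congrArg Prod.fst hg
        have h2 : g • e = e := congrArg Prod.snd hg
        rw [sl_smul_unitSmul, h2] at h1
        rw [← h1] at hee'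
        exact not_li_unitSmul c e hee'
      | some c, some d =>
        obtain ⟨g, hg⟩ := (hrel _ _).mp h
        have h1 : g • unitSmul d e = unitSmul c e := congrArg Prod.fst hg
        have h2 : g • e = e := congrArg Prod.snd hg
        rw [sl_smul_unitSmul, h2] at h1
        rw [unitSmul_injective_left e h1]
    · intro Q
      obtain ⟨⟨x, y⟩, rfl⟩ := Quotient.mk''_surjective Q
      rcases pair_cases x y with ⟨c, rfl⟩ | hli
      · refine ⟨some c, ?_⟩
        show Quotient.mk'' (unitSmul c e, e) = _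
        rw [hrel]
        obtain ⟨g, hg⟩ := exists_smul_eq hn y e
        refine ⟨g, ?_⟩
        show (g • unitSmul c y, g • y) = _
        rw [sl_smul_unitSmul, hg]
      · refine ⟨none, ?_⟩
        show Quotient.mk'' (e', e) = _
        rw [hrel]
        obtain ⟨g, hg1, hg2⟩ := exists_smul_pair hn hli hee'
        refine ⟨g, ?_⟩
        show (g • x, g • y) = _
        rw [hg1, hg2]
  rw [← Nat.card_eq_of_bijective f hf, Finite.card_option, Nat.card_units,
    Nat.card_eq_fintype_card]
  have : 1 ≤ Fintype.card F := Fintype.card_pos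
  omega

theorem card_orbits_single (hn : 3 ≤ n) :
    Nat.card (orbitRel.Quotient (Matrix.SpecialLinearGroup (Fin n) F) (NZVec n F)) = 1 := by
  obtain ⟨e, -, -⟩ := exists_base_pair (F := F) hn
  rw [Nat.card_eq_one_iff_exists]
  refine ⟨Quotient.mk'' e, fun Q => ?_⟩
  obtain ⟨y, rfl⟩ := Quotient.mk''_surjective Q
  rw [Quotient.eq'']
  obtain ⟨g, hg⟩ := exists_smul_eq hn e y
  exact ⟨g, hg⟩

/-- The permutation character of `SL_n(F)` (`n ≥ 3`) on the non-zero vectors is the principal
character plus `q - 1` distinct irreducible characters. -/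
theorem sl_perm_char (hn : 3 ≤ n) :
    ∃ χ : Fin (Fintype.card F - 1) → (Matrix.SpecialLinearGroup (Fin n) F → ℂ),
      (∀ i, Cfsg.IsIrrCharacter (Matrix.SpecialLinearGroup (Fin n) F) (χ i)) ∧
      Function.Injective χ ∧
      ∀ g : Matrix.SpecialLinearGroup (Fin n) F,
        (Nat.card (fixedBy (NZVec n F) g) : ℂ) = 1 + ∑ i, χ i g := by
  set ρ := Cfsg.permRep ℂ (Matrix.SpecialLinearGroup (Fin n) F) (NZVec n F) with hρ
  have hπfun : ρ.character = fun g => (Nat.card (fixedBy (NZVec n F) g) : ℂ) :=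
    funext fun g => permRep_character g
  have hmf := multfree_of_comm ρ (commutant_comm hn)
  have hcls : Cfsg.IsClassFunction _ ρ.character :=
    Cfsg.Agent.Lib.Helper3.IsCharacter.isClassFunction (isCharacter_character ρ)
  have hq : Fintype.card F = (Fintype.card F - 1) + 1 := by
    have : 1 ≤ Fintype.card F := Fintype.card_pos
    omega
  have hnorm : Cfsg.classInner ρ.character ρ.character =
      (((Fintype.card F - 1) + 1 : ℕ) : ℂ) := by
    rw [← hq, hπfun, classInner_card_fixedBy_self, card_orbits_pairs hn]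
  have h1 : Cfsg.classInner ρ.character (fun _ => (1 : ℂ)) = 1 := by
    rw [hπfun, classInner_card_fixedBy_one, card_orbits_single hn, Nat.cast_one]
  obtain ⟨χ, hχ1, hχ2, hχ3⟩ :=
    exists_decomp_of_multfree ρ.character hcls hmf (Fintype.card F - 1) hnorm h1
  refine ⟨χ, hχ1, hχ2, fun g => ?_⟩
  rw [← hχ3 g, hπfun]

end orbits

end Cfsg.Agent.Lib.Helper13
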