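import Mathlib
import Cfsg.Prelude.Def_Classical

set_option autoImplicit false

/-!
helper13, project S2283 (`SU_3(q)`, `q ≥ 3`, is generated by two conjugate regular unipotent
elements): definitions.

We work in the model of the unitary group given by the antidiagonal hermitian form
`hJ σ x y = x₀ σ(y₂) + x₁ σ(y₁) + x₂ σ(y₀)` on `F³` (`σ` an involution of `F`), where the
stabiliser of the isotropic point `⟨e₀⟩` consists of upper triangular matrices:

* `GJ σ`: the special unitary group of `hJ σ`, a subgroup of `SL₃(F)`;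
* `uM σ a b`, `uS σ a b`: the upper unitriangular elements (in `GJ σ` iff `b + σ b + a σ a = 0`);
* `lM σ c d`, `lS σ c d`: the lower unitriangular elements (in `GJ σ` iff `d + σ d + c σ c = 0`);
* `tvJ σ z c`: the unitary transvection `x ↦ x + c hJ(x,z) z`;
* `Good σ`: the data from which the generation theorem follows.
-/

namespace Cfsg.Agent.Lib.Helper13.SU3G

open Matrix

variable {F : Type*} [Field F]

/-- the antidiagonal hermitian form `x₀ σ(y₂) + x₁ σ(y₁) + x₂ σ(y₀)` on `F³` -/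
def hJ (σ : F →+* F) (x y : Fin 3 → F) : F := x 0 * σ (y 2) + x 1 * σ (y 1) + x 2 * σ (y 0)

/-- the special unitary group of `hJ σ`, inside `SL₃(F)` -/
def GJ (σ : F →+* F) : Subgroup (Matrix.SpecialLinearGroup (Fin 3) F) :=
  Cfsg.preserving (Cfsg.slToMat 3 F) (hJ σ)

theorem mem_GJ_iff (σ : F →+* F) (g : Matrix.SpecialLinearGroup (Fin 3) F) :
    g ∈ GJ σ ↔ ∀ x y : Fin 3 → F, hJ σ ((g : Matrix (Fin 3) (Fin 3) F) *ᵥ x)
      ((g : Matrix (Fin 3) (Fin 3) F) *ᵥ y) = hJ σ x y :=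
  Iff.rfl

/-- upper unitriangular matrix (fixes the isotropic point `⟨e₀⟩`) -/
def uM (σ : F →+* F) (a b : F) : Matrix (Fin 3) (Fin 3) F := !![1, a, b; 0, 1, -σ a; 0, 0, 1]

/-- lower unitriangular matrix (fixes the isotropic point `⟨e₂⟩`) -/
def lM (σ : F →+* F) (c d : F) : Matrix (Fin 3) (Fin 3) F := !![1, 0, 0; σ c, 1, 0; d, -c, 1]

theorem det_uM (σ : F →+* F) (a b : F) : (uM σ a b).det = 1 := by
  simp [uM, Matrix.det_fin_three]

theorem det_lM (σ : F →+* F) (c d : F) : (lM σ c d).det = 1 := by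
  simp [lM, Matrix.det_fin_three]

/-- `uM σ a b` as an element of `SL₃(F)` -/
def uS (σ : F →+* F) (a b : F) : Matrix.SpecialLinearGroup (Fin 3) F := ⟨uM σ a b, det_uM σ a b⟩

/-- `lM σ c d` as an element of `SL₃(F)` -/
def lS (σ : F →+* F) (c d : F) : Matrix.SpecialLinearGroup (Fin 3) F := ⟨lM σ c d, det_lM σ c d⟩

theorem coe_uS (σ : F →+* F) (a b : F) :
    ((uS σ a b : Matrix.SpecialLinearGroup (Fin 3) F) : Matrix (Fin 3) (Fin 3) F) = uM σ a b := rfl

theorem coe_lS (σ : F →+* F) (c d : F) :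
    ((lS σ c d : Matrix.SpecialLinearGroup (Fin 3) F) : Matrix (Fin 3) (Fin 3) F) = lM σ c d := rfl

/-- the unitary transvection `x ↦ x + c hJ(x,z) z` of the antidiagonal model -/
def tvJ (σ : F →+* F) (z : Fin 3 → F) (c : F) : Matrix (Fin 3) (Fin 3) F :=
  1 + c • Matrix.vecMulVec z (fun j => σ (z (Fin.rev j)))

/-- the existence of a good pair: `u = uS a b` and `v = lS c d` (conjugate because of `lam`), and
an element `s` of `⟨u, v⟩` fixing `⟨e₀⟩` whose eigenvalue `μ = s₀₀` there has `μ² / σ μ`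
generating `F` as a field -/
def Good (σ : F →+* F) : Prop :=
  ∃ (a b c d lam : F) (s : Matrix.SpecialLinearGroup (Fin 3) F), lam ≠ 0 ∧ c ≠ 0 ∧
    a = lam ^ 2 / σ lam * c ∧ b + σ b + a * σ a = 0 ∧ d + σ d + c * σ c = 0 ∧ d ≠ 0 ∧
    s ∈ Subgroup.closure ({uS σ a b, lS σ c d} : Set (Matrix.SpecialLinearGroup (Fin 3) F)) ∧
    (s : Matrix (Fin 3) (Fin 3) F) 1 0 = 0 ∧ (s : Matrix (Fin 3) (Fin 3) F) 2 0 = 0 ∧
    Subfield.closure ({(s : Matrix (Fin 3) (Fin 3) F) 0 0 ^ 2 /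
      σ ((s : Matrix (Fin 3) (Fin 3) F) 0 0)} : Set F) = ⊤

/-- the parameters of the generic instance (`ε` of norm one): `u = uS (aI ε) (bI ε)`,
`v = lS 1 (dI ε)`, `s = v u v` -/
def aI (ε : F) : F := -(1 + ε) ^ 2 / ε

def bI (ε : F) : F := -((1 + ε) * (2 * ε ^ 2 + ε + 1)) / ε ^ 2

def dI (ε : F) : F := -ε / (1 + ε)

end Cfsg.Agent.Lib.Helper13.SU3G
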