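import Mathlib
import Cfsg.Prelude.Def_Classical
import Cfsg.Agent.Lib.Helper37.UnitaryGen
import Cfsg.Agent.S0780
import Cfsg.Agent.Lib.Helper13.Herm
import Cfsg.Agent.Lib.Helper13.SU3GDefs
import Cfsg.Agent.Lib.Helper80.SU3GMem
import Cfsg.Agent.Lib.Helper80.SU3GMul
import Cfsg.Agent.Lib.Helper80.SU3GBorel
import Cfsg.Agent.Lib.Helper23.SU3GReg
import Cfsg.Agent.Lib.Helper93.SU3GInstI
import Cfsg.Agent.Lib.Helper93.SU3GPMat
import Cfsg.Agent.Lib.Helper7.SU3GIso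
import Cfsg.Agent.Lib.Helper49.SU3GTvJ
import Cfsg.Agent.Lib.Helper49.SU3GTvMem
import Cfsg.Agent.Lib.Helper14.SU3GUFull
import Cfsg.Agent.Lib.Helper93.SU3GConj
import Cfsg.Agent.Lib.Helper66.SU3GEps
import Cfsg.Agent.Lib.Helper14.SU3GInst5
import Cfsg.Agent.Lib.Helper49.SU3GInst8

set_option autoImplicit false

/-!
helper13, project S2283: the assembly.  `SU_3(q)`, `q ≥ 3`, is generated by two conjugate regular
unipotent elements.
-/

namespace Cfsg.Agent.Lib.Helper13.SU3G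

open Matrix
open Cfsg.Agent.Lib.Helper66.SU3G
open Cfsg.Agent.Lib.Helper80.SU3G Cfsg.Agent.Lib.Helper23.SU3G Cfsg.Agent.Lib.Helper93.SU3G
open Cfsg.Agent.Lib.Helper49.SU3G Cfsg.Agent.Lib.Helper14.SU3G

variable {F : Type*} [Field F]

local notation "SL3" => Matrix.SpecialLinearGroup (Fin 3) F

/-! ## the full unipotent group and one element moving `⟨e₀⟩` generate -/

theorem gen_J [Finite F] (σ : F →+* F) (hσ : σ ≠ RingHom.id F) (hσ2 : ∀ x, σ (σ x) = x)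
    (hcond : ∃ l : F, l ≠ 0 ∧ l * σ l ≠ 1)
    (H : Subgroup SL3) (hU : ∀ a b : F, b + σ b + a * σ a = 0 → uS σ a b ∈ H)
    (v : SL3) (hvG : v ∈ GJ σ) (hv : v ∈ H) (hv20 : (v : Matrix (Fin 3) (Fin 3) F) 2 0 ≠ 0) :
    GJ σ ≤ H := by
  obtain ⟨P, hP⟩ := exists_P σ hσ hσ2
  have hPP : (P : Matrix (Fin 3) (Fin 3) F) * ((P⁻¹ : GL (Fin 3) F) : Matrix (Fin 3) (Fin 3) F) = 1 := by
    rw [← Units.val_mul, mul_inv_cancel, Units.val_one]
  have hPP' : ((P⁻¹ : GL (Fin 3) F) : Matrix (Fin 3) (Fin 3) F) * (P : Matrix (Fin 3) (Fin 3) F) = 1 := by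
    rw [← Units.val_mul, inv_mul_cancel, Units.val_one]
  -- `hJ` in terms of `hf`
  have hP' : ∀ x y : Fin 3 → F, hJ σ (((P⁻¹ : GL (Fin 3) F) : Matrix (Fin 3) (Fin 3) F) *ᵥ x)
      (((P⁻¹ : GL (Fin 3) F) : Matrix (Fin 3) (Fin 3) F) *ᵥ y) = Cfsg.Agent.S0837.hf σ x y := by
    intro x y
    rw [← hP, Matrix.mulVec_mulVec, Matrix.mulVec_mulVec, hPP, Matrix.one_mulVec, Matrix.one_mulVec]
  intro g hg
  set gGL : GL (Fin 3) F := P * Matrix.SpecialLinearGroup.toGL g * P⁻¹ with hgGL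
  have hcoe : (gGL : Matrix (Fin 3) (Fin 3) F) = (P : Matrix (Fin 3) (Fin 3) F) *
      (g : Matrix (Fin 3) (Fin 3) F) * ((P⁻¹ : GL (Fin 3) F) : Matrix (Fin 3) (Fin 3) F) := by
    rw [hgGL, Units.val_mul, Units.val_mul]
    rfl
  have hUG : gGL ∈ Cfsg.Agent.Lib.Helper37.UG σ 3 := by
    rw [Cfsg.Agent.Lib.Helper37.mem_UG]
    intro x y
    rw [hcoe, ← Matrix.mulVec_mulVec, ← Matrix.mulVec_mulVec, ← Matrix.mulVec_mulVec,
      ← Matrix.mulVec_mulVec, hP, (mem_GJ_iff σ g).mp hg, hP']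
  have hdet : (gGL : Matrix (Fin 3) (Fin 3) F).det = 1 := by
    rw [hcoe, Matrix.det_mul, Matrix.det_mul, mul_right_comm, ← Matrix.det_mul, hPP, Matrix.det_one,
      one_mul]
    exact g.2
  have hTG := Cfsg.Agent.Lib.Helper37.su_gen σ hσ hσ2 3 (by norm_num) (fun _ => hcond) gGL hUG hdet
  -- the conjugate of `H` inside `GL`
  set K : Subgroup (GL (Fin 3) F) :=
    (H.map Matrix.SpecialLinearGroup.toGL).map (MulAut.conj P).toMonoidHom with hK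
  have hle : Cfsg.Agent.Lib.Helper37.TG σ 3 ≤ K := by
    unfold Cfsg.Agent.Lib.Helper37.TG
    rw [Subgroup.closure_le]
    rintro t ⟨z, c, hz, hc, ht⟩
    set z' : Fin 3 → F := ((P⁻¹ : GL (Fin 3) F) : Matrix (Fin 3) (Fin 3) F) *ᵥ z with hz'
    have hPz' : (P : Matrix (Fin 3) (Fin 3) F) *ᵥ z' = z := by
      rw [hz', Matrix.mulVec_mulVec, hPP, Matrix.one_mulVec]
    have hz'0 : hJ σ z' z' = 0 := by rw [hz', hP', hz]
    obtain ⟨h, hhH, hh⟩ := tvJ_mem σ hσ2 H hU v hvG hv hv20 z' c hz'0 hc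
    refine ⟨Matrix.SpecialLinearGroup.toGL h, ⟨h, hhH, rfl⟩, ?_⟩
    apply Units.ext
    rw [ht, ← hPz', ← tvJ_P σ P hP z' c, ← hh]
    show ((P * Matrix.SpecialLinearGroup.toGL h * P⁻¹ : GL (Fin 3) F) : Matrix (Fin 3) (Fin 3) F) = _
    rw [Units.val_mul, Units.val_mul]
    rfl
  obtain ⟨x, ⟨h, hhH, rfl⟩, hx⟩ := hle hTG
  have hx' : P * Matrix.SpecialLinearGroup.toGL h * P⁻¹ = P * Matrix.SpecialLinearGroup.toGL g * P⁻¹ := hx
  have : Matrix.SpecialLinearGroup.toGL h = Matrix.SpecialLinearGroup.toGL g := by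
    have := mul_right_cancel hx'
    exact mul_left_cancel this
  rw [← Matrix.SpecialLinearGroup.toGL_injective this]
  exact hhH

/-! ## the core -/

theorem core [Fintype F] (σ : F →+* F) (hσ : σ ≠ RingHom.id F) (hσ2 : ∀ x, σ (σ x) = x)
    (hcond : ∃ l : F, l ≠ 0 ∧ l * σ l ≠ 1)
    (H : Subgroup SL3) (hH : H ≤ GJ σ) (a b : F) (ha : a ≠ 0) (hu : uS σ a b ∈ H)
    (s : SL3) (hs : s ∈ H) (h10 : (s : Matrix (Fin 3) (Fin 3) F) 1 0 = 0)
    (h20 : (s : Matrix (Fin 3) (Fin 3) F) 2 0 = 0)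
    (hκ : Subfield.closure ({(s : Matrix (Fin 3) (Fin 3) F) 0 0 ^ 2 /
      σ ((s : Matrix (Fin 3) (Fin 3) F) 0 0)} : Set F) = ⊤)
    (v : SL3) (hv : v ∈ H) (hv20 : (v : Matrix (Fin 3) (Fin 3) F) 2 0 ≠ 0) : H = GJ σ := by
  apply le_antisymm hH
  exact gen_J σ hσ hσ2 hcond H
    (fun a' b' h' => all_uS_mem σ hσ hσ2 H hH a b ha hu s hs h10 h20 hκ a' b' h') v (hH hv) hv hv20


/-! ## the theorem in the antidiagonal model -/

theorem main_J [Fintype F] (σ : F →+* F) (hσ : σ ≠ RingHom.id F) (hσ2 : ∀ x, σ (σ x) = x)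
    (hcond : ∃ l : F, l ≠ 0 ∧ l * σ l ≠ 1) (hgood : Good σ) :
    ∃ u g : ↥(GJ σ),
      (IsNilpotent (((u : SL3) : Matrix (Fin 3) (Fin 3) F) - 1) ∧
        (((u : SL3) : Matrix (Fin 3) (Fin 3) F) - 1) ^ 2 ≠ 0) ∧
      Subgroup.closure ({u, g * u * g⁻¹} : Set ↥(GJ σ)) = ⊤ := by
  obtain ⟨a, b, c, d, lam, s, hlam, hc, hac, hab, hcd, hd, hs, h10, h20, hκ⟩ := hgood
  have hslam : σ lam ≠ 0 := by
    intro h
    apply hlam
    have := congrArg σ h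
    rwa [hσ2, map_zero] at this
  have ha : a ≠ 0 := by
    rw [hac]
    exact mul_ne_zero (div_ne_zero (pow_ne_zero 2 hlam) hslam) hc
  have huG : uS σ a b ∈ GJ σ := uS_mem σ hσ2 hab
  have hvG : lS σ c d ∈ GJ σ := lS_mem σ hσ2 hcd
  obtain ⟨g, hgG, hg⟩ := conj_uS_lS σ hσ hσ2 a b c d lam hlam hc hac hab hcd
  set H : Subgroup SL3 := Subgroup.closure ({uS σ a b, lS σ c d} : Set SL3) with hH
  have hHle : H ≤ GJ σ := by
    rw [hH, Subgroup.closure_le]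
    intro x hx
    rcases hx with rfl | rfl
    · exact huG
    · exact hvG
  have huH : uS σ a b ∈ H := Subgroup.subset_closure (Set.mem_insert _ _)
  have hvH : lS σ c d ∈ H := Subgroup.subset_closure (Set.mem_insert_of_mem _ rfl)
  have hv20 : ((lS σ c d : SL3) : Matrix (Fin 3) (Fin 3) F) 2 0 ≠ 0 := by
    show (lM σ c d) 2 0 ≠ 0
    simpa [lM] using hd
  have hHeq : H = GJ σ :=
    core σ hσ hσ2 hcond H hHle a b ha huH s hs h10 h20 hκ (lS σ c d) hvH hv20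
  refine ⟨⟨uS σ a b, huG⟩, ⟨g, hgG⟩, ⟨uM_sub_one_nilp σ a b, uM_sub_one_sq_ne σ hσ2 a b ha⟩, ?_⟩
  -- transfer the closure statement to the subtype
  apply Subgroup.map_injective (GJ σ).subtype_injective
  rw [MonoidHom.map_closure, ← MonoidHom.range_eq_map, Subgroup.range_subtype]
  have hcoe : (GJ σ).subtype (⟨g, hgG⟩ * ⟨uS σ a b, huG⟩ * ⟨g, hgG⟩⁻¹) = lS σ c d := by
    rw [map_mul, map_mul, map_inv]
    exact hg
  have himg : (GJ σ).subtype '' ({⟨uS σ a b, huG⟩, ⟨g, hgG⟩ * ⟨uS σ a b, huG⟩ * ⟨g, hgG⟩⁻¹} :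
      Set ↥(GJ σ)) = ({uS σ a b, lS σ c d} : Set SL3) := by
    rw [Set.image_pair, hcoe]
    rfl
  rw [himg, ← hH]
  exact hHeq


/-! ## the generic instance -/

theorem good_generic [Fintype F] {q : ℕ} (hF : Fintype.card F = q ^ 2) (hq3 : 3 ≤ q) (hq5 : q ≠ 5)
    (hq8 : q ≠ 8) (σ : F →+* F) (hσq : ∀ x, σ x = x ^ q) (hσ2 : ∀ x, σ (σ x) = x) : Good σ := by
  obtain ⟨ε, hεq, h1, hcl⟩ := exists_eps hF hq3 hq5 hq8
  have hε : ε * σ ε = 1 := by rw [hσq, ← pow_succ', hεq]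
  obtain ⟨ha, ha0, hab, hd, hd0, h10, h20, h00⟩ := inst_generic σ hσ2 ε hε h1
  have hε0 : ε ≠ 0 := by
    intro h
    rw [h, zero_mul] at hε
    exact zero_ne_one hε
  have hσε : σ ε = ε⁻¹ := eq_inv_of_mul_eq_one_right hε
  set s : Matrix.SpecialLinearGroup (Fin 3) F :=
    lS σ 1 (dI ε) * uS σ (aI ε) (bI ε) * lS σ 1 (dI ε) with hs
  have hu : uS σ (aI ε) (bI ε) ∈ Subgroup.closure
      ({uS σ (aI ε) (bI ε), lS σ 1 (dI ε)} : Set (Matrix.SpecialLinearGroup (Fin 3) F)) :=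
    Subgroup.subset_closure (Set.mem_insert _ _)
  have hv : lS σ 1 (dI ε) ∈ Subgroup.closure
      ({uS σ (aI ε) (bI ε), lS σ 1 (dI ε)} : Set (Matrix.SpecialLinearGroup (Fin 3) F)) :=
    Subgroup.subset_closure (Set.mem_insert_of_mem _ rfl)
  refine ⟨aI ε, bI ε, 1, dI ε, aI ε, s, ha0, one_ne_zero, ?_, hab, hd, hd0, ?_, h10, h20, ?_⟩
  · rw [ha, mul_one, pow_two, mul_div_assoc, div_self ha0, mul_one]
  · exact Subgroup.mul_mem _ (Subgroup.mul_mem _ hv hu) hv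
  · rw [h00, hσε]
    have : ε ^ 2 / ε⁻¹ = ε ^ 3 := by
      field_simp
    rw [this]
    exact hcl

/-! ## the final theorem -/

theorem su3_two_conj_reg_unip [Fintype F] (q : ℕ) (hq : 3 ≤ q) (hF : Fintype.card F = q ^ 2) :
    ∃ u g : ↥(Cfsg.SU 3 F q),
      (IsNilpotent (((u : SL3) : Matrix (Fin 3) (Fin 3) F) - 1) ∧
        (((u : SL3) : Matrix (Fin 3) (Fin 3) F) - 1) ^ (3 - 1) ≠ 0) ∧
      Subgroup.closure ({u, g * u * g⁻¹} : Set ↥(Cfsg.SU 3 F q)) = ⊤ := by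
  obtain ⟨σ, hσq, hσ2⟩ := Cfsg.Agent.Lib.Helper13.exists_frob hF
  have hσ : σ ≠ RingHom.id F := Cfsg.Agent.S0837.frob_ne_id σ hF hσq
  have hcond : ∃ l : F, l ≠ 0 ∧ l * σ l ≠ 1 := Cfsg.Agent.S0780.exists_norm_ne_one hF hq σ hσq
  have hgood : Good σ := by
    by_cases h5 : q = 5
    · subst h5; exact good_five hF σ hσq hσ2
    by_cases h8 : q = 8
    · subst h8; exact good_eight hF σ hσq hσ2
    exact good_generic hF hq h5 h8 σ hσq hσ2
  obtain ⟨u, g, ⟨hnil, hsq⟩, hcl⟩ := main_J σ hσ hσ2 hcond hgood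
  obtain ⟨P, hP⟩ := exists_P σ hσ hσ2
  obtain ⟨e, he⟩ := Cfsg.Agent.Lib.Helper7.SU3G.exists_iso_of σ hσq P hP
  have hPP : (P : Matrix (Fin 3) (Fin 3) F) * ((P⁻¹ : GL (Fin 3) F) : Matrix (Fin 3) (Fin 3) F) = 1 := by
    rw [← Units.val_mul, mul_inv_cancel, Units.val_one]
  have hPP' : ((P⁻¹ : GL (Fin 3) F) : Matrix (Fin 3) (Fin 3) F) * (P : Matrix (Fin 3) (Fin 3) F) = 1 := by
    rw [← Units.val_mul, inv_mul_cancel, Units.val_one]
  have hsub : (((e u : ↥(Cfsg.SU 3 F q)) : SL3) : Matrix (Fin 3) (Fin 3) F) - 1 =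
      (P : Matrix (Fin 3) (Fin 3) F) * (((u : SL3) : Matrix (Fin 3) (Fin 3) F) - 1) *
        ((P⁻¹ : GL (Fin 3) F) : Matrix (Fin 3) (Fin 3) F) := by
    rw [he, Matrix.mul_sub, Matrix.sub_mul, Matrix.mul_one, hPP]
  have hpow : ∀ (N : Matrix (Fin 3) (Fin 3) F) (k : ℕ),
      ((P : Matrix (Fin 3) (Fin 3) F) * N * ((P⁻¹ : GL (Fin 3) F) : Matrix (Fin 3) (Fin 3) F)) ^ k =
        (P : Matrix (Fin 3) (Fin 3) F) * N ^ k * ((P⁻¹ : GL (Fin 3) F) : Matrix (Fin 3) (Fin 3) F) := by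
    intro N k
    induction k with
    | zero => rw [pow_zero, pow_zero, Matrix.mul_one, hPP]
    | succ k ih =>
      rw [pow_succ, ih, pow_succ]
      calc (P : Matrix (Fin 3) (Fin 3) F) * N ^ k * ((P⁻¹ : GL (Fin 3) F) : Matrix (Fin 3) (Fin 3) F) *
            ((P : Matrix (Fin 3) (Fin 3) F) * N * ((P⁻¹ : GL (Fin 3) F) : Matrix (Fin 3) (Fin 3) F))
          = (P : Matrix (Fin 3) (Fin 3) F) * N ^ k *
              (((P⁻¹ : GL (Fin 3) F) : Matrix (Fin 3) (Fin 3) F) * (P : Matrix (Fin 3) (Fin 3) F)) * N *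
              ((P⁻¹ : GL (Fin 3) F) : Matrix (Fin 3) (Fin 3) F) := by
            simp only [Matrix.mul_assoc]
        _ = _ := by rw [hPP', Matrix.mul_one, Matrix.mul_assoc (P : Matrix (Fin 3) (Fin 3) F)]
  refine ⟨e u, e g, ⟨?_, ?_⟩, ?_⟩
  · obtain ⟨k, hk⟩ := hnil
    refine ⟨k, ?_⟩
    rw [hsub, hpow, hk, Matrix.mul_zero, Matrix.zero_mul]
  · rw [hsub, hpow]
    intro h0
    apply hsq
    have := congrArg (fun M => ((P⁻¹ : GL (Fin 3) F) : Matrix (Fin 3) (Fin 3) F) * M *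
      (P : Matrix (Fin 3) (Fin 3) F)) h0
    simp only [Matrix.mul_zero, Matrix.zero_mul] at this
    rw [← Matrix.mul_assoc, ← Matrix.mul_assoc, hPP', Matrix.one_mul, Matrix.mul_assoc, hPP',
      Matrix.mul_one] at this
    exact this
  · have : ({e u, e g * e u * (e g)⁻¹} : Set ↥(Cfsg.SU 3 F q)) =
        e.toMonoidHom '' ({u, g * u * g⁻¹} : Set ↥(GJ σ)) := by
      rw [Set.image_pair]
      simp only [MulEquiv.coe_toMonoidHom, map_mul, map_inv]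
    rw [this, ← MonoidHom.map_closure, hcl, Subgroup.map_top_of_surjective]
    exact e.surjective

end Cfsg.Agent.Lib.Helper13.SU3G
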