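/-
helper13: project STEINBERG (helper35), module P3-[TORUS]: for G2, F4, E8 (unimodular Cartan matrix) a product
`∏_i h_{p_i}(t_i)` of fundamental torus elements is the identity matrix only when all `t_i = 1`.
-/
import Cfsg.Agent.Lib.Helper35.StDefs3
import Cfsg.Agent.Lib.Helper18.CartanSNF

set_option autoImplicit false

namespace Cfsg.Agent.Lib.Helper13.St

open Cfsg.Lie Cfsg.Agent.Lib.Helper35.St Cfsg.Agent.Lib.Helper18

universe u v

variable {D : ChevalleyDatum} {K : Type u} [Field K]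

/-- If `M = P * 1 * Q` with `P`, `Q` invertible over `ℤ`, then `c ↦ c ^ M` has trivial kernel. -/
theorem mpow_eq_one_of_cert {G : Type*} [CommGroup G] {l : ℕ} (M P P' S Q Q' : Matrix (Fin l) (Fin l) ℤ)
    (hM : M = P * S * Q) (hS : S = 1) (hP1 : P * P' = 1) (hQ1 : Q * Q' = 1)
    (c : Fin l → G) (hc : mpow c M = 1) : c = 1 := by
  subst hS
  rw [hM, mul_one, ← mpow_mul] at hc
  have h1 : mpow (mpow (mpow c P) Q) Q' = mpow 1 Q' := by rw [hc]
  rw [mpow_mul _ Q Q', hQ1, mpow_one, one_mpow] at h1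
  have h2 : mpow (mpow c P) P' = mpow 1 P' := by rw [h1]
  rw [mpow_mul _ P P', hP1, mpow_one, one_mpow] at h2
  exact h2

theorem diag_G2 : diagOfList chevG2.rank snfD_G2 = 1 := by decide +kernel
theorem diag_F4 : diagOfList chevF4.rank snfD_F4 = 1 := by decide +kernel
theorem diag_E8 : diagOfList chevE8.rank snfD_E8 = 1 := by decide +kernel

/-- For G2, F4, E8 the exponent action of the Cartan matrix on tuples of units is injective. -/
theorem cartan_mpow_eq_one (hD' : D ∈ [chevG2, chevF4, chevE8]) {G : Type*} [CommGroup G]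
    (c : Fin D.rank → G) (hc : mpow c (cartanMat D) = 1) : c = 1 := by
  simp only [List.mem_cons, List.not_mem_nil, or_false] at hD'
  rcases hD' with rfl | rfl | rfl
  · obtain ⟨h1, h2, _, h4⟩ := snfCert_G2
    exact mpow_eq_one_of_cert _ _ _ _ _ _ h1 diag_G2 h2 h4 c hc
  · obtain ⟨h1, h2, _, h4⟩ := snfCert_F4
    exact mpow_eq_one_of_cert _ _ _ _ _ _ h1 diag_F4 h2 h4 c hc
  · obtain ⟨h1, h2, _, h4⟩ := snfCert_E8
    exact mpow_eq_one_of_cert _ _ _ _ _ _ h1 diag_E8 h2 h4 c hc

theorem exists_rootComb (hD' : D ∈ [chevG2, chevF4, chevE8]) : ∃ m : ℕ → ℕ → ℤ, RootComb D m := by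
  simp only [List.mem_cons, List.not_mem_nil, or_false] at hD'
  rcases hD' with rfl | rfl | rfl
  · exact ⟨_, rootComb_G2⟩
  · exact ⟨_, rootComb_F4⟩
  · exact ⟨_, rootComb_E8⟩

theorem mem_seven (hD' : D ∈ [chevG2, chevF4, chevE8]) :
    D ∈ [chevG2, chevB2, chevD4, chevF4, chevE6, chevE7, chevE8] := by
  simp only [List.mem_cons, List.not_mem_nil, or_false] at hD' ⊢
  rcases hD' with rfl | rfl | rfl <;> simp

/-- P3-[TORUS] -/
theorem torus_trivial (hD' : D ∈ [chevG2, chevF4, chevE8]) (t : ℕ → K) (ht : ∀ i, i < D.rank → t i ≠ 0)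
    (h : D.wordMat K ((List.range D.rank).flatMap fun i => D.hWord (D.simple i) (t i)) = 1) :
    ∀ i, i < D.rank → t i = 1 := by
  have hD := mem_seven hD'
  set c : Fin D.rank → Kˣ := fun i => Units.mk0 (t i.1) (ht i.1 i.2) with hc_def
  have hext : ∀ i < D.rank, extC D.rank c i = t i := by
    intro i hi
    rw [extC_of_lt D.rank c i hi]
    rfl
  have hne : ∀ i < D.rank, extC D.rank c i ≠ 0 := fun i _ => extC_ne_zero _ c i
  have hker : c ∈ (torusHom D K).ker := by
    rw [MonoidHom.mem_ker]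
    apply Units.ext
    rw [coe_torusHom, ← wordMat_torusWord D (fun i hi c hc => Cfsg.Agent.S1033.result D hD i hi c hc)
      (extC D.rank c) hne, Units.val_one, ← h]
    unfold torusWord
    rw [wordMat_flatMap, wordMat_flatMap]
    congr 1
    apply List.map_congr_left
    intro i hi
    rw [hext i (List.mem_range.mp hi)]
  obtain ⟨m, hm⟩ := exists_rootComb hD'
  rw [ker_torusHom D m hm (fun j => simple_lt' D hD j j.2), MonoidHom.mem_ker, mpowHom_apply] at hker
  have hc1 := cartan_mpow_eq_one hD' c hker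
  intro i hi
  have := congrFun hc1 ⟨i, hi⟩
  have h2 := congrArg (fun u : Kˣ => (u : K)) this
  simpa [hc_def] using h2

end Cfsg.Agent.Lib.Helper13.St
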