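import Mathlib
import Cfsg.Agent.Lib.Helper13.PgoCard
import Cfsg.Agent.Lib.Helper36.PgoPsoForms
import Cfsg.Agent.Lib.Helper36.AutO.RingAutCard
import Cfsg.Agent.Lib.Helper36.AutO.AutCount
import Cfsg.Agent.Lib.Helper36.PsoInn
import Cfsg.Agent.Lib.Helper44.POmegaOrder
import Cfsg.Agent.S2168
import Cfsg.Agent.S0790

set_option autoImplicit false
set_option linter.unusedSectionVars false
set_option linter.unusedVariables false

/-!
# TRI8 module `[CNT]` (helper36's project): the order of `PΓO⁺_{2m}(q)`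

The field part homomorphism on the subgroup `gammaPOmega F Q` of `Aut PΩ(Q)` (no hypothesis that
it is everything), and the count `|PΓO⁺_{2m}(q)| = e · f · |PΩ⁺_{2m}(q)|`.
-/

namespace Cfsg.Agent.Lib.Helper13.TriCnt

open Cfsg.Agent.Lib.Helper13 hiding isoGroup mem_isoGroup
open Cfsg.Agent.Lib.Helper36 Cfsg.Agent.Lib.Helper44 Cfsg.Agent.Lib.Helper36.AutO Module Matrix

section mat

variable {ι : Type} [Fintype ι] [DecidableEq ι] {F : Type*} [Field F] [Fintype F]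

section fp

variable (Q : QuadraticForm F (ι → F)) (hQ : (QuadraticMap.polarBilin Q).Nondegenerate)
  (h7 : 7 ≤ Fintype.card ι)

theorem exists_pair_sub (β : ↥(Cfsg.gammaPOmega F (⇑Q))) :
    ∃ (g : GL ι F) (σ : F ≃+* F), Cfsg.IsSemisimilarityPair (⇑Q) g σ ∧
      Cfsg.IsInducedBySemilinearPOmega (⇑Q) g σ (β : MulAut (Cfsg.POmega F (⇑Q))) :=
  (mem_gammaPOmega_iff (⇑Q) _).mp β.2

/-- the field part on `PΓO` (as a function) -/
noncomputable def fieldPartFunSub (β : ↥(Cfsg.gammaPOmega F (⇑Q))) : RingAut F :=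
  (exists_pair_sub Q β).choose_spec.choose

include hQ h7 in
theorem fieldPartFunSub_eq (β : ↥(Cfsg.gammaPOmega F (⇑Q))) (g : GL ι F) (σ : F ≃+* F)
    (hp : Cfsg.IsSemisimilarityPair (⇑Q) g σ)
    (hi : Cfsg.IsInducedBySemilinearPOmega (⇑Q) g σ (β : MulAut (Cfsg.POmega F (⇑Q)))) :
    fieldPartFunSub Q β = σ := by
  obtain ⟨hp', hi'⟩ := (exists_pair_sub Q β).choose_spec.choose_spec
  exact pair_sigma_unique Q hQ h7 _ g _ σ _ hp' hp hi' hi

theorem fieldPartFunSub_spec (β : ↥(Cfsg.gammaPOmega F (⇑Q))) :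
    ∃ g : GL ι F, Cfsg.IsSemisimilarityPair (⇑Q) g (fieldPartFunSub Q β) ∧
      Cfsg.IsInducedBySemilinearPOmega (⇑Q) g (fieldPartFunSub Q β)
        (β : MulAut (Cfsg.POmega F (⇑Q))) :=
  ⟨(exists_pair_sub Q β).choose, (exists_pair_sub Q β).choose_spec.choose_spec⟩

/-- **The field part** of an element of `PΓO(Q) ≤ Aut PΩ(Q)`. -/
noncomputable def fieldPartSub : ↥(Cfsg.gammaPOmega F (⇑Q)) →* RingAut F where
  toFun := fieldPartFunSub Q
  map_one' := fieldPartFunSub_eq Q hQ h7 1 1 (RingEquiv.refl F) (isSemisimilarityPair_one _)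
    (isInduced_one _)
  map_mul' := by
    intro β₁ β₂
    obtain ⟨g₁, hp₁, hi₁⟩ := fieldPartFunSub_spec Q β₁
    obtain ⟨g₂, hp₂, hi₂⟩ := fieldPartFunSub_spec Q β₂
    exact fieldPartFunSub_eq Q hQ h7 (β₁ * β₂) _ _
      (isSemisimilarityPair_mul (⇑Q) g₁ g₂ _ _ hp₁ hp₂)
      (isInduced_mul (⇑Q) g₁ g₂ _ _ _ _ hp₂ hi₁ hi₂)

theorem fieldPartSub_eq (β : ↥(Cfsg.gammaPOmega F (⇑Q))) (g : GL ι F) (σ : F ≃+* F)
    (hp : Cfsg.IsSemisimilarityPair (⇑Q) g σ)
    (hi : Cfsg.IsInducedBySemilinearPOmega (⇑Q) g σ (β : MulAut (Cfsg.POmega F (⇑Q)))) :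
    fieldPartSub Q hQ h7 β = σ :=
  fieldPartFunSub_eq Q hQ h7 β g σ hp hi

theorem pgoAut_le_gamma : Cfsg.pgoAut F (⇑Q) ≤ Cfsg.gammaPOmega F (⇑Q) := by
  rw [pgoAut_eq]
  rintro β ⟨g, rfl⟩
  rw [mem_gammaPOmega_iff]
  refine ⟨(g : GL ι F), RingEquiv.refl F, ?_, (isInduced_iff (⇑Q) g _).mpr rfl⟩
  obtain ⟨c, hc⟩ := g.2
  exact ⟨c, fun v => hc v⟩

/-- the kernel of the field part is the image of the similarity group -/
theorem ker_fieldPartSub :
    (fieldPartSub Q hQ h7).ker =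
      (Cfsg.pgoAut F (⇑Q)).subgroupOf (Cfsg.gammaPOmega F (⇑Q)) := by
  ext β
  rw [MonoidHom.mem_ker, Subgroup.mem_subgroupOf, pgoAut_eq]
  constructor
  · intro h
    obtain ⟨g, hp, hi⟩ := fieldPartFunSub_spec Q β
    have h1 : fieldPartFunSub Q β = RingEquiv.refl F := h
    rw [h1] at hp hi
    have hg : g ∈ Cfsg.Geo.quadSimilarityGroup (⇑Q) := by
      obtain ⟨c, hc⟩ := hp
      exact ⟨c, fun v => hc v⟩
    exact ⟨⟨g, hg⟩, ((isInduced_iff (⇑Q) ⟨g, hg⟩ _).mp hi).symm⟩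
  · rintro ⟨g, hg⟩
    apply fieldPartSub_eq Q hQ h7 _ (g : GL ι F) (RingEquiv.refl F)
    · obtain ⟨c, hc⟩ := g.2
      exact ⟨c, fun v => hc v⟩
    · exact (isInduced_iff (⇑Q) g _).mpr hg.symm

/-- `|PΓO(Q)| = |range of the field part| · |PGO(Q)|` -/
theorem card_gamma_eq :
    Nat.card ↥(Cfsg.gammaPOmega F (⇑Q)) =
      Nat.card ↥(fieldPartSub Q hQ h7).range * Nat.card ↥(Cfsg.pgoAut F (⇑Q)) := by
  rw [← Nat.card_congr (Subgroup.subgroupOfEquivOfLe (pgoAut_le_gamma Q)).toEquiv,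
    ← ker_fieldPartSub Q hQ h7,
    ← Nat.card_congr (QuotientGroup.quotientKerEquivRange (fieldPartSub Q hQ h7)).toEquiv]
  exact Subgroup.card_eq_card_quotient_mul_card_subgroup _

theorem fieldPartSub_surjective
    (hσ : ∀ σ : F ≃+* F, ∃ g : GL ι F, Cfsg.IsSemisimilarityPair (⇑Q) g σ) :
    Function.Surjective (fieldPartSub Q hQ h7) := by
  intro σ
  obtain ⟨g, hp⟩ := hσ σ
  have hmem : pairAut (⇑Q) g σ hp ∈ Cfsg.gammaPOmega F (⇑Q) :=
    (mem_gammaPOmega_iff (⇑Q) _).mpr ⟨g, σ, hp, isInduced_pairAut (⇑Q) g σ hp⟩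
  exact ⟨⟨pairAut (⇑Q) g σ hp, hmem⟩,
    fieldPartSub_eq Q hQ h7 _ g σ hp (isInduced_pairAut (⇑Q) g σ hp)⟩

include hQ h7 in
/-- `|PΓO(Q)| = |Aut F| · |PGO(Q)|` when every field automorphism occurs -/
theorem card_gamma_eq_of_surj
    (hσ : ∀ σ : F ≃+* F, ∃ g : GL ι F, Cfsg.IsSemisimilarityPair (⇑Q) g σ) :
    Nat.card ↥(Cfsg.gammaPOmega F (⇑Q)) =
      Nat.card (RingAut F) * Nat.card ↥(Cfsg.pgoAut F (⇑Q)) := by
  rw [card_gamma_eq Q hQ h7,
    MonoidHom.range_eq_top.2 (fieldPartSub_surjective Q hQ h7 hσ)]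
  congr 1
  exact Nat.card_congr Subgroup.topEquiv.toEquiv

end fp

end mat

section plus

open Cfsg.Agent.S2168

variable {F : Type*} [Field F] [Fintype F]

/-- the plus form is invariant under the field automorphisms acting on coordinates -/
theorem plusQF_pair_one (m : ℕ) (σ : F ≃+* F) :
    Cfsg.IsSemisimilarityPair (⇑(plusQF m F)) (1 : GL (Fin m ⊕ Fin m) F) σ := by
  refine ⟨1, fun v => ?_⟩
  rw [Units.val_one, Matrix.one_mulVec, Units.val_one, one_mul]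
  have hcoe : (⇑(plusQF m F) : (Fin m ⊕ Fin m → F) → F) = Cfsg.quadFormPlus m F := rfl
  rw [hcoe]
  unfold Cfsg.quadFormPlus
  rw [map_sum]
  apply Finset.sum_congr rfl
  intro i _
  rw [map_mul]

/-- a vector of norm one for the plus form -/
theorem plusQF_norm_one (m : ℕ) (hm : 1 ≤ m) :
    plusQF m F (Sum.elim (Pi.single (⟨0, hm⟩ : Fin m) (1 : F))
      (Pi.single (⟨0, hm⟩ : Fin m) (1 : F))) = 1 := by
  classical
  show Cfsg.quadFormPlus m F _ = 1
  unfold Cfsg.quadFormPlus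
  rw [Finset.sum_eq_single (⟨0, hm⟩ : Fin m)]
  · simp
  · intro i _ hi
    simp [hi]
  · intro h
    exact absurd (Finset.mem_univ _) h

/-- the multiplier of the similarity group of the plus form is onto -/
theorem mult_plusQF_surjective (m : ℕ) (v₀ : Fin m ⊕ Fin m → F) (hv₀ : plusQF m F v₀ ≠ 0) :
    Function.Surjective (mult (plusQF m F) v₀ hv₀) := by
  classical
  intro c
  obtain ⟨g₁, hg₁⟩ := exists_similarity_plus (F := F) m c
  have hmem : g₁ ∈ Cfsg.Geo.quadSimilarityGroup (⇑(plusQF m F)) := ⟨c, fun v => hg₁ v⟩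
  refine ⟨⟨g₁, hmem⟩, ?_⟩
  apply mult_eq
  intro v
  exact hg₁ v

theorem even_mul_pred_half_iff' (q m : ℕ) (hq : q % 2 = 1) :
    Even (m * (q - 1) / 2) ↔ ¬ (Odd m ∧ q % 4 = 3) := by
  obtain ⟨k, hk⟩ : ∃ k, q = 2 * k + 1 := ⟨q / 2, by omega⟩
  have h1 : m * (q - 1) / 2 = m * k := by
    rw [hk, Nat.add_sub_cancel, show m * (2 * k) = 2 * (m * k) by ring,
      Nat.mul_div_cancel_left _ (by norm_num : 0 < 2)]
  rw [h1, Nat.even_mul]
  have h2 : q % 4 = 3 ↔ Odd k := by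
    rw [hk, Nat.odd_iff]
    omega
  rw [h2, ← Nat.not_even_iff_odd, ← Nat.not_even_iff_odd]
  tauto

/-- **`|PΓO⁺_{2m}(q)|`** -/
theorem card_gammaPOmega_plus (p f : ℕ) [Fact p.Prime] (hf : 1 ≤ f)
    (hF : Fintype.card F = p ^ f) (m : ℕ) (hm : 4 ≤ m) :
    Nat.card ↥(Cfsg.gammaPOmega F (Cfsg.quadFormPlus m F)) =
      (if p = 2 then 2 else (if Even (m * (p ^ f - 1) / 2) then 8 else 4)) * f *
        Nat.card (Cfsg.POmega F (Cfsg.quadFormPlus m F)) := by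
  classical
  have hp := (Fact.out : p.Prime)
  have hchar : CharP F p := charP_of_card_pow hf hF
  have hcard : Fintype.card (Fin m ⊕ Fin m) = 2 * m := by
    rw [Fintype.card_sum, Fintype.card_fin]; ring
  have h7 : 7 ≤ Fintype.card (Fin m ⊕ Fin m) := by rw [hcard]; omega
  have hQ := plusQF_nondeg m F
  have hcoe : (⇑(plusQF m F) : (Fin m ⊕ Fin m → F) → F) = Cfsg.quadFormPlus m F := rfl
  have hv₀ : plusQF m F (Sum.elim (Pi.single (⟨0, by omega⟩ : Fin m) (1 : F))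
      (Pi.single (⟨0, by omega⟩ : Fin m) (1 : F))) ≠ 0 := by
    rw [plusQF_norm_one m (by omega)]
    exact one_ne_zero
  have hσ : ∀ σ : F ≃+* F, ∃ g : GL (Fin m ⊕ Fin m) F,
      Cfsg.IsSemisimilarityPair (⇑(plusQF m F)) g σ := fun σ => ⟨1, plusQF_pair_one m σ⟩
  have h1 : Nat.card ↥(Cfsg.gammaPOmega F (⇑(plusQF m F))) =
      f * Nat.card ↥(Cfsg.isometryGroup F (⇑(plusQF m F))) := by
    rw [card_gamma_eq_of_surj (plusQF m F) hQ h7 hσ, card_ringAut_eq hf hF,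
      card_pgoAut_eq_card_isometryGroup (plusQF m F) hQ h7 _ hv₀
        (mult_plusQF_surjective m _ hv₀)]
  have hmul := card_POmega_mul (F := F) (⇑(plusQF m F))
  rw [← hcoe, h1, ← hmul]
  by_cases hp2 : p = 2
  · have h2 : (2 : F) = 0 := by
      have : ((p : ℕ) : F) = 0 := CharP.cast_eq_zero F p
      rw [hp2] at this
      exact_mod_cast this
    rw [index_Omega_of_two_eq_zero _ hQ (by omega) h2,
      card_center_Omega_eq_one _ hQ h7 (Or.inl h2), if_pos hp2]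
    ring
  · have h2 : (2 : F) ≠ 0 := by
      intro h
      have h3 : ((2 : ℕ) : F) = 0 := by exact_mod_cast h
      have := (CharP.cast_eq_zero_iff F p 2).mp h3
      exact hp2 ((Nat.prime_dvd_prime_iff_eq hp Nat.prime_two).mp this)
    have hpodd : Odd p := hp.odd_of_ne_two hp2
    have hqodd : Odd (p ^ f) := hpodd.pow
    have hq2 : p ^ f % 2 = 1 := Nat.odd_iff.mp hqodd
    have hneg := Cfsg.Agent.S0790.result (F := F) hF hqodd m (by omega)
    rw [← hcoe] at hneg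
    rw [index_Omega_of_two_ne_zero _ hQ (by omega) h2, if_neg hp2]
    have hpar := even_mul_pred_half_iff' (p ^ f) m hq2
    have h34 := pow_mod_four_eq_three_iff (p ^ f) m hq2
    have hqm2 : (p ^ f) ^ m % 2 = 1 := Nat.odd_iff.mp hqodd.pow
    by_cases h1' : (p ^ f) ^ m % 4 = 1
    · have h3 : ¬ (p ^ f) ^ m % 4 = 3 := by omega
      rw [card_center_Omega_eq_two _ hQ h7 h2 (hneg.mpr h1'),
        if_pos (hpar.mpr (fun hc => h3 (h34.mpr hc)))]
      ring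
    · have h3 : (p ^ f) ^ m % 4 = 3 := by omega
      rw [card_center_Omega_eq_one _ hQ h7 (Or.inr (fun hex => h1' (hneg.mp hex))),
        if_neg (fun he => (hpar.mp he) (h34.mp h3))]
      ring

end plus

end Cfsg.Agent.Lib.Helper13.TriCnt
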