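import Mathlib
import Cfsg.Agent.Lib.Helper36.MaxTS
import Cfsg.Agent.Lib.Helper36.DeltaPar
import Cfsg.Agent.Lib.Helper36.OmegaTrans2

set_option autoImplicit false
set_option linter.unusedSectionVars false

/-!
# `Ω` is transitive on each class of maximal totally singular subspaces (finite field)

For a quadratic space of dimension `2m` over a finite field with non-degenerate polar form, two
totally singular `m`-spaces `M`, `M'` with `m - dim (M ∩ M')` even are conjugate under the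
commutator subgroup `Ω` of the isometry group.  (TRI8 module `[ORB2]` of helper36: `m = 4`.)
-/

namespace Cfsg.Agent.Lib.Helper13.TriOrb2

open Module Cfsg.Agent.Lib.Helper36

variable {F V : Type*} [Field F] [AddCommGroup V] [Module F V]

local notation "pol" => QuadraticMap.polar

/-- General form: dimension `2m`, `1 ≤ m`. -/
theorem mts_orbit_gen [Finite F] [FiniteDimensional F V] (Q : QuadraticForm F V)
    (hQ : (QuadraticMap.polarBilin Q).Nondegenerate) {m : ℕ} (hm : 1 ≤ m)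
    (hdim : finrank F V = 2 * m)
    (hF : (∀ a b : F, ∃ x : F, x ≠ a ∧ x ≠ b) ∨ Module.finrank F V ≠ 4)
    {M M' : Submodule F V} (hM : IsTS Q M) (hM' : IsTS Q M') (hf : finrank F M = m)
    (hf' : finrank F M' = m) (hpar : Even (m - finrank F ↥(M ⊓ M'))) :
    ∃ g : ↥(Cfsg.Agent.Lib.Helper36.isoGroup Q),
      g ∈ commutator ↥(Cfsg.Agent.Lib.Helper36.isoGroup Q) ∧
      M.map (((g : V ≃ₗ[F] V) : V →ₗ[F] V)) = M' := by
  classical
  have : Fintype F := Fintype.ofFinite F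
  obtain ⟨g₀, hg₀⟩ := exists_isometry_map_ts Q hQ M M' m hf hf' hM hM'
  have heven : Even (m - finrank F ↥(M ⊓ M.map ((g₀ : V ≃ₗ[F] V) : V →ₗ[F] V))) := by
    rw [hg₀]
    exact hpar
  by_cases h2 : (2 : F) = 0
  · have : CharP F 2 := CharTwo.of_one_ne_zero_of_two_eq_zero one_ne_zero h2
    have hsq : ∀ a : F, IsSquare a :=
      fun a => FiniteField.isSquare_of_char_two (ringChar.eq F 2) a
    exact ⟨g₀, (mem_commutator_iff_even_delta Q hQ hdim hF hsq hM hf g₀).mpr heven, hg₀⟩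
  · have hrefl : ∀ x : V ≃ₗ[F] V, x ∈ Cfsg.Agent.Lib.Helper36.isoGroup Q →
        x ∈ Cfsg.Agent.Lib.Helper13.reflGroup Q :=
      fun x hx => Cfsg.Agent.Lib.Helper13.isometry_mem_reflGroup Q hQ hF x hx
    have hdim2 : 2 ≤ finrank F V := by omega
    have hpar0 : Cfsg.Agent.Lib.Helper13.par (g₀ : V ≃ₗ[F] V) = 0 := by
      rw [← delta_eq_par Q hQ hdim hM hf (g₀ : V ≃ₗ[F] V) (hrefl _ g₀.2)]
      exact (ZMod.natCast_eq_zero_iff_even).mpr heven
    have hspin_sq : Cfsg.Agent.Lib.Helper13.spin Q (g₀ : V ≃ₗ[F] V) = 1 ∨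
        Cfsg.Agent.Lib.Helper13.spin Q (g₀ : V ≃ₗ[F] V) = -1 := by
      rcases Int.units_eq_one_or (Cfsg.Agent.Lib.Helper13.spinHom Q hQ hF ⟨g₀, g₀.2⟩) with h | h
      · left
        exact congrArg (fun u : ℤˣ => (u : ℤ)) h
      · right
        exact congrArg (fun u : ℤˣ => (u : ℤ)) h
    rcases hspin_sq with hs | hs
    · exact ⟨g₀, (mem_commutator_iff_par_spin Q hQ h2 hdim2 g₀).mpr ⟨hpar0, hs⟩, hg₀⟩
    · -- a hyperbolic rotation along a vector of `M'`
      have hMne : M' ≠ ⊥ := by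
        intro h
        rw [h, finrank_bot] at hf'
        omega
      obtain ⟨p, hpW, hp0⟩ := Submodule.exists_mem_ne_zero_of_ne_bot hMne
      have hp : Q p = 0 := hM' p hpW
      obtain ⟨p', hp', hpp'⟩ := exists_hyperbolic_partner Q hQ p hp0 hp
      have hchar : ringChar F ≠ 2 := by
        intro h
        apply h2
        have : ((2 : ℕ) : F) = 0 := by
          rw [← h]
          exact ringChar.Nat.cast_ringChar
        exact_mod_cast this
      obtain ⟨η, hη⟩ := FiniteField.exists_nonsquare hchar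
      have hη0 : η ≠ 0 := by
        rintro rfl
        exact hη IsSquare.zero
      have hQ1 : Q (p + p') = 1 := by
        rw [Cfsg.Agent.Lib.Helper13.Q_add', hp, hp', hpp']
        ring
      have hQη : Q (p + η • p') = η := by
        rw [Cfsg.Agent.Lib.Helper13.Q_add', QuadraticMap.map_smul, hp, hp',
          QuadraticMap.polar_smul_right, hpp']
        simp
      have hQ1' : Q (p + p') ≠ 0 := by rw [hQ1]; exact one_ne_zero
      have hQη' : Q (p + η • p') ≠ 0 := by rw [hQη]; exact hη0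
      set T₁ := reflEquiv Q (p + p') hQ1' with hT₁
      set T₂ := reflEquiv Q (p + η • p') hQη' with hT₂
      have hT₁set := reflEquiv_mem Q (p + p') hQ1'
      have hT₂set := reflEquiv_mem Q (p + η • p') hQη'
      have hT₁iso : T₁ ∈ Cfsg.Agent.Lib.Helper36.isoGroup Q :=
        Cfsg.Agent.Lib.Helper36.reflSet_subset_isoGroup Q hT₁set
      have hT₂iso : T₂ ∈ Cfsg.Agent.Lib.Helper36.isoGroup Q :=
        Cfsg.Agent.Lib.Helper36.reflSet_subset_isoGroup Q hT₂set
      have hrot : ∀ z, (T₁ * T₂) z = Cfsg.Agent.Lib.Helper13.hrotLin Q p p' η z := by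
        intro z
        rw [Cfsg.Agent.Lib.Helper13.hrot_eq_refl_refl Q p p' η hη0 hp hp' hpp' z]
        rfl
      have hW₂ : M'.map ((T₁ * T₂ : V ≃ₗ[F] V) : V →ₗ[F] V) = M' := by
        apply map_eq_of_map_le
        rintro _ ⟨w, hw, rfl⟩
        change (T₁ * T₂) w ∈ M'
        rw [hrot, Cfsg.Agent.Lib.Helper13.hrotLin_apply, hM'.polar_eq_zero hpW hw, mul_zero,
          zero_smul, add_zero]
        exact M'.add_mem hw (M'.smul_mem _ hpW)
      have hpar₂ : Cfsg.Agent.Lib.Helper13.par (T₁ * T₂) = 0 := by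
        rw [Cfsg.Agent.Lib.Helper13.par_refl_mul Q hQ T₂ hT₂iso T₁ hT₁set,
          Cfsg.Agent.Lib.Helper13.par_refl Q hQ T₂ hT₂set]
        decide
      have hspin₂ : Cfsg.Agent.Lib.Helper13.spin Q (T₁ * T₂) = -1 := by
        rw [Cfsg.Agent.Lib.Helper13.spin_refl_mul Q hQ T₂ hT₂iso (p + p') hQ1' T₁ (fun _ => rfl),
          Cfsg.Agent.Lib.Helper13.spin_refl Q hQ (p + η • p') hQη' T₂ (fun _ => rfl), hQ1, hQη,
          map_one, one_mul]
        exact quadraticChar_neg_one_iff_not_isSquare.mpr hη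
      have hh₂ : T₁ * T₂ ∈ Cfsg.Agent.Lib.Helper36.isoGroup Q := Subgroup.mul_mem _ hT₁iso hT₂iso
      refine ⟨⟨T₁ * T₂, hh₂⟩ * g₀, ?_, ?_⟩
      · apply (mem_commutator_iff_par_spin Q hQ h2 hdim2
          ((⟨T₁ * T₂, hh₂⟩ : ↥(Cfsg.Agent.Lib.Helper36.isoGroup Q)) * g₀)).mpr
        constructor
        · change Cfsg.Agent.Lib.Helper13.par ((T₁ * T₂) * (g₀ : V ≃ₗ[F] V)) = 0
          rw [Cfsg.Agent.Lib.Helper13.par_mul Q hQ (T₁ * T₂) (hrefl _ hh₂) _ g₀.2, hpar₂, hpar0,
            add_zero]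
        · change Cfsg.Agent.Lib.Helper13.spin Q ((T₁ * T₂) * (g₀ : V ≃ₗ[F] V)) = 1
          rw [Cfsg.Agent.Lib.Helper13.spin_mul Q hQ (T₁ * T₂) (hrefl _ hh₂) _ g₀.2, hspin₂, hs]
          norm_num
      · change M.map (((T₁ * T₂) * (g₀ : V ≃ₗ[F] V) : V ≃ₗ[F] V) : V →ₗ[F] V) = M'
        rw [map_mul_eq, hg₀, hW₂]

/-- **TRI8 `[ORB2]`**: in dimension 8, `Ω` is transitive on each class of totally singular
4-spaces. -/
theorem mts_orbit [Finite F] [FiniteDimensional F V] (Q : QuadraticForm F V)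
    (hQ : (QuadraticMap.polarBilin Q).Nondegenerate) (h8 : finrank F V = 8)
    {M M' : Submodule F V} (hM : IsTS Q M) (hM' : IsTS Q M') (hf : finrank F M = 4)
    (hf' : finrank F M' = 4) (hpar : Even (finrank F ↥(M ⊓ M'))) :
    ∃ g : ↥(Cfsg.Agent.Lib.Helper36.isoGroup Q),
      g ∈ commutator ↥(Cfsg.Agent.Lib.Helper36.isoGroup Q) ∧
      M.map (((g : V ≃ₗ[F] V) : V →ₗ[F] V)) = M' := by
  have hle : finrank F ↥(M ⊓ M') ≤ 4 := by
    rw [← hf]
    exact Submodule.finrank_mono inf_le_left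
  have hpar' : Even (4 - finrank F ↥(M ⊓ M')) := by
    rw [Nat.even_iff] at hpar ⊢
    omega
  exact mts_orbit_gen Q hQ (m := 4) (by norm_num) (by rw [h8]) (Or.inr (by rw [h8]; norm_num))
    hM hM' hf hf' hpar'

end Cfsg.Agent.Lib.Helper13.TriOrb2
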