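import Mathlib
import Cfsg.Agent.Lib.Helper36.Tri.StarDefs
import Cfsg.Agent.Lib.Helper36.Tri.TauGrp
import Cfsg.Agent.Lib.Helper36.AutO.Transfer2
import Cfsg.Agent.Lib.Helper13.TriOrb2

set_option autoImplicit false
set_option linter.unusedSectionVars false
set_option linter.unusedVariables false

/-!
# TRI8 module `[U-D]` (helper36's project): conjugating the groups `UMb T` and `Ub r`
-/

namespace Cfsg.Agent.Lib.Helper13.TriUD

open Cfsg.Agent.Lib.Helper13 hiding isoGroup mem_isoGroup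
open Cfsg.Agent.Lib.Helper36 Cfsg.Agent.Lib.Helper44 Cfsg.Agent.Lib.Helper36.AutO
  Cfsg.Agent.Lib.Helper36.Tri Module

variable {F V : Type*} [Field F] [AddCommGroup V] [Module F V]

local notation "pol" => QuadraticMap.polar

variable {Q : QuadraticForm F V} {Γ : Type*} [Group Γ] (M : OModel Q Γ)

/-- The image of a totally singular line under an isometry of the model. -/
theorem isLine_map (k : Γ) {p w : V} (h : IsLine Q p w) : IsLine Q (M.ρ k p) (M.ρ k w) where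
  hp0 := by
    intro h0
    apply h.hp0
    have := congrArg (M.ρ k⁻¹) h0
    rwa [M.inv_apply', map_zero] at this
  hind := by
    intro c hc
    apply h.hind c
    have := congrArg (M.ρ k⁻¹) hc
    rwa [M.inv_apply', map_smul, M.inv_apply'] at this
  hp := by rw [M.isom, h.hp]
  hw := by rw [M.isom, h.hw]
  hpw := by rw [M.pol_eq, h.hpw]

theorem span_pair_map (k : Γ) (p w : V) :
    (Submodule.span F {p, w}).map ((M.ρ k : V ≃ₗ[F] V) : V →ₗ[F] V) =
      Submodule.span F {M.ρ k p, M.ρ k w} := by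
  rw [Submodule.map_span]
  congr 1
  ext z
  simp [Set.image_pair]

/-- Conjugation moves the root group of a line into the root group of the image line. -/
theorem conj_mem_Xb (k : Γ) {p w : V} (h : IsLine Q p w) {x : Γ ⧸ Subgroup.center Γ}
    (hx : x ∈ M.Xb p w) :
    (MulAut.conj (prj Γ k)) x ∈ M.Xb (M.ρ k p) (M.ρ k w) := by
  obtain ⟨y, hy, rfl⟩ := hx
  obtain ⟨t, rfl⟩ := (M.mem_X_iff p w h.hp h.hpw y).1 hy
  have hpt : pol (⇑Q) p (t • w) = 0 := by
    rw [QuadraticMap.polar_smul_right, h.hpw, smul_zero]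
  have h' := isLine_map M k h
  refine ⟨k * M.E p (t • w) * k⁻¹, ?_, ?_⟩
  · rw [M.conj_E k p (t • w) h.hp hpt, map_smul]
    exact (M.mem_X_iff _ _ h'.hp h'.hpw _).2 ⟨t, rfl⟩
  · simp [MulAut.conj_apply]

theorem UMb_conj_le (k : Γ) (T : Submodule F V) :
    (UMb M T).map (MulAut.conj (prj Γ k)).toMonoidHom ≤
      UMb M (T.map ((M.ρ k : V ≃ₗ[F] V) : V →ₗ[F] V)) := by
  unfold UMb
  rw [MonoidHom.map_closure, Subgroup.closure_le]
  rintro _ ⟨x, ⟨p, w, h, hle, hx⟩, rfl⟩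
  apply Subgroup.subset_closure
  refine ⟨M.ρ k p, M.ρ k w, isLine_map M k h, ?_, conj_mem_Xb M k h hx⟩
  rw [← span_pair_map]
  exact Submodule.map_mono hle

/-- `UMb_conj` without the section hypotheses. -/
theorem UMb_conj' (k : Γ) (T : Submodule F V) :
    (UMb M T).map (MulAut.conj (prj Γ k)).toMonoidHom =
      UMb M (T.map ((M.ρ k : V ≃ₗ[F] V) : V →ₗ[F] V)) := by
  apply le_antisymm (UMb_conj_le M k T)
  have h1 := UMb_conj_le M k⁻¹ (T.map ((M.ρ k : V ≃ₗ[F] V) : V →ₗ[F] V))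
  have h2 : (T.map ((M.ρ k : V ≃ₗ[F] V) : V →ₗ[F] V)).map
      ((M.ρ k⁻¹ : V ≃ₗ[F] V) : V →ₗ[F] V) = T := by
    ext z
    constructor
    · rintro ⟨_, ⟨y, hy, rfl⟩, rfl⟩
      simp only [LinearEquiv.coe_coe]
      rw [M.inv_apply']
      exact hy
    · intro hz
      refine ⟨M.ρ k z, ⟨z, hz, rfl⟩, ?_⟩
      simp only [LinearEquiv.coe_coe]
      exact M.inv_apply' k z
  rw [h2] at h1
  intro y hy
  have h3 : (MulAut.conj (prj Γ k⁻¹)) y ∈ UMb M T := h1 ⟨y, hy, rfl⟩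
  refine ⟨(MulAut.conj (prj Γ k⁻¹)) y, h3, ?_⟩
  simp [MulAut.conj_apply, mul_assoc]

section main

variable [Finite F] [FiniteDimensional F V] (hQ : (QuadraticMap.polarBilin Q).Nondegenerate)
  (ch : ℕ) [hch : Fact ch.Prime] [hchar : CharP F ch]

include M hQ ch hch hchar

theorem UMb_conj (k : Γ) (T : Submodule F V) :
    (UMb M T).map (MulAut.conj (prj Γ k)).toMonoidHom =
      UMb M (T.map ((M.ρ k : V ≃ₗ[F] V) : V →ₗ[F] V)) :=
  UMb_conj' M k T

theorem exists_conj_UMb [Finite Γ] (h8 : finrank F V = 8) {T T' : Submodule F V} (hT : IsTS Q T)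
    (hT' : IsTS Q T') (hf : finrank F T = 4) (hf' : finrank F T' = 4)
    (hpar : Even (finrank F ↥(T ⊓ T'))) :
    ∃ k : Γ, (UMb M T).map (MulAut.conj (prj Γ k)).toMonoidHom = UMb M T' := by
  obtain ⟨g, hg, hgT⟩ := Cfsg.Agent.Lib.Helper13.TriOrb2.mts_orbit Q hQ h8 hT hT' hf hf' hpar
  rw [commutator_eq_KE Q hQ (by omega)] at hg
  have hmem : (g : V ≃ₗ[F] V) ∈ M.ρ.range := by
    rw [range_rho_eq]
    exact ⟨g, hg, rfl⟩
  obtain ⟨k, hk⟩ := hmem
  refine ⟨k, ?_⟩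
  rw [UMb_conj' M k T, hk, hgT]

theorem exists_conj_Ub (h5 : 5 ≤ finrank F V) {r r' : V} (hr0 : r ≠ 0) (hr : Q r = 0) (hr'0 : r' ≠ 0)
    (hr' : Q r' = 0) :
    ∃ k : Γ, (M.Ub r).map (MulAut.conj (prj Γ k)).toMonoidHom = M.Ub r' := by
  obtain ⟨k, c, hc, hk⟩ := M.exists_map_smul hQ h5 r r' hr0 hr'0 hr hr'
  refine ⟨k, ?_⟩
  rw [M.Ub_conj k r hr, hk, M.Ub_smul r' c hc hr']

end main

end Cfsg.Agent.Lib.Helper13.TriUD
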