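/-
helper13: auxiliary lemmas on the standard hermitian space `Fin n → F` used for the maximality of
the stabiliser of a non-degenerate subspace in the special unitary group: Witt's theorem for a single
vector (in matrix form), anisotropic vectors orthogonal to a given vector, quasi-reflections with
prescribed determinant, and the fact that the isotropic vectors span.
-/
import Mathlib
import Cfsg.Agent.Lib.Helper13.UnitMax

set_option autoImplicit false

namespace Cfsg.Agent.Lib.Helper13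

open Matrix Module Cfsg.Agent.S0837 Cfsg.Agent.S0781 Cfsg.Agent.S2644 Cfsg.Agent.Lib.Helper37

section UnitNondegAux

variable {F : Type*} [Field F] (σ : F →+* F) {n : ℕ}

/-- A form preserving matrix as an element of `GL`. -/
def ugOfPreserves (M : Matrix (Fin n) (Fin n) F)
    (hM : ∀ x y, hf σ (M *ᵥ x) (M *ᵥ y) = hf σ x y) : GL (Fin n) F :=
  ⟨M, hs σ M, mul_eq_one_comm.mp (hs_mul_self_of_preserves σ M hM),
    hs_mul_self_of_preserves σ M hM⟩

theorem ugOfPreserves_coe (M : Matrix (Fin n) (Fin n) F)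
    (hM : ∀ x y, hf σ (M *ᵥ x) (M *ᵥ y) = hf σ x y) :
    ((ugOfPreserves σ M hM : GL (Fin n) F) : Matrix (Fin n) (Fin n) F) = M := rfl

theorem ugOfPreserves_mem (M : Matrix (Fin n) (Fin n) F)
    (hM : ∀ x y, hf σ (M *ᵥ x) (M *ᵥ y) = hf σ x y) : ugOfPreserves σ M hM ∈ UG σ n := hM

/-- Witt's theorem for a single vector of the standard hermitian space, in matrix form. -/
theorem witt_one (hσ : σ ≠ RingHom.id F) (hσ2 : ∀ a, σ (σ a) = a)
    (u u' : Fin n → F) (hu : u ≠ 0) (hu' : u' ≠ 0) (h : hf σ u u = hf σ u' u') :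
    ∃ T : GL (Fin n) F, T ∈ UG σ n ∧ (T : Matrix (Fin n) (Fin n) F) *ᵥ u = u' := by
  obtain ⟨T, hT, hTw⟩ := witt_families_herm σ hσ hσ2 (BV σ n) (BV_symm σ hσ2 n)
    (BV_nondeg σ hσ2 n) 1 ![u] ![u']
    (by rw [linearIndependent_unique_iff]; exact hu)
    (by rw [linearIndependent_unique_iff]; exact hu')
    (by
      intro i j
      fin_cases i
      fin_cases j
      simp only [Fin.zero_eta, Fin.isValue, cons_val_zero, BV_apply]
      exact h)
  have hpres : ∀ x y, hf σ (LinearMap.toMatrix' (T : (Fin n → F) →ₗ[F] (Fin n → F)) *ᵥ x)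
      (LinearMap.toMatrix' (T : (Fin n → F) →ₗ[F] (Fin n → F)) *ᵥ y) = hf σ x y := by
    intro x y
    rw [LinearMap.toMatrix'_mulVec, LinearMap.toMatrix'_mulVec]
    have := hT y x
    rw [BV_apply, BV_apply] at this
    exact this
  refine ⟨ugOfPreserves σ _ hpres, hpres, ?_⟩
  rw [ugOfPreserves_coe, LinearMap.toMatrix'_mulVec]
  exact hTw 0

/-- In dimension at least three every vector has an anisotropic vector orthogonal to it. -/
theorem exists_aniso_perp_vec (hσ : σ ≠ RingHom.id F) (hσ2 : ∀ a, σ (σ a) = a) (hn : 3 ≤ n)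
    (b : Fin n → F) : ∃ d : Fin n → F, hf σ d b = 0 ∧ hf σ d d ≠ 0 := by
  by_contra hcon
  push Not at hcon
  obtain ⟨B, hBdef⟩ : ∃ B : Submodule F (Fin n → F), B = perp σ (Submodule.span F {b}) :=
    ⟨_, rfl⟩
  have hB : ∀ d ∈ B, hf σ d d = 0 := by
    intro d hd
    rw [hBdef] at hd
    exact hcon d (hd b (Submodule.mem_span_singleton_self b))
  have hBB : ∀ d ∈ B, ∀ d' ∈ B, hf σ d d' = 0 := by
    intro d hd d' hd'
    by_contra hne
    obtain ⟨s, hs⟩ := trace_surj σ hσ hσ2 1 (map_one σ)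
    obtain ⟨z, hz⟩ : ∃ z, z = hf σ d d' := ⟨_, rfl⟩
    rw [← hz] at hne
    have hz' : hf σ d' d = σ z := by rw [hz]; exact hf_symm σ hσ2 d' d
    have hσz : σ z ≠ 0 := map_ne_zero_of_invol σ hσ2 hne
    have h1 := hB (d + σ (s / z) • d') (B.add_mem hd (B.smul_mem _ hd'))
    rw [hf_add_left, hf_add_right, hf_add_right, hf_smul_left, hf_smul_left, hf_smul_right,
      hf_smul_right, hB d hd, hB d' hd', ← hz, hz', hσ2, map_div₀] at h1
    have h2 : s / z * z = s := div_mul_cancel₀ _ hne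
    have h3 : σ s / σ z * σ z = σ s := div_mul_cancel₀ _ hσz
    apply one_ne_zero (α := F)
    rw [← hs]
    linear_combination h1 - h2 - h3
  have h1 := finrank_perp σ hσ2 (Submodule.span F {b})
  have h2 : finrank F (Submodule.span F {b}) ≤ 1 := by
    have := finrank_span_le_card (R := F) ({b} : Set (Fin n → F))
    simpa using this
  have h3 := finrank_perp σ hσ2 B
  have h4 : B ≤ perp σ B := fun d hd d' hd' => hBB d hd d' hd'
  have h5 := Submodule.finrank_mono h4
  rw [← hBdef] at h1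
  omega

/-- A quasi-reflection along an anisotropic vector with prescribed determinant of norm one. -/
theorem exists_qrefl (hσ2 : ∀ a, σ (σ a) = a) (d : Fin n → F) (hd : hf σ d d ≠ 0) (δ : F)
    (hδ : δ * σ δ = 1) :
    ∃ R : GL (Fin n) F, R ∈ UG σ n ∧ (R : Matrix (Fin n) (Fin n) F).det = δ ∧
      ∀ x, hf σ x d = 0 → (R : Matrix (Fin n) (Fin n) F) *ᵥ x = x := by
  obtain ⟨κ, hκ⟩ : ∃ κ, κ = hf σ d d := ⟨_, rfl⟩
  rw [← hκ] at hd
  have hκσ : σ κ = κ := by rw [hκ]; exact hf_self_fixed σ hσ2 d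
  obtain ⟨c, hc⟩ : ∃ c, c = (δ - 1) / κ := ⟨_, rfl⟩
  have hcκ : c * κ = δ - 1 := by rw [hc, div_mul_cancel₀ _ hd]
  have hcκ' : σ c * κ = σ δ - 1 := by
    rw [hc, map_div₀, map_sub, map_one, hκσ, div_mul_cancel₀ _ hd]
  have hc0 : c + σ c + c * σ c * κ = 0 := by
    have h1 : (c + σ c + c * σ c * κ) * κ = 0 := by
      linear_combination (1 + σ c * κ) * hcκ + δ * hcκ' + hδ
    rcases mul_eq_zero.mp h1 with h | h
    · exact h
    · exact absurd h hd
  have hpres : ∀ x y, hf σ (tv σ d c *ᵥ x) (tv σ d c *ᵥ y) = hf σ x y := by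
    intro x y
    rw [hf_tv σ hσ2, ← hκ, hc0]
    ring
  refine ⟨ugOfPreserves σ _ hpres, hpres, ?_, ?_⟩
  · rw [ugOfPreserves_coe, tv_det, ← hκ, hcκ]
    ring
  · intro x hx
    rw [ugOfPreserves_coe, tv_mulVec, hx, mul_zero, zero_smul, add_zero]

/-- The isotropic vectors span the standard hermitian space of dimension at least two: a matrix
killing all isotropic vectors vanishes. -/
theorem eq_zero_of_isotropic_ker [Finite F] (hσ : σ ≠ RingHom.id F) (hσ2 : ∀ a, σ (σ a) = a)
    (hn : 2 ≤ n) {ι : Type*} (N : Matrix ι (Fin n) F)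
    (hN : ∀ z : Fin n → F, hf σ z z = 0 → N *ᵥ z = 0) : N = 0 := by
  obtain ⟨ζ, hζ⟩ := Cfsg.Agent.Lib.Helper36.exists_mul_map_eq σ hσ hσ2 (-1) (by
    rw [map_neg, map_one])
  obtain ⟨t, ht⟩ : ∃ t : F, σ t ≠ t := by
    by_contra hcon
    push Not at hcon
    exact hσ (RingHom.ext hcon)
  have ht0 : t ≠ 0 := by
    rintro rfl
    exact ht (map_zero σ)
  have hσt0 : σ t ≠ 0 := map_ne_zero_of_invol σ hσ2 ht0
  obtain ⟨μ, hμ⟩ : ∃ μ, μ = t / σ t := ⟨_, rfl⟩
  have hμ1 : μ * σ μ = 1 := by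
    rw [hμ, map_div₀, hσ2]
    field_simp
  have hμne : μ ≠ 1 := by
    rw [hμ]
    intro h
    rw [div_eq_one_iff_eq hσt0] at h
    exact ht h.symm
  have hζ0 : ζ ≠ 0 := by
    rintro rfl
    rw [zero_mul] at hζ
    have : (1 : F) = 0 := by linear_combination hζ
    exact one_ne_zero this
  have hcol : ∀ j : Fin n, N *ᵥ Pi.single j 1 = 0 := by
    intro j
    obtain ⟨i, hij⟩ : ∃ i : Fin n, i ≠ j := by
      by_cases hj : j = ⟨0, by omega⟩
      · refine ⟨⟨1, by omega⟩, ?_⟩
        rw [hj]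
        intro h
        rw [Fin.ext_iff] at h
        simp at h
      · exact ⟨⟨0, by omega⟩, fun h => hj h.symm⟩
    have hiso : ∀ ξ : F, ξ * σ ξ = -1 →
        hf σ (Pi.single i 1 + ξ • Pi.single j 1) (Pi.single i 1 + ξ • Pi.single j 1) = 0 := by
      intro ξ hξ
      simp only [hf_add_left, hf_add_right, hf_smul_left, hf_smul_right, hf_single_single,
        if_neg hij, if_neg (Ne.symm hij), if_true]
      linear_combination hξ
    have h1 := hN _ (hiso ζ hζ)
    have h2 := hN _ (hiso (μ * ζ) (by rw [map_mul]; linear_combination ζ * σ ζ * hμ1 + hζ))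
    rw [mulVec_add, mulVec_smul] at h1 h2
    have h3 : (ζ - μ * ζ) • (N *ᵥ Pi.single j 1) = 0 := by
      rw [sub_smul]
      have := congrArg₂ (· - ·) h1 h2
      simp only [sub_self] at this
      rw [← this]
      abel
    rcases smul_eq_zero.mp h3 with h | h
    · exfalso
      have : (1 - μ) * ζ = 0 := by linear_combination h
      rcases mul_eq_zero.mp this with h' | h'
      · exact hμne (by linear_combination -h')
      · exact hζ0 h'
    · exact h
  ext a j
  have := congrFun (hcol j) a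
  rw [mulVec_single_one] at this
  exact this

end UnitNondegAux

end Cfsg.Agent.Lib.Helper13
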