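/-
helper13: maximality of the stabiliser of a non-degenerate subspace `W` (with `2 dim W < n`) in the
special unitary group, by the transvection method in coordinates adapted to `V = W ⊕ W^⊥`.
-/
import Mathlib
import Cfsg.Agent.Lib.Helper13.UnitNondegAux

set_option autoImplicit false

namespace Cfsg.Agent.Lib.Helper13

open Matrix Module Cfsg.Agent.S0837 Cfsg.Agent.S0781 Cfsg.Agent.S2644 Cfsg.Agent.Lib.Helper37

section Frame

variable {F : Type*} [Field F] (σ : F →+* F) {n k m : ℕ} (P : Matrix (Fin n) (Fin k ⊕ Fin m) F)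

/-- The vector with coordinates `(a, b)` in the frame `P`. -/
def emb (a : Fin k → F) (b : Fin m → F) : Fin n → F := P *ᵥ Sum.elim a b

/-- The first block of coordinates. -/
def cl (v : Fin n → F) : Fin k → F := (hs σ P *ᵥ v) ∘ Sum.inl

/-- The second block of coordinates. -/
def cr (v : Fin n → F) : Fin m → F := (hs σ P *ᵥ v) ∘ Sum.inr

theorem hf_emb (hσ2 : ∀ a, σ (σ a) = a) (h1 : hs σ P * P = 1) (a a' : Fin k → F)
    (b b' : Fin m → F) : hf σ (emb P a b) (emb P a' b') = hf σ a a' + hf σ b b' := by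
  unfold emb
  rw [preserves_of_hs_mul σ hσ2 P h1]
  unfold hf
  rw [Fintype.sum_sum_type]
  simp

theorem emb_add_smul (a a' : Fin k → F) (b b' : Fin m → F) (z : F) :
    emb P a b + z • emb P a' b' = emb P (a + z • a') (b + z • b') := by
  unfold emb
  rw [← mulVec_smul, ← mulVec_add]
  congr 1
  ext i
  rcases i with i | i <;> simp

theorem emb_cl_cr (h2 : P * hs σ P = 1) (v : Fin n → F) : emb P (cl σ P v) (cr σ P v) = v := by
  unfold emb cl cr
  have : Sum.elim ((hs σ P *ᵥ v) ∘ Sum.inl) ((hs σ P *ᵥ v) ∘ Sum.inr) = hs σ P *ᵥ v := by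
    ext i
    rcases i with i | i <;> rfl
  rw [this, mulVec_mulVec, h2, one_mulVec]

theorem cl_emb (h1 : hs σ P * P = 1) (a : Fin k → F) (b : Fin m → F) :
    cl σ P (emb P a b) = a := by
  unfold emb cl
  rw [mulVec_mulVec, h1, one_mulVec]
  rfl

theorem cr_emb (h1 : hs σ P * P = 1) (a : Fin k → F) (b : Fin m → F) :
    cr σ P (emb P a b) = b := by
  unfold emb cr
  rw [mulVec_mulVec, h1, one_mulVec]
  rfl

theorem blk_mulVec (h1 : hs σ P * P = 1) (h2 : P * hs σ P = 1) (A : GL (Fin k) F)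
    (E : GL (Fin m) F) (a : Fin k → F) (b : Fin m → F) :
    ((psiGL σ P h1 h2 (A, E) : GL (Fin n) F) : Matrix (Fin n) (Fin n) F) *ᵥ emb P a b =
      emb P ((A : Matrix (Fin k) (Fin k) F) *ᵥ a) ((E : Matrix (Fin m) (Fin m) F) *ᵥ b) := by
  rw [psiGL_coe]
  unfold emb
  rw [mulVec_mulVec, Matrix.mul_assoc, Matrix.mul_assoc, h1, Matrix.mul_one, ← mulVec_mulVec,
    fromBlocks_mulVec]
  congr 1
  ext i
  rcases i with i | i <;> simp

theorem blk_mem_UG (hσ2 : ∀ a, σ (σ a) = a) (h1 : hs σ P * P = 1) (h2 : P * hs σ P = 1)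
    (A : GL (Fin k) F) (E : GL (Fin m) F) (hA : A ∈ UG σ k) (hE : E ∈ UG σ m) :
    psiGL σ P h1 h2 (A, E) ∈ UG σ n := by
  intro x y
  rw [← emb_cl_cr σ P h2 x, ← emb_cl_cr σ P h2 y, blk_mulVec, blk_mulVec, hf_emb σ P hσ2 h1,
    hf_emb σ P hσ2 h1, hA, hE]

theorem blk_det (h1 : hs σ P * P = 1) (h2 : P * hs σ P = 1) (A : GL (Fin k) F)
    (E : GL (Fin m) F) :
    ((psiGL σ P h1 h2 (A, E) : GL (Fin n) F) : Matrix (Fin n) (Fin n) F).det =
      (A : Matrix (Fin k) (Fin k) F).det * (E : Matrix (Fin m) (Fin m) F).det := by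
  rw [psiGL_coe, Matrix.det_conj_of_mul_eq_one h2 h1, Matrix.det_fromBlocks_zero₂₁]

theorem blk_stab (h1 : hs σ P * P = 1) (h2 : P * hs σ P = 1) (W : Submodule F (Fin n → F))
    (hWP : ∀ v, v ∈ W ↔ ∀ j : Fin m, (hs σ P *ᵥ v) (Sum.inr j) = 0)
    (A : GL (Fin k) F) (E : GL (Fin m) F) (w : Fin n → F) (hw : w ∈ W) :
    ((psiGL σ P h1 h2 (A, E) : GL (Fin n) F) : Matrix (Fin n) (Fin n) F) *ᵥ w ∈ W := by
  have hcr : cr σ P w = 0 := funext fun j => (hWP w).mp hw j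
  rw [← emb_cl_cr σ P h2 w, hcr, blk_mulVec, mulVec_zero, hWP]
  intro j
  exact congrFun (cr_emb σ P h1 _ 0) j

end Frame

section Orbits

variable {F : Type*} [Field F] (σ : F →+* F) {n k m : ℕ} (P : Matrix (Fin n) (Fin k ⊕ Fin m) F)

/-- Moving a vector of `UX` by a block element. -/
theorem ux_blk (h1 : hs σ P * P = 1) (h2 : P * hs σ P = 1) (M : Subgroup (GL (Fin n) F))
    (hMU : M ≤ UG σ n) (A : GL (Fin k) F) (E : GL (Fin m) F)
    (hAE : psiGL σ P h1 h2 (A, E) ∈ M) {a : Fin k → F} {b : Fin m → F}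
    (hx : emb P a b ∈ UX σ M) :
    emb P ((A : Matrix (Fin k) (Fin k) F) *ᵥ a) ((E : Matrix (Fin m) (Fin m) F) *ᵥ b) ∈ UX σ M := by
  rw [← blk_mulVec σ P h1 h2]
  exact ux_map σ _ hAE (hMU hAE) hx

/-- The orbit of a mixed vector under the block elements of determinant one. -/
theorem nd_orb (hσ : σ ≠ RingHom.id F) (hσ2 : ∀ a, σ (σ a) = a) (hm : 3 ≤ m)
    (h1 : hs σ P * P = 1) (h2 : P * hs σ P = 1) (M : Subgroup (GL (Fin n) F))
    (hMU : M ≤ UG σ n)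
    (hblk : ∀ (A : GL (Fin k) F) (E : GL (Fin m) F), A ∈ UG σ k → E ∈ UG σ m →
      (A : Matrix (Fin k) (Fin k) F).det * (E : Matrix (Fin m) (Fin m) F).det = 1 →
      psiGL σ P h1 h2 (A, E) ∈ M)
    (a a' : Fin k → F) (b b' : Fin m → F) (hx : emb P a b ∈ UX σ M) (ha : a ≠ 0) (hb : b ≠ 0)
    (ha' : a' ≠ 0) (hb' : b' ≠ 0) (hna : hf σ a a = hf σ a' a') (hnb : hf σ b b = hf σ b' b') :
    emb P a' b' ∈ UX σ M := by
  obtain ⟨A, hAU, hAa⟩ := witt_one σ hσ hσ2 a a' ha ha' hna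
  obtain ⟨E0, hE0U, hE0b⟩ := witt_one σ hσ hσ2 b b' hb hb' hnb
  obtain ⟨d, hdb, hdd⟩ := exists_aniso_perp_vec σ hσ hσ2 hm b'
  have hNA : σ (A : Matrix (Fin k) (Fin k) F).det * (A : Matrix (Fin k) (Fin k) F).det = 1 :=
    det_norm_of_preserves σ _ hAU
  have hNE : σ (E0 : Matrix (Fin m) (Fin m) F).det * (E0 : Matrix (Fin m) (Fin m) F).det = 1 :=
    det_norm_of_preserves σ _ hE0U
  obtain ⟨x, hxdef⟩ : ∃ x, x = (A : Matrix (Fin k) (Fin k) F).det := ⟨_, rfl⟩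
  obtain ⟨y, hydef⟩ : ∃ y, y = (E0 : Matrix (Fin m) (Fin m) F).det := ⟨_, rfl⟩
  rw [← hxdef] at hNA
  rw [← hydef] at hNE
  have hprod : (x * y) * σ (x * y) = 1 := by
    rw [map_mul]
    linear_combination (σ y * y) * hNA + hNE
  have hxy0 : x * y ≠ 0 := by
    intro h0
    rw [h0, zero_mul] at hprod
    exact zero_ne_one hprod
  have hδN : (x * y)⁻¹ * σ (x * y)⁻¹ = 1 := by
    rw [map_inv₀, ← mul_inv, hprod, inv_one]
  have hb'd : hf σ b' d = 0 := by rw [hf_symm σ hσ2, hdb, map_zero]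
  obtain ⟨R, hRU, hRdet, hRfix⟩ := exists_qrefl σ hσ2 d hdd _ hδN
  have hdet : (A : Matrix (Fin k) (Fin k) F).det *
      ((R * E0 : GL (Fin m) F) : Matrix (Fin m) (Fin m) F).det = 1 := by
    rw [Units.val_mul, det_mul, hRdet, ← hxdef, ← hydef]
    have : x * ((x * y)⁻¹ * y) = (x * y) * (x * y)⁻¹ := by ring
    rw [this, mul_inv_cancel₀ hxy0]
  have hmem := hblk A (R * E0) hAU (Subgroup.mul_mem _ hRU hE0U) hdet
  have := ux_blk σ P h1 h2 M hMU A (R * E0) hmem hx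
  rw [hAa, Units.val_mul, ← mulVec_mulVec, hE0b, hRfix b' hb'd] at this
  exact this

end Orbits

section Types

variable {F : Type*} [Field F] (σ : F →+* F) {n k m : ℕ} (P : Matrix (Fin n) (Fin k ⊕ Fin m) F)

theorem ne_zero_of_hf_ne_zero {d : ℕ} {x : Fin d → F} (h : hf σ x x ≠ 0) : x ≠ 0 := by
  rintro rfl
  exact h (hf_zero_left σ 0)

/-- From one mixed vector of non-zero type, mixed vectors of all non-zero types. -/
theorem nd_type [Finite F] (hσ : σ ≠ RingHom.id F) (hσ2 : ∀ a, σ (σ a) = a) (hm : 3 ≤ m)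
    (h1 : hs σ P * P = 1) (M : Subgroup (GL (Fin n) F)) (hMU : M ≤ UG σ n)
    (horb : ∀ (a a' : Fin k → F) (b b' : Fin m → F), emb P a b ∈ UX σ M → a ≠ 0 → b ≠ 0 →
      a' ≠ 0 → b' ≠ 0 → hf σ a a = hf σ a' a' → hf σ b b = hf σ b' b' → emb P a' b' ∈ UX σ M)
    (a1 : Fin k → F) (b1 : Fin m → F) (hx : emb P a1 b1 ∈ UX σ M) (hν1 : hf σ a1 a1 ≠ 0)
    (ν : F) (hνσ : σ ν = ν) :
    ∃ (a : Fin k → F) (b : Fin m → F), emb P a b ∈ UX σ M ∧ hf σ a a = ν := by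
  obtain ⟨ν1, hν1def⟩ : ∃ ν1, ν1 = hf σ a1 a1 := ⟨_, rfl⟩
  obtain ⟨hx0, -⟩ := id hx
  rw [hf_emb σ P hσ2 h1, ← hν1def] at hx0
  rw [← hν1def] at hν1
  have hb1 : hf σ b1 b1 = -ν1 := by linear_combination hx0
  have hν1σ : σ ν1 = ν1 := by rw [hν1def]; exact hf_self_fixed σ hσ2 a1
  have ha1 : a1 ≠ 0 := ne_zero_of_hf_ne_zero σ (by rw [← hν1def]; exact hν1)
  have hb1ne : b1 ≠ 0 := ne_zero_of_hf_ne_zero σ (by rw [hb1]; exact neg_ne_zero.mpr hν1)
  obtain ⟨ε, hε0, hε⟩ := exists_trace_zero_ne σ hσ hσ2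
  obtain ⟨lam, hlam⟩ := Cfsg.Agent.Lib.Helper36.exists_mul_map_eq σ hσ hσ2 (ν / ν1) (by
    rw [map_div₀, hνσ, hν1σ])
  obtain ⟨τ, hτ⟩ : ∃ τ, τ = (lam - 1) / ε - ν1 := ⟨_, rfl⟩
  obtain ⟨d0, hd0b, hd0d⟩ := exists_aniso_perp_vec σ hσ hσ2 hm b1
  obtain ⟨κ0, hκ0⟩ : ∃ κ0, κ0 = hf σ d0 d0 := ⟨_, rfl⟩
  rw [← hκ0] at hd0d
  have hκ0σ : σ κ0 = κ0 := by rw [hκ0]; exact hf_self_fixed σ hσ2 d0
  obtain ⟨l, hl⟩ := Cfsg.Agent.Lib.Helper36.exists_mul_map_eq σ hσ hσ2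
    ((τ * σ τ / ν1 - ν1) / κ0) (by
      rw [map_div₀, map_sub, map_div₀, map_mul, hσ2, hν1σ, hκ0σ, mul_comm])
  obtain ⟨b1', hb1'⟩ : ∃ b1' : Fin m → F, b1' = (-(σ τ) / ν1) • b1 + l • d0 := ⟨_, rfl⟩
  have hb1d0 : hf σ b1 d0 = 0 := by rw [hf_symm σ hσ2, hd0b, map_zero]
  have h_b1b1' : hf σ b1 b1' = τ := by
    rw [hb1', hf_add_right, hf_smul_right, hf_smul_right, hb1, hb1d0, map_div₀, map_neg, hσ2,
      hν1σ]
    field_simp
    ring
  have hlκ : l * σ l * κ0 = τ * σ τ / ν1 - ν1 := by rw [hl, div_mul_cancel₀ _ hd0d]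
  have h_b1'b1' : hf σ b1' b1' = -ν1 := by
    rw [hb1']
    simp only [hf_add_left, hf_add_right, hf_smul_left, hf_smul_right, hb1, hb1d0, hd0b, ← hκ0,
      map_div₀, map_neg, hσ2, hν1σ]
    have : -σ τ / ν1 * (-τ / ν1 * -ν1) = -(τ * σ τ / ν1) := by
      field_simp
    linear_combination this + hlκ
  have hb1'ne : b1' ≠ 0 :=
    ne_zero_of_hf_ne_zero σ (by rw [h_b1'b1']; exact neg_ne_zero.mpr hν1)
  have hy : emb P a1 b1' ∈ UX σ M :=
    horb a1 a1 b1 b1' hx ha1 hb1ne ha1 hb1'ne rfl (by rw [hb1, h_b1'b1'])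
  have key := ux_tv σ hMU hx hy ε hε
  rw [hf_emb σ P hσ2 h1, ← hν1def, h_b1b1', emb_add_smul] at key
  refine ⟨_, _, key, ?_⟩
  have hz : ε * (ν1 + τ) = lam - 1 := by
    rw [hτ]
    field_simp
    ring
  rw [hz]
  have : a1 + (lam - 1) • a1 = lam • a1 := by
    rw [sub_smul, one_smul]
    abel
  rw [this, hf_smul_left, hf_smul_right, ← hν1def, ← mul_assoc, hlam, div_mul_cancel₀ _ hν1]

end Types

section ZeroType

variable {F : Type*} [Field F] (σ : F →+* F) {n k m : ℕ} (P : Matrix (Fin n) (Fin k ⊕ Fin m) F)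

/-- Mixed vectors with isotropic components, from the mixed vectors of non-zero type. -/
theorem nd_zero_tgt [Finite F] (hσ : σ ≠ RingHom.id F) (hσ2 : ∀ a, σ (σ a) = a) (hm : 3 ≤ m)
    (h1 : hs σ P * P = 1) (M : Subgroup (GL (Fin n) F)) (hMU : M ≤ UG σ n)
    (hnz : ∀ (a : Fin k → F) (b : Fin m → F), hf σ a a + hf σ b b = 0 → hf σ a a ≠ 0 →
      emb P a b ∈ UX σ M)
    (a : Fin k → F) (b : Fin m → F) (ha : a ≠ 0) (haa : hf σ a a = 0) (hbb : hf σ b b = 0) :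
    emb P a b ∈ UX σ M := by
  obtain ⟨v, hv⟩ := exists_HP_of_isotropic σ hσ hσ2 a ha haa
  obtain ⟨c0, hc0⟩ := trace_surj σ hσ hσ2 1 (map_one σ)
  obtain ⟨a', ha'⟩ : ∃ a' : Fin k → F, a' = v + c0 • a := ⟨_, rfl⟩
  have haa' : hf σ a a' = 1 := by
    rw [ha', hf_add_right, hf_smul_right, hv.uv hσ2, haa]
    ring
  have ha'a : hf σ a' a = 1 := by rw [hf_symm σ hσ2, haa', map_one]
  have ha'a' : hf σ a' a' = 1 := by
    rw [ha']
    simp only [hf_add_left, hf_add_right, hf_smul_left, hf_smul_right, hv.vv, hv.vu, hv.uv hσ2,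
      haa]
    linear_combination hc0
  obtain ⟨d0, hd0b, hd0d⟩ := exists_aniso_perp_vec σ hσ hσ2 hm b
  obtain ⟨l, hl⟩ := Cfsg.Agent.Lib.Helper36.exists_mul_map_eq σ hσ hσ2 (-1 / hf σ d0 d0) (by
    rw [map_div₀, map_neg, map_one, hf_self_fixed σ hσ2])
  obtain ⟨b', hb'⟩ : ∃ b' : Fin m → F, b' = l • d0 := ⟨_, rfl⟩
  have hb'b : hf σ b' b = 0 := by rw [hb', hf_smul_left, hd0b, mul_zero]
  have hbb' : hf σ b b' = 0 := by rw [hf_symm σ hσ2, hb'b, map_zero]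
  have hb'b' : hf σ b' b' = -1 := by
    rw [hb', hf_smul_left, hf_smul_right, ← mul_assoc, hl, div_mul_cancel₀ _ hd0d]
  obtain ⟨ε, hε0, hε⟩ := exists_trace_zero_ne σ hσ hσ2
  have hσε0 : σ ε ≠ 0 := map_ne_zero_of_invol σ hσ2 hε0
  have hy : emb P a' b' ∈ UX σ M :=
    hnz a' b' (by rw [ha'a', hb'b']; ring) (by rw [ha'a']; exact one_ne_zero)
  have hx0 : emb P (a - ε • a') (b - ε • b') ∈ UX σ M := by
    apply hnz
    · simp only [hf_sub_left, hf_sub_right, hf_smul_left, hf_smul_right, haa, hbb, haa', ha'a,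
        ha'a', hbb', hb'b, hb'b']
      linear_combination (-1 : F) * hε
    · simp only [hf_sub_left, hf_sub_right, hf_smul_left, hf_smul_right, haa, haa', ha'a, ha'a']
      intro hcon
      apply mul_ne_zero hε0 hσε0
      linear_combination hcon + hε
  have key := ux_tv σ hMU hx0 hy ε hε
  rw [hf_emb σ P hσ2 h1, emb_add_smul] at key
  have hθ : hf σ (a - ε • a') a' + hf σ (b - ε • b') b' = 1 := by
    simp only [hf_sub_left, hf_smul_left, haa', ha'a', hbb', hb'b']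
    ring
  rw [hθ, mul_one, sub_add_cancel, sub_add_cancel] at key
  exact key

/-- From a mixed vector with isotropic components to a mixed vector of non-zero type. -/
theorem nd_zero_src (hσ : σ ≠ RingHom.id F) (hσ2 : ∀ a, σ (σ a) = a)
    (h1 : hs σ P * P = 1) (M : Subgroup (GL (Fin n) F)) (hMU : M ≤ UG σ n)
    (horb : ∀ (a a' : Fin k → F) (b b' : Fin m → F), emb P a b ∈ UX σ M → a ≠ 0 → b ≠ 0 →
      a' ≠ 0 → b' ≠ 0 → hf σ a a = hf σ a' a' → hf σ b b = hf σ b' b' → emb P a' b' ∈ UX σ M)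
    (a : Fin k → F) (b : Fin m → F) (hx : emb P a b ∈ UX σ M) (ha : a ≠ 0) (hb : b ≠ 0)
    (haa : hf σ a a = 0) (hbb : hf σ b b = 0) :
    ∃ (a1 : Fin k → F) (b1 : Fin m → F), emb P a1 b1 ∈ UX σ M ∧ hf σ a1 a1 ≠ 0 := by
  obtain ⟨v, hv⟩ := exists_HP_of_isotropic σ hσ hσ2 a ha haa
  obtain ⟨w, hw⟩ := exists_HP_of_isotropic σ hσ hσ2 b hb hbb
  obtain ⟨t, ht⟩ : ∃ t : F, σ t ≠ t := by
    by_contra hcon
    push Not at hcon
    exact hσ (RingHom.ext hcon)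
  have ht0 : t ≠ 0 := by
    rintro rfl
    exact ht (map_zero σ)
  have hσt0 : σ t ≠ 0 := map_ne_zero_of_invol σ hσ2 ht0
  have hy : emb P v (σ t • w) ∈ UX σ M :=
    horb a v b (σ t • w) hx ha hb (hv.symm hσ2).ne_zero
      (smul_ne_zero hσt0 (hw.symm hσ2).ne_zero) (by rw [haa, hv.vv])
      (by rw [hbb, hf_smul_left, hf_smul_right, hw.vv]; ring)
  obtain ⟨ε, hε0, hε⟩ := exists_trace_zero_ne σ hσ hσ2
  have key := ux_tv σ hMU hx hy ε hε
  rw [hf_emb σ P hσ2 h1, hv.uv hσ2, hf_smul_right, hσ2, hw.uv hσ2, mul_one, emb_add_smul] at key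
  refine ⟨_, _, key, ?_⟩
  simp only [hf_add_left, hf_add_right, hf_smul_left, hf_smul_right, haa, hv.vv, hv.vu,
    hv.uv hσ2, map_mul, map_add, map_one]
  intro hcon
  have hσε : σ ε = -ε := by linear_combination hε
  rw [hσε] at hcon
  have h2 : ε * (t - σ t) = 0 := by linear_combination hcon
  rcases mul_eq_zero.mp h2 with h | h
  · exact hε0 h
  · exact ht (by linear_combination -h)

end ZeroType

section Main

variable {F : Type*} [Field F] (σ : F →+* F) {n k m : ℕ} (P : Matrix (Fin n) (Fin k ⊕ Fin m) F)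

/-- An element outside the stabiliser produces a mixed vector in `UX`. -/
theorem nd_mixed [Finite F] (hσ : σ ≠ RingHom.id F) (hσ2 : ∀ a, σ (σ a) = a) (hm : 2 ≤ m)
    (hkm : k < m) (h1 : hs σ P * P = 1) (h2 : P * hs σ P = 1) (W : Submodule F (Fin n → F))
    (hWP : ∀ v, v ∈ W ↔ ∀ j : Fin m, (hs σ P *ᵥ v) (Sum.inr j) = 0)
    (M : Subgroup (GL (Fin n) F)) (hMU : M ≤ UG σ n)
    (hpure : ∀ v, hf σ v v = 0 → (cl σ P v = 0 ∨ cr σ P v = 0) → v ∈ UX σ M)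
    (g0 : GL (Fin n) F) (hg0 : g0 ∈ M) (w1 : Fin n → F) (hw1 : w1 ∈ W)
    (hg0w : (g0 : Matrix (Fin n) (Fin n) F) *ᵥ w1 ∉ W) :
    ∃ (a : Fin k → F) (b : Fin m → F), a ≠ 0 ∧ b ≠ 0 ∧ emb P a b ∈ UX σ M := by
  by_contra hno
  push Not at hno
  have hg0U : ∀ x y, hf σ ((g0 : Matrix (Fin n) (Fin n) F) *ᵥ x)
      ((g0 : Matrix (Fin n) (Fin n) F) *ᵥ y) = hf σ x y := hMU hg0
  obtain ⟨G, hG⟩ : ∃ G, G = (g0 : Matrix (Fin n) (Fin n) F) := ⟨_, rfl⟩
  rw [← hG] at hg0U hg0w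
  obtain ⟨D, hD⟩ : ∃ D, D = hs σ P * G * P := ⟨_, rfl⟩
  have hgP : G * P = P * D := by
    rw [hD, ← Matrix.mul_assoc, ← Matrix.mul_assoc, h2, Matrix.one_mul]
  have hDD : hs σ D * D = 1 := by
    have hgg : hs σ G * G = 1 := hs_mul_self_of_preserves σ _ hg0U
    rw [hD, hs_mul, hs_mul, hs_hs σ hσ2]
    calc hs σ P * (hs σ G * P) * (hs σ P * G * P)
        = hs σ P * (hs σ G * (P * hs σ P) * G) * P := by simp only [Matrix.mul_assoc]
      _ = 1 := by rw [h2, Matrix.mul_one, hgg, Matrix.mul_one, h1]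
  obtain ⟨A, B, C, E, hABCE⟩ : ∃ A B C E, D = fromBlocks A B C E :=
    ⟨_, _, _, _, (fromBlocks_toBlocks D).symm⟩
  have hg0emb : ∀ (a : Fin k → F) (b : Fin m → F),
      G *ᵥ emb P a b = emb P (A *ᵥ a + B *ᵥ b) (C *ᵥ a + E *ᵥ b) := by
    intro a b
    unfold emb
    rw [mulVec_mulVec, hgP, ← mulVec_mulVec, hABCE, fromBlocks_mulVec]
    simp
  rw [hABCE, hs_fromBlocks, fromBlocks_multiply, ← fromBlocks_one, fromBlocks_inj] at hDD
  obtain ⟨-, -, hD21, hD22⟩ := hDD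
  have hz : ∀ z : Fin m → F, hf σ z z = 0 → B *ᵥ z = 0 ∨ E *ᵥ z = 0 := by
    intro z hzz
    by_contra hcon
    push Not at hcon
    have hp : emb P 0 z ∈ UX σ M :=
      hpure _ (by rw [hf_emb σ P hσ2 h1, hzz, hf_zero_left]; ring) (Or.inl (cl_emb σ P h1 0 z))
    have := ux_map σ g0 hg0 (hMU hg0) hp
    rw [← hG, hg0emb, mulVec_zero, mulVec_zero, zero_add, zero_add] at this
    exact hno _ _ hcon.1 hcon.2 this
  by_cases hB : ∀ z : Fin m → F, hf σ z z = 0 → B *ᵥ z = 0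
  · have hB0 : B = 0 := eq_zero_of_isotropic_ker σ hσ hσ2 hm B hB
    rw [hB0, hs_zero, Matrix.zero_mul, zero_add] at hD21 hD22
    have hEE' : E * hs σ E = 1 := mul_eq_one_comm.mp hD22
    have hC0 : C = 0 := by
      calc C = (E * hs σ E) * C := by rw [hEE', Matrix.one_mul]
        _ = 0 := by rw [Matrix.mul_assoc, hD21, Matrix.mul_zero]
    apply hg0w
    have hcr : cr σ P w1 = 0 := funext fun j => (hWP w1).mp hw1 j
    rw [← emb_cl_cr σ P h2 w1, hcr, hg0emb, hC0]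
    simp only [Matrix.zero_mulVec, mulVec_zero, add_zero]
    rw [hWP]
    intro j
    exact congrFun (cr_emb σ P h1 _ 0) j
  · push Not at hB
    obtain ⟨z1, hz1, hBz1⟩ := hB
    have hEz1 : E *ᵥ z1 = 0 := (hz z1 hz1).resolve_left hBz1
    by_cases hE : ∀ z : Fin m → F, hf σ z z = 0 → E *ᵥ z = 0
    · have hE0 : E = 0 := eq_zero_of_isotropic_ker σ hσ hσ2 hm E hE
      rw [hE0, hs_zero, Matrix.zero_mul, add_zero] at hD22
      have hinj : Function.Injective (Matrix.mulVecLin B) := by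
        intro x y hxy
        have := congrArg (fun v => hs σ B *ᵥ v) hxy
        simp only [Matrix.mulVecLin_apply, mulVec_mulVec, hD22, one_mulVec] at this
        exact this
      have := LinearMap.finrank_le_finrank_of_injective hinj
      rw [Module.finrank_fin_fun, Module.finrank_fin_fun] at this
      omega
    · push Not at hE
      obtain ⟨z2, hz2, hEz2⟩ := hE
      have hBz2 : B *ᵥ z2 = 0 := (hz z2 hz2).resolve_right hEz2
      have h12 : hf σ z1 z2 = 0 := by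
        have := hg0U (emb P 0 z1) (emb P 0 z2)
        rw [hg0emb, hg0emb, hf_emb σ P hσ2 h1, hf_emb σ P hσ2 h1] at this
        simp only [mulVec_zero, zero_add, hEz1, hBz2, hf_zero_left, hf_zero_right, add_zero]
          at this
        exact this.symm
      have h21 : hf σ z2 z1 = 0 := by rw [hf_symm σ hσ2, h12, map_zero]
      have h3 := hz (z1 + z2) (by
        rw [hf_add_left, hf_add_right, hf_add_right, hz1, hz2, h12, h21]; ring)
      rw [mulVec_add, mulVec_add, hBz2, hEz1, add_zero, zero_add] at h3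
      rcases h3 with h | h
      · exact hBz1 h
      · exact hEz2 h

/-- **The transvection method for the stabiliser of a non-degenerate subspace.** -/
theorem su_le_of_nondeg_stab_lt [Finite F] (hσ : σ ≠ RingHom.id F) (hσ2 : ∀ a, σ (σ a) = a)
    (hm : 3 ≤ m) (hkm : k < m) (hn : 4 ≤ n) (h1 : hs σ P * P = 1) (h2 : P * hs σ P = 1)
    (W : Submodule F (Fin n → F))
    (hWP : ∀ v, v ∈ W ↔ ∀ j : Fin m, (hs σ P *ᵥ v) (Sum.inr j) = 0)
    (M : Subgroup (GL (Fin n) F)) (hMU : M ≤ UG σ n)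
    (hM : ∀ g : GL (Fin n) F, g ∈ UG σ n → g.1.det = 1 → (∀ w ∈ W, g.1 *ᵥ w ∈ W) → g ∈ M)
    (g0 : GL (Fin n) F) (hg0 : g0 ∈ M) (w1 : Fin n → F) (hw1 : w1 ∈ W)
    (hg0w : (g0 : Matrix (Fin n) (Fin n) F) *ᵥ w1 ∉ W) :
    ∀ g : GL (Fin n) F, g ∈ UG σ n → g.1.det = 1 → g ∈ M := by
  have hblk : ∀ (A : GL (Fin k) F) (E : GL (Fin m) F), A ∈ UG σ k → E ∈ UG σ m →
      (A : Matrix (Fin k) (Fin k) F).det * (E : Matrix (Fin m) (Fin m) F).det = 1 →
      psiGL σ P h1 h2 (A, E) ∈ M := by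
    intro A E hA hE hdet
    apply hM _ (blk_mem_UG σ P hσ2 h1 h2 A E hA hE)
    · rw [blk_det]; exact hdet
    · exact blk_stab σ P h1 h2 W hWP A E
  have hpure : ∀ v, hf σ v v = 0 → (cl σ P v = 0 ∨ cr σ P v = 0) → v ∈ UX σ M := by
    intro v hv hcase
    refine ⟨hv, fun c hc => hM _ (TG_le_UG σ hσ2 (tvGL_mem σ v c hv hc)) ?_ ?_⟩
    · show (tv σ v c).det = 1
      rw [tv_det, hv, mul_zero, add_zero]
    · intro w hw
      show tv σ v c *ᵥ w ∈ W
      rw [tv_mulVec]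
      have hcrw : cr σ P w = 0 := funext fun j => (hWP w).mp hw j
      rcases hcase with h | h
      · have : hf σ w v = 0 := by
          rw [← emb_cl_cr σ P h2 w, ← emb_cl_cr σ P h2 v, hf_emb σ P hσ2 h1, hcrw, h,
            hf_zero_left, hf_zero_right]
          ring
        rw [this, mul_zero, zero_smul, add_zero]
        exact hw
      · have hvW : v ∈ W := by
          rw [hWP]
          intro j
          exact congrFun h j
        exact W.add_mem hw (W.smul_mem _ hvW)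
  have horb := nd_orb σ P hσ hσ2 hm h1 h2 M hMU hblk
  obtain ⟨a0, b0, ha0, hb0, hx0⟩ := nd_mixed σ P hσ hσ2 (by omega) hkm h1 h2 W hWP M hMU hpure
    g0 hg0 w1 hw1 hg0w
  obtain ⟨a1, b1, hx1, hν1⟩ : ∃ (a1 : Fin k → F) (b1 : Fin m → F),
      emb P a1 b1 ∈ UX σ M ∧ hf σ a1 a1 ≠ 0 := by
    by_cases h : hf σ a0 a0 = 0
    · have hb : hf σ b0 b0 = 0 := by
        obtain ⟨hiso, -⟩ := id hx0
        rw [hf_emb σ P hσ2 h1, h, zero_add] at hiso
        exact hiso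
      exact nd_zero_src σ P hσ hσ2 h1 M hMU horb a0 b0 hx0 ha0 hb0 h hb
    · exact ⟨a0, b0, hx0, h⟩
  have hnz : ∀ (a : Fin k → F) (b : Fin m → F), hf σ a a + hf σ b b = 0 → hf σ a a ≠ 0 →
      emb P a b ∈ UX σ M := by
    intro a b hab hνa
    obtain ⟨a2, b2, hx2, hν2⟩ := nd_type σ P hσ hσ2 hm h1 M hMU horb a1 b1 hx1 hν1
      (hf σ a a) (hf_self_fixed σ hσ2 a)
    obtain ⟨hiso2, -⟩ := id hx2
    rw [hf_emb σ P hσ2 h1] at hiso2
    have hb2 : hf σ b2 b2 = hf σ b b := by linear_combination hiso2 - hab - hν2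
    apply horb a2 a b2 b hx2
    · exact ne_zero_of_hf_ne_zero σ (by rw [hν2]; exact hνa)
    · apply ne_zero_of_hf_ne_zero σ
      rw [hb2]
      intro h0
      apply hνa
      linear_combination hab - h0
    · exact ne_zero_of_hf_ne_zero σ hνa
    · apply ne_zero_of_hf_ne_zero σ
      intro h0
      apply hνa
      linear_combination hab - h0
    · exact hν2
    · exact hb2
  have hall : ∀ v : Fin n → F, hf σ v v = 0 → v ∈ UX σ M := by
    intro v hv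
    by_cases hl : cl σ P v = 0
    · exact hpure v hv (Or.inl hl)
    by_cases hr : cr σ P v = 0
    · exact hpure v hv (Or.inr hr)
    rw [← emb_cl_cr σ P h2 v] at hv ⊢
    rw [hf_emb σ P hσ2 h1] at hv
    by_cases h0 : hf σ (cl σ P v) (cl σ P v) = 0
    · exact nd_zero_tgt σ P hσ hσ2 hm h1 M hMU hnz _ _ hl h0 (by rw [h0, zero_add] at hv; exact hv)
    · exact hnz _ _ hv h0
  have hTG : TG σ n ≤ M := by
    unfold TG
    rw [Subgroup.closure_le]
    rintro g ⟨z, c, hz, hc, hg⟩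
    obtain ⟨_, h1⟩ := hall z hz
    have : g = tvGL σ z c hz := Units.ext hg
    rw [this]
    exact h1 c hc
  intro g hg hdet
  exact hTG (su_gen σ hσ hσ2 n (by omega) (fun h3 => absurd h3 (by omega)) g hg hdet)

end Main

end Cfsg.Agent.Lib.Helper13
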