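/-
helper13: the stabiliser of a non-degenerate subspace `W` with `2 dim W < n` is maximal in `SU_n(q)`,
in the Prelude vocabulary.
-/
import Mathlib
import Cfsg.Agent.Lib.Helper13.UnitNondeg
import Cfsg.Agent.Lib.Helper13.UnitMaxBridge

set_option autoImplicit false

namespace Cfsg.Agent.Lib.Helper13

open Matrix Module Cfsg.Agent.S0837 Cfsg.Agent.S0781 Cfsg.Agent.S2644 Cfsg.Agent.Lib.Helper37

/-- The stabiliser of a non-zero non-degenerate subspace `W` with `2 dim W < n` is maximal in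
`SU_n(q)`, `n ≥ 5`. -/
theorem isMaximalIn_stab_nondeg {F : Type*} [Field F] [Fintype F] (n q : ℕ)
    (hF : Fintype.card F = q ^ 2) (hn : 5 ≤ n) (W : Submodule F (Fin n → F)) (hW0 : W ≠ ⊥)
    (hW : Cfsg.Geo.IsNondegenerateOn (Cfsg.hermForm n F q) W)
    (hdim : 2 * Module.finrank F W < n) :
    Cfsg.Geo.IsMaximalIn (Cfsg.GU n F q ⊓ Cfsg.Geo.specialLinear (Fin n) F)
      (Cfsg.Geo.subspaceStabilizer W ⊓ (Cfsg.GU n F q ⊓ Cfsg.Geo.specialLinear (Fin n) F)) := by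
  classical
  obtain ⟨σ, hσ, hσ2⟩ := exists_frob hF
  have hne : σ ≠ RingHom.id F := frob_ne_id σ hF hσ
  have hWσ : ∀ u ∈ W, (∀ v ∈ W, hf σ u v = 0) → u = 0 := by
    intro u hu h
    by_contra hu0
    obtain ⟨-, x, hx, hne'⟩ := hW u hu hu0
    apply hne'
    rw [hermForm_eq_hf σ hσ]
    exact h x hx
  obtain ⟨m, P, hkm, h1, h2, hWP⟩ := main_frame σ hne hσ2 W hWσ
  have hk1 : 1 ≤ finrank F W := Submodule.one_le_finrank_iff.mpr hW0
  have hK : ∀ g : GL (Fin n) F, g ∈ Cfsg.GU n F q ⊓ Cfsg.Geo.specialLinear (Fin n) F ↔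
      g ∈ UG σ n ∧ (g : Matrix (Fin n) (Fin n) F).det = 1 := by
    intro g
    rw [Subgroup.mem_inf, mem_GU_iff_mem_UG σ hσ, mem_specialLinear_iff]
  constructor
  · -- proper containment
    apply lt_of_le_of_ne inf_le_right
    intro heq
    obtain ⟨i0, hi0⟩ : ∃ i0 : Fin (finrank F W), i0 = ⟨0, by omega⟩ := ⟨_, rfl⟩
    obtain ⟨j0, hj0⟩ : ∃ j0 : Fin m, j0 = ⟨0, by omega⟩ := ⟨_, rfl⟩
    obtain ⟨l, hl⟩ := Cfsg.Agent.Lib.Helper36.exists_mul_map_eq σ hne hσ2 (-1) (by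
      rw [map_neg, map_one])
    obtain ⟨a, ha⟩ : ∃ a : Fin (finrank F W) → F, a = Pi.single i0 1 := ⟨_, rfl⟩
    obtain ⟨b, hb⟩ : ∃ b : Fin m → F, b = l • Pi.single j0 1 := ⟨_, rfl⟩
    have haa : hf σ a a = 1 := by rw [ha, hf_single_single, if_pos rfl]
    have hbb : hf σ b b = -1 := by
      rw [hb, hf_smul_left, hf_smul_right, hf_single_single, if_pos rfl, mul_one]
      exact hl
    have hb0 : b ≠ 0 := ne_zero_of_hf_ne_zero σ (by rw [hbb]; exact neg_ne_zero.mpr one_ne_zero)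
    have hxx : hf σ (emb P a b) (emb P a b) = 0 := by
      rw [hf_emb σ P hσ2 h1, haa, hbb]
      ring
    obtain ⟨c, hc0, hc⟩ := exists_trace_zero_ne σ hne hσ2
    have ht : tvGL σ (emb P a b) c hxx ∈
        Cfsg.GU n F q ⊓ Cfsg.Geo.specialLinear (Fin n) F := by
      rw [hK]
      refine ⟨TG_le_UG σ hσ2 (tvGL_mem σ _ c hxx hc), ?_⟩
      show (tv σ (emb P a b) c).det = 1
      rw [tv_det, hxx, mul_zero, add_zero]
    rw [← heq] at ht
    have hwW : emb P a 0 ∈ W := by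
      rw [hWP]
      intro j
      exact congrFun (cr_emb σ P h1 a 0) j
    have h1' := (mem_subspaceStabilizer_iff W _).mp ht.1 _ hwW
    have h2' : ((tvGL σ (emb P a b) c hxx : GL (Fin n) F) : Matrix (Fin n) (Fin n) F) *ᵥ
        emb P a 0 = emb P a 0 + (c * hf σ (emb P a 0) (emb P a b)) • emb P a b :=
      tv_mulVec σ _ c _
    rw [h2', hf_emb σ P hσ2 h1, haa, hf_zero_left, add_zero, mul_one] at h1'
    have h3 : c • emb P a b ∈ W := by
      have := W.sub_mem h1' hwW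
      rwa [add_sub_cancel_left] at this
    have h4 : emb P a b ∈ W := by
      have := W.smul_mem c⁻¹ h3
      rwa [smul_smul, inv_mul_cancel₀ hc0, one_smul] at this
    rw [hWP] at h4
    apply hb0
    rw [← cr_emb σ P h1 a b]
    funext j
    exact h4 j
  · intro M hHM hMK
    by_cases hMH : M = Cfsg.Geo.subspaceStabilizer W ⊓
        (Cfsg.GU n F q ⊓ Cfsg.Geo.specialLinear (Fin n) F)
    · exact Or.inl hMH
    · right
      have hnot : ¬ M ≤ Cfsg.Geo.subspaceStabilizer W ⊓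
          (Cfsg.GU n F q ⊓ Cfsg.Geo.specialLinear (Fin n) F) := fun h => hMH (le_antisymm h hHM)
      obtain ⟨g0, hg0M, hg0⟩ := SetLike.not_le_iff_exists.mp hnot
      have hg0K := hMK hg0M
      have hg0S : g0 ∉ Cfsg.Geo.subspaceStabilizer W := fun h => hg0 ⟨h, hg0K⟩
      rw [mem_subspaceStabilizer_iff] at hg0S
      push Not at hg0S
      obtain ⟨w1, hw1, hg0w⟩ := hg0S
      have hMU : M ≤ UG σ n := fun g hg => ((hK g).mp (hMK hg)).1
      have hM : ∀ g : GL (Fin n) F, g ∈ UG σ n → g.1.det = 1 → (∀ w ∈ W, g.1 *ᵥ w ∈ W) → g ∈ M := by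
        intro g hgU hdet hgW
        apply hHM
        exact ⟨(mem_subspaceStabilizer_iff W g).mpr hgW, (hK g).mpr ⟨hgU, hdet⟩⟩
      have key := su_le_of_nondeg_stab_lt σ P hne hσ2 (by omega) (by omega) (by omega) h1 h2 W hWP
        M hMU hM g0 hg0M w1 hw1 hg0w
      apply le_antisymm hMK
      intro g hg
      obtain ⟨hgU, hdet⟩ := (hK g).mp hg
      exact key g hgU hdet

end Cfsg.Agent.Lib.Helper13
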