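/-
helper13: overgroups of the special unitary group in the special linear group.  General
transvections `x ↦ x + h(x,w) u` in matrix form, additive subgroups of the standard hermitian space
invariant under `SU`, and linear maps preserving the isotropic cone.
-/
import Mathlib
import Cfsg.Agent.Lib.Helper13.UnitNondeg

set_option autoImplicit false

namespace Cfsg.Agent.Lib.Helper13

open Matrix Module Cfsg.Agent.S0837 Cfsg.Agent.S0781 Cfsg.Agent.S2644 Cfsg.Agent.Lib.Helper37

section Gtv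

variable {F : Type*} [Field F] (σ : F →+* F) {n : ℕ}

/-- The matrix of the general transvection `x ↦ x + h(x,w) u`. -/
def gtv (u w : Fin n → F) : Matrix (Fin n) (Fin n) F := 1 + vecMulVec u (σ ∘ w)

theorem gtv_mulVec (u w x : Fin n → F) : gtv σ u w *ᵥ x = x + hf σ x w • u := by
  unfold gtv
  rw [Matrix.add_mulVec, Matrix.one_mulVec, vecMulVec_hf]

theorem gtv_mul (u w w' : Fin n → F) (h : hf σ u w = 0) :
    gtv σ u w * gtv σ u w' = gtv σ u (w + w') := by
  apply Matrix.toLin'.injective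
  apply LinearMap.ext
  intro x
  rw [Matrix.toLin'_apply, Matrix.toLin'_apply, ← mulVec_mulVec, gtv_mulVec, gtv_mulVec, gtv_mulVec,
    hf_add_left, hf_smul_left, h, hf_add_right, mul_zero, add_zero, add_smul]
  abel

theorem gtv_zero (u : Fin n → F) : gtv σ u 0 = 1 := by
  apply Matrix.toLin'.injective
  apply LinearMap.ext
  intro x
  rw [Matrix.toLin'_apply, gtv_mulVec, hf_zero_right, zero_smul, add_zero, Matrix.toLin'_one,
    LinearMap.id_apply]

theorem hf_neg_right (u w : Fin n → F) : hf σ u (-w) = -hf σ u w := by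
  simp [hf]

/-- The general transvection as an element of `GL`. -/
def gtvGL (u w : Fin n → F) (h : hf σ u w = 0) : GL (Fin n) F :=
  ⟨gtv σ u w, gtv σ u (-w),
    by rw [gtv_mul σ u w (-w) h, add_neg_cancel, gtv_zero],
    by rw [gtv_mul σ u (-w) w (by rw [hf_neg_right, h, neg_zero]), neg_add_cancel, gtv_zero]⟩

theorem gtvGL_coe (u w : Fin n → F) (h : hf σ u w = 0) :
    ((gtvGL σ u w h : GL (Fin n) F) : Matrix (Fin n) (Fin n) F) = gtv σ u w := rfl

theorem gtvGL_congr {u u' w w' : Fin n → F} (hu : u = u') (hw : w = w') (h : hf σ u w = 0) :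
    gtvGL σ u w h = gtvGL σ u' w' (by rw [← hu, ← hw]; exact h) := by
  subst hu
  subst hw
  rfl

theorem gtvGL_mul (u w w' : Fin n → F) (h : hf σ u w = 0) (h' : hf σ u w' = 0) :
    gtvGL σ u w h * gtvGL σ u w' h' =
      gtvGL σ u (w + w') (by rw [hf_add_right, h, h', add_zero]) := by
  apply Units.ext
  rw [Units.val_mul, gtvGL_coe, gtvGL_coe, gtvGL_coe, gtv_mul σ u w w' h]

theorem gtvGL_inv (u w : Fin n → F) (h : hf σ u w = 0) :
    (gtvGL σ u w h)⁻¹ = gtvGL σ u (-w) (by rw [hf_neg_right, h, neg_zero]) := by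
  apply Units.ext
  rfl

theorem gtv_det (u w : Fin n → F) (h : hf σ u w = 0) : (gtv σ u w).det = 1 := by
  unfold gtv
  rw [vecMulVec_eq Unit, det_one_add_replicateCol_mul_replicateRow]
  have : (σ ∘ w) ⬝ᵥ u = hf σ u w := by
    unfold hf dotProduct
    refine Finset.sum_congr rfl fun i _ => ?_
    simp only [Function.comp_apply]
    ring
  rw [this, h, add_zero]

/-- Conjugating a general transvection. -/
theorem conj_gtvGL (hσ2 : ∀ a, σ (σ a) = a) (g : GL (Fin n) F) (u w : Fin n → F)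
    (h : hf σ u w = 0)
    (h' : hf σ ((g : Matrix (Fin n) (Fin n) F) *ᵥ u)
      (hs σ ((g⁻¹ : GL (Fin n) F) : Matrix (Fin n) (Fin n) F) *ᵥ w) = 0) :
    g * gtvGL σ u w h * g⁻¹ = gtvGL σ ((g : Matrix (Fin n) (Fin n) F) *ᵥ u)
      (hs σ ((g⁻¹ : GL (Fin n) F) : Matrix (Fin n) (Fin n) F) *ᵥ w) h' := by
  apply Units.ext
  rw [Units.val_mul, Units.val_mul, gtvGL_coe, gtvGL_coe]
  apply Matrix.toLin'.injective
  apply LinearMap.ext
  intro x
  rw [Matrix.toLin'_apply, Matrix.toLin'_apply, ← mulVec_mulVec, ← mulVec_mulVec, gtv_mulVec,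
    gtv_mulVec, mulVec_add, mulVec_smul, mulVec_mulVec, ← Units.val_mul, mul_inv_cancel,
    Units.val_one, one_mulVec, hf_adjoint_left σ hσ2]

theorem hf_conj_pair (hσ2 : ∀ a, σ (σ a) = a) (g : GL (Fin n) F) (u w : Fin n → F) :
    hf σ ((g : Matrix (Fin n) (Fin n) F) *ᵥ u)
      (hs σ ((g⁻¹ : GL (Fin n) F) : Matrix (Fin n) (Fin n) F) *ᵥ w) = hf σ u w := by
  rw [← hf_adjoint_left σ hσ2, mulVec_mulVec, ← Units.val_mul, inv_mul_cancel, Units.val_one,
    one_mulVec]

/-- For a unitary `s`, the adjoint of the inverse is `s`. -/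
theorem hs_inv_of_mem_UG (hσ2 : ∀ a, σ (σ a) = a) (s : GL (Fin n) F) (hs' : s ∈ UG σ n) :
    hs σ ((s⁻¹ : GL (Fin n) F) : Matrix (Fin n) (Fin n) F) = (s : Matrix (Fin n) (Fin n) F) := by
  have h1 : hs σ (s : Matrix (Fin n) (Fin n) F) * (s : Matrix (Fin n) (Fin n) F) = 1 :=
    hs_mul_self_of_preserves σ _ hs'
  have h2 : ((s⁻¹ : GL (Fin n) F) : Matrix (Fin n) (Fin n) F) =
      hs σ (s : Matrix (Fin n) (Fin n) F) := by
    have h3 : ((s⁻¹ : GL (Fin n) F) : Matrix (Fin n) (Fin n) F) * (s : Matrix (Fin n) (Fin n) F)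
        = 1 := by rw [← Units.val_mul, inv_mul_cancel, Units.val_one]
    calc ((s⁻¹ : GL (Fin n) F) : Matrix (Fin n) (Fin n) F)
        = ((s⁻¹ : GL (Fin n) F) : Matrix (Fin n) (Fin n) F) *
          ((s : Matrix (Fin n) (Fin n) F) * ((s⁻¹ : GL (Fin n) F) : Matrix (Fin n) (Fin n) F)) := by
          rw [← Units.val_mul, mul_inv_cancel, Units.val_one, Matrix.mul_one]
      _ = hs σ (s : Matrix (Fin n) (Fin n) F) * (s : Matrix (Fin n) (Fin n) F) *
          ((s⁻¹ : GL (Fin n) F) : Matrix (Fin n) (Fin n) F) := by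
          rw [h1, ← Matrix.mul_assoc, h3]
      _ = hs σ (s : Matrix (Fin n) (Fin n) F) := by
          rw [Matrix.mul_assoc, ← Units.val_mul, mul_inv_cancel, Units.val_one, Matrix.mul_one]
  rw [h2, hs_hs σ hσ2]

/-- Conjugating a general transvection by a unitary element. -/
theorem conj_gtvGL_unitary (hσ2 : ∀ a, σ (σ a) = a) (s : GL (Fin n) F) (hs' : s ∈ UG σ n)
    (u w : Fin n → F) (h : hf σ u w = 0) :
    s * gtvGL σ u w h * s⁻¹ = gtvGL σ ((s : Matrix (Fin n) (Fin n) F) *ᵥ u)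
      ((s : Matrix (Fin n) (Fin n) F) *ᵥ w) (by rw [hs', h]) := by
  have h' := hf_conj_pair σ hσ2 s u w
  rw [h] at h'
  rw [conj_gtvGL σ hσ2 s u w h h']
  exact gtvGL_congr σ rfl (by rw [hs_inv_of_mem_UG σ hσ2 s hs']) h'

/-- The unitary transvection is a general transvection. -/
theorem tv_eq_gtv (hσ2 : ∀ a, σ (σ a) = a) (u : Fin n → F) (c : F) :
    tv σ u c = gtv σ u (σ c • u) := by
  apply Matrix.toLin'.injective
  apply LinearMap.ext
  intro x
  rw [Matrix.toLin'_apply, Matrix.toLin'_apply, tv_mulVec, gtv_mulVec, hf_smul_right, hσ2]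

end Gtv

section Invariant

variable {F : Type*} [Field F] (σ : F →+* F) {n : ℕ}

/-- Every vector is a linear combination of isotropic vectors (dimension at least two). -/
theorem span_isotropic_eq_top [Finite F] (hσ : σ ≠ RingHom.id F) (hσ2 : ∀ a, σ (σ a) = a)
    (hn : 2 ≤ n) : Submodule.span F {z : Fin n → F | hf σ z z = 0} = ⊤ := by
  by_contra hne
  obtain ⟨f, hf0, hfS⟩ :=
    Submodule.exists_dual_map_eq_bot_of_lt_top (lt_top_iff_ne_top.mpr hne) inferInstance
  apply hf0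
  have hker : ∀ z : Fin n → F, hf σ z z = 0 → f z = 0 := by
    intro z hz
    have : f z ∈ (Submodule.span F {z : Fin n → F | hf σ z z = 0}).map f :=
      Submodule.mem_map_of_mem (Submodule.subset_span hz)
    rw [hfS] at this
    exact this
  have hN := eq_zero_of_isotropic_ker σ hσ hσ2 hn
    (Matrix.of fun (_ : Unit) (j : Fin n) => f (Pi.single j 1)) (by
      intro z hz
      funext i
      rw [Matrix.mulVec, Pi.zero_apply]
      unfold dotProduct
      simp only [Matrix.of_apply]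
      have h1 : f z = ∑ j, z j * f (Pi.single j 1) := by
        conv_lhs => rw [pi_eq_sum_univ' z]
        rw [map_sum]
        refine Finset.sum_congr rfl fun j _ => ?_
        rw [map_smul, smul_eq_mul]
      rw [← hker z hz, h1]
      exact Finset.sum_congr rfl fun j _ => mul_comm _ _)
  apply LinearMap.ext
  intro x
  rw [LinearMap.zero_apply]
  have h1 : f x = ∑ j, x j * f (Pi.single j 1) := by
    conv_lhs => rw [pi_eq_sum_univ' x]
    rw [map_sum]
    refine Finset.sum_congr rfl fun j _ => ?_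
    rw [map_smul, smul_eq_mul]
  rw [h1]
  apply Finset.sum_eq_zero
  intro j _
  have := congrFun (congrFun hN ()) j
  rw [Matrix.of_apply, Matrix.zero_apply] at this
  rw [this, mul_zero]

/-- An additive subgroup of the standard hermitian space of dimension at least three which is
invariant under the special unitary group and non-zero is everything. -/
theorem addSubgroup_eq_top_of_su_invariant [Finite F] (hσ : σ ≠ RingHom.id F)
    (hσ2 : ∀ a, σ (σ a) = a) (hn : 3 ≤ n) (L : AddSubgroup (Fin n → F))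
    (hinv : ∀ t : GL (Fin n) F, t ∈ UG σ n → (t : Matrix (Fin n) (Fin n) F).det = 1 →
      ∀ b ∈ L, (t : Matrix (Fin n) (Fin n) F) *ᵥ b ∈ L)
    (hne : ∃ b ∈ L, b ≠ 0) : ∀ b : Fin n → F, b ∈ L := by
  obtain ⟨b0, hb0L, hb0⟩ := hne
  -- a non-zero isotropic vector in `L`
  obtain ⟨z0, hz0L, hz0, hz0z0⟩ : ∃ z0 ∈ L, z0 ≠ 0 ∧ hf σ z0 z0 = 0 := by
    by_cases hiso : hf σ b0 b0 = 0
    · exact ⟨b0, hb0L, hb0, hiso⟩
    obtain ⟨ν, hν⟩ : ∃ ν, ν = hf σ b0 b0 := ⟨_, rfl⟩
    rw [← hν] at hiso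
    have hνσ : σ ν = ν := by rw [hν]; exact hf_self_fixed σ hσ2 b0
    obtain ⟨i0, hi0⟩ : ∃ i0 : Fin n, i0 = ⟨0, by omega⟩ := ⟨_, rfl⟩
    obtain ⟨i1, hi1⟩ : ∃ i1 : Fin n, i1 = ⟨1, by omega⟩ := ⟨_, rfl⟩
    obtain ⟨i2, hi2⟩ : ∃ i2 : Fin n, i2 = ⟨2, by omega⟩ := ⟨_, rfl⟩
    have h01 : i0 ≠ i1 := by rw [hi0, hi1]; intro h; rw [Fin.ext_iff] at h; simp at h
    have h02 : i0 ≠ i2 := by rw [hi0, hi2]; intro h; rw [Fin.ext_iff] at h; simp at h
    have h12 : i1 ≠ i2 := by rw [hi1, hi2]; intro h; rw [Fin.ext_iff] at h; simp at h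
    obtain ⟨l, hl⟩ := Cfsg.Agent.Lib.Helper36.exists_mul_map_eq σ hσ hσ2 ν hνσ
    obtain ⟨ζ, hζ⟩ := Cfsg.Agent.Lib.Helper36.exists_mul_map_eq σ hσ hσ2 (-1) (by
      rw [map_neg, map_one])
    have hr : hf σ (l • (Pi.single i0 1 : Fin n → F)) (l • Pi.single i0 1) = hf σ b0 b0 := by
      rw [hf_smul_left, hf_smul_right, hf_single_single, if_pos rfl, mul_one, hl, hν]
    have hr0 : l • (Pi.single i0 1 : Fin n → F) ≠ 0 :=
      ne_zero_of_hf_ne_zero σ (by rw [hr, ← hν]; exact hiso)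
    obtain ⟨T, hTU, hTb⟩ := witt_one σ hσ hσ2 _ b0 hr0 hb0 hr
    obtain ⟨z, hz⟩ : ∃ z : Fin n → F,
        z = (T : Matrix (Fin n) (Fin n) F) *ᵥ (Pi.single i1 1 + ζ • Pi.single i2 1) := ⟨_, rfl⟩
    have hzz : hf σ z z = 0 := by
      rw [hz, hTU]
      simp only [hf_add_left, hf_add_right, hf_smul_left, hf_smul_right, hf_single_single,
        if_neg h12, if_neg (Ne.symm h12), if_true]
      linear_combination hζ
    have hzb : hf σ z b0 = 0 := by
      rw [hz, ← hTb, hTU]
      simp only [hf_add_left, hf_smul_left, hf_smul_right, hf_single_single,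
        if_neg (Ne.symm h01), if_neg (Ne.symm h02)]
      ring
    have hbz : hf σ b0 z = 0 := by rw [hf_symm σ hσ2, hzb, map_zero]
    have hz0 : z ≠ 0 := by
      intro h0
      have h1 : hf σ z ((T : Matrix (Fin n) (Fin n) F) *ᵥ Pi.single i1 1) = 1 := by
        rw [hz, hTU]
        simp only [hf_add_left, hf_smul_left, hf_single_single, if_neg (Ne.symm h12), if_true]
        ring
      rw [h0, hf_zero_left] at h1
      exact zero_ne_one h1
    -- the Siegel element
    obtain ⟨y, hy⟩ : ∃ y : Fin n → F, y = ν⁻¹ • b0 := ⟨_, rfl⟩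
    have hyz : hf σ y z = 0 := by rw [hy, hf_smul_left, hbz, mul_zero]
    obtain ⟨β, hβ⟩ := trace_surj σ hσ hσ2 (-hf σ y y) (by rw [map_neg, hf_self_fixed σ hσ2])
    have hβ' : β + σ β + hf σ y y = 0 := by linear_combination hβ
    have hsU := siegGL_mem_UG σ hσ2 z y β hzz hyz hβ'
    have hsdet : ((siegGL σ hσ2 z y β hzz hyz hβ' : GL (Fin n) F) :
        Matrix (Fin n) (Fin n) F).det = 1 := sieg_det σ hσ2 z y β hzz hyz
    have hsb := hinv _ hsU hsdet b0 hb0L
    have hsv : ((siegGL σ hσ2 z y β hzz hyz hβ' : GL (Fin n) F) :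
        Matrix (Fin n) (Fin n) F) = sieg σ z y β := rfl
    have hcalc : sieg σ z y β *ᵥ b0 = b0 - z := by
      rw [sieg_mulVec, hbz, zero_smul, add_zero, hy, hf_smul_right, ← hν, map_inv₀, hνσ,
        inv_mul_cancel₀ hiso, one_smul]
    rw [hsv, hcalc] at hsb
    refine ⟨z, ?_, hz0, hzz⟩
    have := L.sub_mem hb0L hsb
    rwa [sub_sub_cancel] at this
  -- all isotropic vectors
  have hiso : ∀ z : Fin n → F, hf σ z z = 0 → z ∈ L := by
    intro z hz
    by_cases h0 : z = 0
    · rw [h0]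
      exact L.zero_mem
    obtain ⟨t, ht, htz⟩ := rel_isotropic σ hσ hσ2 hn z0 z hz0 h0 hz0z0 hz
    rw [← htz]
    exact hinv t (TG_le_UG σ hσ2 ht) (det_of_mem_TG σ t ht) z0 hz0L
  -- everything
  have hall : ∀ b : Fin n → F, ∀ a : F, a • b ∈ L := by
    intro b
    have hb : b ∈ Submodule.span F {z : Fin n → F | hf σ z z = 0} := by
      rw [span_isotropic_eq_top σ hσ hσ2 (by omega)]
      exact Submodule.mem_top
    induction hb using Submodule.span_induction with
    | mem x hx =>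
      intro a
      apply hiso
      rw [hf_smul_left, hf_smul_right, hx]
      ring
    | zero =>
      intro a
      rw [smul_zero]
      exact L.zero_mem
    | add x y _ _ hx hy =>
      intro a
      rw [smul_add]
      exact L.add_mem (hx a) (hy a)
    | smul c x _ hx =>
      intro a
      rw [smul_smul]
      exact hx _
  intro b
  have := hall b 1
  rwa [one_smul] at this

end Invariant

section Cone

variable {F : Type*} [Field F] (σ : F →+* F) {n : ℕ}

/-- Two distinct elements of norm one different from one. -/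
theorem exists_two_norm_one (hσ : σ ≠ RingHom.id F) (hσ2 : ∀ a, σ (σ a) = a) :
    ∃ μ μ' : F, μ * σ μ = 1 ∧ μ' * σ μ' = 1 ∧ μ ≠ 1 ∧ μ' ≠ 1 ∧ μ ≠ μ' := by
  obtain ⟨t, ht, htr⟩ : ∃ t : F, σ t ≠ t ∧ t + σ t ≠ 0 := by
    obtain ⟨t0, ht0⟩ := trace_surj σ hσ hσ2 1 (map_one σ)
    by_cases h : σ t0 = t0
    · obtain ⟨ε, hε0, hε⟩ := exists_trace_zero_ne σ hσ hσ2
      have h2 : 2 * t0 = 1 := by rw [h] at ht0; linear_combination ht0
      refine ⟨t0 + ε, ?_, ?_⟩
      · rw [map_add, h]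
        intro hcon
        apply hε0
        have h3 : 2 * ε = 0 := by linear_combination hε - hcon
        calc ε = (2 * t0) * ε := by rw [h2, one_mul]
          _ = t0 * (2 * ε) := by ring
          _ = 0 := by rw [h3, mul_zero]
      · rw [map_add, h]
        intro hcon
        apply one_ne_zero (α := F)
        linear_combination hcon - hε - h2
    · exact ⟨t0, h, by rw [ht0]; exact one_ne_zero⟩
  have ht0 : t ≠ 0 := by
    rintro rfl
    exact ht (map_zero σ)
  have hσt0 : σ t ≠ 0 := map_ne_zero_of_invol σ hσ2 ht0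
  obtain ⟨μ, hμ⟩ : ∃ μ, μ = t / σ t := ⟨_, rfl⟩
  have hμt : μ * σ t = t := by rw [hμ, div_mul_cancel₀ _ hσt0]
  have hμ1 : μ * σ μ = 1 := by
    rw [hμ, map_div₀, hσ2]
    field_simp
  have hμne : μ ≠ 1 := by
    intro h
    rw [h, one_mul] at hμt
    exact ht hμt
  have hμ0 : μ ≠ 0 := by
    rintro rfl
    rw [zero_mul] at hμ1
    exact zero_ne_one hμ1
  have hμ2 : μ * μ ≠ 1 := by
    intro h
    have h3 : (t - σ t) * (t + σ t) = 0 := by
      have : μ * μ * (σ t * σ t) = t * t := by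
        calc μ * μ * (σ t * σ t) = (μ * σ t) * (μ * σ t) := by ring
          _ = t * t := by rw [hμt]
      rw [h, one_mul] at this
      linear_combination -this
    rcases mul_eq_zero.mp h3 with h4 | h4
    · exact ht (by linear_combination -h4)
    · exact htr h4
  refine ⟨μ, μ * μ, hμ1, ?_, hμne, hμ2, ?_⟩
  · rw [map_mul]
    calc μ * μ * (σ μ * σ μ) = (μ * σ μ) * (μ * σ μ) := by ring
      _ = 1 := by rw [hμ1, one_mul]
  · intro h
    apply hμne
    have : μ * (μ - 1) = 0 := by linear_combination -h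
    rcases mul_eq_zero.mp this with h5 | h5
    · exact absurd h5 hμ0
    · linear_combination h5

/-- A matrix mapping isotropic vectors to isotropic vectors rescales the hermitian form. -/
theorem sim_of_cone [Finite F] (hσ : σ ≠ RingHom.id F) (hσ2 : ∀ a, σ (σ a) = a) (hn : 2 ≤ n)
    (G : Matrix (Fin n) (Fin n) F)
    (hG : ∀ z : Fin n → F, hf σ z z = 0 → hf σ (G *ᵥ z) (G *ᵥ z) = 0) :
    ∃ c : F, ∀ x y, hf σ (G *ᵥ x) (G *ᵥ y) = c * hf σ x y := by
  obtain ⟨ζ, hζ⟩ := Cfsg.Agent.Lib.Helper36.exists_mul_map_eq σ hσ hσ2 (-1) (by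
    rw [map_neg, map_one])
  obtain ⟨μ, μ', hμ, hμ', hμ1, hμ'1, hμμ'⟩ := exists_two_norm_one σ hσ hσ2
  have hζ0 : ζ ≠ 0 := by
    rintro rfl
    rw [zero_mul] at hζ
    have : (1 : F) = 0 := by linear_combination hζ
    exact one_ne_zero this
  -- the key computation
  have key : ∀ i j : Fin n, i ≠ j →
      hf σ (G *ᵥ Pi.single i 1) (G *ᵥ Pi.single j 1) = 0 ∧
      hf σ (G *ᵥ Pi.single i 1) (G *ᵥ Pi.single i 1) =
        hf σ (G *ᵥ Pi.single j 1) (G *ᵥ Pi.single j 1) := by
    intro i j hij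
    obtain ⟨p, hp⟩ : ∃ p, p = hf σ (G *ᵥ Pi.single i 1) (G *ᵥ Pi.single i 1) := ⟨_, rfl⟩
    obtain ⟨r, hr⟩ : ∃ r, r = hf σ (G *ᵥ Pi.single j 1) (G *ᵥ Pi.single j 1) := ⟨_, rfl⟩
    obtain ⟨b, hb⟩ : ∃ b, b = hf σ (G *ᵥ Pi.single i 1) (G *ᵥ Pi.single j 1) := ⟨_, rfl⟩
    have hb' : hf σ (G *ᵥ Pi.single j 1) (G *ᵥ Pi.single i 1) = σ b := by
      rw [hb]; exact hf_symm σ hσ2 _ _
    have hE : ∀ ξ : F, ξ * σ ξ = -1 → (p - r) + σ ξ * b + ξ * σ b = 0 := by
      intro ξ hξ
      have hiso : hf σ (Pi.single i 1 + ξ • Pi.single j 1 : Fin n → F)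
          (Pi.single i 1 + ξ • Pi.single j 1) = 0 := by
        simp only [hf_add_left, hf_add_right, hf_smul_left, hf_smul_right, hf_single_single,
          if_neg hij, if_neg (Ne.symm hij), if_true]
        linear_combination hξ
      have := hG _ hiso
      rw [mulVec_add, mulVec_smul] at this
      simp only [hf_add_left, hf_add_right, hf_smul_left, hf_smul_right, ← hp, ← hr, ← hb, hb']
        at this
      linear_combination this - r * hξ
    have E0 := hE ζ hζ
    have E1 := hE (μ * ζ) (by rw [map_mul]; linear_combination ζ * σ ζ * hμ + hζ)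
    have E2 := hE (μ' * ζ) (by rw [map_mul]; linear_combination ζ * σ ζ * hμ' + hζ)
    rw [map_mul] at E1 E2
    obtain ⟨X, hX⟩ : ∃ X, X = σ ζ * b := ⟨_, rfl⟩
    obtain ⟨Y, hY⟩ : ∃ Y, Y = ζ * σ b := ⟨_, rfl⟩
    have h1 : (μ - 1) * ((p - r) + (μ + 1) * Y) = 0 := by
      rw [hY]
      linear_combination μ * E1 - E0 - (σ ζ * b) * hμ
    have h2 : (μ' - 1) * ((p - r) + (μ' + 1) * Y) = 0 := by
      rw [hY]
      linear_combination μ' * E2 - E0 - (σ ζ * b) * hμ'
    have h1' : (p - r) + (μ + 1) * Y = 0 := by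
      rcases mul_eq_zero.mp h1 with h | h
      · exact absurd (by linear_combination h) hμ1
      · exact h
    have h2' : (p - r) + (μ' + 1) * Y = 0 := by
      rcases mul_eq_zero.mp h2 with h | h
      · exact absurd (by linear_combination h) hμ'1
      · exact h
    have hY0 : Y = 0 := by
      have : (μ - μ') * Y = 0 := by linear_combination h1' - h2'
      rcases mul_eq_zero.mp this with h | h
      · exact absurd (by linear_combination h) hμμ'
      · exact h
    have hpr : p = r := by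
      rw [hY0, mul_zero, add_zero] at h1'
      linear_combination h1'
    have hb0 : b = 0 := by
      rw [hY] at hY0
      rcases mul_eq_zero.mp hY0 with h | h
      · exact absurd h hζ0
      · have := congrArg σ h
        rwa [hσ2, map_zero] at this
    exact ⟨by rw [← hb]; exact hb0, by rw [← hp, ← hr]; exact hpr⟩
  -- the Gram matrix is scalar
  obtain ⟨i0, hi0⟩ : ∃ i0 : Fin n, i0 = ⟨0, by omega⟩ := ⟨_, rfl⟩
  obtain ⟨c0, hc0⟩ : ∃ c0, c0 = hf σ (G *ᵥ Pi.single i0 1) (G *ᵥ Pi.single i0 1) := ⟨_, rfl⟩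
  have hA : hs σ G * G = c0 • (1 : Matrix (Fin n) (Fin n) F) := by
    ext i j
    rw [hs_mul_apply, ← mulVec_single_one, ← mulVec_single_one, Matrix.smul_apply,
      Matrix.one_apply, smul_eq_mul]
    by_cases hij : i = j
    · subst hij
      rw [if_pos rfl, mul_one, hc0]
      by_cases hi : i = i0
      · rw [hi]
      · exact (key i i0 hi).2
    · rw [if_neg hij, mul_zero]
      exact (key j i (Ne.symm hij)).1
  refine ⟨σ c0, fun x y => ?_⟩
  rw [hf_adjoint_left σ hσ2, mulVec_mulVec, hA, Matrix.smul_mulVec, one_mulVec, hf_smul_right]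

end Cone

section Core

variable {F : Type*} [Field F] (σ : F →+* F) {n : ℕ}

theorem gtv_zero_left (w : Fin n → F) : gtv σ (0 : Fin n → F) w = 1 := by
  apply Matrix.toLin'.injective
  apply LinearMap.ext
  intro x
  rw [Matrix.toLin'_apply, gtv_mulVec, smul_zero, add_zero, Matrix.toLin'_one, LinearMap.id_apply]

theorem gtv_neg_left (u w : Fin n → F) : gtv σ (-u) w = gtv σ u (-w) := by
  apply Matrix.toLin'.injective
  apply LinearMap.ext
  intro x
  rw [Matrix.toLin'_apply, Matrix.toLin'_apply, gtv_mulVec, gtv_mulVec, hf_neg_right, smul_neg,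
    neg_smul]

theorem gtv_smul_left (hσ2 : ∀ a, σ (σ a) = a) (a : F) (u w : Fin n → F) :
    gtv σ (a • u) w = gtv σ u (σ a • w) := by
  apply Matrix.toLin'.injective
  apply LinearMap.ext
  intro x
  rw [Matrix.toLin'_apply, Matrix.toLin'_apply, gtv_mulVec, gtv_mulVec, hf_smul_right, hσ2,
    smul_smul, mul_comm]

variable {k m : ℕ} (P : Matrix (Fin n) (Fin k ⊕ Fin m) F)

theorem emb_zero_add (b b' : Fin m → F) :
    emb P (0 : Fin k → F) b + emb P 0 b' = emb P 0 (b + b') := by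
  have := emb_add_smul P (0 : Fin k → F) 0 b b' 1
  rw [one_smul, one_smul, one_smul, add_zero] at this
  exact this

theorem emb_zero_zero : emb P (0 : Fin k → F) (0 : Fin m → F) = 0 := by
  unfold emb
  have : Sum.elim (0 : Fin k → F) (0 : Fin m → F) = 0 := by
    ext i
    rcases i with i | i <;> rfl
  rw [this, mulVec_zero]

theorem emb_zero_neg (b : Fin m → F) : -emb P (0 : Fin k → F) b = emb P 0 (-b) := by
  have h := emb_zero_add P b (-b)
  rw [add_neg_cancel, emb_zero_zero] at h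
  exact neg_eq_of_add_eq_zero_right h

theorem emb_zero_smul (a : F) (b : Fin m → F) :
    a • emb P (0 : Fin k → F) b = emb P 0 (a • b) := by
  have := emb_add_smul P (0 : Fin k → F) 0 0 b a
  rw [emb_zero_zero, zero_add, smul_zero, add_zero, zero_add] at this
  exact this

/-- **Key step**: a subgroup of `GL` containing the special unitary group and an element which
does not rescale the hermitian form contains every general transvection. -/
theorem gtv_mem_of_not_sim [Finite F] (hσ : σ ≠ RingHom.id F) (hσ2 : ∀ a, σ (σ a) = a)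
    (hn : 5 ≤ n) (M : Subgroup (GL (Fin n) F))
    (hSU : ∀ s : GL (Fin n) F, s ∈ UG σ n → (s : Matrix (Fin n) (Fin n) F).det = 1 → s ∈ M)
    (g0 : GL (Fin n) F) (hg0 : g0 ∈ M)
    (hns : ¬ ∃ c : F, ∀ x y, hf σ ((g0 : Matrix (Fin n) (Fin n) F) *ᵥ x)
      ((g0 : Matrix (Fin n) (Fin n) F) *ᵥ y) = c * hf σ x y) :
    ∀ (u w : Fin n → F) (h : hf σ u w = 0), gtvGL σ u w h ∈ M := by
  -- an isotropic vector with anisotropic image
  obtain ⟨u, hu, hgu⟩ : ∃ u : Fin n → F, hf σ u u = 0 ∧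
      hf σ ((g0 : Matrix (Fin n) (Fin n) F) *ᵥ u) ((g0 : Matrix (Fin n) (Fin n) F) *ᵥ u) ≠ 0 := by
    by_contra hcon
    push Not at hcon
    exact hns (sim_of_cone σ hσ hσ2 (by omega) _ hcon)
  obtain ⟨u1, hu1⟩ : ∃ u1, u1 = (g0 : Matrix (Fin n) (Fin n) F) *ᵥ u := ⟨_, rfl⟩
  obtain ⟨w1, hw1⟩ : ∃ w1, w1 = hs σ ((g0⁻¹ : GL (Fin n) F) : Matrix (Fin n) (Fin n) F) *ᵥ u :=
    ⟨_, rfl⟩
  rw [← hu1] at hgu
  have hu1w1 : hf σ u1 w1 = 0 := by rw [hu1, hw1, hf_conj_pair σ hσ2, hu]
  have hu10 : u1 ≠ 0 := ne_zero_of_hf_ne_zero σ hgu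
  have hu0 : u ≠ 0 := by
    rintro rfl
    rw [mulVec_zero] at hu1
    exact hu10 hu1
  have hw10 : w1 ≠ 0 := by
    obtain ⟨x, hx⟩ := exists_hf_ne_zero σ hσ2 u hu0
    intro h0
    apply hx
    have := hf_conj_pair σ hσ2 g0 x u
    rw [← hw1, h0, hf_zero_right] at this
    exact this.symm
  have hconj : ∀ c : F, c + σ c = 0 → ∀ h0 : hf σ u1 (σ c • w1) = 0,
      gtvGL σ u1 (σ c • w1) h0 ∈ M := by
    intro c hc h0
    have h1 : hf σ u (σ c • u) = 0 := by rw [hf_smul_right, hu, mul_zero]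
    have h2 : tvGL σ u c hu = gtvGL σ u (σ c • u) h1 := Units.ext (tv_eq_gtv σ hσ2 u c)
    have h3 : tvGL σ u c hu ∈ M := by
      apply hSU _ (TG_le_UG σ hσ2 (tvGL_mem σ u c hu hc))
      show (tv σ u c).det = 1
      rw [tv_det, hu, mul_zero, add_zero]
    have h4 := hf_conj_pair σ hσ2 g0 u (σ c • u)
    rw [h1] at h4
    have h5 := conj_gtvGL σ hσ2 g0 u (σ c • u) h1 h4
    have h6 : g0 * gtvGL σ u (σ c • u) h1 * g0⁻¹ ∈ M := by
      rw [← h2]
      exact M.mul_mem (M.mul_mem hg0 h3) (M.inv_mem hg0)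
    rw [h5] at h6
    have h7 := gtvGL_congr σ hu1.symm
      (show hs σ ((g0⁻¹ : GL (Fin n) F) : Matrix (Fin n) (Fin n) F) *ᵥ (σ c • u) = σ c • w1 by
        rw [mulVec_smul, hw1]) h4
    rw [h7] at h6
    exact h6
  -- the frame of the line spanned by `u1`
  obtain ⟨W, hWdef⟩ : ∃ W : Submodule F (Fin n → F), W = Submodule.span F {u1} := ⟨_, rfl⟩
  have hW : ∀ x ∈ W, (∀ y ∈ W, hf σ x y = 0) → x = 0 := by
    intro x hx hperp
    rw [hWdef] at hx
    obtain ⟨r, rfl⟩ := Submodule.mem_span_singleton.mp hx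
    have := hperp u1 (by rw [hWdef]; exact Submodule.mem_span_singleton_self u1)
    rw [hf_smul_left] at this
    rcases mul_eq_zero.mp this with h | h
    · rw [h, zero_smul]
    · exact absurd h hgu
  obtain ⟨m, P, hkm, h1, h2, hWP⟩ := main_frame σ hσ hσ2 W hW
  have hrank : finrank F W = 1 := by rw [hWdef]; exact finrank_span_singleton hu10
  have hm : 3 ≤ m := by omega
  have hu1W : u1 ∈ W := by rw [hWdef]; exact Submodule.mem_span_singleton_self u1
  have hcru1 : cr σ P u1 = 0 := funext fun j => (hWP u1).mp hu1W j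
  obtain ⟨a1, ha1⟩ : ∃ a1, a1 = cl σ P u1 := ⟨_, rfl⟩
  have hu1emb : emb P a1 0 = u1 := by
    have := emb_cl_cr σ P h2 u1
    rw [hcru1, ← ha1] at this
    exact this
  have hu1b : ∀ b : Fin m → F, hf σ u1 (emb P 0 b) = 0 := by
    intro b
    rw [← hu1emb, hf_emb σ P hσ2 h1, hf_zero_right, hf_zero_left, add_zero]
  have hperp : ∀ w : Fin n → F, hf σ u1 w = 0 → emb P 0 (cr σ P w) = w := by
    intro w hw
    have hwu1 : hf σ w u1 = 0 := by rw [hf_symm σ hσ2, hw, map_zero]
    have hcl : cl σ P w = 0 := by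
      funext i
      have hmem : emb P (Pi.single i 1) 0 ∈ W := by
        rw [hWP]
        intro j
        exact congrFun (cr_emb σ P h1 _ 0) j
      have hmem' : emb P (Pi.single i 1) 0 ∈ Submodule.span F {u1} := (le_of_eq hWdef) hmem
      obtain ⟨r, hr⟩ := Submodule.mem_span_singleton.mp hmem'
      have h3 : hf σ w (emb P (Pi.single i 1) 0) = 0 := by
        rw [← hr, hf_smul_right, hwu1, mul_zero]
      rw [← emb_cl_cr σ P h2 w, hf_emb σ P hσ2 h1, hf_zero_right, add_zero,
        hf_single_right] at h3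
      exact h3
    have := emb_cl_cr σ P h2 w
    rw [hcl] at this
    exact this
  -- the additive group of transvection vectors
  obtain ⟨L, hL⟩ : ∃ L : AddSubgroup (Fin m → F),
      ∀ b, b ∈ L ↔ gtvGL σ u1 (emb P 0 b) (hu1b b) ∈ M := by
    refine ⟨{ carrier := {b | gtvGL σ u1 (emb P 0 b) (hu1b b) ∈ M}
              add_mem' := ?_
              zero_mem' := ?_
              neg_mem' := ?_ }, fun b => Iff.rfl⟩
    · intro b b' hb hb'
      have := M.mul_mem hb hb'
      rw [gtvGL_mul] at this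
      show gtvGL σ u1 (emb P 0 (b + b')) (hu1b (b + b')) ∈ M
      rw [← gtvGL_congr σ rfl (emb_zero_add P b b')]
      exact this
    · show gtvGL σ u1 (emb P 0 0) (hu1b 0) ∈ M
      have : gtvGL σ u1 (emb P 0 0) (hu1b 0) = 1 := by
        apply Units.ext
        rw [gtvGL_coe, emb_zero_zero, gtv_zero, Units.val_one]
      rw [this]
      exact M.one_mem
    · intro b hb
      have := M.inv_mem hb
      rw [gtvGL_inv] at this
      show gtvGL σ u1 (emb P 0 (-b)) (hu1b (-b)) ∈ M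
      rw [← gtvGL_congr σ rfl (emb_zero_neg P b)]
      exact this
  have hLinv : ∀ t : GL (Fin m) F, t ∈ UG σ m → (t : Matrix (Fin m) (Fin m) F).det = 1 →
      ∀ b ∈ L, (t : Matrix (Fin m) (Fin m) F) *ᵥ b ∈ L := by
    intro t htU htdet b hb
    rw [hL] at hb ⊢
    have hBU : psiGL σ P h1 h2 (1, t) ∈ UG σ n :=
      blk_mem_UG σ P hσ2 h1 h2 1 t (Subgroup.one_mem _) htU
    have hBM : psiGL σ P h1 h2 (1, t) ∈ M := by
      apply hSU _ hBU
      rw [blk_det, htdet, Units.val_one, det_one, one_mul]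
    have h3 := conj_gtvGL_unitary σ hσ2 _ hBU u1 (emb P 0 b) (hu1b b)
    have h4 : psiGL σ P h1 h2 (1, t) * gtvGL σ u1 (emb P 0 b) (hu1b b) *
        (psiGL σ P h1 h2 (1, t))⁻¹ ∈ M := M.mul_mem (M.mul_mem hBM hb) (M.inv_mem hBM)
    rw [h3] at h4
    have e1 : ((psiGL σ P h1 h2 (1, t) : GL (Fin n) F) : Matrix (Fin n) (Fin n) F) *ᵥ u1 = u1 := by
      rw [← hu1emb, blk_mulVec, Units.val_one, one_mulVec, mulVec_zero]
    have e2 : ((psiGL σ P h1 h2 (1, t) : GL (Fin n) F) : Matrix (Fin n) (Fin n) F) *ᵥ emb P 0 b =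
        emb P 0 ((t : Matrix (Fin m) (Fin m) F) *ᵥ b) := by
      rw [blk_mulVec, mulVec_zero]
    rw [gtvGL_congr σ e1 e2] at h4
    exact h4
  have hLne : ∃ b ∈ L, b ≠ 0 := by
    obtain ⟨ε, hε0, hε⟩ := exists_trace_zero_ne σ hσ hσ2
    have hσε0 : σ ε ≠ 0 := map_ne_zero_of_invol σ hσ2 hε0
    have hw1emb := hperp w1 hu1w1
    have hb10 : cr σ P w1 ≠ 0 := by
      intro h0
      rw [h0, emb_zero_zero] at hw1emb
      exact hw10 hw1emb.symm
    refine ⟨σ ε • cr σ P w1, ?_, smul_ne_zero hσε0 hb10⟩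
    rw [hL]
    have h0 : hf σ u1 (σ ε • w1) = 0 := by rw [hf_smul_right, hu1w1, mul_zero]
    have := hconj ε hε h0
    rw [gtvGL_congr σ rfl (show σ ε • w1 = emb P 0 (σ ε • cr σ P w1) by
      rw [← emb_zero_smul, hw1emb]) h0] at this
    exact this
  have hLtop := addSubgroup_eq_top_of_su_invariant σ hσ hσ2 hm L hLinv hLne
  -- all transvections with direction `u1`
  have hD1 : ∀ (w : Fin n → F) (h : hf σ u1 w = 0), gtvGL σ u1 w h ∈ M := by
    intro w h
    have := (hL (cr σ P w)).mp (hLtop _)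
    rw [gtvGL_congr σ rfl (hperp w h)] at this
    exact this
  -- the additive group of directions
  have hDinv : ∀ g : GL (Fin n) F, g ∈ M → ∀ v : Fin n → F,
      (∀ (w : Fin n → F) (h : hf σ v w = 0), gtvGL σ v w h ∈ M) →
      ∀ (w : Fin n → F) (h : hf σ ((g : Matrix (Fin n) (Fin n) F) *ᵥ v) w = 0),
        gtvGL σ ((g : Matrix (Fin n) (Fin n) F) *ᵥ v) w h ∈ M := by
    intro g hg v hv w h
    obtain ⟨w', hw'⟩ : ∃ w', w' = hs σ (g : Matrix (Fin n) (Fin n) F) *ᵥ w := ⟨_, rfl⟩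
    have e1 : hs σ ((g⁻¹ : GL (Fin n) F) : Matrix (Fin n) (Fin n) F) *ᵥ w' = w := by
      rw [hw', mulVec_mulVec, ← hs_mul, ← Units.val_mul, mul_inv_cancel, Units.val_one, hs_one,
        one_mulVec]
    have h3 : hf σ v w' = 0 := by
      rw [hw', ← hf_adjoint_left σ hσ2]
      exact h
    have h4 := hf_conj_pair σ hσ2 g v w'
    rw [h3] at h4
    have h5 := conj_gtvGL σ hσ2 g v w' h3 h4
    have h6 : g * gtvGL σ v w' h3 * g⁻¹ ∈ M := M.mul_mem (M.mul_mem hg (hv w' h3)) (M.inv_mem hg)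
    rw [h5, gtvGL_congr σ rfl e1] at h6
    exact h6
  obtain ⟨D, hD⟩ : ∃ D : AddSubgroup (Fin n → F),
      ∀ v, v ∈ D ↔ ∀ (w : Fin n → F) (h : hf σ v w = 0), gtvGL σ v w h ∈ M := by
    refine ⟨{ carrier := {v | ∀ (w : Fin n → F) (h : hf σ v w = 0), gtvGL σ v w h ∈ M}
              add_mem' := ?_
              zero_mem' := ?_
              neg_mem' := ?_ }, fun v => Iff.rfl⟩
    · intro v v' hv hv'
      show ∀ (w : Fin n → F) (h : hf σ (v + v') w = 0), gtvGL σ (v + v') w h ∈ M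
      have hsmul : ∀ (a : F) (w : Fin n → F) (h : hf σ (a • v) w = 0),
          gtvGL σ (a • v) w h ∈ M := by
        intro a w h
        have h0 : hf σ v (σ a • w) = 0 := by
          rw [hf_smul_right, hσ2, ← hf_smul_left]
          exact h
        have : gtvGL σ (a • v) w h = gtvGL σ v (σ a • w) h0 :=
          Units.ext (gtv_smul_left σ hσ2 a v w)
        rw [this]
        exact hv _ h0
      by_cases hv0 : v = 0
      · intro w h
        have e : v + v' = v' := by rw [hv0, zero_add]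
        rw [gtvGL_congr σ e rfl h]
        exact hv' w _
      by_cases hli : ∀ a : F, a • v ≠ v'
      · -- independent: move `v` to `v + v'` by a transvection with direction `v'`
        have hli' : LinearIndependent F ![v, v'] := (LinearIndependent.pair_iff' hv0).mpr hli
        have hsurj := range_hPhi σ hσ2 ![v, v'] hli'
        obtain ⟨w0, hw0⟩ : ∃ w0, hPhi σ ![v, v'] w0 = ![1, 0] := by
          have : (![1, 0] : Fin 2 → F) ∈ LinearMap.range (hPhi σ ![v, v']) := by
            rw [hsurj]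
            exact Submodule.mem_top
          exact this
        have hw0v : hf σ w0 v = 1 := by
          have := congrFun hw0 0
          rwa [hPhi_apply] at this
        have hw0v' : hf σ w0 v' = 0 := by
          have := congrFun hw0 1
          rwa [hPhi_apply] at this
        have hv'w0 : hf σ v' w0 = 0 := by rw [hf_symm σ hσ2, hw0v', map_zero]
        have hvw0 : hf σ v w0 = 1 := by rw [hf_symm σ hσ2, hw0v, map_one]
        have hgM := hv' w0 hv'w0
        have e : ((gtvGL σ v' w0 hv'w0 : GL (Fin n) F) : Matrix (Fin n) (Fin n) F) *ᵥ v =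
            v + v' := by
          rw [gtvGL_coe, gtv_mulVec, hvw0, one_smul]
        intro w h
        have h' : hf σ (((gtvGL σ v' w0 hv'w0 : GL (Fin n) F) : Matrix (Fin n) (Fin n) F) *ᵥ v) w
            = 0 := by rw [e]; exact h
        have := hDinv _ hgM v hv w h'
        rw [gtvGL_congr σ e rfl h'] at this
        exact this
      · push Not at hli
        obtain ⟨a, ha⟩ := hli
        intro w h
        have e : v + v' = (1 + a) • v := by rw [add_smul, one_smul, ha]
        rw [gtvGL_congr σ e rfl h]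
        exact hsmul _ w _
    · show ∀ (w : Fin n → F) (h : hf σ (0 : Fin n → F) w = 0), gtvGL σ 0 w h ∈ M
      intro w h
      have : gtvGL σ 0 w h = 1 := by
        apply Units.ext
        rw [gtvGL_coe, gtv_zero_left, Units.val_one]
      rw [this]
      exact M.one_mem
    · intro v hv
      show ∀ (w : Fin n → F) (h : hf σ (-v) w = 0), gtvGL σ (-v) w h ∈ M
      intro w h
      have h0 : hf σ v (-w) = 0 := by
        rw [hf_neg_right, ← hf_neg_left]
        exact h
      have : gtvGL σ (-v) w h = gtvGL σ v (-w) h0 := Units.ext (gtv_neg_left σ v w)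
      rw [this]
      exact hv _ h0
  have hDtop := addSubgroup_eq_top_of_su_invariant σ hσ hσ2 (by omega) D
    (by
      intro t htU htdet b hb
      rw [hD] at hb ⊢
      exact hDinv t (hSU t htU htdet) b hb)
    ⟨u1, (hD u1).mpr hD1, hu10⟩
  intro u' w h
  exact (hD u').mp (hDtop u') w h

end Core

end Cfsg.Agent.Lib.Helper13
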