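/-
helper13: the similarity group of a unitary form is maximal in the special linear group, in the
Prelude vocabulary (abstract unitary forms given as functions).
-/
import Mathlib
import Cfsg.Agent.Lib.Helper13.UnitSL
import Cfsg.Agent.Lib.Helper13.UnitMaxBridge
import Cfsg.Agent.Lib.Helper94.SympSLBridge
import Cfsg.Prelude.Def_GeometricClasses

set_option autoImplicit false

namespace Cfsg.Agent.Lib.Helper13

open Matrix Module Cfsg.Agent.S0837 Cfsg.Agent.S0781 Cfsg.Agent.S2644 Cfsg.Agent.Lib.Helper37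

section StdForm

variable {F : Type*} [Field F] {n : ℕ} {σ : F ≃+* F} {f : (Fin n → F) → (Fin n → F) → F}

theorem uf_add_right (hf' : Cfsg.Geo.IsUnitaryForm σ f) (u v₁ v₂ : Fin n → F) :
    f u (v₁ + v₂) = f u v₁ + f u v₂ := by
  rw [hf'.herm u (v₁ + v₂), hf'.add_left, map_add, ← hf'.herm, ← hf'.herm]

theorem uf_smul_right (hf' : Cfsg.Geo.IsUnitaryForm σ f) (c : F) (u v : Fin n → F) :
    f u (c • v) = σ c * f u v := by
  rw [hf'.herm u (c • v), hf'.smul_left, map_mul, ← hf'.herm]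

/-- The sesquilinear map of a unitary form given as a function. -/
noncomputable def formB (hf' : Cfsg.Geo.IsUnitaryForm σ f) :
    (Fin n → F) →ₛₗ[(σ : F →+* F)] (Fin n → F) →ₗ[F] F :=
  LinearMap.mk₂'ₛₗ (σ : F →+* F) (RingHom.id F) (fun v u => f u v)
    (fun v₁ v₂ u => uf_add_right hf' u v₁ v₂)
    (fun c v u => by
      rw [uf_smul_right hf', smul_eq_mul]
      rfl)
    (fun v u₁ u₂ => hf'.add_left u₁ u₂ v)
    (fun c v u => by simp only [hf'.smul_left, smul_eq_mul, RingHom.id_apply])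

theorem formB_apply (hf' : Cfsg.Geo.IsUnitaryForm σ f) (v u : Fin n → F) :
    formB hf' v u = f u v := rfl

/-- Every unitary form is equivalent to the standard hermitian form. -/
theorem exists_std [Finite F] (hf' : Cfsg.Geo.IsUnitaryForm σ f) :
    ∃ Pg : GL (Fin n) F, ∀ x y : Fin n → F,
      f ((Pg : Matrix (Fin n) (Fin n) F) *ᵥ x) ((Pg : Matrix (Fin n) (Fin n) F) *ᵥ y) =
        hf (σ : F →+* F) x y := by
  classical
  have hτ : (σ : F →+* F) ≠ RingHom.id F := by
    intro h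
    apply hf'.ne_refl
    ext a
    exact RingHom.congr_fun h a
  have hτ2 : ∀ a : F, (σ : F →+* F) ((σ : F →+* F) a) = a := hf'.involutive
  have hS : (formB hf').IsSymm := by
    refine ⟨fun x y => ?_⟩
    rw [formB_apply, formB_apply]
    exact (hf'.herm _ _).symm
  have hB : (formB hf').Nondegenerate := by
    constructor
    · intro x hx
      by_contra hx0
      obtain ⟨⟨y, hy⟩, -⟩ := hf'.nondegenerate x hx0
      exact hy (hx y)
    · intro y hy
      by_contra hy0
      obtain ⟨-, ⟨x, hx⟩⟩ := hf'.nondegenerate y hy0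
      exact hx (hy x)
  obtain ⟨b0, hb0⟩ := Cfsg.Agent.Lib.Helper36.exists_orthonormal_basis (σ : F →+* F) hτ hτ2
    (formB hf') hS hB
  have hd : finrank F (Fin n → F) = n := Module.finrank_fin_fun F
  obtain ⟨b, hb⟩ : ∃ b : Basis (Fin n) F (Fin n → F), b = b0.reindex (finCongr hd) := ⟨_, rfl⟩
  have hbb : ∀ i j, f (b i) (b j) = if i = j then 1 else 0 := by
    intro i j
    rw [hb, Basis.reindex_apply, Basis.reindex_apply, ← formB_apply hf', hb0]
    by_cases hij : i = j
    · rw [hij, if_pos rfl, if_pos rfl]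
    · rw [if_neg hij, if_neg]
      intro h
      exact hij ((finCongr hd).symm.injective h).symm
  obtain ⟨Pm, hPm⟩ : ∃ Pm : Matrix (Fin n) (Fin n) F, Pm = Matrix.of fun l i => b i l := ⟨_, rfl⟩
  have hmul : ∀ x : Fin n → F, Pm *ᵥ x = ∑ i, x i • b i := by
    intro x
    ext l
    simp only [mulVec, dotProduct, hPm, Matrix.of_apply, Finset.sum_apply, Pi.smul_apply,
      smul_eq_mul]
    exact Finset.sum_congr rfl fun i _ => mul_comm _ _
  have hform : ∀ x y : Fin n → F, f (Pm *ᵥ x) (Pm *ᵥ y) = hf (σ : F →+* F) x y := by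
    intro x y
    rw [hmul, hmul, ← formB_apply hf']
    simp only [map_sum, LinearMap.sum_apply, LinearMap.map_smulₛₗ, LinearMap.smul_apply,
      map_smul, smul_eq_mul, formB_apply, hbb]
    unfold hf
    refine Finset.sum_congr rfl fun i _ => ?_
    simp only [mul_ite, mul_one, mul_zero, Finset.sum_ite_eq, Finset.mem_univ, if_true]
  have hf0 : ∀ v : Fin n → F, f 0 v = 0 := by
    intro v
    have := hf'.smul_left 0 0 v
    rwa [zero_smul, zero_mul] at this
  have hinj : Function.Injective Pm.mulVec := by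
    intro x y hxy
    have h0 : Pm *ᵥ (x - y) = 0 := by rw [mulVec_sub, hxy, sub_self]
    have h1 : x - y = 0 := by
      funext i
      have := hform (x - y) (Pi.single i 1)
      rw [h0, hf0, hf_single_right] at this
      exact this.symm
    exact sub_eq_zero.mp h1
  have hunit : IsUnit Pm := Matrix.mulVec_injective_iff_isUnit.mp hinj
  exact ⟨hunit.unit, hform⟩

end StdForm

section MainBridge

variable {F : Type*} [Field F] {n : ℕ}

/-- Linear transvections are general transvections of the standard hermitian form. -/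
theorem transvection_eq_gtvGL (τ : F →+* F) (hτ2 : ∀ a, τ (τ a) = a)
    (φ : Module.Dual F (Fin n → F)) (v : Fin n → F) (hφv : φ v = 0) :
    ∃ (w : Fin n → F) (h : hf τ v w = 0),
      (Cfsg.Agent.Lib.Helper94.glEquiv (Fin n) F).symm (LinearEquiv.transvection hφv) =
        gtvGL τ v w h := by
  obtain ⟨w, hw⟩ : ∃ w : Fin n → F, w = fun i => τ (φ (Pi.single i 1)) := ⟨_, rfl⟩
  have hφ : ∀ x, φ x = hf τ x w := by
    intro x
    conv_lhs => rw [pi_eq_sum_univ' x]
    rw [map_sum]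
    unfold hf
    refine Finset.sum_congr rfl fun i _ => ?_
    rw [map_smul, smul_eq_mul, hw, hτ2]
  have h : hf τ v w = 0 := by rw [← hφ]; exact hφv
  refine ⟨w, h, ?_⟩
  apply Units.ext
  apply Matrix.toLin'.injective
  apply LinearMap.ext
  intro x
  rw [Matrix.toLin'_apply, Matrix.toLin'_apply, Cfsg.Agent.Lib.Helper94.glEquiv_symm_mulVec,
    gtvGL_coe, gtv_mulVec, ← hφ]
  simp [LinearMap.transvection.apply]

/-- **The similarity group of a unitary form is maximal in the special linear group** (`n ≥ 5`). -/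
theorem isMaximalIn_sim_unitary [Fintype F] (n : ℕ) (hn : 5 ≤ n) (σ : F ≃+* F)
    (f : (Fin n → F) → (Fin n → F) → F) (hf' : Cfsg.Geo.IsUnitaryForm σ f) :
    Cfsg.Geo.IsMaximalIn (Cfsg.Geo.specialLinear (Fin n) F)
      (Cfsg.Geo.similarityGroup f ⊓ Cfsg.Geo.specialLinear (Fin n) F) := by
  classical
  obtain ⟨Pg, hP0⟩ := exists_std hf'
  obtain ⟨τ, hτdef⟩ : ∃ τ : F →+* F, τ = (σ : F →+* F) := ⟨_, rfl⟩
  have hP : ∀ x y : Fin n → F,
      f ((Pg : Matrix (Fin n) (Fin n) F) *ᵥ x) ((Pg : Matrix (Fin n) (Fin n) F) *ᵥ y) =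
        hf τ x y := by
    rw [hτdef]
    exact hP0
  have hτ : τ ≠ RingHom.id F := by
    intro h
    apply hf'.ne_refl
    ext a
    have := RingHom.congr_fun h a
    rw [hτdef] at this
    exact this
  have hτ2 : ∀ a, τ (τ a) = a := by
    rw [hτdef]
    exact hf'.involutive
  obtain ⟨i0, hi0⟩ : ∃ i0 : Fin n, i0 = ⟨0, by omega⟩ := ⟨_, rfl⟩
  obtain ⟨i1, hi1⟩ : ∃ i1 : Fin n, i1 = ⟨1, by omega⟩ := ⟨_, rfl⟩
  have h01 : i0 ≠ i1 := by rw [hi0, hi1]; intro h; rw [Fin.ext_iff] at h; simp at h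
  have hcoe : ∀ (g' : GL (Fin n) F) (x : Fin n → F),
      ((Pg * g' * Pg⁻¹ : GL (Fin n) F) : Matrix (Fin n) (Fin n) F) *ᵥ
        ((Pg : Matrix (Fin n) (Fin n) F) *ᵥ x) =
      (Pg : Matrix (Fin n) (Fin n) F) *ᵥ ((g' : Matrix (Fin n) (Fin n) F) *ᵥ x) := by
    intro g' x
    rw [mulVec_mulVec, mulVec_mulVec, ← Units.val_mul, ← Units.val_mul, inv_mul_cancel_right]
  have hsim : ∀ g' : GL (Fin n) F, Pg * g' * Pg⁻¹ ∈ Cfsg.Geo.similarityGroup f ↔
      ∃ c : F, ∀ x y, hf τ ((g' : Matrix (Fin n) (Fin n) F) *ᵥ x)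
        ((g' : Matrix (Fin n) (Fin n) F) *ᵥ y) = c * hf τ x y := by
    intro g'
    constructor
    · rintro ⟨c, hc⟩
      refine ⟨c, fun x y => ?_⟩
      rw [← hP, ← hcoe, ← hcoe, hc, hP]
    · rintro ⟨c, hc⟩
      have hc0 : c ≠ 0 := by
        rintro rfl
        have := hc (((g'⁻¹ : GL (Fin n) F) : Matrix (Fin n) (Fin n) F) *ᵥ Pi.single i0 1)
          (((g'⁻¹ : GL (Fin n) F) : Matrix (Fin n) (Fin n) F) *ᵥ Pi.single i0 1)
        rw [mulVec_mulVec, ← Units.val_mul, mul_inv_cancel, Units.val_one, one_mulVec,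
          hf_single_single, if_pos rfl, zero_mul] at this
        exact one_ne_zero this
      refine ⟨Units.mk0 c hc0, fun u v => ?_⟩
      have hu : u = (Pg : Matrix (Fin n) (Fin n) F) *ᵥ
          (((Pg⁻¹ : GL (Fin n) F) : Matrix (Fin n) (Fin n) F) *ᵥ u) := by
        rw [mulVec_mulVec, ← Units.val_mul, mul_inv_cancel, Units.val_one, one_mulVec]
      have hv : v = (Pg : Matrix (Fin n) (Fin n) F) *ᵥ
          (((Pg⁻¹ : GL (Fin n) F) : Matrix (Fin n) (Fin n) F) *ᵥ v) := by
        rw [mulVec_mulVec, ← Units.val_mul, mul_inv_cancel, Units.val_one, one_mulVec]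
      rw [hu, hv, hcoe, hcoe, hP, hc, hP]
      rfl
  have hdet : ∀ g' : GL (Fin n) F, Pg * g' * Pg⁻¹ ∈ Cfsg.Geo.specialLinear (Fin n) F ↔
      (g' : Matrix (Fin n) (Fin n) F).det = 1 := by
    intro g'
    rw [mem_specialLinear_iff, Units.val_mul, Units.val_mul, det_mul, det_mul, mul_right_comm,
      ← det_mul, ← Units.val_mul, mul_inv_cancel, Units.val_one, det_one, one_mul]
  have hback : ∀ g : GL (Fin n) F, Pg * (Pg⁻¹ * g * Pg) * Pg⁻¹ = g := by
    intro g
    group
  constructor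
  · -- proper containment
    apply lt_of_le_of_ne inf_le_right
    intro heq
    have h0 : hf τ (Pi.single i0 1 : Fin n → F) (Pi.single i1 1) = 0 := by
      rw [hf_single_single, if_neg h01]
    have hmem : Pg * gtvGL τ (Pi.single i0 1) (Pi.single i1 1) h0 * Pg⁻¹ ∈
        Cfsg.Geo.specialLinear (Fin n) F := by
      rw [hdet, gtvGL_coe]
      exact gtv_det τ _ _ h0
    rw [← heq] at hmem
    obtain ⟨c, hc⟩ := (hsim _).mp hmem.1
    have e0 := hc (Pi.single i0 1) (Pi.single i0 1)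
    have e1 := hc (Pi.single i1 1) (Pi.single i1 1)
    rw [gtvGL_coe, gtv_mulVec] at e0 e1
    simp only [hf_add_left, hf_add_right, hf_smul_left, hf_smul_right, hf_single_single,
      if_neg h01, if_neg (Ne.symm h01), if_true, map_zero, map_one] at e0 e1
    apply one_ne_zero (α := F)
    linear_combination e1 - e0
  · intro M hHM hMK
    by_cases hMH : M = Cfsg.Geo.similarityGroup f ⊓ Cfsg.Geo.specialLinear (Fin n) F
    · exact Or.inl hMH
    right
    have hnot : ¬ M ≤ Cfsg.Geo.similarityGroup f ⊓ Cfsg.Geo.specialLinear (Fin n) F :=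
      fun h => hMH (le_antisymm h hHM)
    obtain ⟨g0, hg0M, hg0⟩ := SetLike.not_le_iff_exists.mp hnot
    have hg0S : g0 ∉ Cfsg.Geo.similarityGroup f := fun h => hg0 ⟨h, hMK hg0M⟩
    obtain ⟨M', hM'⟩ : ∃ M' : Subgroup (GL (Fin n) F), ∀ g', g' ∈ M' ↔ Pg * g' * Pg⁻¹ ∈ M := by
      refine ⟨M.comap (MulAut.conj Pg).toMonoidHom, fun g' => ?_⟩
      rw [Subgroup.mem_comap]
      rfl
    have hSU : ∀ s : GL (Fin n) F, s ∈ UG τ n → (s : Matrix (Fin n) (Fin n) F).det = 1 →
        s ∈ M' := by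
      intro s hsU hsdet
      rw [hM']
      apply hHM
      refine ⟨(hsim s).mpr ⟨1, fun x y => ?_⟩, (hdet s).mpr hsdet⟩
      rw [one_mul]
      exact hsU x y
    have hg0' : Pg⁻¹ * g0 * Pg ∈ M' := by
      rw [hM', hback]
      exact hg0M
    have hns : ¬ ∃ c : F, ∀ x y,
        hf τ (((Pg⁻¹ * g0 * Pg : GL (Fin n) F) : Matrix (Fin n) (Fin n) F) *ᵥ x)
          (((Pg⁻¹ * g0 * Pg : GL (Fin n) F) : Matrix (Fin n) (Fin n) F) *ᵥ y) = c * hf τ x y := by
      intro h
      apply hg0S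
      have := (hsim (Pg⁻¹ * g0 * Pg)).mpr h
      rwa [hback] at this
    have key := gtv_mem_of_not_sim τ hτ hτ2 hn M' hSU _ hg0' hns
    have hnt : Nontrivial (Fin n) := Fin.nontrivial_iff_two_le.2 (by omega)
    have hle := Cfsg.Agent.Lib.Helper94.specialLinear_le_of_transvections (ι := Fin n) (F := F) M'
      (by
        intro φ v hφv
        obtain ⟨w, h, e⟩ := transvection_eq_gtvGL τ hτ2 φ v hφv
        rw [e]
        exact key v w h)
    apply le_antisymm hMK
    intro g hg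
    have h1 : Pg⁻¹ * g * Pg ∈ Cfsg.Geo.specialLinear (Fin n) F := by
      have := (hdet (Pg⁻¹ * g * Pg))
      rw [hback] at this
      rw [mem_specialLinear_iff]
      exact this.mp hg
    have h2 := (hM' _).mp (hle h1)
    rwa [hback] at h2

end MainBridge

end Cfsg.Agent.Lib.Helper13
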