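/-
helper13: the symplectic subfield group `Sp_n(q)·Z` is maximal in `SU_n(q)`:
the transvection method.  `F₀` is the fixed field of the involution `σ`, `1, ω` an `F₀`-basis of
`F`, and `ζ` times the hermitian form restricts to a non-degenerate alternating form on the
`F₀`-span of the columns of `P`.
-/
import Mathlib
import Cfsg.Agent.Lib.Helper13.SubfieldBasic
import Cfsg.Agent.Lib.Helper13.UnitMax
import Cfsg.Agent.Lib.Helper13.AltForm
import Cfsg.Agent.Lib.Helper94.SympBridge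

set_option autoImplicit false

namespace Cfsg.Agent.Lib.Helper13

open Matrix Module Cfsg.Agent.S0837 Cfsg.Agent.S0781 Cfsg.Agent.S2644 Cfsg.Agent.Lib.Helper37

section UnitSubfield

variable {F : Type*} [Field F] (σ : F →+* F) {n : ℕ} (F₀ : Subfield F)

/-- the image under `P` of a rational vector. -/
def sfG (P : GL (Fin n) F) (a : Fin n → F₀) : Fin n → F :=
  (P : Matrix (Fin n) (Fin n) F) *ᵥ rat F₀ a

theorem sfG_add (P : GL (Fin n) F) (a b : Fin n → F₀) :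
    sfG F₀ P (a + b) = sfG F₀ P a + sfG F₀ P b := by
  unfold sfG; rw [rat_add, mulVec_add]

theorem sfG_smul (P : GL (Fin n) F) (c : F₀) (a : Fin n → F₀) :
    sfG F₀ P (c • a) = (c : F) • sfG F₀ P a := by
  unfold sfG; rw [rat_smul, mulVec_smul]

theorem sfG_zero (P : GL (Fin n) F) : sfG F₀ P 0 = 0 := by
  unfold sfG; rw [rat_zero, mulVec_zero]

theorem gl_mulVec_injective (P : GL (Fin n) F) :
    Function.Injective (fun x : Fin n → F => (P : Matrix (Fin n) (Fin n) F) *ᵥ x) := by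
  intro x y h
  have := congrArg (fun z => ((P⁻¹ : GL (Fin n) F) : Matrix (Fin n) (Fin n) F) *ᵥ z) h
  simpa [mulVec_mulVec, ← Units.val_mul] using this

theorem sfG_injective (P : GL (Fin n) F) : Function.Injective (sfG F₀ P) := by
  intro a b h
  exact rat_injective F₀ (gl_mulVec_injective P h)

/-- the vector `P (a + ω b)`. -/
def sfE (ω : F) (P : GL (Fin n) F) (a b : Fin n → F₀) : Fin n → F :=
  sfG F₀ P a + ω • sfG F₀ P b

theorem sfE_eq (ω : F) (P : GL (Fin n) F) (a b : Fin n → F₀) :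
    sfE F₀ ω P a b = (P : Matrix (Fin n) (Fin n) F) *ᵥ (rat F₀ a + ω • rat F₀ b) := by
  unfold sfE sfG; rw [mulVec_add, mulVec_smul]

/-- uniqueness of the decomposition `a + ω b` in the field. -/
theorem dec_unique (hfix : ∀ x, x ∈ F₀ ↔ σ x = x) (ω : F) (hω : σ ω ≠ ω) (a b a' b' : F₀)
    (h : (a : F) + ω * b = a' + ω * b') : a = a' ∧ b = b' := by
  have hf1 : ∀ x : F₀, σ (x : F) = x := fun x => (hfix x).mp x.2
  have h2 := congrArg σ h
  rw [map_add, map_add, map_mul, map_mul, hf1, hf1, hf1, hf1] at h2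
  have h3 : (ω - σ ω) * ((b : F) - b') = 0 := by linear_combination h - h2
  have h4 : (b : F) = b' := by
    rcases mul_eq_zero.mp h3 with h5 | h5
    · exact absurd (sub_eq_zero.mp h5).symm hω
    · exact sub_eq_zero.mp h5
  have h5 : (a : F) = a' := by
    rw [h4] at h
    exact add_right_cancel h
  exact ⟨Subtype.ext h5, Subtype.ext h4⟩

/-- uniqueness of the decomposition for vectors. -/
theorem vec_unique (hfix : ∀ x, x ∈ F₀ ↔ σ x = x) (ω : F) (hω : σ ω ≠ ω)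
    (a b a' b' : Fin n → F₀)
    (h : rat F₀ a + ω • rat F₀ b = rat F₀ a' + ω • rat F₀ b') : a = a' ∧ b = b' := by
  have key : ∀ i, a i = a' i ∧ b i = b' i := by
    intro i
    apply dec_unique σ F₀ hfix ω hω
    have := congrFun h i
    simpa [rat] using this
  exact ⟨funext fun i => (key i).1, funext fun i => (key i).2⟩

/-- existence of the decomposition for vectors. -/
theorem vec_dec (ω : F) (hdec : ∀ x : F, ∃ a b : F₀, x = a + ω * b) (x : Fin n → F) :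
    ∃ a b : Fin n → F₀, x = rat F₀ a + ω • rat F₀ b := by
  choose a b h using hdec
  refine ⟨fun i => a (x i), fun i => b (x i), ?_⟩
  funext i
  simp only [Pi.add_apply, Pi.smul_apply, rat_apply, smul_eq_mul]
  exact h (x i)

/-- every vector is `sfE a b`. -/
theorem sfE_surj (ω : F) (hdec : ∀ x : F, ∃ a b : F₀, x = a + ω * b) (P : GL (Fin n) F)
    (x : Fin n → F) : ∃ a b : Fin n → F₀, x = sfE F₀ ω P a b := by
  obtain ⟨a, b, h⟩ := vec_dec F₀ ω hdec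
    (((P⁻¹ : GL (Fin n) F) : Matrix (Fin n) (Fin n) F) *ᵥ x)
  refine ⟨a, b, ?_⟩
  rw [sfE_eq, ← h, mulVec_mulVec, ← Units.val_mul, mul_inv_cancel, Units.val_one, one_mulVec]

theorem sfE_inj (hfix : ∀ x, x ∈ F₀ ↔ σ x = x) (ω : F) (hω : σ ω ≠ ω) (P : GL (Fin n) F)
    (a b a' b' : Fin n → F₀) (h : sfE F₀ ω P a b = sfE F₀ ω P a' b') : a = a' ∧ b = b' := by
  rw [sfE_eq, sfE_eq] at h
  exact vec_unique σ F₀ hfix ω hω a b a' b' (gl_mulVec_injective P h)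

/-- proportional-rational vectors have dependent components. -/
theorem dep_of_proprat (hfix : ∀ x, x ∈ F₀ ↔ σ x = x) (ω : F) (hω : σ ω ≠ ω)
    (hdec : ∀ x : F, ∃ a b : F₀, x = a + ω * b) (P : GL (Fin n) F)
    (a b c : Fin n → F₀) (l : F) (h : sfE F₀ ω P a b = l • sfG F₀ P c) :
    ¬ LinearIndependent F₀ ![a, b] := by
  obtain ⟨l1, l2, rfl⟩ := hdec l
  have h2 : sfE F₀ ω P a b = sfE F₀ ω P (l1 • c) (l2 • c) := by
    rw [h]
    unfold sfE
    rw [sfG_smul, sfG_smul, add_smul, smul_smul]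
  obtain ⟨rfl, rfl⟩ := sfE_inj σ F₀ hfix ω hω P _ _ _ _ h2
  intro hli
  rw [LinearIndependent.pair_iff] at hli
  have h3 := hli l2 (-l1) (by rw [smul_smul, smul_smul, neg_mul, mul_comm, neg_smul, add_neg_cancel])
  have h4 : l1 = 0 := neg_eq_zero.mp h3.2
  have h5 := hli 1 0 (by rw [h4, zero_smul, smul_zero, zero_smul, add_zero])
  exact one_ne_zero h5.1

/-- vectors with dependent components are proportional-rational. -/
theorem proprat_of_dep (ω : F) (P : GL (Fin n) F)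
    (a b : Fin n → F₀) (h : ¬ LinearIndependent F₀ ![a, b]) :
    ∃ (l : F) (c : Fin n → F₀), sfE F₀ ω P a b = l • sfG F₀ P c := by
  rw [LinearIndependent.pair_iff] at h
  push Not at h
  obtain ⟨s, t, hst, hne⟩ := h
  by_cases ht : t = 0
  · have hs : s ≠ 0 := fun hs => hne hs ht
    rw [ht, zero_smul, add_zero] at hst
    have ha : a = 0 := by
      have := congrArg (fun x => s⁻¹ • x) hst
      simpa [smul_smul, inv_mul_cancel₀ hs] using this
    refine ⟨ω, b, ?_⟩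
    unfold sfE
    rw [ha, sfG_zero, zero_add]
  · have hb : b = (-(t⁻¹ * s)) • a := by
      have h1 : t • b = -(s • a) := eq_neg_of_add_eq_zero_right hst
      have := congrArg (fun x => t⁻¹ • x) h1
      simp only [smul_smul, inv_mul_cancel₀ ht, one_smul, smul_neg] at this
      rw [this, neg_smul]
    refine ⟨1 + ω * ((-(t⁻¹ * s) : F₀) : F), a, ?_⟩
    unfold sfE
    rw [hb, sfG_smul, add_smul, one_smul, smul_smul]

/-- `ζ` times the hermitian form, as a bilinear form on rational vectors. -/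
def ratB (hfix : ∀ x, x ∈ F₀ ↔ σ x = x) (ζ : F) (P : GL (Fin n) F)
    (hP : ∀ a b : Fin n → F₀, ζ * hf σ (sfG F₀ P a) (sfG F₀ P b) ∈ F₀) :
    LinearMap.BilinForm F₀ (Fin n → F₀) :=
  LinearMap.mk₂ F₀ (fun a b => (⟨ζ * hf σ (sfG F₀ P a) (sfG F₀ P b), hP a b⟩ : F₀))
    (fun a a' b => Subtype.ext (by
      show ζ * hf σ (sfG F₀ P (a + a')) (sfG F₀ P b) =
        ζ * hf σ (sfG F₀ P a) (sfG F₀ P b) + ζ * hf σ (sfG F₀ P a') (sfG F₀ P b)
      rw [sfG_add, hf_add_left, mul_add]))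
    (fun c a b => Subtype.ext (by
      show ζ * hf σ (sfG F₀ P (c • a)) (sfG F₀ P b) =
        (c : F) * (ζ * hf σ (sfG F₀ P a) (sfG F₀ P b))
      rw [sfG_smul, hf_smul_left]; ring))
    (fun a b b' => Subtype.ext (by
      show ζ * hf σ (sfG F₀ P a) (sfG F₀ P (b + b')) =
        ζ * hf σ (sfG F₀ P a) (sfG F₀ P b) + ζ * hf σ (sfG F₀ P a) (sfG F₀ P b')
      rw [sfG_add, hf_add_right, mul_add]))
    (fun c a b => Subtype.ext (by
      show ζ * hf σ (sfG F₀ P a) (sfG F₀ P (c • b)) =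
        (c : F) * (ζ * hf σ (sfG F₀ P a) (sfG F₀ P b))
      rw [sfG_smul, hf_smul_right, (hfix c).mp c.2]; ring))

theorem ratB_apply (hfix : ∀ x, x ∈ F₀ ↔ σ x = x) (ζ : F) (P : GL (Fin n) F)
    (hP : ∀ a b : Fin n → F₀, ζ * hf σ (sfG F₀ P a) (sfG F₀ P b) ∈ F₀) (a b : Fin n → F₀) :
    ((ratB σ F₀ hfix ζ P hP a b : F₀) : F) = ζ * hf σ (sfG F₀ P a) (sfG F₀ P b) := rfl

theorem ratB_isAlt (hfix : ∀ x, x ∈ F₀ ↔ σ x = x) (ζ : F) (P : GL (Fin n) F)
    (hP : ∀ a b : Fin n → F₀, ζ * hf σ (sfG F₀ P a) (sfG F₀ P b) ∈ F₀)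
    (halt : ∀ a : Fin n → F₀, hf σ (sfG F₀ P a) (sfG F₀ P a) = 0) :
    (ratB σ F₀ hfix ζ P hP).IsAlt := by
  intro a
  apply Subtype.ext
  rw [ratB_apply, halt, mul_zero]
  rfl

/-- the hermitian form is skew on rational vectors. -/
theorem hh_swap (P : GL (Fin n) F)
    (halt : ∀ a : Fin n → F₀, hf σ (sfG F₀ P a) (sfG F₀ P a) = 0) (a b : Fin n → F₀) :
    hf σ (sfG F₀ P b) (sfG F₀ P a) = -hf σ (sfG F₀ P a) (sfG F₀ P b) := by
  have h := halt (a + b)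
  rw [sfG_add, hf_add_left, hf_add_right, hf_add_right, halt, halt] at h
  linear_combination h

/-- the hermitian form on general vectors. -/
theorem hf_sfE (ω : F) (P : GL (Fin n) F) (a b a' b' : Fin n → F₀) :
    hf σ (sfE F₀ ω P a b) (sfE F₀ ω P a' b') =
      hf σ (sfG F₀ P a) (sfG F₀ P a') + σ ω * hf σ (sfG F₀ P a) (sfG F₀ P b') +
        ω * hf σ (sfG F₀ P b) (sfG F₀ P a') + ω * σ ω * hf σ (sfG F₀ P b) (sfG F₀ P b') := by
  unfold sfE
  rw [hf_add_left, hf_add_right, hf_add_right, hf_smul_left, hf_smul_left, hf_smul_right,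
    hf_smul_right]
  ring

theorem hf_sfE_self (ω : F) (P : GL (Fin n) F)
    (halt : ∀ a : Fin n → F₀, hf σ (sfG F₀ P a) (sfG F₀ P a) = 0) (a b : Fin n → F₀) :
    hf σ (sfE F₀ ω P a b) (sfE F₀ ω P a b) = (σ ω - ω) * hf σ (sfG F₀ P a) (sfG F₀ P b) := by
  rw [hf_sfE, halt, halt, hh_swap σ F₀ P halt a b]
  ring

theorem hf_sfE_sfG (ω : F) (P : GL (Fin n) F) (a b u : Fin n → F₀) :
    hf σ (sfE F₀ ω P a b) (sfG F₀ P u) =
      hf σ (sfG F₀ P a) (sfG F₀ P u) + ω * hf σ (sfG F₀ P b) (sfG F₀ P u) := by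
  unfold sfE
  rw [hf_add_left, hf_smul_left]

theorem ratB_nondeg (hfix : ∀ x, x ∈ F₀ ↔ σ x = x) (ω : F)
    (hdec : ∀ x : F, ∃ a b : F₀, x = a + ω * b) (ζ : F) (hζ0 : ζ ≠ 0) (P : GL (Fin n) F)
    (hP : ∀ a b : Fin n → F₀, ζ * hf σ (sfG F₀ P a) (sfG F₀ P b) ∈ F₀)
    (halt : ∀ a : Fin n → F₀, hf σ (sfG F₀ P a) (sfG F₀ P a) = 0) :
    (ratB σ F₀ hfix ζ P hP).Nondegenerate := by
  apply (LinearMap.IsRefl.nondegenerate_iff_separatingLeft
    (LinearMap.IsAlt.isRefl (ratB_isAlt σ F₀ hfix ζ P hP halt))).mpr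
  intro a ha
  have h1 : ∀ b, hf σ (sfG F₀ P a) (sfG F₀ P b) = 0 := by
    intro b
    have := congrArg (fun x : F₀ => (x : F)) (ha b)
    simp only [ratB_apply] at this
    rcases mul_eq_zero.mp this with h | h
    · exact absurd h hζ0
    · exact h
  have h2 : ∀ y, hf σ (sfG F₀ P a) y = 0 := by
    intro y
    obtain ⟨c, d, rfl⟩ := sfE_surj F₀ ω hdec P y
    unfold sfE
    rw [hf_add_right, hf_smul_right, h1, h1, mul_zero, add_zero]
  have h3 : sfG F₀ P a = 0 := by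
    funext i
    rw [← hf_single_right σ (sfG F₀ P a) i, h2]
    rfl
  exact sfG_injective F₀ P (h3.trans (sfG_zero F₀ P).symm)

/-- symplectic transvections as unitary transvections. -/
theorem tv_sfE (hfix : ∀ x, x ∈ F₀ ↔ σ x = x) (ω : F) (ζ : F) (P : GL (Fin n) F)
    (hP : ∀ a b : Fin n → F₀, ζ * hf σ (sfG F₀ P a) (sfG F₀ P b) ∈ F₀)
    (halt : ∀ a : Fin n → F₀, hf σ (sfG F₀ P a) (sfG F₀ P a) = 0) (u : Fin n → F₀) (s : F₀)
    (a b : Fin n → F₀) :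
    tv σ (sfG F₀ P u) (ζ * s) *ᵥ sfE F₀ ω P a b =
      sfE F₀ ω P (transv (ratB σ F₀ hfix ζ P hP) (ratB_isAlt σ F₀ hfix ζ P hP halt) u s a)
        (transv (ratB σ F₀ hfix ζ P hP) (ratB_isAlt σ F₀ hfix ζ P hP halt) u s b) := by
  rw [tv_mulVec, transv_apply, transv_apply, hf_sfE_sfG]
  unfold sfE
  rw [sfG_add, sfG_add, sfG_smul, sfG_smul]
  simp only [Subfield.coe_mul, ratB_apply]
  module

theorem sfE_zero_right (ω : F) (P : GL (Fin n) F) (a : Fin n → F₀) :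
    sfE F₀ ω P a 0 = sfG F₀ P a := by
  unfold sfE
  rw [sfG_zero, smul_zero, add_zero]

/-- trace-zero elements are `ζ` times elements of the subfield. -/
theorem trace_zero_eq (hfix : ∀ x, x ∈ F₀ ↔ σ x = x) (ζ : F) (hζ0 : ζ ≠ 0) (hζ : ζ + σ ζ = 0)
    (c : F) (hc : c + σ c = 0) : ∃ s : F₀, c = ζ * s := by
  have h1 : σ ζ = -ζ := by linear_combination hζ
  have h2 : σ c = -c := by linear_combination hc
  refine ⟨⟨ζ⁻¹ * c, (hfix _).mpr ?_⟩, ?_⟩
  · rw [map_mul, map_inv₀, h1, h2]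
    field_simp
  · show c = ζ * (ζ⁻¹ * c)
    rw [← mul_assoc, mul_inv_cancel₀ hζ0, one_mul]

theorem smul_trace_zero (hfix : ∀ x, x ∈ F₀ ↔ σ x = x) (ζ : F) (hζ : ζ + σ ζ = 0) (s : F₀) :
    ζ * (s : F) + σ (ζ * s) = 0 := by
  rw [map_mul, (hfix s).mp s.2]
  linear_combination (s : F) * hζ

/-- the unitary transvections centred at rational vectors lie in the subfield group. -/
theorem tvGL_mem_subfield (hfix : ∀ x, x ∈ F₀ ↔ σ x = x) (ζ : F) (P : GL (Fin n) F)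
    (hP : ∀ a b : Fin n → F₀, ζ * hf σ (sfG F₀ P a) (sfG F₀ P b) ∈ F₀)
    (halt : ∀ a : Fin n → F₀, hf σ (sfG F₀ P a) (sfG F₀ P a) = 0) (u : Fin n → F₀) (s : F₀) :
    tvGL σ (sfG F₀ P u) (ζ * s) (halt u) ∈ Cfsg.Geo.subfieldSubgroup F₀ P := by
  apply mem_subfieldSubgroup_of_action F₀ P _
    ((Cfsg.Agent.Lib.Helper94.glEquiv (Fin n) F₀).symm
      (transv (ratB σ F₀ hfix ζ P hP) (ratB_isAlt σ F₀ hfix ζ P hP halt) u s)) 1
  intro a
  rw [Cfsg.Agent.Lib.Helper94.glEquiv_symm_mulVec, Units.val_one, one_smul]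
  have h := tv_sfE σ F₀ hfix 0 ζ P hP halt u s a 0
  rw [map_zero, sfE_zero_right, sfE_zero_right] at h
  exact h

/-- rational vectors are centres of root groups of any overgroup of the subfield group. -/
theorem sfG_mem_UX (hσ2 : ∀ a, σ (σ a) = a) (hfix : ∀ x, x ∈ F₀ ↔ σ x = x) (ζ : F) (hζ0 : ζ ≠ 0)
    (hζ : ζ + σ ζ = 0) (P : GL (Fin n) F)
    (hP : ∀ a b : Fin n → F₀, ζ * hf σ (sfG F₀ P a) (sfG F₀ P b) ∈ F₀)
    (halt : ∀ a : Fin n → F₀, hf σ (sfG F₀ P a) (sfG F₀ P a) = 0)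
    (M : Subgroup (GL (Fin n) F))
    (hM : ∀ g : GL (Fin n) F, g ∈ UG σ n → (g : Matrix (Fin n) (Fin n) F).det = 1 →
      g ∈ Cfsg.Geo.subfieldSubgroup F₀ P → g ∈ M) (u : Fin n → F₀) :
    sfG F₀ P u ∈ UX σ M := by
  refine ⟨halt u, fun c hc => ?_⟩
  obtain ⟨s, rfl⟩ := trace_zero_eq σ F₀ hfix ζ hζ0 hζ c hc
  refine hM _ (TG_le_UG σ hσ2 (tvGL_mem σ _ _ (halt u) hc)) ?_
    (tvGL_mem_subfield σ F₀ hfix ζ P hP halt u s)
  show (tv σ (sfG F₀ P u) (ζ * s)).det = 1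
  rw [tv_det, halt, mul_zero, add_zero]

/-- products of symplectic transvections lift to the overgroup. -/
theorem exists_lift (hσ2 : ∀ a, σ (σ a) = a) (hfix : ∀ x, x ∈ F₀ ↔ σ x = x) (ω : F) (ζ : F)
    (hζ : ζ + σ ζ = 0) (P : GL (Fin n) F)
    (hP : ∀ a b : Fin n → F₀, ζ * hf σ (sfG F₀ P a) (sfG F₀ P b) ∈ F₀)
    (halt : ∀ a : Fin n → F₀, hf σ (sfG F₀ P a) (sfG F₀ P a) = 0)
    (M : Subgroup (GL (Fin n) F))
    (hM : ∀ g : GL (Fin n) F, g ∈ UG σ n → (g : Matrix (Fin n) (Fin n) F).det = 1 →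
      g ∈ Cfsg.Geo.subfieldSubgroup F₀ P → g ∈ M)
    (T : (Fin n → F₀) ≃ₗ[F₀] (Fin n → F₀))
    (hT : T ∈ tvGroupL (ratB σ F₀ hfix ζ P hP) (ratB_isAlt σ F₀ hfix ζ P hP halt)) :
    ∃ g ∈ M, g ∈ UG σ n ∧ ∀ a b, (g : Matrix (Fin n) (Fin n) F) *ᵥ sfE F₀ ω P a b =
      sfE F₀ ω P (T a) (T b) := by
  induction hT using Subgroup.closure_induction with
  | mem T hT =>
    obtain ⟨u, s, rfl⟩ := hT
    have hc := smul_trace_zero σ F₀ hfix ζ hζ s
    have hU : tvGL σ (sfG F₀ P u) (ζ * s) (halt u) ∈ UG σ n :=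
      TG_le_UG σ hσ2 (tvGL_mem σ _ _ (halt u) hc)
    refine ⟨tvGL σ (sfG F₀ P u) (ζ * s) (halt u), ?_, hU, ?_⟩
    · refine hM _ hU ?_ (tvGL_mem_subfield σ F₀ hfix ζ P hP halt u s)
      show (tv σ (sfG F₀ P u) (ζ * s)).det = 1
      rw [tv_det, halt, mul_zero, add_zero]
    · intro a b
      exact tv_sfE σ F₀ hfix ω ζ P hP halt u s a b
  | one =>
    exact ⟨1, M.one_mem, (UG σ n).one_mem, fun a b => by rw [Units.val_one, one_mulVec]; rfl⟩
  | mul T1 T2 _ _ ih1 ih2 =>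
    obtain ⟨g1, hg1M, hg1U, h1⟩ := ih1
    obtain ⟨g2, hg2M, hg2U, h2⟩ := ih2
    refine ⟨g1 * g2, M.mul_mem hg1M hg2M, (UG σ n).mul_mem hg1U hg2U, fun a b => ?_⟩
    rw [Units.val_mul, ← mulVec_mulVec, h2, h1]
    rfl
  | inv T _ ih =>
    obtain ⟨g, hgM, hgU, h⟩ := ih
    refine ⟨g⁻¹, M.inv_mem hgM, (UG σ n).inv_mem hgU, fun a b => ?_⟩
    have hx : ∀ x, T (T⁻¹ x) = x := by
      intro x
      change (T * T⁻¹) x = x
      rw [mul_inv_cancel]; rfl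
    have h2 := h (T⁻¹ a) (T⁻¹ b)
    rw [hx, hx] at h2
    rw [← h2, mulVec_mulVec, ← Units.val_mul, inv_mul_cancel, Units.val_one, one_mulVec]

/-- **Frame lemma**: a linear map sending every rational vector to a multiple of a rational vector
lies in the subfield group. -/
theorem mem_subfield_of_proprat (hfix : ∀ x, x ∈ F₀ ↔ σ x = x) (hn : 1 ≤ n) (P g : GL (Fin n) F)
    (h : ∀ a : Fin n → F₀, ∃ (l : F) (c : Fin n → F₀),
      (g : Matrix (Fin n) (Fin n) F) *ᵥ sfG F₀ P a = l • sfG F₀ P c) :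
    g ∈ Cfsg.Geo.subfieldSubgroup F₀ P := by
  obtain ⟨Ng, hNg⟩ : ∃ Ng : GL (Fin n) F, Ng = P⁻¹ * g * P := ⟨_, rfl⟩
  have hN1 : ∀ a : Fin n → F₀, ∃ (l : F) (c : Fin n → F₀),
      (Ng : Matrix (Fin n) (Fin n) F) *ᵥ rat F₀ a = l • rat F₀ c := by
    intro a
    obtain ⟨l, c, hlc⟩ := h a
    refine ⟨l, c, ?_⟩
    rw [hNg, Units.val_mul, Units.val_mul, ← mulVec_mulVec, ← mulVec_mulVec]
    show ((P⁻¹ : GL (Fin n) F) : Matrix (Fin n) (Fin n) F) *ᵥ
      ((g : Matrix (Fin n) (Fin n) F) *ᵥ sfG F₀ P a) = _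
    rw [hlc, mulVec_smul]
    unfold sfG
    rw [mulVec_mulVec, ← Units.val_mul, inv_mul_cancel, Units.val_one, one_mulVec]
  have hσrat : ∀ a : Fin n → F₀, σ ∘ rat F₀ a = rat F₀ a :=
    fun a => funext fun i => (hfix _).mp (a i).2
  have hN2 : ∀ a : Fin n → F₀, ∃ κ : F, ((Ng : Matrix (Fin n) (Fin n) F).map σ) *ᵥ rat F₀ a =
      κ • ((Ng : Matrix (Fin n) (Fin n) F) *ᵥ rat F₀ a) := by
    intro a
    obtain ⟨l, c, hlc⟩ := hN1 a
    have h1 : ((Ng : Matrix (Fin n) (Fin n) F).map σ) *ᵥ rat F₀ a = σ l • rat F₀ c := by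
      funext i
      have := RingHom.map_mulVec σ (Ng : Matrix (Fin n) (Fin n) F) (rat F₀ a) i
      rw [hσrat] at this
      rw [← this, hlc, Pi.smul_apply, Pi.smul_apply, smul_eq_mul, smul_eq_mul, map_mul]
      congr 1
      exact (hfix _).mp (c i).2
    by_cases hl : l = 0
    · refine ⟨0, ?_⟩
      rw [h1, hl, map_zero, zero_smul, zero_smul]
    · refine ⟨σ l * l⁻¹, ?_⟩
      rw [h1, hlc, smul_smul, mul_assoc, inv_mul_cancel₀ hl, mul_one]
  choose κ hκ using fun j : Fin n => hN2 (Pi.single j 1)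
  simp only [rat_single] at hκ
  -- all the `κ j` coincide
  have hκeq : ∀ j k : Fin n, κ j = κ k := by
    intro j k
    by_cases hjk : j = k
    · rw [hjk]
    obtain ⟨κ', hκ'⟩ := hN2 (Pi.single j 1 + Pi.single k 1)
    rw [rat_add, rat_single, rat_single, mulVec_add, mulVec_add, hκ j, hκ k] at hκ'
    have hz : (Ng : Matrix (Fin n) (Fin n) F) *ᵥ
        ((κ j - κ') • Pi.single j 1 + (κ k - κ') • Pi.single k 1) = 0 := by
      rw [mulVec_add, mulVec_smul, mulVec_smul]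
      have : ∀ x y : Fin n → F, (κ j - κ') • x + (κ k - κ') • y =
          (κ j • x + κ k • y) - κ' • (x + y) := by
        intro x y; module
      rw [this, hκ', sub_self]
    have hz2 := gl_mulVec_injective Ng (hz.trans (mulVec_zero _).symm)
    have e1 := congrFun hz2 j
    have e2 := congrFun hz2 k
    simp only [Pi.add_apply, Pi.smul_apply, Pi.single_eq_same, Pi.single_eq_of_ne hjk,
      Pi.single_eq_of_ne (Ne.symm hjk), smul_eq_mul, mul_one, mul_zero, add_zero, zero_add,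
      Pi.zero_apply] at e1 e2
    rw [sub_eq_zero.mp e1, sub_eq_zero.mp e2]
  obtain ⟨j0, hj0⟩ : ∃ j0 : Fin n, j0 = ⟨0, by omega⟩ := ⟨_, rfl⟩
  have hent : ∀ i j, σ ((Ng : Matrix (Fin n) (Fin n) F) i j) =
      κ j0 * (Ng : Matrix (Fin n) (Fin n) F) i j := by
    intro i j
    have := congrFun (hκ j) i
    rw [Matrix.mulVec_single_one, Matrix.mulVec_single_one, Pi.smul_apply, Matrix.col_apply,
      Matrix.col_apply, Matrix.map_apply, smul_eq_mul, hκeq j j0] at this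
    exact this
  -- a nonzero entry
  obtain ⟨i0, hi0⟩ : ∃ i0, (Ng : Matrix (Fin n) (Fin n) F) i0 j0 ≠ 0 := by
    by_contra hcon
    push Not at hcon
    have hz : (Ng : Matrix (Fin n) (Fin n) F) *ᵥ Pi.single j0 1 = 0 := by
      rw [Matrix.mulVec_single_one]
      funext i
      exact hcon i
    have hz2 := gl_mulVec_injective Ng (hz.trans (mulVec_zero _).symm)
    have := congrFun hz2 j0
    simp at this
  obtain ⟨l, hl⟩ : ∃ l : F, l = (Ng : Matrix (Fin n) (Fin n) F) i0 j0 := ⟨_, rfl⟩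
  have hl0 : l ≠ 0 := by rw [hl]; exact hi0
  have hσl : σ l = κ j0 * l := by rw [hl]; exact hent i0 j0
  have hκ0 : κ j0 ≠ 0 := by
    intro h0
    rw [h0, zero_mul] at hσl
    exact hl0 ((map_eq_zero σ).mp hσl)
  have hA : ∀ i j, (Ng : Matrix (Fin n) (Fin n) F) i j * l⁻¹ ∈ F₀ := by
    intro i j
    rw [hfix, map_mul, map_inv₀, hent, hσl]
    field_simp
  obtain ⟨A, hAdef⟩ : ∃ A : Matrix (Fin n) (Fin n) F₀,
      A = Matrix.of fun i j => (⟨(Ng : Matrix (Fin n) (Fin n) F) i j * l⁻¹, hA i j⟩ : F₀) :=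
    ⟨_, rfl⟩
  have hNA : (Ng : Matrix (Fin n) (Fin n) F) = l • A.map F₀.subtype := by
    ext i j
    rw [hAdef, Matrix.smul_apply, Matrix.map_apply, Matrix.of_apply, smul_eq_mul]
    show _ = l * ((Ng : Matrix (Fin n) (Fin n) F) i j * l⁻¹)
    field_simp
  have hdet : A.det ≠ 0 := by
    intro h0
    have h1 : (Ng : Matrix (Fin n) (Fin n) F).det = 0 := by
      rw [hNA, Matrix.det_smul, ← RingHom.mapMatrix_apply, ← RingHom.map_det, h0, map_zero,
        mul_zero]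
    have h2 : IsUnit (Ng : Matrix (Fin n) (Fin n) F).det :=
      (Matrix.isUnit_iff_isUnit_det _).mp Ng.isUnit
    rw [h1] at h2
    exact not_isUnit_zero h2
  rw [mem_subfieldSubgroup_iff]
  refine ⟨Matrix.GeneralLinearGroup.mkOfDetNeZero A hdet, Units.mk0 l hl0, ?_⟩
  show (g : Matrix (Fin n) (Fin n) F) * (P : Matrix (Fin n) (Fin n) F) =
    l • ((P : Matrix (Fin n) (Fin n) F) * A.map F₀.subtype)
  rw [← Matrix.mul_smul, ← hNA, hNg, ← Units.val_mul, ← Units.val_mul]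
  congr 1
  group

theorem ratB_eq_zero (hfix : ∀ x, x ∈ F₀ ↔ σ x = x) (ζ : F) (P : GL (Fin n) F)
    (hP : ∀ a b : Fin n → F₀, ζ * hf σ (sfG F₀ P a) (sfG F₀ P b) ∈ F₀) (a b : Fin n → F₀)
    (h : hf σ (sfG F₀ P a) (sfG F₀ P b) = 0) : ratB σ F₀ hfix ζ P hP a b = 0 := by
  apply Subtype.ext
  rw [ratB_apply, h, mul_zero]
  rfl

/-- **The transvection method for the symplectic subfield group.** -/
theorem su_le_of_subfield_lt [Finite F] (hσ : σ ≠ RingHom.id F) (hσ2 : ∀ a, σ (σ a) = a)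
    (hn : 4 ≤ n) (hfix : ∀ x, x ∈ F₀ ↔ σ x = x) (ω : F) (hω : σ ω ≠ ω)
    (hdec : ∀ x : F, ∃ a b : F₀, x = a + ω * b) (ζ : F) (hζ0 : ζ ≠ 0) (hζ : ζ + σ ζ = 0)
    (P : GL (Fin n) F)
    (hP : ∀ a b : Fin n → F₀, ζ * hf σ (sfG F₀ P a) (sfG F₀ P b) ∈ F₀)
    (halt : ∀ a : Fin n → F₀, hf σ (sfG F₀ P a) (sfG F₀ P a) = 0)
    (M : Subgroup (GL (Fin n) F)) (hMU : M ≤ UG σ n)
    (hM : ∀ g : GL (Fin n) F, g ∈ UG σ n → (g : Matrix (Fin n) (Fin n) F).det = 1 →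
      g ∈ Cfsg.Geo.subfieldSubgroup F₀ P → g ∈ M)
    (g0 : GL (Fin n) F) (hg0 : g0 ∈ M) (hg0' : g0 ∉ Cfsg.Geo.subfieldSubgroup F₀ P) :
    ∀ g : GL (Fin n) F, g ∈ UG σ n → (g : Matrix (Fin n) (Fin n) F).det = 1 → g ∈ M := by
  have hrat : ∀ u, sfG F₀ P u ∈ UX σ M :=
    sfG_mem_UX σ F₀ hσ2 hfix ζ hζ0 hζ P hP halt M hM
  have hωne : σ ω - ω ≠ 0 := sub_ne_zero.mpr hω
  have hhzero : ∀ a b, hf σ (sfE F₀ ω P a b) (sfE F₀ ω P a b) = 0 →
      hf σ (sfG F₀ P a) (sfG F₀ P b) = 0 := by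
    intro a b h
    rw [hf_sfE_self σ F₀ ω P halt] at h
    rcases mul_eq_zero.mp h with h1 | h1
    · exact absurd h1 hωne
    · exact h1
  -- a non-rational isotropic point in `UX`
  obtain ⟨u0, hu0⟩ : ∃ u0 : Fin n → F₀, ¬ ∃ (l : F) (c : Fin n → F₀),
      (g0 : Matrix (Fin n) (Fin n) F) *ᵥ sfG F₀ P u0 = l • sfG F₀ P c := by
    by_contra hcon
    push Not at hcon
    apply hg0'
    apply mem_subfield_of_proprat σ F₀ hfix (by omega) P g0
    intro a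
    exact hcon a
  have hy0 := ux_map σ g0 hg0 (hMU hg0) (hrat u0)
  obtain ⟨a0, b0, hab0⟩ := sfE_surj F₀ ω hdec P ((g0 : Matrix (Fin n) (Fin n) F) *ᵥ sfG F₀ P u0)
  rw [hab0] at hy0 hu0
  have hli0 : LinearIndependent F₀ ![a0, b0] := by
    by_contra hli
    exact hu0 (proprat_of_dep F₀ ω P a0 b0 hli)
  have hB0 : hf σ (sfG F₀ P a0) (sfG F₀ P b0) = 0 := hhzero a0 b0 hy0.1
  have hB := ratB_nondeg σ F₀ hfix ω hdec ζ hζ0 P hP halt
  have hA := ratB_isAlt σ F₀ hfix ζ P hP halt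
  -- all isotropic vectors
  have hall : ∀ v : Fin n → F, hf σ v v = 0 → v ∈ UX σ M := by
    intro v hv
    obtain ⟨a, b, rfl⟩ := sfE_surj F₀ ω hdec P v
    have hBab : hf σ (sfG F₀ P a) (sfG F₀ P b) = 0 := hhzero a b hv
    by_cases hli : LinearIndependent F₀ ![a, b]
    · have hgram : ∀ i j : Fin 2, ratB σ F₀ hfix ζ P hP (![a0, b0] i) (![a0, b0] j) =
          ratB σ F₀ hfix ζ P hP (![a, b] i) (![a, b] j) := by
        intro i j
        fin_cases i <;> fin_cases j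
        · show ratB σ F₀ hfix ζ P hP a0 a0 = ratB σ F₀ hfix ζ P hP a a
          rw [hA a0, hA a]
        · show ratB σ F₀ hfix ζ P hP a0 b0 = ratB σ F₀ hfix ζ P hP a b
          rw [ratB_eq_zero σ F₀ hfix ζ P hP a0 b0 hB0, ratB_eq_zero σ F₀ hfix ζ P hP a b hBab]
        · show ratB σ F₀ hfix ζ P hP b0 a0 = ratB σ F₀ hfix ζ P hP b a
          rw [alt_swap hA b0 a0, alt_swap hA b a, ratB_eq_zero σ F₀ hfix ζ P hP a0 b0 hB0,
            ratB_eq_zero σ F₀ hfix ζ P hP a b hBab]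
        · show ratB σ F₀ hfix ζ P hP b0 b0 = ratB σ F₀ hfix ζ P hP b b
          rw [hA b0, hA b]
      obtain ⟨T, hT, hTb⟩ := witt_families (ratB σ F₀ hfix ζ P hP) hB hA 2 ![a0, b0] ![a, b]
        hli0 hli hgram
      obtain ⟨g, hgM, hgU, hg⟩ := exists_lift σ F₀ hσ2 hfix ω ζ hζ P hP halt M hM T hT
      have h0 : T a0 = a := hTb 0
      have h1 : T b0 = b := hTb 1
      have := ux_map σ g hgM hgU hy0
      rwa [hg, h0, h1] at this
    · obtain ⟨l, c, hlc⟩ := proprat_of_dep F₀ ω P a b hli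
      rw [hlc]
      exact ux_smul σ hσ2 (hrat c) l
  have hTG : TG σ n ≤ M := by
    unfold TG
    rw [Subgroup.closure_le]
    rintro g ⟨z, c, hz, hc, hg⟩
    obtain ⟨_, h1⟩ := hall z hz
    have : g = tvGL σ z c hz := Units.ext hg
    rw [this]
    exact h1 c hc
  intro g hg hdet
  exact hTG (su_gen σ hσ hσ2 n (by omega) (fun h3 => absurd h3 (by omega)) g hg hdet)

/-- a determinant-one isometry outside the subfield group. -/
theorem exists_not_mem_subfield (hσ2 : ∀ a, σ (σ a) = a) (hn : 3 ≤ n)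
    (hfix : ∀ x, x ∈ F₀ ↔ σ x = x) (ω : F) (hω : σ ω ≠ ω)
    (hdec : ∀ x : F, ∃ a b : F₀, x = a + ω * b) (ζ : F) (hζ0 : ζ ≠ 0) (hζ : ζ + σ ζ = 0)
    (P : GL (Fin n) F)
    (hP : ∀ a b : Fin n → F₀, ζ * hf σ (sfG F₀ P a) (sfG F₀ P b) ∈ F₀)
    (halt : ∀ a : Fin n → F₀, hf σ (sfG F₀ P a) (sfG F₀ P a) = 0) :
    ∃ g : GL (Fin n) F, g ∈ UG σ n ∧ (g : Matrix (Fin n) (Fin n) F).det = 1 ∧
      g ∉ Cfsg.Geo.subfieldSubgroup F₀ P := by
  have hB := ratB_nondeg σ F₀ hfix ω hdec ζ hζ0 P hP halt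
  have hA := ratB_isAlt σ F₀ hfix ζ P hP halt
  obtain ⟨B, hBdef⟩ : ∃ B : LinearMap.BilinForm F₀ (Fin n → F₀), B = ratB σ F₀ hfix ζ P hP :=
    ⟨_, rfl⟩
  rw [← hBdef] at hB hA
  have hBF : ∀ a b, ((B a b : F₀) : F) = ζ * hf σ (sfG F₀ P a) (sfG F₀ P b) := by
    intro a b; rw [hBdef]; rfl
  obtain ⟨a0, ha0⟩ : ∃ a0 : Fin n → F₀, a0 = Pi.single ⟨0, by omega⟩ 1 := ⟨_, rfl⟩
  have ha0ne : a0 ≠ 0 := by
    intro h
    have := congrFun h ⟨0, by omega⟩
    rw [ha0] at this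
    simp at this
  obtain ⟨d0, hd0⟩ : ∃ d0, B d0 a0 ≠ 0 := by
    by_contra hcon
    push Not at hcon
    exact ha0ne (hB.2 a0 hcon)
  obtain ⟨d, hd⟩ : ∃ d, d = (B d0 a0)⁻¹ • d0 := ⟨_, rfl⟩
  have hda : B d a0 = 1 := by
    rw [hd, map_smul, LinearMap.smul_apply, smul_eq_mul, inv_mul_cancel₀ hd0]
  -- a nonzero vector orthogonal to `a0` and `d`
  obtain ⟨b0, hb0ne, hb0a, hdb0⟩ : ∃ b0, b0 ≠ 0 ∧ B b0 a0 = 0 ∧ B d b0 = 0 := by
    have hker : LinearMap.ker ((B.flip a0).prod (B d)) ≠ ⊥ := by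
      apply LinearMap.ker_ne_bot_of_finrank_lt
      rw [Module.finrank_prod, Module.finrank_self, Module.finrank_fin_fun]
      omega
    obtain ⟨b0, hb0, hb0ne⟩ := Submodule.exists_mem_ne_zero_of_ne_bot hker
    rw [LinearMap.mem_ker, LinearMap.prod_apply] at hb0
    have hb1 := congrArg Prod.fst hb0
    have hb2 := congrArg Prod.snd hb0
    exact ⟨b0, hb0ne, hb1, hb2⟩
  have hab0 : B a0 b0 = 0 := by rw [alt_swap hA a0 b0, hb0a, neg_zero]
  have hh0 : hf σ (sfG F₀ P a0) (sfG F₀ P b0) = 0 := by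
    have := hBF a0 b0
    rw [hab0] at this
    rcases mul_eq_zero.mp this.symm with h | h
    · exact absurd h hζ0
    · exact h
  have hy : hf σ (sfE F₀ ω P a0 b0) (sfE F₀ ω P a0 b0) = 0 := by
    rw [hf_sfE_self σ F₀ ω P halt, hh0, mul_zero]
  refine ⟨tvGL σ (sfE F₀ ω P a0 b0) ζ hy, TG_le_UG σ hσ2 (tvGL_mem σ _ ζ hy hζ), ?_, ?_⟩
  · show (tv σ (sfE F₀ ω P a0 b0) ζ).det = 1
    rw [tv_det, hy, mul_zero, add_zero]
  · intro hmem
    obtain ⟨A, μ, hact⟩ := action_of_mem_subfieldSubgroup F₀ P _ hmem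
    have h1 := hact d
    have h2 : ((tvGL σ (sfE F₀ ω P a0 b0) ζ hy : GL (Fin n) F) : Matrix (Fin n) (Fin n) F) *ᵥ
        ((P : Matrix (Fin n) (Fin n) F) *ᵥ rat F₀ d) = sfE F₀ ω P (d + a0) b0 := by
      show tv σ (sfE F₀ ω P a0 b0) ζ *ᵥ sfG F₀ P d = _
      rw [tv_mulVec]
      have h3 : ζ * hf σ (sfG F₀ P d) (sfE F₀ ω P a0 b0) = 1 := by
        unfold sfE
        rw [hf_add_right, hf_smul_right, mul_add, ← hBF, hda]
        have : ζ * (σ ω * hf σ (sfG F₀ P d) (sfG F₀ P b0)) =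
            σ ω * (ζ * hf σ (sfG F₀ P d) (sfG F₀ P b0)) := by ring
        rw [this, ← hBF, hdb0]
        simp
      rw [h3, one_smul]
      unfold sfE
      rw [sfG_add]
      abel
    rw [h2] at h1
    have hdep := dep_of_proprat σ F₀ hfix ω hω hdec P (d + a0) b0 _ _ h1
    apply hdep
    rw [LinearIndependent.pair_iff]
    intro s t hst
    have h4 := congrArg (fun x => B x a0) hst
    simp only [map_add, map_smul, LinearMap.add_apply, LinearMap.smul_apply, smul_eq_mul,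
      hda, hA a0, hb0a, map_zero, LinearMap.zero_apply, mul_zero, add_zero, mul_one] at h4
    refine ⟨h4, ?_⟩
    rw [h4, zero_smul, zero_add] at hst
    rcases smul_eq_zero.mp hst with h | h
    · exact h
    · exact absurd h hb0ne

end UnitSubfield

end Cfsg.Agent.Lib.Helper13
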