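/-
helper13: the symplectic subfield group is maximal in `SU_n(q)`, in the Prelude vocabulary.
-/
import Mathlib
import Cfsg.Agent.Lib.Helper13.UnitSubfield
import Cfsg.Agent.Lib.Helper13.UnitMaxBridge
import Cfsg.Agent.Lib.Helper13.Herm

set_option autoImplicit false

namespace Cfsg.Agent.Lib.Helper13

open Matrix Module Cfsg.Agent.S0837 Cfsg.Agent.S0781 Cfsg.Agent.S2644 Cfsg.Agent.Lib.Helper37

/-- The symplectic subfield group (the normaliser of `Sp_n(q)`) is maximal in `SU_n(q)`, `n ≥ 4`. -/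
theorem isMaximalIn_subfield_symplectic {F : Type*} [Field F] [Fintype F] (n q : ℕ)
    (hF : Fintype.card F = q ^ 2) (hn : 4 ≤ n) (F₀ : Subfield F)
    (hcard : Fintype.card F = Nat.card F₀ ^ 2) (ζ : F) (hζ0 : ζ ≠ 0) (hζ : ζ + ζ ^ q = 0)
    (P : Matrix.GeneralLinearGroup (Fin n) F)
    (hP : Cfsg.Geo.IsFormRationalStructure (Cfsg.hermForm n F q) F₀ ζ P)
    (halt : ∀ u : Fin n → F, (∀ i, u i ∈ F₀) →
      Cfsg.hermForm n F q (Matrix.mulVec (P : Matrix (Fin n) (Fin n) F) u)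
        (Matrix.mulVec (P : Matrix (Fin n) (Fin n) F) u) = 0) :
    Cfsg.Geo.IsMaximalIn (Cfsg.GU n F q ⊓ Cfsg.Geo.specialLinear (Fin n) F)
      (Cfsg.Geo.subfieldSubgroup F₀ P ⊓
        (Cfsg.GU n F q ⊓ Cfsg.Geo.specialLinear (Fin n) F)) := by
  classical
  obtain ⟨σ, hσ, hσ2⟩ := exists_frob hF
  have hne : σ ≠ RingHom.id F := frob_ne_id σ hF hσ
  obtain ⟨hfix, ω, hω, hdec⟩ := subfield_fixed_field q hF F₀ hcard σ hσ hne
  have hζ' : ζ + σ ζ = 0 := by rw [hσ]; exact hζ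
  have hP' : ∀ a b : Fin n → F₀, ζ * hf σ (sfG F₀ P a) (sfG F₀ P b) ∈ F₀ := by
    intro a b
    have := hP (rat F₀ a) (rat F₀ b) (fun i => (a i).2) (fun i => (b i).2)
    rw [hermForm_eq_hf σ hσ] at this
    exact this
  have halt' : ∀ a : Fin n → F₀, hf σ (sfG F₀ P a) (sfG F₀ P a) = 0 := by
    intro a
    have := halt (rat F₀ a) (fun i => (a i).2)
    rw [hermForm_eq_hf σ hσ] at this
    exact this
  have hK : ∀ g : GL (Fin n) F, g ∈ Cfsg.GU n F q ⊓ Cfsg.Geo.specialLinear (Fin n) F ↔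
      g ∈ UG σ n ∧ (g : Matrix (Fin n) (Fin n) F).det = 1 := by
    intro g
    rw [Subgroup.mem_inf, mem_GU_iff_mem_UG σ hσ, mem_specialLinear_iff]
  constructor
  · apply lt_of_le_of_ne inf_le_right
    intro heq
    obtain ⟨g, hgU, hdet, hg⟩ := exists_not_mem_subfield σ F₀ hσ2 (by omega) hfix ω hω hdec ζ hζ0
      hζ' P hP' halt'
    have h1 : g ∈ Cfsg.GU n F q ⊓ Cfsg.Geo.specialLinear (Fin n) F := (hK g).mpr ⟨hgU, hdet⟩
    rw [← heq] at h1
    exact hg h1.1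
  · intro M hHM hMK
    by_cases hMH : M = Cfsg.Geo.subfieldSubgroup F₀ P ⊓
        (Cfsg.GU n F q ⊓ Cfsg.Geo.specialLinear (Fin n) F)
    · exact Or.inl hMH
    · right
      have hnot : ¬ M ≤ Cfsg.Geo.subfieldSubgroup F₀ P ⊓
          (Cfsg.GU n F q ⊓ Cfsg.Geo.specialLinear (Fin n) F) := fun h => hMH (le_antisymm h hHM)
      obtain ⟨g0, hg0M, hg0⟩ := SetLike.not_le_iff_exists.mp hnot
      have hg0K := hMK hg0M
      have hg0S : g0 ∉ Cfsg.Geo.subfieldSubgroup F₀ P := fun h => hg0 ⟨h, hg0K⟩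
      have hMU : M ≤ UG σ n := fun g hg => ((hK g).mp (hMK hg)).1
      have hM : ∀ g : GL (Fin n) F, g ∈ UG σ n → (g : Matrix (Fin n) (Fin n) F).det = 1 →
          g ∈ Cfsg.Geo.subfieldSubgroup F₀ P → g ∈ M := by
        intro g hgU hdet hgS
        exact hHM ⟨hgS, (hK g).mpr ⟨hgU, hdet⟩⟩
      have key := su_le_of_subfield_lt σ F₀ hne hσ2 hn hfix ω hω hdec ζ hζ0 hζ' P hP' halt' M hMU hM
        g0 hg0M hg0S
      apply le_antisymm hMK
      intro g hg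
      obtain ⟨hgU, hdet⟩ := (hK g).mp hg
      exact key g hgU hdet

end Cfsg.Agent.Lib.Helper13
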